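import Mathlib

/-!
# Diagonalisation of endomorphisms of finite order (helper2 library)
-/

set_option autoImplicit false

namespace Cfsg.Agent.Lib.Helper2

open Module

/-- An endomorphism of a finite-dimensional complex vector space with `f ^ m = 1`, `m ≠ 0`, has a
basis of eigenvectors whose eigenvalues are `m`-th roots of unity. -/
theorem exists_eigenbasis_of_pow_eq_one {V : Type*} [AddCommGroup V] [Module ℂ V]
    [FiniteDimensional ℂ V] (f : Module.End ℂ V) (m : ℕ) (hm : m ≠ 0) (hf : f ^ m = 1) :
    ∃ (b : Basis (Fin (finrank ℂ V)) ℂ V) (μ : Fin (finrank ℂ V) → ℂ),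
      (∀ i, f (b i) = μ i • b i) ∧ (∀ i, μ i ^ m = 1) := by
  classical
  have hss : f.IsSemisimple := by
    apply Module.End.isSemisimple_of_squarefree_aeval_eq_zero
      (p := (Polynomial.X ^ m - Polynomial.C (1 : ℂ)))
    · apply Polynomial.Separable.squarefree
      exact Polynomial.separable_X_pow_sub_C (1 : ℂ) (by exact_mod_cast hm) one_ne_zero
    · simp [hf]
  have htop := hss.iSup_eigenspace_eq_top
  have hind := Module.End.eigenspaces_iSupIndep f
  have hint := DirectSum.isInternal_submodule_of_iSupIndep_of_iSup_eq_top hind htop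
  let v : ∀ μ : ℂ, Basis (Module.Free.ChooseBasisIndex ℂ (f.eigenspace μ)) ℂ (f.eigenspace μ) :=
    fun μ => Module.Free.chooseBasis ℂ (f.eigenspace μ)
  let B := hint.collectedBasis v
  haveI : Fintype (Σ μ : ℂ, Module.Free.ChooseBasisIndex ℂ (f.eigenspace μ)) :=
    FiniteDimensional.fintypeBasisIndex B
  have hcard : Fintype.card (Σ μ : ℂ, Module.Free.ChooseBasisIndex ℂ (f.eigenspace μ))
      = finrank ℂ V := (Module.finrank_eq_card_basis B).symm
  let e := Fintype.equivFinOfCardEq hcard
  refine ⟨B.reindex e, fun i => (e.symm i).1, ?_, ?_⟩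
  · intro i
    have hmem : (B (e.symm i)) ∈ f.eigenspace (e.symm i).1 := by
      have := hint.collectedBasis_mem v (e.symm i)
      exact this
    simpa [Module.End.mem_eigenspace_iff] using hmem
  · intro i
    have hmem : (B (e.symm i)) ∈ f.eigenspace (e.symm i).1 :=
      hint.collectedBasis_mem v (e.symm i)
    have hne : B (e.symm i) ≠ 0 := B.ne_zero _
    rw [Module.End.mem_eigenspace_iff] at hmem
    have hpow : ∀ k : ℕ, (f ^ k) (B (e.symm i)) = (e.symm i).1 ^ k • B (e.symm i) := by
      intro k
      induction k with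
      | zero => simp
      | succ k ih => rw [pow_succ', Module.End.mul_apply, ih, map_smul, hmem, smul_smul, pow_succ]
    have h1 := hpow m
    rw [hf, Module.End.one_apply] at h1
    have h2 : ((e.symm i).1 ^ m - 1) • B (e.symm i) = 0 := by
      rw [sub_smul, one_smul, ← h1, sub_self]
    rcases smul_eq_zero.mp h2 with h | h
    · exact sub_eq_zero.mp h
    · exact absurd h hne

end Cfsg.Agent.Lib.Helper2
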