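import Mathlib
import Cfsg.Prelude.Def_Characters
import Cfsg.Agent.Lib.Helper2.Eigen

/-!
# Basic facts on characters of complex representations of finite groups (helper2 library)
-/

set_option autoImplicit false

namespace Cfsg.Agent.Lib.Helper2

open Module
open scoped ComplexConjugate

section Transport

variable {G : Type*} [Monoid G] {k : Type*} [Field k] {V W : Type*}
  [AddCommGroup V] [Module k V] [AddCommGroup W] [Module k W]

/-- Transport a representation along a linear equivalence. -/
def repConj (ρ : Representation k G V) (e : V ≃ₗ[k] W) : Representation k G W where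
  toFun g := e.conj (ρ g)
  map_one' := by ext; simp [LinearEquiv.conj_apply]
  map_mul' g h := by ext; simp [LinearEquiv.conj_apply]

@[simp] theorem repConj_apply (ρ : Representation k G V) (e : V ≃ₗ[k] W) (g : G) (w : W) :
    repConj ρ e g w = e (ρ g (e.symm w)) := by
  simp [repConj, LinearEquiv.conj_apply]

/-- The transported representation is equivalent to the original. -/
def repConjEquiv (ρ : Representation k G V) (e : V ≃ₗ[k] W) : ρ.Equiv (repConj ρ e) :=
  Representation.Equiv.mk e (by intro g; ext v; simp)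

/-- Map a subrepresentation along an equivalence of representations. -/
def subrepMap {ρ : Representation k G V} {σ : Representation k G W} (φ : ρ.Equiv σ)
    (s : Subrepresentation ρ) : Subrepresentation σ where
  toSubmodule := s.toSubmodule.map φ.toLinearEquiv.toLinearMap
  apply_mem_toSubmodule g w hw := by
    obtain ⟨v, hv, rfl⟩ := hw
    refine ⟨ρ g v, s.apply_mem_toSubmodule g hv, ?_⟩
    exact LinearMap.congr_fun (φ.toIntertwiningMap.isIntertwining' g) v

theorem subrepMap_le_iff {ρ : Representation k G V} {σ : Representation k G W} (φ : ρ.Equiv σ)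
    (s t : Subrepresentation ρ) : subrepMap φ s ≤ subrepMap φ t ↔ s ≤ t := by
  constructor
  · intro h v hv
    have : φ.toLinearEquiv v ∈ (subrepMap φ t).toSubmodule := h ⟨v, hv, rfl⟩
    obtain ⟨v', hv', he⟩ := this
    have : v' = v := φ.toLinearEquiv.injective he
    exact this ▸ hv'
  · intro h w hw
    obtain ⟨v, hv, rfl⟩ := hw
    exact ⟨v, h hv, rfl⟩

theorem subrepMap_symm_map {ρ : Representation k G V} {σ : Representation k G W} (φ : ρ.Equiv σ)
    (s : Subrepresentation ρ) : subrepMap φ.symm (subrepMap φ s) = s := by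
  apply Subrepresentation.toSubmodule_injective
  ext v
  constructor
  · rintro ⟨w, ⟨v', hv', rfl⟩, rfl⟩
    have : φ.symm.toLinearEquiv (φ.toLinearEquiv v') = v' := φ.symm_apply_apply v'
    change φ.symm.toLinearEquiv (φ.toLinearEquiv v') ∈ s.toSubmodule
    rw [this]; exact hv'
  · intro hv
    exact ⟨φ.toLinearEquiv v, ⟨v, hv, rfl⟩, φ.symm_apply_apply v⟩

/-- The order isomorphism between subrepresentations induced by an equivalence. -/
def subrepOrderIso {ρ : Representation k G V} {σ : Representation k G W} (φ : ρ.Equiv σ) :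
    Subrepresentation ρ ≃o Subrepresentation σ where
  toFun := subrepMap φ
  invFun := subrepMap φ.symm
  left_inv s := subrepMap_symm_map φ s
  right_inv s := subrepMap_symm_map φ.symm s
  map_rel_iff' := by intro s t; exact subrepMap_le_iff φ s t

theorem isIrreducible_of_equiv {ρ : Representation k G V} {σ : Representation k G W}
    (φ : ρ.Equiv σ) [h : ρ.IsIrreducible] : σ.IsIrreducible :=
  (subrepOrderIso φ).isSimpleOrder_iff.mp h

end Transport

section IsChar

variable {G : Type*} [Group G] {V : Type*} [AddCommGroup V] [Module ℂ V] [FiniteDimensional ℂ V]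

/-- A linear equivalence of a finite-dimensional space with a coordinate space. -/
noncomputable def coordEquiv (V : Type*) [AddCommGroup V] [Module ℂ V] [FiniteDimensional ℂ V] :
    V ≃ₗ[ℂ] (Fin (finrank ℂ V) → ℂ) :=
  (Module.finBasis ℂ V).equivFun

/-- The character of any finite-dimensional complex representation is a character in the sense of
the Prelude. -/
theorem isCharacter_of_rep (ρ : Representation ℂ G V) : Cfsg.IsCharacter G ρ.character :=
  ⟨finrank ℂ V, repConj ρ (coordEquiv V),
    (Representation.char_iso (repConjEquiv ρ (coordEquiv V))).symm⟩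

/-- The character of any finite-dimensional irreducible complex representation is an irreducible
character in the sense of the Prelude. -/
theorem isIrrCharacter_of_rep (ρ : Representation ℂ G V) [ρ.IsIrreducible] :
    Cfsg.IsIrrCharacter G ρ.character :=
  ⟨finrank ℂ V, repConj ρ (coordEquiv V), isIrreducible_of_equiv (repConjEquiv ρ (coordEquiv V)),
    (Representation.char_iso (repConjEquiv ρ (coordEquiv V))).symm⟩

theorem IsIrrCharacter.isCharacter {χ : G → ℂ} (h : Cfsg.IsIrrCharacter G χ) :
    Cfsg.IsCharacter G χ := by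
  obtain ⟨n, ρ, _, h⟩ := h
  exact ⟨n, ρ, h⟩

theorem IsCharacter.isClassFunction {χ : G → ℂ} (h : Cfsg.IsCharacter G χ) :
    Cfsg.IsClassFunction G χ := by
  obtain ⟨n, ρ, rfl⟩ := h
  intro g h
  exact ρ.char_conj g h

end IsChar

section Eigen

variable {G : Type*} [Group G] [Finite G] {V : Type*} [AddCommGroup V] [Module ℂ V]
  [FiniteDimensional ℂ V]

/-- For a representation of a finite group, each `ρ g` has an eigenbasis with eigenvalues that
are `orderOf g`-th roots of unity. -/
theorem exists_eigenbasis (ρ : Representation ℂ G V) (g : G) :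
    ∃ (b : Basis (Fin (finrank ℂ V)) ℂ V) (μ : Fin (finrank ℂ V) → ℂ),
      (∀ i, ρ g (b i) = μ i • b i) ∧ (∀ i, μ i ^ orderOf g = 1) := by
  apply exists_eigenbasis_of_pow_eq_one (ρ g) (orderOf g) (orderOf_pos g).ne'
  rw [← map_pow, pow_orderOf_eq_one, map_one]

omit [FiniteDimensional ℂ V] in
/-- The trace of an endomorphism which is diagonal in a basis. -/
theorem trace_eq_sum_of_eigenbasis {ι : Type*} [Fintype ι] [DecidableEq ι] (f : Module.End ℂ V)
    (b : Basis ι ℂ V) (μ : ι → ℂ) (h : ∀ i, f (b i) = μ i • b i) :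
    LinearMap.trace ℂ V f = ∑ i, μ i := by
  rw [LinearMap.trace_eq_matrix_trace ℂ b f, Matrix.trace]
  apply Finset.sum_congr rfl
  intro i _
  simp [LinearMap.toMatrix_apply, h]

theorem norm_eq_one_of_pow_eq_one {z : ℂ} {m : ℕ} (hm : m ≠ 0) (h : z ^ m = 1) : ‖z‖ = 1 :=
  Complex.norm_eq_one_of_pow_eq_one h hm

theorem inv_eq_conj_of_pow_eq_one {z : ℂ} {m : ℕ} (hm : m ≠ 0) (h : z ^ m = 1) :
    z⁻¹ = conj z :=
  Complex.inv_eq_conj (norm_eq_one_of_pow_eq_one hm h)

/-- Eigen-data for `ρ g`: character values of all powers as power sums. -/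
theorem exists_eigenvalues (ρ : Representation ℂ G V) (g : G) :
    ∃ μ : Fin (finrank ℂ V) → ℂ, (∀ i, μ i ^ orderOf g = 1) ∧
      (∀ k : ℕ, ρ.character (g ^ k) = ∑ i, μ i ^ k) ∧
      (∀ k : ℕ, ρ.character ((g ^ k)⁻¹) = ∑ i, conj (μ i) ^ k) := by
  classical
  obtain ⟨b, μ, hb, hμ⟩ := exists_eigenbasis ρ g
  have hm : orderOf g ≠ 0 := (orderOf_pos g).ne'
  have hpow : ∀ (k : ℕ) i, ρ (g ^ k) (b i) = μ i ^ k • b i := by
    intro k i
    induction k with
    | zero => simp
    | succ k ih =>
      rw [pow_succ', map_mul, Module.End.mul_apply, ih, map_smul, hb, smul_smul, pow_succ]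
  refine ⟨μ, hμ, fun k => trace_eq_sum_of_eigenbasis _ b _ (hpow k), fun k => ?_⟩
  apply trace_eq_sum_of_eigenbasis _ b
  intro i
  have h1 : ρ ((g ^ k)⁻¹) (ρ (g ^ k) (b i)) = b i := by
    rw [← Module.End.mul_apply, ← map_mul, inv_mul_cancel, map_one, Module.End.one_apply]
  rw [hpow, map_smul] at h1
  have hne : μ i ^ k ≠ 0 := by
    apply pow_ne_zero
    intro h0
    have := hμ i
    rw [h0, zero_pow hm] at this
    exact zero_ne_one this
  have h2 : ρ ((g ^ k)⁻¹) (b i) = (μ i ^ k)⁻¹ • b i := by
    conv_rhs => rw [← h1]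
    rw [smul_smul, inv_mul_cancel₀ hne, one_smul]
  rw [h2, ← inv_pow, inv_eq_conj_of_pow_eq_one hm (hμ i)]

/-- `χ(g⁻¹)` is the complex conjugate of `χ(g)`. -/
theorem char_inv (ρ : Representation ℂ G V) (g : G) :
    ρ.character g⁻¹ = conj (ρ.character g) := by
  obtain ⟨μ, _, h1, h2⟩ := exists_eigenvalues ρ g
  have a := h1 1
  have b := h2 1
  simp only [pow_one] at a b
  rw [a, b, map_sum]

/-- A character value has norm at most the degree. -/
theorem norm_char_le (ρ : Representation ℂ G V) (g : G) :
    ‖ρ.character g‖ ≤ (finrank ℂ V : ℝ) := by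
  obtain ⟨μ, hμ, h1, _⟩ := exists_eigenvalues ρ g
  have a := h1 1
  simp only [pow_one] at a
  rw [a]
  calc ‖∑ i, μ i‖ ≤ ∑ i, ‖μ i‖ := norm_sum_le _ _
    _ = ∑ _i : Fin (finrank ℂ V), (1 : ℝ) := by
      apply Finset.sum_congr rfl
      intro i _
      exact norm_eq_one_of_pow_eq_one (orderOf_pos g).ne' (hμ i)
    _ = (finrank ℂ V : ℝ) := by simp

/-- Character values are algebraic integers. -/
theorem char_isIntegral (ρ : Representation ℂ G V) (g : G) : IsIntegral ℤ (ρ.character g) := by
  obtain ⟨μ, hμ, h1, _⟩ := exists_eigenvalues ρ g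
  have a := h1 1
  simp only [pow_one] at a
  rw [a]
  apply IsIntegral.sum
  intro i _
  exact IsIntegral.of_pow (orderOf_pos g) (by rw [hμ i]; exact isIntegral_one)

theorem eq_one_of_norm_le_one_of_re_eq_one {z : ℂ} (h1 : ‖z‖ ≤ 1) (h2 : z.re = 1) : z = 1 := by
  have h3 : ‖z‖ ^ 2 ≤ 1 := by
    have : 0 ≤ ‖z‖ := norm_nonneg z
    nlinarith
  rw [Complex.sq_norm, Complex.normSq_apply, h2] at h3
  have h4 : z.im = 0 := by nlinarith [mul_self_nonneg z.im]
  exact Complex.ext (by simp [h2]) (by simp [h4])

/-- If `n` complex numbers of norm one have a sum of norm `n`, they are all equal. -/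
theorem eq_of_norm_sum_eq {n : ℕ} (hn : 0 < n) (μ : Fin n → ℂ) (hμ : ∀ i, ‖μ i‖ = 1)
    (h : ‖∑ i, μ i‖ = n) : ∀ i, μ i = (∑ i, μ i) / n := by
  set s := ∑ i, μ i with hs
  have hn' : (n : ℂ) ≠ 0 := by exact_mod_cast hn.ne'
  have hnr : (n : ℝ) ≠ 0 := by exact_mod_cast hn.ne'
  set ω : ℂ := s / n with hω
  have hωn : ‖ω‖ = 1 := by
    rw [hω, norm_div, h, Complex.norm_natCast, div_self hnr]
  have hωω : ω * conj ω = 1 := by
    rw [Complex.mul_conj, Complex.normSq_eq_norm_sq, hωn]; simp
  have hsum : ∑ i, (1 - (μ i * conj ω).re) = 0 := by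
    rw [Finset.sum_sub_distrib, ← Complex.re_sum, ← Finset.sum_mul]
    have : s = n * ω := by rw [hω]; field_simp
    rw [← hs, this, mul_assoc, hωω]
    simp
  have hnonneg : ∀ i ∈ Finset.univ, 0 ≤ 1 - (μ i * conj ω).re := by
    intro i _
    have h1 : (μ i * conj ω).re ≤ ‖μ i * conj ω‖ := Complex.re_le_norm _
    have h2 : ‖μ i * conj ω‖ = 1 := by
      rw [norm_mul, hμ i, Complex.norm_conj, hωn, one_mul]
    linarith
  have hz := (Finset.sum_eq_zero_iff_of_nonneg hnonneg).mp hsum
  intro i
  have h1 : (μ i * conj ω).re = 1 := by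
    have := hz i (Finset.mem_univ i)
    linarith
  have h2 : ‖μ i * conj ω‖ ≤ 1 := by
    rw [norm_mul, hμ i, Complex.norm_conj, hωn, one_mul]
  have h3 := eq_one_of_norm_le_one_of_re_eq_one h2 h1
  calc μ i = μ i * (conj ω * ω) := by rw [mul_comm (conj ω), hωω, mul_one]
    _ = (μ i * conj ω) * ω := by ring
    _ = ω := by rw [h3, one_mul]

/-- `‖χ(g)‖ = χ(1)` exactly when `g` acts as a scalar. -/
theorem norm_char_eq_finrank_iff (ρ : Representation ℂ G V) (g : G) :
    ‖ρ.character g‖ = (finrank ℂ V : ℝ) ↔ ∃ ω : ℂ, ρ g = ω • (LinearMap.id : V →ₗ[ℂ] V) := by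
  classical
  rcases Nat.eq_zero_or_pos (finrank ℂ V) with h0 | hpos
  · have : Subsingleton V := Module.finrank_zero_iff.mp h0
    constructor
    · intro _
      exact ⟨0, LinearMap.ext fun v => Subsingleton.elim _ _⟩
    · intro _
      have h1 : ρ.character g = 0 := by
        have : ρ g = 0 := LinearMap.ext fun v => Subsingleton.elim _ _
        simp [Representation.character, this]
      rw [h1, h0]; simp
  · constructor
    · intro h
      obtain ⟨b, μ, hb, hμ⟩ := exists_eigenbasis ρ g
      have hχ : ρ.character g = ∑ i, μ i := trace_eq_sum_of_eigenbasis _ b μ hb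
      rw [hχ] at h
      have hall := eq_of_norm_sum_eq hpos μ
        (fun i => norm_eq_one_of_pow_eq_one (orderOf_pos g).ne' (hμ i)) h
      refine ⟨(∑ i, μ i) / (finrank ℂ V : ℂ), ?_⟩
      apply b.ext
      intro i
      rw [hb i, hall i]
      simp
    · rintro ⟨ω, hω⟩
      have hV : Nontrivial V := Module.finrank_pos_iff.mp hpos
      obtain ⟨v, hv⟩ := exists_ne (0 : V)
      have hpow : ∀ k : ℕ, (ρ g) ^ k = ω ^ k • (LinearMap.id : V →ₗ[ℂ] V) := by
        intro k
        rw [hω]
        induction k with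
        | zero => simp; rfl
        | succ k ih => rw [pow_succ, ih, pow_succ]; ext w; simp [smul_smul, mul_comm]
      have h1 : (ρ g) ^ orderOf g = 1 := by
        rw [← map_pow, pow_orderOf_eq_one, map_one]
      rw [hpow] at h1
      have h2 : ω ^ orderOf g • v = v := by
        have := LinearMap.congr_fun h1 v
        simpa using this
      have h3 : ω ^ orderOf g = 1 := by
        have : (ω ^ orderOf g - 1) • v = 0 := by rw [sub_smul, one_smul, h2, sub_self]
        rcases smul_eq_zero.mp this with h | h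
        · exact sub_eq_zero.mp h
        · exact absurd h hv
      have hn : ‖ω‖ = 1 := norm_eq_one_of_pow_eq_one (orderOf_pos g).ne' h3
      have : ρ.character g = ω * (finrank ℂ V : ℂ) := by
        simp [Representation.character, hω]
      rw [this, norm_mul, hn, one_mul, Complex.norm_natCast]

/-- `χ(g) = χ(1)` exactly when `g` acts trivially. -/
theorem char_eq_finrank_iff (ρ : Representation ℂ G V) (g : G) :
    ρ.character g = (finrank ℂ V : ℂ) ↔ ρ g = LinearMap.id := by
  constructor
  · intro h
    rcases Nat.eq_zero_or_pos (finrank ℂ V) with h0 | hpos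
    · have : Subsingleton V := Module.finrank_zero_iff.mp h0
      exact LinearMap.ext fun v => Subsingleton.elim _ _
    · have hn : ‖ρ.character g‖ = (finrank ℂ V : ℝ) := by
        rw [h, Complex.norm_natCast]
      obtain ⟨ω, hω⟩ := (norm_char_eq_finrank_iff ρ g).mp hn
      have : ρ.character g = ω * (finrank ℂ V : ℂ) := by
        simp [Representation.character, hω]
      rw [this] at h
      have hne : (finrank ℂ V : ℂ) ≠ 0 := by exact_mod_cast hpos.ne'
      have hω1 : ω = 1 := by
        have := mul_right_cancel₀ hne (h.trans (one_mul _).symm)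
        exact this
      rw [hω, hω1, one_smul]
  · intro h
    simp [Representation.character, h]

end Eigen

end Cfsg.Agent.Lib.Helper2
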