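import Mathlib
import Cfsg.Prelude.Def_Characters
import Cfsg.Agent.Lib.Helper2.CharBasic

/-!
# Complete reducibility: splitting off an irreducible subrepresentation, induction principle
(helper2 library)
-/

set_option autoImplicit false

namespace Cfsg.Agent.Lib.Helper2

open Module
open scoped ComplexConjugate MonoidAlgebra

section Splitting

variable {G : Type*} [Group G] {k : Type*} [Field k] {V : Type*} [AddCommGroup V] [Module k V]

/-- An atom in the lattice of subrepresentations is an irreducible representation. -/
theorem isIrreducible_of_isAtom {ρ : Representation k G V} (S : Subrepresentation ρ)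
    (hS : IsAtom S) : S.toRepresentation.IsIrreducible := by
  have hne : S.toSubmodule ≠ ⊥ := by
    intro h
    apply hS.1
    apply Subrepresentation.toSubmodule_injective
    exact h
  have : Nontrivial (Subrepresentation S.toRepresentation) := by
    refine ⟨⊥, ⊤, ?_⟩
    intro h
    have h2 : (⊥ : Subrepresentation S.toRepresentation).toSubmodule
        = (⊤ : Subrepresentation S.toRepresentation).toSubmodule := by rw [h]
    change (⊥ : Submodule k S.toSubmodule) = ⊤ at h2
    apply hne
    rw [Submodule.eq_bot_iff]
    intro x hx
    have : (⟨x, hx⟩ : S.toSubmodule) ∈ (⊥ : Submodule k S.toSubmodule) := by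
      rw [h2]; trivial
    simpa using this
  refine ⟨fun T => ?_⟩
  -- the image of `T` in `ρ`
  let U : Subrepresentation ρ :=
    { toSubmodule := T.toSubmodule.map S.toSubmodule.subtype
      apply_mem_toSubmodule := by
        rintro g v ⟨w, hw, rfl⟩
        exact ⟨S.toRepresentation g w, T.apply_mem_toSubmodule g hw, rfl⟩ }
  have hU : U ≤ S := by
    rintro v ⟨w, _, rfl⟩
    exact w.2
  rcases hS.le_iff.mp hU with h | h
  · left
    apply Subrepresentation.toSubmodule_injective
    change T.toSubmodule = ⊥
    rw [Submodule.eq_bot_iff]
    intro w hw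
    have : (w : V) ∈ U.toSubmodule := ⟨w, hw, rfl⟩
    rw [h] at this
    have h0 : (w : V) = 0 := this
    exact Subtype.ext h0
  · right
    apply Subrepresentation.toSubmodule_injective
    change T.toSubmodule = ⊤
    rw [Submodule.eq_top_iff']
    intro w
    have : (w : V) ∈ U.toSubmodule := by rw [h]; exact w.2
    obtain ⟨w', hw', he⟩ := this
    have : w' = w := Subtype.ext he
    exact this ▸ hw'

variable [Finite G] [NeZero (Nat.card G : k)]

/-- A nontrivial representation of a finite group (in good characteristic) splits as an irreducible
subrepresentation and a complementary subrepresentation. -/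
theorem exists_irreducible_isCompl (ρ : Representation k G V) [Nontrivial V] :
    ∃ S S' : Subrepresentation ρ, S.toRepresentation.IsIrreducible ∧
      IsCompl S.toSubmodule S'.toSubmodule := by
  have : Nontrivial ρ.asModule := ‹Nontrivial V›
  obtain ⟨m, hm⟩ := IsSemisimpleModule.exists_simple_submodule k[G] ρ.asModule
  have hatom : IsAtom m := isSimpleModule_iff_isAtom.mp hm
  let e := Subrepresentation.subrepresentationSubmoduleOrderIso (ρ := ρ)
  have hS : IsAtom (e.symm m) := (OrderIso.isAtom_iff e.symm m).mpr hatom
  obtain ⟨S', hS'⟩ := exists_isCompl (e.symm m)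
  refine ⟨e.symm m, S', isIrreducible_of_isAtom _ hS, ?_⟩
  constructor
  · rw [disjoint_iff, ← Subrepresentation.toSubmodule_inf, hS'.inf_eq_bot]; rfl
  · rw [codisjoint_iff, ← Subrepresentation.toSubmodule_sup, hS'.sup_eq_top]; rfl

end Splitting

section ProdEquiv

variable {G : Type*} [Group G] {k : Type*} [Field k] {V : Type*} [AddCommGroup V] [Module k V]

/-- A representation is equivalent to the product of two complementary subrepresentations. -/
noncomputable def prodEquivOfIsCompl {ρ : Representation k G V} (S S' : Subrepresentation ρ)
    (h : IsCompl S.toSubmodule S'.toSubmodule) :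
    (S.toRepresentation.prod S'.toRepresentation).Equiv ρ :=
  Representation.Equiv.mk (Submodule.prodEquivOfIsCompl _ _ h) (by
    intro g
    ext ⟨v, w⟩ <;> simp [Subrepresentation.toRepresentation])

variable {W : Type*} [AddCommGroup W] [Module k W] [FiniteDimensional k V] [FiniteDimensional k W]

theorem char_prod (ρ : Representation k G V) (σ : Representation k G W) :
    (ρ.prod σ).character = ρ.character + σ.character := by
  ext g
  change LinearMap.trace k (V × W) ((ρ g).prodMap (σ g)) = _
  rw [LinearMap.trace_prodMap']
  rfl

end ProdEquiv

section Induction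

universe u v

variable {G : Type v} [Group G] [Finite G]

/-- Induction principle for finite-dimensional complex representations of a finite group. -/
theorem rep_induction
    (P : ∀ (V : Type u) [AddCommGroup V] [Module ℂ V], Representation ℂ G V → Prop)
    (h0 : ∀ (V : Type u) [AddCommGroup V] [Module ℂ V] [Subsingleton V]
      (ρ : Representation ℂ G V), P V ρ)
    (hirr : ∀ (V : Type u) [AddCommGroup V] [Module ℂ V] [FiniteDimensional ℂ V]
      (ρ : Representation ℂ G V), ρ.IsIrreducible → P V ρ)
    (hequiv : ∀ (V W : Type u) [AddCommGroup V] [Module ℂ V] [AddCommGroup W] [Module ℂ W]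
      [FiniteDimensional ℂ V] [FiniteDimensional ℂ W]
      (ρ : Representation ℂ G V) (σ : Representation ℂ G W), ρ.Equiv σ → P V ρ → P W σ)
    (hprod : ∀ (V W : Type u) [AddCommGroup V] [Module ℂ V] [AddCommGroup W] [Module ℂ W]
      [FiniteDimensional ℂ V] [FiniteDimensional ℂ W]
      (ρ : Representation ℂ G V) (σ : Representation ℂ G W), P V ρ → P W σ →
        P (V × W) (ρ.prod σ))
    (V : Type u) [AddCommGroup V] [Module ℂ V] [FiniteDimensional ℂ V]
    (ρ : Representation ℂ G V) : P V ρ := by
  have : NeZero (Nat.card G : ℂ) := ⟨by exact_mod_cast Nat.card_pos.ne'⟩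
  suffices H : ∀ (n : ℕ) (V : Type u) [AddCommGroup V] [Module ℂ V] [FiniteDimensional ℂ V]
      (ρ : Representation ℂ G V), finrank ℂ V = n → P V ρ from H _ V ρ rfl
  intro n
  induction n using Nat.strong_induction_on with
  | _ n ih =>
    intro V _ _ _ ρ hn
    rcases subsingleton_or_nontrivial V with hV | hV
    · exact h0 V ρ
    · obtain ⟨S, S', hS, hc⟩ := exists_irreducible_isCompl ρ
      have hdim : finrank ℂ S.toSubmodule + finrank ℂ S'.toSubmodule = finrank ℂ V :=
        Submodule.finrank_add_eq_of_isCompl hc
      have hSpos : 0 < finrank ℂ S.toSubmodule := by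
        rw [Module.finrank_pos_iff]
        have : Nontrivial (Subrepresentation S.toRepresentation) := hS.toNontrivial
        by_contra hcon
        rw [not_nontrivial_iff_subsingleton] at hcon
        obtain ⟨a, b, hab⟩ := this
        apply hab
        apply Subrepresentation.toSubmodule_injective
        ext x
        have : x = 0 := Subsingleton.elim _ _
        simp [this]
      have hP1 : P S.toSubmodule S.toRepresentation := hirr _ _ hS
      have hP2 : P S'.toSubmodule S'.toRepresentation :=
        ih (finrank ℂ S'.toSubmodule) (by omega) _ _ rfl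
      exact hequiv _ _ _ _ (prodEquivOfIsCompl S S' hc) (hprod _ _ _ _ hP1 hP2)

end Induction

end Cfsg.Agent.Lib.Helper2
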