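import Mathlib
import Cfsg.Prelude.Def_Characters
import Cfsg.Agent.Lib.Helper2.Decomp

/-!
# Orthogonality relations and completeness of irreducible characters (helper2 library)
-/

set_option autoImplicit false

namespace Cfsg.Agent.Lib.Helper2

open Module
open scoped ComplexConjugate MonoidAlgebra

section ClassInner

variable {G : Type*} [Group G] [Fintype G]

theorem classInner_def (φ ψ : G → ℂ) :
    Cfsg.classInner φ ψ = (Nat.card G : ℂ)⁻¹ * ∑ g : G, φ g * conj (ψ g) := rfl

theorem classInner_add_left (φ₁ φ₂ ψ : G → ℂ) :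
    Cfsg.classInner (φ₁ + φ₂) ψ = Cfsg.classInner φ₁ ψ + Cfsg.classInner φ₂ ψ := by
  simp only [classInner_def, Pi.add_apply, add_mul, Finset.sum_add_distrib, mul_add]

theorem classInner_add_right (φ ψ₁ ψ₂ : G → ℂ) :
    Cfsg.classInner φ (ψ₁ + ψ₂) = Cfsg.classInner φ ψ₁ + Cfsg.classInner φ ψ₂ := by
  simp only [classInner_def, Pi.add_apply, map_add, mul_add, Finset.sum_add_distrib]

theorem classInner_smul_left (c : ℂ) (φ ψ : G → ℂ) :
    Cfsg.classInner (c • φ) ψ = c * Cfsg.classInner φ ψ := by
  simp only [classInner_def, Pi.smul_apply, smul_eq_mul, Finset.mul_sum]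
  apply Finset.sum_congr rfl; intro g _; ring

theorem classInner_smul_right (c : ℂ) (φ ψ : G → ℂ) :
    Cfsg.classInner φ (c • ψ) = conj c * Cfsg.classInner φ ψ := by
  simp only [classInner_def, Pi.smul_apply, smul_eq_mul, Finset.mul_sum, map_mul]
  apply Finset.sum_congr rfl; intro g _; ring

@[simp] theorem classInner_zero_left (ψ : G → ℂ) : Cfsg.classInner (0 : G → ℂ) ψ = 0 := by
  simp [classInner_def]

@[simp] theorem classInner_zero_right (φ : G → ℂ) : Cfsg.classInner φ (0 : G → ℂ) = 0 := by
  simp [classInner_def]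

theorem classInner_neg_left (φ ψ : G → ℂ) :
    Cfsg.classInner (-φ) ψ = -Cfsg.classInner φ ψ := by
  simp [classInner_def, Finset.sum_neg_distrib]

theorem classInner_neg_right (φ ψ : G → ℂ) :
    Cfsg.classInner φ (-ψ) = -Cfsg.classInner φ ψ := by
  simp [classInner_def, Finset.sum_neg_distrib]

theorem classInner_sub_left (φ₁ φ₂ ψ : G → ℂ) :
    Cfsg.classInner (φ₁ - φ₂) ψ = Cfsg.classInner φ₁ ψ - Cfsg.classInner φ₂ ψ := by
  rw [sub_eq_add_neg, classInner_add_left, classInner_neg_left, sub_eq_add_neg]

theorem classInner_sub_right (φ ψ₁ ψ₂ : G → ℂ) :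
    Cfsg.classInner φ (ψ₁ - ψ₂) = Cfsg.classInner φ ψ₁ - Cfsg.classInner φ ψ₂ := by
  rw [sub_eq_add_neg, classInner_add_right, classInner_neg_right, sub_eq_add_neg]

theorem classInner_sum_left {ι : Type*} (s : Finset ι) (f : ι → G → ℂ) (ψ : G → ℂ) :
    Cfsg.classInner (∑ i ∈ s, f i) ψ = ∑ i ∈ s, Cfsg.classInner (f i) ψ := by
  classical
  induction s using Finset.induction_on with
  | empty => simp
  | insert a s ha ih => rw [Finset.sum_insert ha, Finset.sum_insert ha, classInner_add_left, ih]

theorem classInner_sum_right {ι : Type*} (s : Finset ι) (φ : G → ℂ) (f : ι → G → ℂ) :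
    Cfsg.classInner φ (∑ i ∈ s, f i) = ∑ i ∈ s, Cfsg.classInner φ (f i) := by
  classical
  induction s using Finset.induction_on with
  | empty => simp
  | insert a s ha ih => rw [Finset.sum_insert ha, Finset.sum_insert ha, classInner_add_right, ih]

theorem classInner_conj_symm (φ ψ : G → ℂ) :
    conj (Cfsg.classInner φ ψ) = Cfsg.classInner ψ φ := by
  simp only [classInner_def, map_mul, map_inv₀, map_natCast, map_sum, Complex.conj_conj]
  congr 1
  apply Finset.sum_congr rfl; intro g _; ring

theorem card_ne_zero_complex : (Nat.card G : ℂ) ≠ 0 := by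
  exact_mod_cast Nat.card_pos.ne'

end ClassInner

section Orthogonality

variable {G : Type*} [Group G] [Fintype G]
variable {V W : Type*} [AddCommGroup V] [Module ℂ V] [FiniteDimensional ℂ V]
  [AddCommGroup W] [Module ℂ W] [FiniteDimensional ℂ W]

/-- The inner product of two characters is the dimension of the space of intertwining maps. -/
theorem classInner_char_char (ρ : Representation ℂ G V) (σ : Representation ℂ G W) :
    Cfsg.classInner ρ.character σ.character
      = (finrank ℂ (Representation.IntertwiningMap σ ρ) : ℂ) := by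
  have : Invertible (Nat.card G : ℂ) := invertibleOfNonzero card_ne_zero_complex
  rw [← Representation.card_inv_mul_sum_char_mul_char_eq_finrank σ ρ, classInner_def]
  simp only [char_inv]

/-- First orthogonality relation. -/
theorem classInner_irr_irr (ρ : Representation ℂ G V) (σ : Representation ℂ G W)
    [ρ.IsIrreducible] [σ.IsIrreducible] [Decidable (Nonempty (σ.Equiv ρ))] :
    Cfsg.classInner ρ.character σ.character = if Nonempty (σ.Equiv ρ) then 1 else 0 := by
  have : Invertible (Nat.card G : ℂ) := invertibleOfNonzero card_ne_zero_complex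
  have := Representation.char_orthonormal ρ σ
  rw [classInner_def]
  simp only [char_inv] at this
  rw [this]
  congr

theorem classInner_irr_self (ρ : Representation ℂ G V) [ρ.IsIrreducible] :
    Cfsg.classInner ρ.character ρ.character = 1 := by
  classical
  rw [classInner_irr_irr, if_pos ⟨Representation.Equiv.refl ρ⟩]

/-- Orthonormality of the irreducible characters. -/
theorem classInner_irrCharacter (χ ψ : Cfsg.IrrCharacter G) [Decidable (χ = ψ)] :
    Cfsg.classInner (χ : G → ℂ) (ψ : G → ℂ) = if χ = ψ then 1 else 0 := by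
  classical
  obtain ⟨n, ρ, hρ, hρχ⟩ := χ.2
  obtain ⟨m, σ, hσ, hσψ⟩ := ψ.2
  have key : Cfsg.classInner (χ : G → ℂ) (ψ : G → ℂ)
      = if Nonempty (σ.Equiv ρ) then 1 else 0 := by
    rw [← hρχ, ← hσψ]; exact classInner_irr_irr ρ σ
  by_cases h : Nonempty (σ.Equiv ρ)
  · obtain ⟨φ⟩ := h
    have he : χ = ψ := Subtype.ext (by rw [← hρχ, ← hσψ]; exact (Representation.char_iso φ).symm)
    rw [key, if_pos ⟨φ⟩, if_pos he]
  · have hne : χ ≠ ψ := by
      intro he
      have h1 : Cfsg.classInner (χ : G → ℂ) (χ : G → ℂ) = 1 := by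
        rw [← hρχ]; exact classInner_irr_self ρ
      rw [if_neg h] at key
      rw [← he, h1] at key
      exact one_ne_zero key
    rw [key, if_neg h, if_neg hne]

theorem classInner_irrCharacter_self (χ : Cfsg.IrrCharacter G) :
    Cfsg.classInner (χ : G → ℂ) (χ : G → ℂ) = 1 := by
  classical
  rw [classInner_irrCharacter, if_pos rfl]

theorem classInner_irrCharacter_ne {χ ψ : Cfsg.IrrCharacter G} (h : χ ≠ ψ) :
    Cfsg.classInner (χ : G → ℂ) (ψ : G → ℂ) = 0 := by
  classical
  rw [classInner_irrCharacter, if_neg h]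

/-- The irreducible characters are linearly independent. -/
theorem linearIndependent_irrCharacter :
    LinearIndependent ℂ (fun χ : Cfsg.IrrCharacter G => (χ : G → ℂ)) := by
  classical
  rw [linearIndependent_iff']
  intro s c hc ψ hψ
  have h1 : Cfsg.classInner (∑ χ ∈ s, c χ • (χ : G → ℂ)) (ψ : G → ℂ) = 0 := by
    rw [hc]; simp
  rw [classInner_sum_left] at h1
  simp only [classInner_smul_left, classInner_irrCharacter] at h1
  simpa [Finset.sum_ite_eq', hψ] using h1

instance finite_irrCharacter : Finite (Cfsg.IrrCharacter G) :=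
  (linearIndependent_irrCharacter (G := G)).finite_of_isNoetherian

end Orthogonality

end Cfsg.Agent.Lib.Helper2
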