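import Mathlib
import Cfsg.Prelude.Def_Characters
import Cfsg.Agent.Lib.Helper2.Orthogonality

/-!
# Decomposition of characters and completeness of the irreducible characters (helper2 library)
-/

set_option autoImplicit false

namespace Cfsg.Agent.Lib.Helper2

open Module
open scoped ComplexConjugate MonoidAlgebra

section Decomposition

universe u v

variable {G : Type v} [Group G] [Finite G]

/-- The character of a finite-dimensional representation is a finite sum of irreducible
characters. -/
theorem exists_multiset_irr_of_rep {V : Type u} [AddCommGroup V] [Module ℂ V]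
    [FiniteDimensional ℂ V] (ρ : Representation ℂ G V) :
    ∃ m : Multiset (Cfsg.IrrCharacter G),
      ρ.character = (m.map (fun χ : Cfsg.IrrCharacter G => (χ : G → ℂ))).sum := by
  refine rep_induction (G := G)
    (P := fun V _ _ ρ => ∃ m : Multiset (Cfsg.IrrCharacter G),
      ρ.character = (m.map (fun χ : Cfsg.IrrCharacter G => (χ : G → ℂ))).sum)
    ?_ ?_ ?_ ?_ V ρ
  · intro V _ _ _ ρ
    refine ⟨0, ?_⟩
    ext g
    have : ρ g = 0 := LinearMap.ext fun v => Subsingleton.elim _ _
    simp [Representation.character, this]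
  · intro V _ _ _ ρ hρ
    exact ⟨{⟨ρ.character, isIrrCharacter_of_rep ρ⟩}, by simp⟩
  · intro V W _ _ _ _ _ _ ρ σ φ ⟨m, hm⟩
    exact ⟨m, by rw [← Representation.char_iso φ, hm]⟩
  · intro V W _ _ _ _ _ _ ρ σ ⟨m, hm⟩ ⟨m', hm'⟩
    exact ⟨m + m', by rw [char_prod, hm, hm', Multiset.map_add, Multiset.sum_add]⟩

theorem IsCharacter.exists_multiset_irr {χ : G → ℂ} (h : Cfsg.IsCharacter G χ) :
    ∃ m : Multiset (Cfsg.IrrCharacter G),
      χ = (m.map (fun χ : Cfsg.IrrCharacter G => (χ : G → ℂ))).sum := by
  obtain ⟨n, ρ, rfl⟩ := h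
  exact exists_multiset_irr_of_rep ρ

end Decomposition

section RepSum

variable {G : Type*} [Group G] [Fintype G]

/-- The endomorphism `∑ g, c g • ρ g`. -/
noncomputable def repSum {V : Type*} [AddCommGroup V] [Module ℂ V] (ρ : Representation ℂ G V)
    (c : G → ℂ) : Module.End ℂ V := ∑ g : G, c g • ρ g

theorem repSum_apply {V : Type*} [AddCommGroup V] [Module ℂ V] (ρ : Representation ℂ G V)
    (c : G → ℂ) (v : V) : repSum ρ c v = ∑ g : G, c g • ρ g v := by
  simp [repSum, LinearMap.sum_apply]

theorem trace_repSum {V : Type*} [AddCommGroup V] [Module ℂ V] (ρ : Representation ℂ G V)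
    (c : G → ℂ) : LinearMap.trace ℂ V (repSum ρ c) = ∑ g : G, c g * ρ.character g := by
  simp [repSum, Representation.character]

/-- For a class function `c`, `repSum ρ c` commutes with the action. -/
theorem repSum_comm {V : Type*} [AddCommGroup V] [Module ℂ V] (ρ : Representation ℂ G V)
    (c : G → ℂ) (hc : Cfsg.IsClassFunction G c) (h : G) :
    repSum ρ c ∘ₗ ρ h = ρ h ∘ₗ repSum ρ c := by
  ext v
  simp only [LinearMap.comp_apply, repSum_apply, map_sum, map_smul]
  -- reindex g ↦ h * g * h⁻¹
  rw [← Equiv.sum_comp (MulAut.conj h).toEquiv]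
  apply Finset.sum_congr rfl
  intro g _
  have : (MulAut.conj h).toEquiv g = h * g * h⁻¹ := rfl
  rw [this, hc g h]
  congr 1
  rw [← Module.End.mul_apply, ← Module.End.mul_apply, ← map_mul, ← map_mul]
  congr 2
  group

/-- Schur: on an irreducible representation, `repSum ρ c` is a scalar for a class function `c`. -/
theorem repSum_irreducible {V : Type*} [AddCommGroup V] [Module ℂ V] [FiniteDimensional ℂ V]
    (ρ : Representation ℂ G V) [ρ.IsIrreducible]
    (c : G → ℂ) (hc : Cfsg.IsClassFunction G c) :
    repSum ρ c = (((finrank ℂ V : ℂ))⁻¹ * ∑ g : G, c g * ρ.character g) • LinearMap.id := by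
  let T : Representation.IntertwiningMap ρ ρ := ⟨repSum ρ c, fun h => repSum_comm ρ c hc h⟩
  obtain ⟨a, ha⟩ :=
    (Representation.IsIrreducible.algebraMap_intertwiningMap_bijective_of_isAlgClosed
      (ρ := ρ)).2 T
  have hT : repSum ρ c = a • LinearMap.id := by
    have := congrArg Representation.IntertwiningMap.toLinearMap ha
    rw [Algebra.algebraMap_eq_smul_one] at this
    exact this.symm
  have hpos : (finrank ℂ V : ℂ) ≠ 0 := by
    have : Nontrivial V := by
      have hn : Nontrivial (Subrepresentation ρ) := IsSimpleOrder.toNontrivial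
      by_contra hcon
      rw [not_nontrivial_iff_subsingleton] at hcon
      obtain ⟨x, y, hxy⟩ := hn
      apply hxy
      apply Subrepresentation.toSubmodule_injective
      ext v
      have : v = 0 := Subsingleton.elim _ _
      simp [this]
    have : 0 < finrank ℂ V := Module.finrank_pos
    exact_mod_cast this.ne'
  have htr := trace_repSum ρ c
  rw [hT] at htr
  simp only [map_smul, LinearMap.trace_id, smul_eq_mul] at htr
  rw [hT]
  congr 1
  rw [← htr]
  field_simp

/-- If a class function `c` satisfies `∑ c g * χ g = 0` for all irreducible characters `χ`, then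
`repSum ρ c = 0` for every finite-dimensional representation. -/
theorem repSum_eq_zero {V : Type*} [AddCommGroup V] [Module ℂ V] [FiniteDimensional ℂ V]
    (ρ : Representation ℂ G V) (c : G → ℂ) (hc : Cfsg.IsClassFunction G c)
    (h : ∀ χ : Cfsg.IrrCharacter G, ∑ g : G, c g * (χ : G → ℂ) g = 0) : repSum ρ c = 0 := by
  refine rep_induction (G := G) (P := fun V _ _ ρ => repSum ρ c = 0) ?_ ?_ ?_ ?_ V ρ
  · intro V _ _ _ ρ
    exact LinearMap.ext fun v => Subsingleton.elim _ _
  · intro V _ _ _ ρ hρ
    rw [repSum_irreducible ρ c hc]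
    have := h ⟨ρ.character, isIrrCharacter_of_rep ρ⟩
    simp only at this
    rw [this, mul_zero, zero_smul]
  · intro V W _ _ _ _ _ _ ρ σ φ hV
    ext w
    have hw : w = φ (φ.symm w) := (φ.apply_symm_apply w).symm
    rw [hw, repSum_apply]
    have : ∀ g : G, c g • σ g (φ (φ.symm w)) = φ (c g • ρ g (φ.symm w)) := by
      intro g
      rw [map_smul]
      congr 1
      exact (LinearMap.congr_fun (φ.toIntertwiningMap.isIntertwining' g) (φ.symm w)).symm
    simp only [this]
    rw [← map_sum, ← repSum_apply, hV]
    simp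
  · intro V W _ _ _ _ _ _ ρ σ hV hW
    refine LinearMap.ext fun ⟨v, w⟩ => Prod.ext ?_ ?_
    · have h1 := LinearMap.congr_fun hV v
      simp only [repSum_apply, LinearMap.zero_apply] at h1 ⊢
      have : ∀ g : G, (c g • (ρ.prod σ) g (v, w)).1 = c g • ρ g v := fun g => rfl
      rw [Prod.fst_sum]
      simp only [this, h1, Prod.fst_zero]
    · have h1 := LinearMap.congr_fun hW w
      simp only [repSum_apply, LinearMap.zero_apply] at h1 ⊢
      have : ∀ g : G, (c g • (ρ.prod σ) g (v, w)).2 = c g • σ g w := fun g => rfl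
      rw [Prod.snd_sum]
      simp only [this, h1, Prod.snd_zero]

/-- `repSum` on the regular representation recovers the function. -/
theorem repSum_leftRegular_single (c : G → ℂ) :
    repSum (Representation.leftRegular ℂ G) c (MonoidAlgebra.single 1 1)
      = ∑ g : G, MonoidAlgebra.single g (c g) := by
  rw [repSum_apply]
  apply Finset.sum_congr rfl
  intro g _
  rw [Representation.ofMulAction_single, MonoidAlgebra.smul_single]
  simp

/-- Completeness: a class function orthogonal (bilinearly) to all irreducible characters is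
zero. -/
theorem eq_zero_of_sum_mul_irr_eq_zero (c : G → ℂ) (hc : Cfsg.IsClassFunction G c)
    (h : ∀ χ : Cfsg.IrrCharacter G, ∑ g : G, c g * (χ : G → ℂ) g = 0) : c = 0 := by
  classical
  have h1 := repSum_eq_zero (Representation.leftRegular ℂ G) c hc h
  have h2 := repSum_leftRegular_single c
  rw [h1, LinearMap.zero_apply] at h2
  ext x
  have h3 := congrArg (fun f : MonoidAlgebra ℂ G => f.coeff x) h2.symm
  simp only [MonoidAlgebra.coeff_sum, MonoidAlgebra.coeff_single, MonoidAlgebra.coeff_zero,
    Finsupp.coe_finset_sum, Finset.sum_apply, Finsupp.single_apply, Finsupp.coe_zero,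
    Pi.zero_apply, Finset.sum_ite_eq', Finset.mem_univ, if_true] at h3
  rw [h3]; rfl

/-- Completeness in terms of `classInner`. -/
theorem eq_zero_of_classInner_irr_eq_zero (ψ : G → ℂ) (hψ : Cfsg.IsClassFunction G ψ)
    (h : ∀ χ : Cfsg.IrrCharacter G, Cfsg.classInner ψ (χ : G → ℂ) = 0) : ψ = 0 := by
  have hc : Cfsg.IsClassFunction G (fun g => conj (ψ g)) := by
    intro g x
    simp only
    rw [hψ g x]
  have h0 := eq_zero_of_sum_mul_irr_eq_zero (fun g => conj (ψ g)) hc (by
    intro χ
    have := h χ
    rw [classInner_def] at this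
    have hne : (Nat.card G : ℂ)⁻¹ ≠ 0 := inv_ne_zero card_ne_zero_complex
    have h2 : ∑ g : G, ψ g * conj ((χ : G → ℂ) g) = 0 := by
      rcases mul_eq_zero.mp this with h | h
      · exact absurd h hne
      · exact h
    have h3 := congrArg conj h2
    simpa [map_sum] using h3)
  ext g
  have := congrFun h0 g
  simpa using this

end RepSum

end Cfsg.Agent.Lib.Helper2
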