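import Mathlib
import Cfsg.Prelude.Def_Characters
import Cfsg.Agent.Lib.Helper2.Completeness

/-!
# Expansion of class functions, number of irreducible characters, column orthogonality
(helper2 library)
-/

set_option autoImplicit false

namespace Cfsg.Agent.Lib.Helper2

open Module
open scoped ComplexConjugate MonoidAlgebra

section ClassFunctions

variable {G : Type*} [Group G]

theorem isClassFunction_add {φ ψ : G → ℂ} (hφ : Cfsg.IsClassFunction G φ)
    (hψ : Cfsg.IsClassFunction G ψ) : Cfsg.IsClassFunction G (φ + ψ) := by
  intro g h; simp [hφ g h, hψ g h]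

theorem isClassFunction_zero : Cfsg.IsClassFunction G (0 : G → ℂ) := by
  intro g h; simp

theorem isClassFunction_smul (c : ℂ) {φ : G → ℂ} (hφ : Cfsg.IsClassFunction G φ) :
    Cfsg.IsClassFunction G (c • φ) := by
  intro g h; simp [hφ g h]

theorem isClassFunction_neg {φ : G → ℂ} (hφ : Cfsg.IsClassFunction G φ) :
    Cfsg.IsClassFunction G (-φ) := by
  intro g h; simp [hφ g h]

theorem isClassFunction_sub {φ ψ : G → ℂ} (hφ : Cfsg.IsClassFunction G φ)
    (hψ : Cfsg.IsClassFunction G ψ) : Cfsg.IsClassFunction G (φ - ψ) := by
  intro g h; simp [hφ g h, hψ g h]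

theorem isClassFunction_sum {ι : Type*} (s : Finset ι) (f : ι → G → ℂ)
    (h : ∀ i ∈ s, Cfsg.IsClassFunction G (f i)) : Cfsg.IsClassFunction G (∑ i ∈ s, f i) := by
  intro g x
  simp only [Finset.sum_apply]
  exact Finset.sum_congr rfl fun i hi => h i hi g x

theorem IsClassFunction.eq_of_isConj {φ : G → ℂ} (hφ : Cfsg.IsClassFunction G φ) {g h : G}
    (hgh : IsConj g h) : φ g = φ h := by
  obtain ⟨c, hc⟩ := isConj_iff.mp hgh
  rw [← hc, hφ]

theorem IrrCharacter.isClassFunction (χ : Cfsg.IrrCharacter G) :
    Cfsg.IsClassFunction G (χ : G → ℂ) :=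
  IsCharacter.isClassFunction (IsIrrCharacter.isCharacter χ.2)

/-- The submodule of class functions. -/
def classFunctionSubmodule (G : Type*) [Group G] : Submodule ℂ (G → ℂ) where
  carrier := {φ | Cfsg.IsClassFunction G φ}
  add_mem' := fun ha hb => isClassFunction_add ha hb
  zero_mem' := isClassFunction_zero
  smul_mem' := fun c _ hx => isClassFunction_smul c hx

@[simp] theorem mem_classFunctionSubmodule {φ : G → ℂ} :
    φ ∈ classFunctionSubmodule G ↔ Cfsg.IsClassFunction G φ := Iff.rfl

/-- Class functions are the same as functions on conjugacy classes. -/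
noncomputable def classFunctionEquiv (G : Type*) [Group G] :
    (ConjClasses G → ℂ) ≃ₗ[ℂ] classFunctionSubmodule G where
  toFun f := ⟨fun g => f (ConjClasses.mk g), by
    intro g h
    simp only
    congr 1
    rw [ConjClasses.mk_eq_mk_iff_isConj]
    exact (isConj_iff.mpr ⟨h, rfl⟩).symm⟩
  map_add' f g := by ext; rfl
  map_smul' c f := by ext; rfl
  invFun φ := fun C => Quotient.liftOn C (φ : G → ℂ) (by
    intro a b hab
    exact IsClassFunction.eq_of_isConj φ.2 hab)
  left_inv f := by
    ext C
    induction C using Quotient.inductionOn with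
    | _ a => rfl
  right_inv φ := by
    ext g
    rfl

end ClassFunctions

section Expansion

variable {G : Type*} [Group G] [Fintype G]

/-- Every class function is the combination of the irreducible characters given by its inner
products with them. -/
theorem classFunction_expansion [Fintype (Cfsg.IrrCharacter G)] (ψ : G → ℂ)
    (hψ : Cfsg.IsClassFunction G ψ) :
    ψ = ∑ χ : Cfsg.IrrCharacter G, Cfsg.classInner ψ (χ : G → ℂ) • (χ : G → ℂ) := by
  classical
  have hcf : Cfsg.IsClassFunction G
      (ψ - ∑ χ : Cfsg.IrrCharacter G, Cfsg.classInner ψ (χ : G → ℂ) • (χ : G → ℂ)) := by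
    apply isClassFunction_sub hψ
    apply isClassFunction_sum
    intro χ _
    exact isClassFunction_smul _ (IrrCharacter.isClassFunction χ)
  have h0 := eq_zero_of_classInner_irr_eq_zero _ hcf (by
    intro χ₀
    rw [classInner_sub_left, classInner_sum_left]
    simp only [classInner_smul_left, classInner_irrCharacter]
    simp)
  exact sub_eq_zero.mp h0

/-- The irreducible characters span the class functions. -/
theorem span_irrCharacter :
    Submodule.span ℂ (Set.range (fun χ : Cfsg.IrrCharacter G => (χ : G → ℂ)))
      = classFunctionSubmodule G := by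
  classical
  haveI : Fintype (Cfsg.IrrCharacter G) := Fintype.ofFinite _
  apply le_antisymm
  · rw [Submodule.span_le]
    rintro _ ⟨χ, rfl⟩
    exact IrrCharacter.isClassFunction χ
  · intro ψ hψ
    rw [classFunction_expansion ψ hψ]
    apply Submodule.sum_mem
    intro χ _
    apply Submodule.smul_mem
    apply Submodule.subset_span
    exact ⟨χ, rfl⟩

/-- The number of irreducible characters equals the number of conjugacy classes. -/
theorem card_irrCharacter : Nat.card (Cfsg.IrrCharacter G) = Nat.card (ConjClasses G) := by
  classical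
  haveI : Fintype (Cfsg.IrrCharacter G) := Fintype.ofFinite _
  haveI : Fintype (ConjClasses G) := Fintype.ofFinite _
  have h1 := finrank_span_eq_card (linearIndependent_irrCharacter (G := G))
  rw [span_irrCharacter, ← (classFunctionEquiv G).finrank_eq,
    Module.finrank_fintype_fun_eq_card] at h1
  rw [Nat.card_eq_fintype_card, Nat.card_eq_fintype_card, h1]

end Expansion

end Cfsg.Agent.Lib.Helper2
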