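import Mathlib
import Cfsg.Prelude.Def_Characters
import Cfsg.Agent.Lib.Helper2.Expansion

/-!
# Class sizes and column orthogonality (helper2 library)
-/

set_option autoImplicit false

namespace Cfsg.Agent.Lib.Helper2

open Module
open scoped ComplexConjugate MonoidAlgebra

section ClassSize

variable {G : Type*} [Group G] [Finite G]

omit [Finite G] in
theorem card_centralizer_mul_card_conj (g : G) :
    Nat.card (Subgroup.centralizer ({g} : Set G)) * Nat.card {x : G // IsConj g x}
      = Nat.card G := by
  rw [Subgroup.nat_card_centralizer_nat_card_stabilizer]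
  have h1 := Subgroup.card_mul_index (MulAction.stabilizer (ConjAct G) g)
  rw [MulAction.index_stabilizer, ← Nat.card_coe_set_eq] at h1
  have h2 : Nat.card (MulAction.orbit (ConjAct G) g) = Nat.card {x : G // IsConj g x} := by
    apply Nat.card_congr
    apply Equiv.subtypeEquivRight
    intro x
    rw [ConjAct.mem_orbit_conjAct, isConj_comm]
  rw [h2] at h1
  exact h1

/-- The index of the centralizer is the size of the conjugacy class. -/
theorem index_centralizer_eq_card_conj (g : G) :
    (Subgroup.centralizer ({g} : Set G)).index = Nat.card {x : G // IsConj g x} := by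
  have h1 := card_centralizer_mul_card_conj g
  have h2 := Subgroup.card_mul_index (Subgroup.centralizer ({g} : Set G))
  have hpos : 0 < Nat.card (Subgroup.centralizer ({g} : Set G)) := Nat.card_pos
  exact Nat.eq_of_mul_eq_mul_left hpos (h2.trans h1.symm)

end ClassSize

section Column

variable {G : Type*} [Group G] [Fintype G]

open Classical in
/-- The indicator function of the conjugacy class of `h`. -/
noncomputable def classIndicator (h : G) : G → ℂ := fun x => if IsConj h x then 1 else 0

theorem classIndicator_isClassFunction (h : G) : Cfsg.IsClassFunction G (classIndicator h) := by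
  intro g x
  unfold classIndicator
  have : IsConj h (x * g * x⁻¹) ↔ IsConj h g := by
    constructor
    · intro hh
      exact hh.trans (isConj_iff.mpr ⟨x, rfl⟩).symm
    · intro hh
      exact hh.trans (isConj_iff.mpr ⟨x, rfl⟩)
  by_cases hh : IsConj h g
  · rw [if_pos hh, if_pos (this.mpr hh)]
  · rw [if_neg hh, if_neg (fun h' => hh (this.mp h'))]

theorem classInner_classIndicator (h : G) (χ : G → ℂ) (hχ : Cfsg.IsClassFunction G χ) :
    Cfsg.classInner (classIndicator h) χ
      = (Nat.card G : ℂ)⁻¹ * (Nat.card {x : G // IsConj h x} : ℂ) * conj (χ h) := by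
  classical
  rw [classInner_def, mul_assoc]
  congr 1
  have : ∀ x : G, classIndicator h x * conj (χ x)
      = if IsConj h x then conj (χ h) else 0 := by
    intro x
    unfold classIndicator
    by_cases hx : IsConj h x
    · rw [if_pos hx, if_pos hx, one_mul, IsClassFunction.eq_of_isConj hχ hx]
    · rw [if_neg hx, if_neg hx, zero_mul]
  simp only [this]
  rw [← Finset.sum_filter, Finset.sum_const, nsmul_eq_mul]
  congr 2
  rw [Nat.card_eq_fintype_card, Fintype.card_subtype]

/-- Column orthogonality (second orthogonality relation). -/
theorem column_orthogonality [Fintype (Cfsg.IrrCharacter G)] (g h : G)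
    [Decidable (IsConj g h)] :
    ∑ χ : Cfsg.IrrCharacter G, (χ : G → ℂ) g * conj ((χ : G → ℂ) h)
      = if IsConj g h then (Nat.card (Subgroup.centralizer ({g} : Set G)) : ℂ) else 0 := by
  classical
  have hexp := classFunction_expansion (classIndicator h) (classIndicator_isClassFunction h)
  have hg := congrFun hexp g
  simp only [Finset.sum_apply, Pi.smul_apply, smul_eq_mul] at hg
  have hcard := card_centralizer_mul_card_conj h
  have hcardC : (Nat.card (Subgroup.centralizer ({h} : Set G)) : ℂ)
      * (Nat.card {x : G // IsConj h x} : ℂ) = (Nat.card G : ℂ) := by exact_mod_cast hcard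
  have hGne : (Nat.card G : ℂ) ≠ 0 := card_ne_zero_complex
  have key : ∑ χ : Cfsg.IrrCharacter G, (χ : G → ℂ) g * conj ((χ : G → ℂ) h)
      = (Nat.card (Subgroup.centralizer ({h} : Set G)) : ℂ) * classIndicator h g := by
    rw [hg, Finset.mul_sum]
    apply Finset.sum_congr rfl
    intro χ _
    rw [classInner_classIndicator h _ (IrrCharacter.isClassFunction χ)]
    have : (Nat.card (Subgroup.centralizer ({h} : Set G)) : ℂ) *
        ((Nat.card G : ℂ)⁻¹ * (Nat.card {x : G // IsConj h x} : ℂ) * conj ((χ : G → ℂ) h)
          * (χ : G → ℂ) g)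
        = ((Nat.card (Subgroup.centralizer ({h} : Set G)) : ℂ)
          * (Nat.card {x : G // IsConj h x} : ℂ)) * (Nat.card G : ℂ)⁻¹
            * ((χ : G → ℂ) g * conj ((χ : G → ℂ) h)) := by ring
    rw [this, hcardC, mul_inv_cancel₀ hGne, one_mul]
  rw [key]
  unfold classIndicator
  by_cases hc : IsConj g h
  · rw [if_pos hc, if_pos hc.symm, mul_one]
    -- centralizers of conjugate elements have the same cardinality
    have h1 := card_centralizer_mul_card_conj g
    have h2 : Nat.card {x : G // IsConj g x} = Nat.card {x : G // IsConj h x} := by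
      apply Nat.card_congr
      apply Equiv.subtypeEquivRight
      intro x
      exact ⟨fun hx => hc.symm.trans hx, fun hx => hc.trans hx⟩
    rw [h2] at h1
    have hpos : 0 < Nat.card {x : G // IsConj h x} := by
      haveI : Nonempty {x : G // IsConj h x} := ⟨⟨h, IsConj.refl h⟩⟩
      exact Nat.card_pos
    have := Nat.eq_of_mul_eq_mul_right hpos (h1.trans hcard.symm)
    rw [this]
  · have hc' : ¬ IsConj h g := fun hh => hc hh.symm
    rw [if_neg hc, if_neg hc', mul_zero]

/-- Two elements are conjugate iff all irreducible characters agree on them. -/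
theorem isConj_iff_forall_irrCharacter (g h : G) :
    IsConj g h ↔ ∀ χ : Cfsg.IrrCharacter G, (χ : G → ℂ) g = (χ : G → ℂ) h := by
  classical
  haveI : Fintype (Cfsg.IrrCharacter G) := Fintype.ofFinite _
  constructor
  · intro hc χ
    exact IsClassFunction.eq_of_isConj (IrrCharacter.isClassFunction χ) hc
  · intro hall
    by_contra hc
    have h1 := column_orthogonality g h
    rw [if_neg hc] at h1
    have h2 := column_orthogonality h h
    rw [if_pos (IsConj.refl h)] at h2
    have : ∑ χ : Cfsg.IrrCharacter G, (χ : G → ℂ) g * conj ((χ : G → ℂ) h)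
        = ∑ χ : Cfsg.IrrCharacter G, (χ : G → ℂ) h * conj ((χ : G → ℂ) h) := by
      apply Finset.sum_congr rfl
      intro χ _
      rw [hall χ]
    rw [this, h2] at h1
    have hpos : 0 < Nat.card (Subgroup.centralizer ({h} : Set G)) := Nat.card_pos
    have : (Nat.card (Subgroup.centralizer ({h} : Set G)) : ℂ) ≠ 0 := by
      exact_mod_cast hpos.ne'
    exact this h1

end Column

end Cfsg.Agent.Lib.Helper2
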