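import Mathlib
import Cfsg.Prelude.Def_Characters
import Cfsg.Agent.Lib.Helper2.Column

/-!
# Degrees, the regular character, sum of squares of degrees (helper2 library)
-/

set_option autoImplicit false

namespace Cfsg.Agent.Lib.Helper2

open Module
open scoped ComplexConjugate MonoidAlgebra

section Degree

variable {G : Type*} [Group G]

/-- An irreducible representation acts on a nontrivial space. -/
theorem nontrivial_of_isIrreducible {k : Type*} [Field k] {V : Type*} [AddCommGroup V]
    [Module k V] (ρ : Representation k G V) [ρ.IsIrreducible] : Nontrivial V := by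
  have hn : Nontrivial (Subrepresentation ρ) := IsSimpleOrder.toNontrivial
  by_contra hcon
  rw [not_nontrivial_iff_subsingleton] at hcon
  obtain ⟨x, y, hxy⟩ := hn
  apply hxy
  apply Subrepresentation.toSubmodule_injective
  ext v
  have : v = 0 := Subsingleton.elim _ _
  simp [this]

theorem finrank_pos_of_isIrreducible {k : Type*} [Field k] {V : Type*} [AddCommGroup V]
    [Module k V] [FiniteDimensional k V] (ρ : Representation k G V) [ρ.IsIrreducible] :
    0 < finrank k V := by
  have := nontrivial_of_isIrreducible ρ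
  exact Module.finrank_pos

/-- The degree of a character is a natural number. -/
theorem IsCharacter.apply_one {χ : G → ℂ} (h : Cfsg.IsCharacter G χ) : ∃ n : ℕ, χ 1 = (n : ℂ) := by
  obtain ⟨n, ρ, rfl⟩ := h
  exact ⟨finrank ℂ (Fin n → ℂ), Representation.char_one ρ⟩

/-- The degree of an irreducible character is a positive natural number. -/
theorem IsIrrCharacter.apply_one {χ : G → ℂ} (h : Cfsg.IsIrrCharacter G χ) :
    ∃ n : ℕ, 0 < n ∧ χ 1 = (n : ℂ) := by
  obtain ⟨n, ρ, hρ, rfl⟩ := h
  exact ⟨finrank ℂ (Fin n → ℂ), finrank_pos_of_isIrreducible ρ, Representation.char_one ρ⟩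

theorem IsIrrCharacter.apply_one_ne_zero {χ : G → ℂ} (h : Cfsg.IsIrrCharacter G χ) : χ 1 ≠ 0 := by
  obtain ⟨n, hn, h1⟩ := IsIrrCharacter.apply_one h
  rw [h1]
  exact_mod_cast hn.ne'

theorem IsCharacter.conj_apply_one {χ : G → ℂ} (h : Cfsg.IsCharacter G χ) :
    conj (χ 1) = χ 1 := by
  obtain ⟨n, hn⟩ := IsCharacter.apply_one h
  rw [hn, Complex.conj_natCast]

end Degree

section Regular

variable {G : Type*} [Group G] [Fintype G]

/-- The character of the regular representation. -/
theorem leftRegular_character [DecidableEq G] (g : G) :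
    (Representation.leftRegular ℂ G).character g = if g = 1 then (Nat.card G : ℂ) else 0 := by
  unfold Representation.character
  rw [LinearMap.trace_eq_matrix_trace ℂ (MonoidAlgebra.basis G ℂ), Matrix.trace]
  have : ∀ x : G, Matrix.diag ((LinearMap.toMatrix (MonoidAlgebra.basis G ℂ)
      (MonoidAlgebra.basis G ℂ)) ((Representation.leftRegular ℂ G) g)) x
      = if g = 1 then 1 else 0 := by
    intro x
    rw [Matrix.diag_apply, LinearMap.toMatrix_apply, MonoidAlgebra.basis_apply,
      Representation.ofMulAction_single]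
    change (MonoidAlgebra.single (g • x) (1 : ℂ)).coeff x = _
    rw [MonoidAlgebra.coeff_single, Finsupp.single_apply]
    simp
  simp only [this]
  split_ifs with h
  · simp [Nat.card_eq_fintype_card]
  · simp

/-- Sum over irreducible characters of `χ 1 * χ g`. -/
theorem sum_irr_degree_mul [Fintype (Cfsg.IrrCharacter G)] [DecidableEq G] (g : G) :
    ∑ χ : Cfsg.IrrCharacter G, (χ : G → ℂ) 1 * (χ : G → ℂ) g
      = if g = 1 then (Nat.card G : ℂ) else 0 := by
  classical
  have h := column_orthogonality g (1 : G)
  have h2 : ∑ χ : Cfsg.IrrCharacter G, (χ : G → ℂ) 1 * (χ : G → ℂ) g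
      = ∑ χ : Cfsg.IrrCharacter G, (χ : G → ℂ) g * conj ((χ : G → ℂ) 1) := by
    apply Finset.sum_congr rfl
    intro χ _
    rw [IsCharacter.conj_apply_one (IsIrrCharacter.isCharacter χ.2), mul_comm]
  rw [h2, h]
  by_cases hg : g = 1
  · subst hg
    rw [if_pos (IsConj.refl 1), if_pos rfl]
    congr 1
    have : Subgroup.centralizer ({1} : Set G) = ⊤ := by
      ext x; simp [Subgroup.mem_centralizer_iff]
    rw [this, Subgroup.card_top]
  · rw [if_neg hg, if_neg]
    intro hc
    apply hg
    exact (isConj_one_left.mp hc)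

/-- Sum of the squares of the degrees. -/
theorem sum_irr_degree_sq [Fintype (Cfsg.IrrCharacter G)] :
    ∑ χ : Cfsg.IrrCharacter G, (χ : G → ℂ) 1 ^ 2 = (Nat.card G : ℂ) := by
  classical
  have h := sum_irr_degree_mul (G := G) 1
  rw [if_pos rfl] at h
  rw [← h]
  apply Finset.sum_congr rfl
  intro χ _
  ring

/-- The regular character is `∑ χ 1 • χ`. -/
theorem leftRegular_character_eq_sum [Fintype (Cfsg.IrrCharacter G)] :
    (Representation.leftRegular ℂ G).character
      = ∑ χ : Cfsg.IrrCharacter G, (χ : G → ℂ) 1 • (χ : G → ℂ) := by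
  classical
  ext g
  rw [leftRegular_character, Finset.sum_apply]
  simp only [Pi.smul_apply, smul_eq_mul]
  rw [sum_irr_degree_mul]

end Regular

end Cfsg.Agent.Lib.Helper2
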