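import Mathlib

/-!
# An algebraic integer that is an average of roots of unity has norm 1 or is zero
(helper2 library)
-/

set_option autoImplicit false

namespace Cfsg.Agent.Lib.Helper2

open scoped IntermediateField

/-- If an average of `n` complex `m`-th roots of unity is an algebraic integer of absolute value
less than one, then it is zero. -/
theorem avg_roots_eq_zero_of_isIntegral {n : ℕ} (hn : 0 < n) (m : ℕ) (hm : m ≠ 0)
    (μ : Fin n → ℂ) (hμ : ∀ i, μ i ^ m = 1)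
    (hint : IsIntegral ℤ ((∑ i, μ i) / (n : ℂ))) (hlt : ‖(∑ i, μ i) / (n : ℂ)‖ < 1) :
    (∑ i, μ i) / (n : ℂ) = 0 := by
  classical
  set α : ℂ := (∑ i, μ i) / (n : ℂ) with hα
  let L : IntermediateField ℚ ℂ := IntermediateField.adjoin ℚ (Set.range μ)
  have hμint : ∀ x ∈ Set.range μ, IsIntegral ℚ x := by
    rintro x ⟨i, rfl⟩
    refine ⟨Polynomial.X ^ m - 1, Polynomial.monic_X_pow_sub_C 1 hm, ?_⟩
    simp [hμ i]
  haveI : FiniteDimensional ℚ L := IntermediateField.finiteDimensional_adjoin hμint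
  let μ' : Fin n → L := fun i => ⟨μ i, IntermediateField.subset_adjoin ℚ _ ⟨i, rfl⟩⟩
  let α' : L := (∑ i, μ' i) / (n : L)
  have hα' : ((α' : L) : ℂ) = α := by
    simp only [α', μ', hα]
    push_cast
    rfl
  have hint' : IsIntegral ℤ α' := by
    have hinj : Function.Injective (algebraMap L ℂ) := (algebraMap L ℂ).injective
    rw [← isIntegral_algebraMap_iff hinj]
    change IsIntegral ℤ ((α' : L) : ℂ)
    rw [hα']; exact hint
  have hN : IsIntegral ℤ (Algebra.norm ℚ α') := Algebra.isIntegral_norm ℚ hint'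
  obtain ⟨z, hz⟩ := IsIntegrallyClosed.isIntegral_iff.mp hN
  have hprod := Algebra.norm_eq_prod_embeddings ℚ ℂ α'
  -- each embedding sends `α'` to something of norm at most one
  have hle : ∀ σ : L →ₐ[ℚ] ℂ, ‖σ α'‖ ≤ 1 := by
    intro σ
    have h1 : σ α' = (∑ i, σ (μ' i)) / (n : ℂ) := by
      simp only [α', map_div₀, map_sum, map_natCast]
    rw [h1, norm_div, Complex.norm_natCast]
    have hnr : (0 : ℝ) < n := by exact_mod_cast hn
    rw [div_le_one hnr]
    calc ‖∑ i, σ (μ' i)‖ ≤ ∑ i, ‖σ (μ' i)‖ := norm_sum_le _ _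
      _ = ∑ _i : Fin n, (1 : ℝ) := by
        apply Finset.sum_congr rfl
        intro i _
        apply Complex.norm_eq_one_of_pow_eq_one _ hm
        rw [← map_pow]
        have : μ' i ^ m = 1 := by
          apply Subtype.ext
          simp [μ', hμ i]
        rw [this, map_one]
      _ = n := by simp
  have hlt' : ‖(L.val : L →ₐ[ℚ] ℂ) α'‖ < 1 := by
    change ‖((α' : L) : ℂ)‖ < 1
    rw [hα']; exact hlt
  have hnorm : ‖∏ σ : L →ₐ[ℚ] ℂ, σ α'‖ < 1 := by
    rw [norm_prod]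
    refine lt_of_eq_of_lt (Finset.mul_prod_erase _ (fun σ : L →ₐ[ℚ] ℂ => ‖σ α'‖)
      (Finset.mem_univ (L.val : L →ₐ[ℚ] ℂ))).symm ?_
    calc ‖(L.val : L →ₐ[ℚ] ℂ) α'‖ * ∏ σ ∈ Finset.univ.erase (L.val : L →ₐ[ℚ] ℂ), ‖σ α'‖
        ≤ ‖(L.val : L →ₐ[ℚ] ℂ) α'‖ * 1 := by
          apply mul_le_mul_of_nonneg_left _ (norm_nonneg _)
          apply Finset.prod_le_one
          · intro σ _; exact norm_nonneg _
          · intro σ _; exact hle σ
      _ < 1 := by rw [mul_one]; exact hlt'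
  rw [← hprod, ← hz] at hnorm
  have hz0 : z = 0 := by
    have h2 : ‖((z : ℚ) : ℂ)‖ < 1 := by simpa using hnorm
    have h3 : ‖((z : ℚ) : ℂ)‖ = |(z : ℝ)| := by
      have : ((z : ℚ) : ℂ) = ((z : ℝ) : ℂ) := by push_cast; rfl
      rw [this, Complex.norm_real, Real.norm_eq_abs]
    rw [h3] at h2
    have h4 : |z| < 1 := by exact_mod_cast h2
    exact Int.abs_lt_one_iff.mp h4
  rw [hz0] at hz
  have hN0 : Algebra.norm ℚ α' = 0 := by rw [← hz]; simp
  have hα0 : α' = 0 := Algebra.norm_eq_zero_iff.mp hN0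
  rw [← hα', hα0]; rfl

end Cfsg.Agent.Lib.Helper2
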