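import Mathlib
import Cfsg.Prelude.Def_Characters
import Cfsg.Agent.Lib.Helper2.Regular
import Cfsg.Agent.Lib.Helper2.RootsAvg

/-!
# Integrality: central characters, the degree divides the group order, Burnside's vanishing lemma
(helper2 library)
-/

set_option autoImplicit false

namespace Cfsg.Agent.Lib.Helper2

open Module
open scoped ComplexConjugate MonoidAlgebra

section Central

variable {G : Type*} [Group G] [Fintype G]
variable {V : Type*} [AddCommGroup V] [Module ℂ V] [FiniteDimensional ℂ V]

omit [FiniteDimensional ℂ V] in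
/-- `repSum ρ c` for an integer-valued function `c` is integral over `ℤ` in `End V`. -/
theorem repSum_int_isIntegral (ρ : Representation ℂ G V) (c : G → ℤ) :
    IsIntegral ℤ (repSum ρ (fun g => (c g : ℂ))) := by
  let φ : MonoidAlgebra ℤ G →ₐ[ℤ] Module.End ℂ V := MonoidAlgebra.lift ℤ (Module.End ℂ V) G ρ
  let z : MonoidAlgebra ℤ G := ∑ g : G, MonoidAlgebra.single g (c g)
  have hz : IsIntegral ℤ z := IsIntegral.of_finite ℤ z
  have hφ : φ z = repSum ρ (fun g => (c g : ℂ)) := by
    simp only [z, φ, map_sum, repSum]
    apply Finset.sum_congr rfl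
    intro g _
    rw [MonoidAlgebra.lift_single]
    ext v
    simp only [LinearMap.smul_apply]
    exact (Int.cast_smul_eq_zsmul ℂ (c g) _).symm
  rw [← hφ]
  exact hz.map φ

omit [FiniteDimensional ℂ V] in
/-- A scalar endomorphism of a nontrivial space is integral iff the scalar is. -/
theorem isIntegral_of_smul_id [Nontrivial V] (ω : ℂ)
    (h : IsIntegral ℤ (ω • (LinearMap.id : V →ₗ[ℂ] V))) : IsIntegral ℤ ω := by
  have hinj : Function.Injective (algebraMap ℂ (Module.End ℂ V)) :=
    (algebraMap ℂ (Module.End ℂ V)).injective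
  rw [← isIntegral_algebraMap_iff hinj]
  have : algebraMap ℂ (Module.End ℂ V) ω = ω • (LinearMap.id : V →ₗ[ℂ] V) := by
    rw [Algebra.algebraMap_eq_smul_one]; rfl
  rw [this]; exact h

/-- For an irreducible representation and an integer-valued class function `c`, the scalar
`(∑ c g χ g) / χ 1` is an algebraic integer. -/
theorem isIntegral_sum_int_mul_char_div (ρ : Representation ℂ G V) [ρ.IsIrreducible]
    (c : G → ℤ) (hc : Cfsg.IsClassFunction G (fun g => (c g : ℂ))) :
    IsIntegral ℤ ((finrank ℂ V : ℂ)⁻¹ * ∑ g : G, (c g : ℂ) * ρ.character g) := by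
  have := nontrivial_of_isIrreducible ρ
  apply isIntegral_of_smul_id (V := V)
  rw [← repSum_irreducible ρ _ hc]
  exact repSum_int_isIntegral ρ c

/-- The central character value `|K| χ(g) / χ(1)` is an algebraic integer. -/
theorem isIntegral_index_centralizer_mul_char_div (ρ : Representation ℂ G V) [ρ.IsIrreducible]
    (g : G) :
    IsIntegral ℤ (((Subgroup.centralizer ({g} : Set G)).index : ℂ) * ρ.character g
      / (finrank ℂ V : ℂ)) := by
  classical
  let c : G → ℤ := fun x => if IsConj g x then 1 else 0
  have hcc : (fun x => ((c x : ℤ) : ℂ)) = classIndicator g := by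
    ext x
    simp only [c, classIndicator]
    split_ifs <;> simp
  have hc : Cfsg.IsClassFunction G (fun x => ((c x : ℤ) : ℂ)) := by
    rw [hcc]; exact classIndicator_isClassFunction g
  have h := isIntegral_sum_int_mul_char_div ρ c hc
  have hsum : ∑ x : G, ((c x : ℤ) : ℂ) * ρ.character x
      = ((Subgroup.centralizer ({g} : Set G)).index : ℂ) * ρ.character g := by
    have : ∀ x : G, ((c x : ℤ) : ℂ) * ρ.character x
        = if IsConj g x then ρ.character g else 0 := by
      intro x
      simp only [c]
      by_cases hx : IsConj g x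
      · rw [if_pos hx, if_pos hx]
        obtain ⟨y, hy⟩ := isConj_iff.mp hx
        rw [← hy, Representation.char_conj]
        simp
      · rw [if_neg hx, if_neg hx]; simp
    simp only [this]
    rw [← Finset.sum_filter, Finset.sum_const, nsmul_eq_mul, index_centralizer_eq_card_conj,
      Nat.card_eq_fintype_card, Fintype.card_subtype]
  rw [hsum] at h
  rw [div_eq_mul_inv, mul_comm]
  exact h

end Central

section DegreeDivides

variable {G : Type*} [Group G] [Fintype G]
variable {V : Type*} [AddCommGroup V] [Module ℂ V] [FiniteDimensional ℂ V]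

/-- `|G| / χ(1)` is an algebraic integer. -/
theorem isIntegral_card_div_degree (ρ : Representation ℂ G V) [ρ.IsIrreducible] :
    IsIntegral ℤ ((Nat.card G : ℂ) / (finrank ℂ V : ℂ)) := by
  classical
  haveI : Fintype (ConjClasses G) := Fintype.ofFinite _
  have h1 := classInner_irr_self ρ
  rw [classInner_def] at h1
  have hsum : ∑ g : G, ρ.character g * conj (ρ.character g) = (Nat.card G : ℂ) := by
    have hne : (Nat.card G : ℂ) ≠ 0 := card_ne_zero_complex
    field_simp at h1
    rw [h1]
  rw [← hsum, Finset.sum_div, ← Finset.sum_fiberwise Finset.univ (ConjClasses.mk)]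
  apply IsIntegral.sum
  intro C _
  -- representative
  obtain ⟨a, rfl⟩ := ConjClasses.mk_surjective C
  have : ∑ x ∈ Finset.univ.filter (fun x : G => ConjClasses.mk x = ConjClasses.mk a),
      ρ.character x * conj (ρ.character x) / (finrank ℂ V : ℂ)
      = (((Subgroup.centralizer ({a} : Set G)).index : ℂ) * ρ.character a
        / (finrank ℂ V : ℂ)) * conj (ρ.character a) := by
    have hterm : ∀ x ∈ Finset.univ.filter (fun x : G => ConjClasses.mk x = ConjClasses.mk a),
        ρ.character x * conj (ρ.character x) / (finrank ℂ V : ℂ)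
        = ρ.character a * conj (ρ.character a) / (finrank ℂ V : ℂ) := by
      intro x hx
      rw [Finset.mem_filter, ConjClasses.mk_eq_mk_iff_isConj] at hx
      obtain ⟨y, hy⟩ := isConj_iff.mp hx.2
      rw [← hy, Representation.char_conj]
    rw [Finset.sum_congr rfl hterm, Finset.sum_const, nsmul_eq_mul, index_centralizer_eq_card_conj,
      Nat.card_eq_fintype_card, Fintype.card_subtype]
    have : (Finset.univ.filter (fun x : G => ConjClasses.mk x = ConjClasses.mk a))
        = Finset.univ.filter (fun x : G => IsConj a x) := by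
      ext x
      simp only [Finset.mem_filter, Finset.mem_univ, true_and, ConjClasses.mk_eq_mk_iff_isConj]
      exact isConj_comm
    rw [this]
    ring
  rw [this]
  apply IsIntegral.mul (isIntegral_index_centralizer_mul_char_div ρ a)
  rw [← char_inv]
  exact char_isIntegral ρ a⁻¹

/-- A complex number that is both rational and an algebraic integer is an integer. -/
theorem exists_int_of_isIntegral_of_rat {x : ℂ} (q : ℚ) (hq : x = (q : ℂ))
    (h : IsIntegral ℤ x) : ∃ z : ℤ, x = (z : ℂ) := by
  have hinj : Function.Injective (algebraMap ℚ ℂ) := (algebraMap ℚ ℂ).injective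
  have h' : IsIntegral ℤ q := by
    rw [← isIntegral_algebraMap_iff hinj]
    rw [hq] at h
    exact h
  obtain ⟨z, hz⟩ := IsIntegrallyClosed.isIntegral_iff.mp h'
  refine ⟨z, ?_⟩
  rw [hq, ← hz]
  simp

/-- The degree of an irreducible representation divides the group order. -/
theorem finrank_dvd_card (ρ : Representation ℂ G V) [ρ.IsIrreducible] :
    finrank ℂ V ∣ Nat.card G := by
  have hpos := finrank_pos_of_isIrreducible ρ
  have hint := isIntegral_card_div_degree ρ
  obtain ⟨z, hz⟩ := exists_int_of_isIntegral_of_rat ((Nat.card G : ℚ) / (finrank ℂ V : ℚ))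
    (by push_cast; rfl) hint
  have hne : (finrank ℂ V : ℂ) ≠ 0 := by exact_mod_cast hpos.ne'
  have h2 : (Nat.card G : ℂ) = (z : ℂ) * (finrank ℂ V : ℂ) := by
    rw [← hz]; field_simp
  have h3 : (Nat.card G : ℤ) = z * (finrank ℂ V : ℤ) := by exact_mod_cast h2
  have h4 : ((finrank ℂ V : ℕ) : ℤ) ∣ (Nat.card G : ℤ) := ⟨z, by rw [h3]; ring⟩
  exact_mod_cast h4

end DegreeDivides

end Cfsg.Agent.Lib.Helper2
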