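import Mathlib
import Cfsg.Prelude.Def_Characters
import Cfsg.Agent.Lib.Helper2.Integrality

/-!
# Burnside's vanishing lemma and consequences (helper2 library)
-/

set_option autoImplicit false

namespace Cfsg.Agent.Lib.Helper2

open Module
open scoped ComplexConjugate MonoidAlgebra

section Vanishing

variable {G : Type*} [Group G] [Fintype G]
variable {V : Type*} [AddCommGroup V] [Module ℂ V] [FiniteDimensional ℂ V]

/-- If `χ(g)/χ(1)` is an algebraic integer then `χ(g) = 0` or `‖χ(g)‖ = χ(1)`. -/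
theorem char_eq_zero_or_norm_eq_of_isIntegral (ρ : Representation ℂ G V) (g : G)
    (hpos : 0 < finrank ℂ V)
    (hint : IsIntegral ℤ (ρ.character g / (finrank ℂ V : ℂ))) :
    ρ.character g = 0 ∨ ‖ρ.character g‖ = (finrank ℂ V : ℝ) := by
  obtain ⟨μ, hμ, h1, _⟩ := exists_eigenvalues ρ g
  have a := h1 1
  simp only [pow_one] at a
  have hne : (finrank ℂ V : ℂ) ≠ 0 := by exact_mod_cast hpos.ne'
  have hnr : (0 : ℝ) < finrank ℂ V := by exact_mod_cast hpos
  by_cases hlt : ‖ρ.character g / (finrank ℂ V : ℂ)‖ < 1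
  · left
    rw [a] at hint hlt
    have := avg_roots_eq_zero_of_isIntegral hpos (orderOf g) (orderOf_pos g).ne' μ hμ hint hlt
    rw [a]
    rcases div_eq_zero_iff.mp this with h | h
    · exact h
    · exact absurd h hne
  · right
    rw [not_lt] at hlt
    rw [norm_div, Complex.norm_natCast, le_div_iff₀ hnr, one_mul] at hlt
    exact le_antisymm (norm_char_le ρ g) hlt

/-- Burnside's vanishing lemma. -/
theorem char_eq_zero_or_norm_eq_of_coprime (ρ : Representation ℂ G V) [ρ.IsIrreducible] (g : G)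
    (hcop : Nat.Coprime (finrank ℂ V) (Subgroup.centralizer ({g} : Set G)).index) :
    ρ.character g = 0 ∨ ‖ρ.character g‖ = (finrank ℂ V : ℝ) := by
  have hpos := finrank_pos_of_isIrreducible ρ
  apply char_eq_zero_or_norm_eq_of_isIntegral ρ g hpos
  have hne : (finrank ℂ V : ℂ) ≠ 0 := by exact_mod_cast hpos.ne'
  set n := finrank ℂ V with hn
  set k := (Subgroup.centralizer ({g} : Set G)).index with hk
  have hbez : (n : ℤ) * Nat.gcdA n k + (k : ℤ) * Nat.gcdB n k = 1 := by
    rw [← Nat.gcd_eq_gcd_ab, hcop.gcd_eq_one]; simp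
  have hbezC : (n : ℂ) * (Nat.gcdA n k : ℂ) + (k : ℂ) * (Nat.gcdB n k : ℂ) = 1 := by
    exact_mod_cast hbez
  have : ρ.character g / (n : ℂ)
      = (Nat.gcdA n k : ℂ) * ρ.character g
        + (Nat.gcdB n k : ℂ) * ((k : ℂ) * ρ.character g / (n : ℂ)) := by
    have h1 : ρ.character g / (n : ℂ) = ((n : ℂ) * (Nat.gcdA n k : ℂ) + (k : ℂ) * (Nat.gcdB n k : ℂ))
        * (ρ.character g / (n : ℂ)) := by rw [hbezC, one_mul]
    rw [h1]
    field_simp
  rw [this]
  apply IsIntegral.add
  · exact IsIntegral.mul isIntegral_algebraMap (char_isIntegral ρ g)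
  · exact IsIntegral.mul isIntegral_algebraMap (isIntegral_index_centralizer_mul_char_div ρ g)

end Vanishing

end Cfsg.Agent.Lib.Helper2
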