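import Mathlib
import Cfsg.Prelude.Def_Characters
import Cfsg.Agent.Lib.Helper2.Burnside

/-!
# Burnside: prime power class sizes and the p^a q^b theorem (helper2 library)
-/

set_option autoImplicit false

namespace Cfsg.Agent.Lib.Helper2

open Module
open scoped ComplexConjugate MonoidAlgebra

section Trivial

variable {G : Type*} [Group G]

/-- A one-dimensional representation is irreducible. -/
theorem isIrreducible_of_finrank_eq_one {k : Type*} [Field k] {V : Type*} [AddCommGroup V]
    [Module k V] (ρ : Representation k G V) (h : finrank k V = 1) : ρ.IsIrreducible := by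
  have hs : IsSimpleOrder (Submodule k V) := is_simple_module_of_finrank_eq_one (A := k) h
  have hnt : Nontrivial (Subrepresentation ρ) := by
    refine ⟨⊥, ⊤, ?_⟩
    intro hbt
    have h2 : (⊥ : Subrepresentation ρ).toSubmodule = (⊤ : Subrepresentation ρ).toSubmodule := by
      rw [hbt]
    exact bot_ne_top h2
  refine ⟨fun S => ?_⟩
  rcases hs.eq_bot_or_eq_top S.toSubmodule with h1 | h1
  · left; exact Subrepresentation.toSubmodule_injective h1
  · right; exact Subrepresentation.toSubmodule_injective h1

/-- The trivial character is irreducible. -/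
theorem isIrrCharacter_one : Cfsg.IsIrrCharacter G (fun _ => (1 : ℂ)) := by
  have hirr : (Representation.trivial ℂ G ℂ).IsIrreducible :=
    isIrreducible_of_finrank_eq_one _ (Module.finrank_self ℂ)
  have := isIrrCharacter_of_rep (Representation.trivial ℂ G ℂ)
  convert this using 1
  ext g
  simp [Representation.character]

/-- The trivial irreducible character. -/
def trivialIrr (G : Type*) [Group G] : Cfsg.IrrCharacter G := ⟨fun _ => 1, isIrrCharacter_one⟩

end Trivial

section Scalar

variable {G : Type*} [Group G] {V : Type*} [AddCommGroup V] [Module ℂ V]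

/-- The subgroup of elements acting as scalars (the centre of the character). -/
def scalarSubgroup (ρ : Representation ℂ G V) : Subgroup G where
  carrier := {x | ∃ ω : ℂ, ρ x = ω • (LinearMap.id : V →ₗ[ℂ] V)}
  one_mem' := ⟨1, by simp; rfl⟩
  mul_mem' := by
    rintro a b ⟨ωa, ha⟩ ⟨ωb, hb⟩
    refine ⟨ωa * ωb, ?_⟩
    rw [map_mul, ha, hb]
    ext v
    simp [smul_smul, mul_comm]
  inv_mem' := by
    rintro a ⟨ω, ha⟩
    by_cases hV : Subsingleton V
    · exact ⟨0, LinearMap.ext fun v => Subsingleton.elim _ _⟩
    · rw [not_subsingleton_iff_nontrivial] at hV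
      obtain ⟨v, hv⟩ := exists_ne (0 : V)
      have hω : ω ≠ 0 := by
        intro h0
        have h1 : ρ a⁻¹ (ρ a v) = v := by
          rw [← Module.End.mul_apply, ← map_mul, inv_mul_cancel, map_one, Module.End.one_apply]
        rw [ha, h0] at h1
        simp at h1
        exact hv h1.symm
      refine ⟨ω⁻¹, ?_⟩
      ext w
      have h1 : ρ a⁻¹ (ρ a w) = w := by
        rw [← Module.End.mul_apply, ← map_mul, inv_mul_cancel, map_one, Module.End.one_apply]
      rw [ha] at h1
      simp only [LinearMap.smul_apply, LinearMap.id_coe, id_eq, map_smul] at h1 ⊢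
      calc (ρ a⁻¹) w = ω⁻¹ • (ω • (ρ a⁻¹) w) := by rw [smul_smul, inv_mul_cancel₀ hω, one_smul]
        _ = ω⁻¹ • w := by rw [h1]

theorem mem_scalarSubgroup {ρ : Representation ℂ G V} {x : G} :
    x ∈ scalarSubgroup ρ ↔ ∃ ω : ℂ, ρ x = ω • (LinearMap.id : V →ₗ[ℂ] V) := Iff.rfl

instance scalarSubgroup_normal (ρ : Representation ℂ G V) : (scalarSubgroup ρ).Normal := by
  constructor
  rintro n ⟨ω, hn⟩ g
  refine ⟨ω, ?_⟩
  rw [map_mul, map_mul, hn]
  ext v
  simp only [Module.End.mul_apply, LinearMap.smul_apply, LinearMap.id_coe, id_eq, map_smul]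
  congr 1
  rw [← Module.End.mul_apply, ← map_mul, mul_inv_cancel, map_one, Module.End.one_apply]

end Scalar

section PrimePowerClass

variable {G : Type*} [Group G] [Fintype G]

/-- In a nonabelian simple group, a nontrivial irreducible representation has trivial centre. -/
theorem scalarSubgroup_eq_bot_of_simple [IsSimpleGroup G] (hna : ¬ ∀ a b : G, a * b = b * a)
    {V : Type*} [AddCommGroup V] [Module ℂ V] [FiniteDimensional ℂ V]
    (ρ : Representation ℂ G V) [ρ.IsIrreducible] (hnt : ρ.character ≠ fun _ => 1) :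
    scalarSubgroup ρ = ⊥ := by
  rcases (scalarSubgroup_normal ρ).eq_bot_or_eq_top with h | h
  · exact h
  · exfalso
    have hsc : ∀ x : G, ∃ ω : ℂ, ρ x = ω • (LinearMap.id : V →ₗ[ℂ] V) := by
      intro x
      have : x ∈ scalarSubgroup ρ := by rw [h]; trivial
      exact this
    rcases (MonoidHom.normal_ker ρ).eq_bot_or_eq_top with hk | hk
    · apply hna
      intro a b
      have hinj : Function.Injective ρ := (MonoidHom.ker_eq_bot_iff ρ).mp hk
      apply hinj
      obtain ⟨ωa, ha⟩ := hsc a
      obtain ⟨ωb, hb⟩ := hsc b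
      rw [map_mul, map_mul, ha, hb]
      ext v
      simp [smul_smul, mul_comm]
    · apply hnt
      have h1 : ∀ x : G, ρ x = 1 := by
        intro x
        have : x ∈ MonoidHom.ker ρ := by rw [hk]; trivial
        exact this
      have hχ : ∀ x : G, ρ.character x = (finrank ℂ V : ℂ) := by
        intro x
        simp [Representation.character, h1 x]
      have h2 := classInner_irr_self ρ
      rw [classInner_def] at h2
      simp only [hχ, Complex.conj_natCast, Finset.sum_const, Finset.card_univ, nsmul_eq_mul] at h2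
      have hne : (Nat.card G : ℂ) ≠ 0 := card_ne_zero_complex
      rw [← Nat.card_eq_fintype_card, ← mul_assoc, inv_mul_cancel₀ hne, one_mul] at h2
      have h3 : finrank ℂ V * finrank ℂ V = 1 := by exact_mod_cast h2
      have h4 : finrank ℂ V = 1 := Nat.eq_one_of_mul_eq_one_right h3
      ext x
      rw [hχ x, h4]; simp

/-- Burnside: a finite simple group with a nontrivial conjugacy class of prime power size has
prime order. -/
theorem prime_card_of_prime_pow_class [IsSimpleGroup G] (p k : ℕ) (hp : p.Prime) (g : G)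
    (hg : g ≠ 1) (hclass : (Subgroup.centralizer ({g} : Set G)).index = p ^ k) :
    (Nat.card G).Prime := by
  classical
  by_cases hab : ∀ a b : G, a * b = b * a
  · let _ : CommGroup G := { ‹Group G› with mul_comm := hab }
    exact IsSimpleGroup.prime_card
  exfalso
  rcases Nat.eq_zero_or_pos k with hk | hk
  · -- central element
    rw [hk, pow_zero, Subgroup.index_eq_one] at hclass
    have hgc : g ∈ Subgroup.center G := by
      rw [Subgroup.mem_center_iff]
      intro x
      have : x ∈ Subgroup.centralizer ({g} : Set G) := by rw [hclass]; trivial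
      rw [Subgroup.mem_centralizer_iff] at this
      exact (this g rfl).symm
    rcases (inferInstance : (Subgroup.center G).Normal).eq_bot_or_eq_top with h | h
    · rw [h, Subgroup.mem_bot] at hgc
      exact hg hgc
    · apply hab
      intro a b
      have : b ∈ Subgroup.center G := by rw [h]; trivial
      rw [Subgroup.mem_center_iff] at this
      exact (this a)
  · haveI : Fintype (Cfsg.IrrCharacter G) := Fintype.ofFinite _
    have key : ∀ χ : Cfsg.IrrCharacter G, χ ≠ trivialIrr G →
        ∃ β : ℂ, IsIntegral ℤ β ∧ (χ : G → ℂ) 1 * (χ : G → ℂ) g = (p : ℂ) * β := by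
      intro χ hχ
      obtain ⟨n, ρ, hρ, hρχ⟩ := χ.2
      have hnt : ρ.character ≠ fun _ => 1 := by
        intro h
        apply hχ
        apply Subtype.ext
        rw [← hρχ, h]; rfl
      have hdeg : (χ : G → ℂ) 1 = (finrank ℂ (Fin n → ℂ) : ℂ) := by
        rw [← hρχ]; exact Representation.char_one ρ
      by_cases hpn : p ∣ finrank ℂ (Fin n → ℂ)
      · obtain ⟨n', hn'⟩ := hpn
        refine ⟨(n' : ℂ) * (χ : G → ℂ) g, ?_, ?_⟩
        · apply IsIntegral.mul isIntegral_algebraMap
          rw [← hρχ]; exact char_isIntegral ρ g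
        · rw [hdeg, hn']; push_cast; ring
      · have hcop : Nat.Coprime (finrank ℂ (Fin n → ℂ))
            (Subgroup.centralizer ({g} : Set G)).index := by
          rw [hclass]
          apply Nat.Coprime.pow_right
          exact ((Nat.Prime.coprime_iff_not_dvd hp).mpr hpn).symm
        rcases char_eq_zero_or_norm_eq_of_coprime ρ g hcop with h0 | h0
        · refine ⟨0, isIntegral_zero, ?_⟩
          rw [← hρχ, h0]; simp
        · exfalso
          have hmem : g ∈ scalarSubgroup ρ := (norm_char_eq_finrank_iff ρ g).mp h0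
          rw [scalarSubgroup_eq_bot_of_simple hab ρ hnt, Subgroup.mem_bot] at hmem
          exact hg hmem
    choose! β hβint hβ using key
    have hsum := sum_irr_degree_mul (G := G) g
    rw [if_neg hg, ← Finset.add_sum_erase Finset.univ _ (Finset.mem_univ (trivialIrr G))] at hsum
    have h1 : ((trivialIrr G : Cfsg.IrrCharacter G) : G → ℂ) 1
        * ((trivialIrr G : Cfsg.IrrCharacter G) : G → ℂ) g = 1 := by
      simp [trivialIrr]
    rw [h1] at hsum
    have h2 : ∑ χ ∈ Finset.univ.erase (trivialIrr G), (χ : G → ℂ) 1 * (χ : G → ℂ) g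
        = (p : ℂ) * ∑ χ ∈ Finset.univ.erase (trivialIrr G), β χ := by
      rw [Finset.mul_sum]
      apply Finset.sum_congr rfl
      intro χ hχ
      exact hβ χ (Finset.ne_of_mem_erase hχ)
    rw [h2] at hsum
    have hB : IsIntegral ℤ (∑ χ ∈ Finset.univ.erase (trivialIrr G), β χ) := by
      apply IsIntegral.sum
      intro χ hχ
      exact hβint χ (Finset.ne_of_mem_erase hχ)
    set B := ∑ χ ∈ Finset.univ.erase (trivialIrr G), β χ with hBdef
    have hpne : (p : ℂ) ≠ 0 := by exact_mod_cast hp.ne_zero
    have hBval : B = ((-1 / p : ℚ) : ℂ) := by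
      push_cast
      field_simp
      linear_combination hsum
    obtain ⟨z, hz⟩ := exists_int_of_isIntegral_of_rat (-1 / p : ℚ) hBval hB
    rw [hBval] at hz
    have h3 : (-1 : ℚ) / p = z := by exact_mod_cast hz
    have hpq : (p : ℚ) ≠ 0 := by exact_mod_cast hp.ne_zero
    have h4 : (-1 : ℚ) = z * p := by
      rw [← h3]; field_simp
    have h5 : (-1 : ℤ) = z * p := by exact_mod_cast h4
    have h6 : (p : ℤ) ∣ 1 := ⟨-z, by linarith⟩
    have h7 : p ∣ 1 := by exact_mod_cast h6
    exact hp.one_lt.ne' (Nat.dvd_one.mp h7)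

end PrimePowerClass

section PQ

theorem dvd_prime_pow_mul_prime_pow {p q a b d : ℕ} (hp : p.Prime) (hq : q.Prime)
    (h : d ∣ p ^ a * q ^ b) : ∃ a' b', a' ≤ a ∧ b' ≤ b ∧ d = p ^ a' * q ^ b' := by
  obtain ⟨d1, d2, h1, h2, rfl⟩ := Nat.dvd_mul.mp h
  obtain ⟨a', ha', rfl⟩ := (Nat.dvd_prime_pow hp).mp h1
  obtain ⟨b', hb', rfl⟩ := (Nat.dvd_prime_pow hq).mp h2
  exact ⟨a', b', ha', hb', rfl⟩

universe u

theorem isSolvable_of_card_prime_pow {G : Type u} [Group G] [Finite G] (p n : ℕ) (hp : p.Prime)
    (h : Nat.card G = p ^ n) : Group.IsSolvable G := by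
  haveI : Fact p.Prime := ⟨hp⟩
  haveI := (IsPGroup.of_card h).isNilpotent
  infer_instance

/-- Burnside's `p^a q^b` theorem. -/
theorem isSolvable_of_card_eq_prime_pow_mul_prime_pow (p q : ℕ) (hp : p.Prime) (hq : q.Prime) :
    ∀ (n : ℕ) (G : Type u) [Group G] [Finite G], Nat.card G = n →
      (∃ a b : ℕ, n = p ^ a * q ^ b) → Group.IsSolvable G := by
  intro n
  induction n using Nat.strong_induction_on with
  | _ n ih =>
  intro G _ _ hn ⟨a, b, hab⟩
  classical
  by_cases hnorm : ∃ N : Subgroup G, N.Normal ∧ N ≠ ⊥ ∧ N ≠ ⊤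
  · obtain ⟨N, hN, hNbot, hNtop⟩ := hnorm
    have hcardN : Nat.card N < n := by
      rw [← hn]
      apply lt_of_le_of_ne (Subgroup.card_le_card_group N)
      intro h
      exact hNtop ((Subgroup.card_eq_iff_eq_top N).mp h)
    have hcardQ : Nat.card (G ⧸ N) < n := by
      rw [← hn, Subgroup.card_eq_card_quotient_mul_card_subgroup N]
      have h1 : 1 < Nat.card N := by
        rw [Subgroup.one_lt_card_iff_ne_bot]; exact hNbot
      have h2 : 0 < Nat.card (G ⧸ N) := Nat.card_pos
      nlinarith
    have hdN : Nat.card N ∣ p ^ a * q ^ b := by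
      rw [← hab, ← hn]; exact Subgroup.card_subgroup_dvd_card N
    have hdQ : Nat.card (G ⧸ N) ∣ p ^ a * q ^ b := by
      rw [← hab, ← hn]; exact Subgroup.card_quotient_dvd_card N
    obtain ⟨a1, b1, _, _, h1⟩ := dvd_prime_pow_mul_prime_pow hp hq hdN
    obtain ⟨a2, b2, _, _, h2⟩ := dvd_prime_pow_mul_prime_pow hp hq hdQ
    haveI : Group.IsSolvable N := ih _ hcardN N rfl ⟨a1, b1, h1⟩
    haveI : Group.IsSolvable (G ⧸ N) := ih _ hcardQ (G ⧸ N) rfl ⟨a2, b2, h2⟩
    apply Group.isSolvable_of_ker_le_range N.subtype (QuotientGroup.mk' N)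
    rw [QuotientGroup.ker_mk', Subgroup.range_subtype]
  · rcases subsingleton_or_nontrivial G with hG | hG
    · infer_instance
    · haveI : IsSimpleGroup G := ⟨fun H hH => by
        by_contra hcon
        rw [not_or] at hcon
        exact hnorm ⟨H, hH, hcon.1, hcon.2⟩⟩
      haveI : Fintype G := Fintype.ofFinite G
      -- reduce to both exponents positive and distinct primes
      rcases Nat.eq_zero_or_pos a with ha | ha
      · exact isSolvable_of_card_prime_pow q b hq (by rw [hn, hab, ha]; simp)
      rcases Nat.eq_zero_or_pos b with hb | hb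
      · exact isSolvable_of_card_prime_pow p a hp (by rw [hn, hab, hb]; simp)
      by_cases hpq : p = q
      · exact isSolvable_of_card_prime_pow p (a + b) hp (by rw [hn, hab, hpq, pow_add])
      -- Sylow q-subgroup
      haveI : Fact q.Prime := ⟨hq⟩
      let Q : Sylow q G := default
      have hQcard : Nat.card Q = q ^ b := by
        rw [Sylow.card_eq_multiplicity, hn, hab]
        congr 1
        rw [Nat.factorization_mul (pow_ne_zero _ hp.ne_zero) (pow_ne_zero _ hq.ne_zero)]
        simp [Nat.Prime.factorization_pow hp, Nat.Prime.factorization_pow hq, hpq]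
      haveI : Nontrivial Q := by
        rw [← Finite.one_lt_card_iff_nontrivial, hQcard]
        exact Nat.one_lt_pow hb.ne' hq.one_lt
      haveI := Q.isPGroup'.center_nontrivial
      obtain ⟨⟨z, hz⟩, hz1⟩ := exists_ne (1 : Subgroup.center Q)
      have hz1' : (z : G) ≠ 1 := by
        intro h
        apply hz1
        apply Subtype.ext
        apply Subtype.ext
        exact h
      -- Q ≤ centralizer of z
      have hQle : (Q : Subgroup G) ≤ Subgroup.centralizer ({(z : G)} : Set G) := by
        intro x hx
        rw [Subgroup.mem_centralizer_iff]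
        intro y hy
        rw [Set.mem_singleton_iff] at hy
        subst hy
        rw [Subgroup.mem_center_iff] at hz
        have := hz ⟨x, hx⟩
        have h2 := congrArg (Subtype.val : Q → G) this
        simpa using h2.symm
      have hdvd : q ^ b ∣ Nat.card (Subgroup.centralizer ({(z : G)} : Set G)) := by
        rw [← hQcard]
        exact Subgroup.card_dvd_of_le hQle
      obtain ⟨c, hc⟩ := hdvd
      have hidx := Subgroup.card_mul_index (Subgroup.centralizer ({(z : G)} : Set G))
      rw [hn, hab, hc] at hidx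
      have hqb : 0 < q ^ b := pow_pos hq.pos b
      have h3 : c * (Subgroup.centralizer ({(z : G)} : Set G)).index = p ^ a := by
        have : q ^ b * (c * (Subgroup.centralizer ({(z : G)} : Set G)).index)
            = q ^ b * p ^ a := by rw [← mul_assoc, hidx, mul_comm]
        exact Nat.eq_of_mul_eq_mul_left hqb this
      obtain ⟨k, _, hk⟩ := (Nat.dvd_prime_pow hp).mp (Dvd.intro_left c h3)
      have hprime := prime_card_of_prime_pow_class p k hp (z : G) hz1' hk
      haveI : Fact (Nat.card G).Prime := ⟨hprime⟩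
      haveI := isCyclic_of_prime_card (α := G) rfl
      exact Group.isSolvable_of_comm (fun a b => (IsCyclic.commGroup (α := G)).mul_comm a b)

end PQ

end Cfsg.Agent.Lib.Helper2
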