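import Mathlib

/-!
# Cyclic Sylow 2-subgroups give subgroups of index two
(helper2 library)
-/

set_option autoImplicit false

namespace Cfsg.Agent.Lib.Helper2

variable {G : Type*} [Group G]

/-- S0219: even order and cyclic Sylow 2-subgroup ⇒ a subgroup of index 2. -/
theorem exists_index_two_of_cyclic_sylow [Finite G] (heven : Even (Nat.card G)) (T : Sylow 2 G)
    (hT : IsCyclic (T : Subgroup G)) : ∃ H : Subgroup G, H.index = 2 := by
  haveI : Fact (Nat.Prime 2) := ⟨Nat.prime_two⟩
  have hp : (Nat.card G).minFac = 2 := (Nat.minFac_eq_two_iff _).mpr heven.two_dvd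
  have hNC := IsCyclic.normalizer_le_centralizer hp (P := T) hT
  set φ := MonoidHom.transferSylow T hNC with hφ
  have hcompl : Subgroup.IsComplement' φ.ker T := MonoidHom.ker_transferSylow_isComplement' T hNC
  have hsurj : Function.Surjective φ := by
    rw [← MonoidHom.range_eq_top]
    apply Subgroup.eq_top_of_card_eq
    rw [← Subgroup.index_ker, hcompl.symm.index_eq_card]
  -- a subgroup of index 2 in `T`
  have h2T : 2 ∣ Nat.card (T : Subgroup G) := T.dvd_card_of_dvd_card heven.two_dvd
  obtain ⟨a, ha⟩ := (IsPGroup.iff_card.mp T.2)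
  have ha1 : 1 ≤ a := by
    rcases Nat.eq_zero_or_pos a with h0 | h0
    · rw [h0, pow_zero] at ha; rw [ha] at h2T; omega
    · exact h0
  obtain ⟨K, hK⟩ := Sylow.exists_subgroup_card_pow_prime (G := (T : Subgroup G)) 2 (n := a - 1)
    (by rw [ha]; exact pow_dvd_pow 2 (by omega))
  have hKidx : K.index = 2 := by
    have h1 := K.card_mul_index
    rw [hK, ha] at h1
    have h2 : (2 : ℕ) ^ a = 2 ^ (a - 1) * 2 := by
      rw [← pow_succ]; congr 1; omega
    rw [h2] at h1
    exact Nat.eq_of_mul_eq_mul_left (by positivity) h1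
  refine ⟨K.comap φ, ?_⟩
  rw [Subgroup.index_comap_of_surjective K hsurj, hKidx]

/-- a finite cyclic group has at most one involution -/
theorem involution_unique_of_isCyclic {A : Type*} [Group A] [Finite A] [IsCyclic A] {a b : A}
    (ha : orderOf a = 2) (hb : orderOf b = 2) : a = b := by
  classical
  haveI : Fintype A := Fintype.ofFinite A
  have hdvd : 2 ∣ Fintype.card A := by rw [← ha]; exact orderOf_dvd_card
  have h1 := IsCyclic.card_orderOf_eq_totient (α := A) hdvd
  rw [Nat.totient_two] at h1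
  have h2 := Finset.card_le_one.mp h1.le
  exact h2 a (by simp [ha]) b (by simp [hb])

/-- S0220 (auxiliary form, `C` the centralizer of `x`). -/
theorem exists_index_two_of_cyclic_sylow_centralizer_aux [Finite G] (x : G) (hx : orderOf x = 2)
    (C : Subgroup G) (hmemC : ∀ g : G, g ∈ C ↔ g * x = x * g)
    (S : Sylow 2 ↥C) (hS : IsCyclic (S : Subgroup ↥C)) :
    ∃ H : Subgroup G, H.index = 2 := by
  haveI : Fact (Nat.Prime 2) := ⟨Nat.prime_two⟩
  have hxC : x ∈ C := (hmemC x).mpr rfl
  -- `x` lies in `S`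
  have hxS : (⟨x, hxC⟩ : C) ∈ S := by
    have hnorm : (Subgroup.zpowers (⟨x, hxC⟩ : C)).Normal := by
      constructor
      rintro n ⟨k, rfl⟩ g
      refine ⟨k, ?_⟩
      change (⟨x, hxC⟩ : C) ^ k = g * (⟨x, hxC⟩ : C) ^ k * g⁻¹
      have hcomm : Commute g (⟨x, hxC⟩ : C) := by
        change g * ⟨x, hxC⟩ = ⟨x, hxC⟩ * g
        apply Subtype.ext
        exact (hmemC g.1).mp g.2
      rw [(hcomm.zpow_right k).eq, mul_inv_cancel_right]
    have hpg : IsPGroup 2 (Subgroup.zpowers (⟨x, hxC⟩ : C)) := by
      rw [IsPGroup.iff_card]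
      refine ⟨1, ?_⟩
      rw [Nat.card_zpowers, pow_one, ← hx]
      exact (Subgroup.orderOf_mk x hxC)
    exact (hpg.le_sylow_of_normal S) (Subgroup.mem_zpowers _)
  -- a Sylow 2-subgroup `P` of `G` containing `S`
  obtain ⟨P, hSP⟩ := (S.2.map C.subtype).exists_le_sylow
  have hxP : x ∈ P := hSP ⟨⟨x, hxC⟩, hxS, rfl⟩
  -- `P ∩ C = S`
  have hPC : (P : Subgroup G).subgroupOf C = S := by
    apply S.is_maximal' (P.2.comap_subtype)
    intro c hc
    change (c : G) ∈ (P : Subgroup G)
    exact hSP ⟨c, hc, rfl⟩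
  -- the centre of `P` contains an involution
  have hPne : Nontrivial (P : Subgroup G) := ⟨⟨⟨x, hxP⟩, 1, by
    intro h
    have : x = 1 := congrArg Subtype.val h
    rw [this, orderOf_one] at hx; omega⟩⟩
  haveI := hPne
  have hZ : Nontrivial (Subgroup.center (P : Subgroup G)) := P.2.center_nontrivial
  have hZ2 : 2 ∣ Nat.card (Subgroup.center (P : Subgroup G)) := by
    have hpz : IsPGroup 2 (Subgroup.center (P : Subgroup G)) := P.2.to_subgroup _
    obtain ⟨k, hk⟩ := IsPGroup.iff_card.mp hpz
    have : 1 < Nat.card (Subgroup.center (P : Subgroup G)) := Finite.one_lt_card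
    rw [hk] at this ⊢
    rcases Nat.eq_zero_or_pos k with h0 | h0
    · rw [h0, pow_zero] at this; omega
    · exact dvd_pow_self 2 h0.ne'
  obtain ⟨z, hz⟩ := exists_prime_orderOf_dvd_card' 2 hZ2
  -- `z` as an element of `G`
  have hzP : (z : (P : Subgroup G)).1 ∈ (P : Subgroup G) := (z : (P : Subgroup G)).2
  have hzord : orderOf ((z : (P : Subgroup G)) : G) = 2 := by
    rw [Subgroup.orderOf_coe, Subgroup.orderOf_coe]; exact hz
  have hzcomm : ∀ g ∈ (P : Subgroup G), g * ((z : (P : Subgroup G)) : G) = ((z : (P : Subgroup G)) : G) * g := by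
    intro g hg
    have := Subgroup.mem_center_iff.mp z.2 ⟨g, hg⟩
    exact congrArg Subtype.val this
  have hzC : ((z : (P : Subgroup G)) : G) ∈ C := by
    rw [hmemC]; exact (hzcomm x hxP).symm
  have hzS : (⟨((z : (P : Subgroup G)) : G), hzC⟩ : C) ∈ S := by
    have : (⟨((z : (P : Subgroup G)) : G), hzC⟩ : C) ∈ (P : Subgroup G).subgroupOf C := by
      rw [Subgroup.mem_subgroupOf]; exact hzP
    rw [hPC] at this; exact this
  -- uniqueness of the involution in the cyclic group `S`
  have hzx : ((z : (P : Subgroup G)) : G) = x := by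
    haveI := hS
    have h1 : orderOf (⟨⟨((z : (P : Subgroup G)) : G), hzC⟩, hzS⟩ : (S : Subgroup C)) = 2 := by
      rw [Subgroup.orderOf_mk, Subgroup.orderOf_mk]; exact hzord
    have h2 : orderOf (⟨⟨x, hxC⟩, hxS⟩ : (S : Subgroup C)) = 2 := by
      rw [Subgroup.orderOf_mk, Subgroup.orderOf_mk]; exact hx
    have := involution_unique_of_isCyclic h1 h2
    exact congrArg (fun s : (S : Subgroup C) => ((s : C) : G)) this
  -- hence `P ≤ C` and `P = S`
  have hPleC : (P : Subgroup G) ≤ C := by
    intro g hg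
    rw [hmemC]
    have := hzcomm g hg
    rw [hzx] at this
    exact this
  have hPeq : (P : Subgroup G) = (S : Subgroup C).map C.subtype := by
    apply le_antisymm
    · intro g hg
      refine ⟨⟨g, hPleC hg⟩, ?_, rfl⟩
      have : (⟨g, hPleC hg⟩ : C) ∈ (P : Subgroup G).subgroupOf C := by
        rw [Subgroup.mem_subgroupOf]; exact hg
      rw [hPC] at this; exact this
    · exact hSP
  have hPcyc : IsCyclic (P : Subgroup G) := by
    haveI := hS
    have e := (Subgroup.equivMapOfInjective (S : Subgroup C) C.subtype C.subtype_injective)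
    have e2 := MulEquiv.subgroupCongr hPeq.symm
    exact isCyclic_of_surjective (e.trans e2) (e.trans e2).surjective
  have heven : Even (Nat.card G) := by
    rw [even_iff_two_dvd, ← hx]; exact orderOf_dvd_natCard x
  exact exists_index_two_of_cyclic_sylow heven P hPcyc

/-- S0220: an involution whose centralizer has cyclic Sylow 2-subgroups. -/
theorem exists_index_two_of_cyclic_sylow_centralizer [Finite G] (x : G) (hx : orderOf x = 2)
    (S : Sylow 2 ↥(Subgroup.centralizer ({x} : Set G)))
    (hS : IsCyclic (S : Subgroup ↥(Subgroup.centralizer ({x} : Set G)))) :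
    ∃ H : Subgroup G, H.index = 2 := by
  refine exists_index_two_of_cyclic_sylow_centralizer_aux x hx _ ?_ S hS
  intro g
  rw [Subgroup.mem_centralizer_iff]
  constructor
  · intro h; exact (h x (Set.mem_singleton x)).symm
  · intro h y hy
    rw [Set.mem_singleton_iff] at hy
    subst hy
    exact h.symm

end Cfsg.Agent.Lib.Helper2
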