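import Mathlib
import Cfsg.Prelude.Def_Characters
import Cfsg.Agent.Lib.Helper2.Regular

/-!
# Induced class functions: Frobenius reciprocity, transitivity, induced characters
(helper2 library)
-/

set_option autoImplicit false

namespace Cfsg.Agent.Lib.Helper2

open Module
open scoped ComplexConjugate MonoidAlgebra

section ExtendByZero

variable {G : Type*} [Group G] (H : Subgroup G)

theorem extendByZero_of_mem (θ : H → ℂ) {g : G} (hg : g ∈ H) :
    Cfsg.extendByZero H θ g = θ ⟨g, hg⟩ := by
  unfold Cfsg.extendByZero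
  exact Subtype.val_injective.extend_apply θ 0 ⟨g, hg⟩

@[simp] theorem extendByZero_coe (θ : H → ℂ) (h : H) : Cfsg.extendByZero H θ (h : G) = θ h :=
  extendByZero_of_mem H θ h.2

theorem extendByZero_of_not_mem (θ : H → ℂ) {g : G} (hg : g ∉ H) :
    Cfsg.extendByZero H θ g = 0 := by
  unfold Cfsg.extendByZero
  rw [Function.extend_apply']
  · rfl
  · rintro ⟨h, rfl⟩
    exact hg h.2

/-- Sum over `G` of a function weighted by an extension by zero is a sum over `H`. -/
theorem sum_extendByZero_mul [Fintype G] [Fintype H] (θ : H → ℂ) (f : G → ℂ) :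
    ∑ g : G, Cfsg.extendByZero H θ g * f g = ∑ h : H, θ h * f h := by
  classical
  have h1 : ∑ g : G, Cfsg.extendByZero H θ g * f g
      = ∑ g ∈ Finset.univ.filter (fun g : G => g ∈ H), Cfsg.extendByZero H θ g * f g := by
    symm
    apply Finset.sum_subset (Finset.filter_subset _ _)
    intro g _ hg
    rw [Finset.mem_filter] at hg
    have : g ∉ H := fun h => hg ⟨Finset.mem_univ g, h⟩
    rw [extendByZero_of_not_mem H θ this, zero_mul]
  rw [h1, Finset.sum_subtype (p := fun g => g ∈ H) _ (by simp)]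
  apply Finset.sum_congr rfl
  intro h _
  rw [extendByZero_coe]

theorem sum_extendByZero [Fintype G] [Fintype H] (θ : H → ℂ) :
    ∑ g : G, Cfsg.extendByZero H θ g = ∑ h : H, θ h := by
  have := sum_extendByZero_mul H θ (fun _ => 1)
  simpa using this

end ExtendByZero

section IndFun

variable {G : Type*} [Group G] [Fintype G] (H : Subgroup G)

theorem indFun_apply (θ : H → ℂ) (g : G) :
    Cfsg.indFun H θ g = (Nat.card H : ℂ)⁻¹ * ∑ x : G, Cfsg.extendByZero H θ (x⁻¹ * g * x) := rfl

/-- The induced function is a class function. -/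
theorem indFun_isClassFunction (θ : H → ℂ) : Cfsg.IsClassFunction G (Cfsg.indFun H θ) := by
  intro g h
  rw [indFun_apply, indFun_apply]
  congr 1
  apply Fintype.sum_equiv (Equiv.mulLeft h⁻¹)
  intro x
  simp only [Equiv.coe_mulLeft]
  congr 1
  group

theorem card_subgroup_ne_zero : (Nat.card H : ℂ) ≠ 0 := by
  exact_mod_cast Nat.card_pos.ne'

/-- Frobenius reciprocity. -/
theorem frobenius_reciprocity [Fintype H] (θ : H → ℂ) (χ : G → ℂ)
    (hχ : Cfsg.IsClassFunction G χ) :
    Cfsg.classInner (Cfsg.indFun H θ) χ = Cfsg.classInner θ (fun h : H => χ h) := by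
  rw [classInner_def, classInner_def]
  simp only [indFun_apply]
  have h1 : ∀ g : G, (Nat.card H : ℂ)⁻¹ * (∑ x : G, Cfsg.extendByZero H θ (x⁻¹ * g * x)) * conj (χ g)
      = (Nat.card H : ℂ)⁻¹ * ∑ x : G, Cfsg.extendByZero H θ (x⁻¹ * g * x)
          * conj (χ (x⁻¹ * g * x)) := by
    intro g
    rw [mul_assoc, Finset.sum_mul]
    congr 1
    apply Finset.sum_congr rfl
    intro x _
    have : χ (x⁻¹ * g * x) = χ g := by
      have := hχ g x⁻¹
      rwa [inv_inv] at this
    rw [this]
  simp only [h1]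
  rw [← Finset.mul_sum, Finset.sum_comm]
  have h2 : ∀ x : G, ∑ g : G, Cfsg.extendByZero H θ (x⁻¹ * g * x) * conj (χ (x⁻¹ * g * x))
      = ∑ h : H, θ h * conj (χ h) := by
    intro x
    rw [← sum_extendByZero_mul H θ (fun g => conj (χ g))]
    apply Fintype.sum_equiv ((Equiv.mulLeft x⁻¹).trans (Equiv.mulRight x))
    intro g
    simp
  simp only [h2]
  rw [Finset.sum_const, Finset.card_univ, nsmul_eq_mul, ← Nat.card_eq_fintype_card]
  have hG : (Nat.card G : ℂ) ≠ 0 := card_ne_zero_complex
  field_simp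

/-- Transitivity of induction. -/
theorem indFun_trans (H K : Subgroup G) [Fintype K] (hHK : H ≤ K) (θ : H → ℂ) :
    Cfsg.indFun K (Cfsg.indFun (H.subgroupOf K)
      (fun x => θ ⟨(x : K), Subgroup.mem_subgroupOf.mp x.2⟩)) = Cfsg.indFun H θ := by
  classical
  set θ' : H.subgroupOf K → ℂ := fun x => θ ⟨(x : K), Subgroup.mem_subgroupOf.mp x.2⟩ with hθ'
  have hcard : Nat.card (H.subgroupOf K) = Nat.card H :=
    Nat.card_congr (Subgroup.subgroupOfEquivOfLe hHK).toEquiv
  -- the inner extension
  have hext : ∀ k : K, Cfsg.extendByZero (H.subgroupOf K) θ' k = Cfsg.extendByZero H θ (k : G) := by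
    intro k
    by_cases hk : (k : G) ∈ H
    · have hk' : k ∈ H.subgroupOf K := Subgroup.mem_subgroupOf.mpr hk
      rw [extendByZero_of_mem _ _ hk', extendByZero_of_mem _ _ hk]
    · have hk' : k ∉ H.subgroupOf K := fun h => hk (Subgroup.mem_subgroupOf.mp h)
      rw [extendByZero_of_not_mem _ _ hk', extendByZero_of_not_mem _ _ hk]
  have hinner : ∀ u : G, Cfsg.extendByZero K (Cfsg.indFun (H.subgroupOf K) θ') u
      = (Nat.card H : ℂ)⁻¹ * ∑ y : K, Cfsg.extendByZero H θ ((y : G)⁻¹ * u * y) := by
    intro u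
    by_cases hu : u ∈ K
    · rw [extendByZero_of_mem _ _ hu, indFun_apply, hcard]
      congr 1
      apply Finset.sum_congr rfl
      intro y _
      rw [hext]
      rfl
    · rw [extendByZero_of_not_mem _ _ hu]
      symm
      apply mul_eq_zero_of_right
      apply Finset.sum_eq_zero
      intro y _
      apply extendByZero_of_not_mem
      intro hmem
      apply hu
      have h1 : (y : G)⁻¹ * u * y ∈ K := hHK hmem
      have h2 : u = (y : G) * ((y : G)⁻¹ * u * y) * (y : G)⁻¹ := by group
      rw [h2]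
      exact K.mul_mem (K.mul_mem y.2 h1) (K.inv_mem y.2)
  ext g
  rw [indFun_apply, indFun_apply]
  simp only [hinner]
  rw [← Finset.mul_sum, Finset.sum_comm]
  have h2 : ∀ y : K, ∑ x : G, Cfsg.extendByZero H θ ((y : G)⁻¹ * (x⁻¹ * g * x) * y)
      = ∑ x : G, Cfsg.extendByZero H θ (x⁻¹ * g * x) := by
    intro y
    apply Fintype.sum_equiv (Equiv.mulRight (y : G))
    intro x
    simp only [Equiv.coe_mulRight]
    congr 1
    group
  simp only [h2]
  rw [Finset.sum_const, Finset.card_univ, nsmul_eq_mul, ← Nat.card_eq_fintype_card]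
  have hK : (Nat.card K : ℂ) ≠ 0 := card_subgroup_ne_zero K
  field_simp

end IndFun

section CharacterOps

variable {G : Type*} [Group G]

theorem isCharacter_zero : Cfsg.IsCharacter G (0 : G → ℂ) := by
  refine ⟨0, Representation.trivial ℂ G (Fin 0 → ℂ), ?_⟩
  ext g
  simp [Representation.character]

theorem isCharacter_add {φ ψ : G → ℂ} (hφ : Cfsg.IsCharacter G φ) (hψ : Cfsg.IsCharacter G ψ) :
    Cfsg.IsCharacter G (φ + ψ) := by
  obtain ⟨n, ρ, rfl⟩ := hφ
  obtain ⟨m, σ, rfl⟩ := hψ
  rw [← char_prod]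
  exact isCharacter_of_rep (ρ.prod σ)

theorem isCharacter_nsmul (n : ℕ) {φ : G → ℂ} (hφ : Cfsg.IsCharacter G φ) :
    Cfsg.IsCharacter G (n • φ) := by
  induction n with
  | zero => rw [zero_smul]; exact isCharacter_zero
  | succ n ih => rw [succ_nsmul]; exact isCharacter_add ih hφ

theorem isCharacter_sum {ι : Type*} (s : Finset ι) (f : ι → G → ℂ)
    (h : ∀ i ∈ s, Cfsg.IsCharacter G (f i)) : Cfsg.IsCharacter G (∑ i ∈ s, f i) := by
  classical
  induction s using Finset.induction_on with
  | empty => simpa using isCharacter_zero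
  | insert a s ha ih =>
    rw [Finset.sum_insert ha]
    exact isCharacter_add (h a (Finset.mem_insert_self a s))
      (ih fun i hi => h i (Finset.mem_insert_of_mem hi))

/-- The restriction of a character to a subgroup is a character. -/
theorem IsCharacter.restrict {χ : G → ℂ} (hχ : Cfsg.IsCharacter G χ) (H : Subgroup G) :
    Cfsg.IsCharacter H (fun h : H => χ h) := by
  obtain ⟨n, ρ, rfl⟩ := hχ
  exact ⟨n, ρ.comp H.subtype, rfl⟩

/-- The composition of a character with a group homomorphism is a character. -/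
theorem IsCharacter.comp {G' : Type*} [Group G'] {χ : G → ℂ} (hχ : Cfsg.IsCharacter G χ)
    (f : G' →* G) : Cfsg.IsCharacter G' (fun x => χ (f x)) := by
  obtain ⟨n, ρ, rfl⟩ := hχ
  exact ⟨n, ρ.comp f, rfl⟩

variable [Fintype G]

/-- The inner product of two characters is a natural number. -/
theorem classInner_isCharacter_nat {φ ψ : G → ℂ} (hφ : Cfsg.IsCharacter G φ)
    (hψ : Cfsg.IsCharacter G ψ) : ∃ n : ℕ, Cfsg.classInner φ ψ = (n : ℂ) := by
  obtain ⟨n, ρ, rfl⟩ := hφ
  obtain ⟨m, σ, rfl⟩ := hψ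
  exact ⟨_, classInner_char_char ρ σ⟩

/-- A class function all of whose inner products with irreducible characters are natural
numbers is a character. -/
theorem isCharacter_of_classInner_nat (ψ : G → ℂ) (hψ : Cfsg.IsClassFunction G ψ)
    (h : ∀ χ : Cfsg.IrrCharacter G, ∃ n : ℕ, Cfsg.classInner ψ (χ : G → ℂ) = (n : ℂ)) :
    Cfsg.IsCharacter G ψ := by
  classical
  haveI : Fintype (Cfsg.IrrCharacter G) := Fintype.ofFinite _
  choose n hn using h
  rw [classFunction_expansion ψ hψ]
  apply isCharacter_sum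
  intro χ _
  rw [hn χ]
  have : ((n χ : ℂ)) • (χ : G → ℂ) = n χ • (χ : G → ℂ) := by
    ext g; simp
  rw [this]
  exact isCharacter_nsmul _ (IsIrrCharacter.isCharacter χ.2)

/-- The function induced from a character is a character. -/
theorem indFun_isCharacter (H : Subgroup G) (θ : H → ℂ) (hθ : Cfsg.IsCharacter H θ) :
    Cfsg.IsCharacter G (Cfsg.indFun H θ) := by
  classical
  haveI : Fintype H := Fintype.ofFinite H
  apply isCharacter_of_classInner_nat _ (indFun_isClassFunction H θ)
  intro χ
  rw [frobenius_reciprocity H θ _ (IrrCharacter.isClassFunction χ)]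
  exact classInner_isCharacter_nat hθ (IsCharacter.restrict (IsIrrCharacter.isCharacter χ.2) H)

end CharacterOps

end Cfsg.Agent.Lib.Helper2
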