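import Mathlib
import Cfsg.Prelude.Def_Characters
import Cfsg.Agent.Lib.Helper2.Induction
import Cfsg.Agent.Lib.Helper2.BurnsidePQ

/-!
# Irreducibility criterion, linear characters, abelian groups (helper2 library)
-/

set_option autoImplicit false

namespace Cfsg.Agent.Lib.Helper2

open Module
open scoped ComplexConjugate MonoidAlgebra

section PosDef

variable {G : Type*} [Group G] [Fintype G]

/-- `classInner` is positive definite. -/
theorem eq_zero_of_classInner_self_eq_zero (f : G → ℂ) (h : Cfsg.classInner f f = 0) : f = 0 := by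
  rw [classInner_def] at h
  have hne : (Nat.card G : ℂ)⁻¹ ≠ 0 := inv_ne_zero card_ne_zero_complex
  have h2 : ∑ g : G, f g * conj (f g) = 0 := by
    rcases mul_eq_zero.mp h with h | h
    · exact absurd h hne
    · exact h
  have h3 : ∑ g : G, (‖f g‖ ^ 2 : ℝ) = 0 := by
    have : ∀ g : G, f g * conj (f g) = ((‖f g‖ ^ 2 : ℝ) : ℂ) := by
      intro g
      rw [Complex.mul_conj, Complex.normSq_eq_norm_sq]
    simp only [this] at h2
    exact_mod_cast h2
  have h4 := (Finset.sum_eq_zero_iff_of_nonneg (fun g _ => by positivity)).mp h3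
  ext g
  have := h4 g (Finset.mem_univ g)
  simpa using this

omit [Fintype G] in
theorem isCharacter_multiset_sum (m : Multiset (Cfsg.IrrCharacter G)) :
    Cfsg.IsCharacter G (m.map (fun χ : Cfsg.IrrCharacter G => (χ : G → ℂ))).sum := by
  induction m using Multiset.induction_on with
  | empty => simpa using isCharacter_zero
  | cons a s ih =>
    rw [Multiset.map_cons, Multiset.sum_cons]
    exact isCharacter_add (IsIrrCharacter.isCharacter a.2) ih

/-- A character of norm one is irreducible. -/
theorem isIrrCharacter_of_classInner_self_eq_one {χ : G → ℂ} (hχ : Cfsg.IsCharacter G χ)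
    (h : Cfsg.classInner χ χ = 1) : Cfsg.IsIrrCharacter G χ := by
  obtain ⟨m, hm⟩ := IsCharacter.exists_multiset_irr hχ
  induction m using Multiset.induction_on with
  | empty =>
    exfalso
    simp only [Multiset.map_zero, Multiset.sum_zero] at hm
    rw [hm] at h
    simp at h
  | cons ψ m' _ =>
    simp only [Multiset.map_cons, Multiset.sum_cons] at hm
    set rest : G → ℂ := (m'.map (fun χ : Cfsg.IrrCharacter G => (χ : G → ℂ))).sum with hrest
    have hrestchar : Cfsg.IsCharacter G rest := isCharacter_multiset_sum m'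
    have hψchar := IsIrrCharacter.isCharacter ψ.2
    obtain ⟨a, ha⟩ := classInner_isCharacter_nat hψchar hrestchar
    obtain ⟨b, hb⟩ := classInner_isCharacter_nat hrestchar hrestchar
    have ha' : Cfsg.classInner rest (ψ : G → ℂ) = (a : ℂ) := by
      rw [← classInner_conj_symm, ha, Complex.conj_natCast]
    rw [hm, classInner_add_left, classInner_add_right, classInner_add_right,
      classInner_irrCharacter_self, ha, ha', hb] at h
    have h2 : (1 + a + (a + b) : ℕ) = 1 := by exact_mod_cast h
    have hb0 : b = 0 := by omega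
    rw [hb0, Nat.cast_zero] at hb
    have := eq_zero_of_classInner_self_eq_zero rest hb
    rw [hm, this, add_zero]
    exact ψ.2

end PosDef

section OneDim

variable {G : Type*} [Group G]

/-- On a one-dimensional space every endomorphism is multiplication by its trace. -/
theorem eq_trace_smul_id_of_finrank_eq_one {V : Type*} [AddCommGroup V] [Module ℂ V]
    (h : finrank ℂ V = 1) (f : Module.End ℂ V) : f = (LinearMap.trace ℂ V f) • LinearMap.id := by
  have : FiniteDimensional ℂ V := .of_finrank_eq_succ h
  obtain ⟨v, hv⟩ := finrank_eq_one_iff'.mp h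
  obtain ⟨c, hc⟩ := hv.2 (f v)
  have hf : f = c • LinearMap.id := by
    ext w
    obtain ⟨d, rfl⟩ := hv.2 w
    rw [map_smul, ← hc]
    simp [smul_smul, mul_comm]
  have htr : LinearMap.trace ℂ V f = c := by
    rw [hf, map_smul, LinearMap.trace_id, h]; simp
  rw [htr]; exact hf

/-- A homomorphism to `ℂˣ` is an irreducible character. -/
theorem isIrrCharacter_of_monoidHom (φ : G →* ℂˣ) :
    Cfsg.IsIrrCharacter G (fun g => (φ g : ℂ)) := by
  let ρ : Representation ℂ G ℂ :=
    { toFun := fun g => (φ g : ℂ) • LinearMap.id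
      map_one' := by simp; rfl
      map_mul' := by
        intro a b
        ext
        simp [mul_comm] }
  have hirr : ρ.IsIrreducible := isIrreducible_of_finrank_eq_one ρ (Module.finrank_self ℂ)
  have := isIrrCharacter_of_rep ρ
  convert this using 1
  ext g
  simp [Representation.character, ρ]

/-- An irreducible character of degree one is a homomorphism to `ℂˣ`. -/
theorem exists_monoidHom_of_isIrrCharacter_of_apply_one {χ : G → ℂ}
    (hχ : Cfsg.IsIrrCharacter G χ) (h1 : χ 1 = 1) : ∃ φ : G →* ℂˣ, χ = fun g => (φ g : ℂ) := by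
  obtain ⟨n, ρ, hρ, rfl⟩ := hχ
  have hfin : finrank ℂ (Fin n → ℂ) = 1 := by
    rw [Representation.char_one] at h1
    exact_mod_cast h1
  have hsc : ∀ g, ρ g = ρ.character g • LinearMap.id := fun g =>
    eq_trace_smul_id_of_finrank_eq_one hfin (ρ g)
  have hV : Nontrivial (Fin n → ℂ) := nontrivial_of_isIrreducible ρ
  obtain ⟨v, hv⟩ := exists_ne (0 : Fin n → ℂ)
  have hmul : ∀ a b : G, ρ.character (a * b) = ρ.character a * ρ.character b := by
    intro a b
    have h2 := LinearMap.congr_fun (map_mul ρ a b) v
    rw [hsc (a * b), Module.End.mul_apply, hsc a, hsc b] at h2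
    simp only [LinearMap.smul_apply, LinearMap.id_coe, id_eq, smul_smul] at h2
    have h3 : (ρ.character (a * b) - ρ.character a * ρ.character b) • v = 0 := by
      rw [sub_smul, h2, sub_self]
    rcases smul_eq_zero.mp h3 with h | h
    · exact sub_eq_zero.mp h
    · exact absurd h hv
  let f : G →* ℂ :=
    { toFun := ρ.character
      map_one' := h1
      map_mul' := hmul }
  refine ⟨f.toHomUnits, ?_⟩
  ext g
  rfl

/-- Linear characters correspond to homomorphisms into `ℂˣ`. -/
noncomputable def linearCharEquiv (G : Type*) [Group G] :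
    {χ : Cfsg.IrrCharacter G // (χ : G → ℂ) 1 = 1} ≃ (G →* ℂˣ) where
  toFun χ := (exists_monoidHom_of_isIrrCharacter_of_apply_one χ.1.2 χ.2).choose
  invFun φ := ⟨⟨fun g => (φ g : ℂ), isIrrCharacter_of_monoidHom φ⟩, by simp⟩
  left_inv χ := by
    apply Subtype.ext
    apply Subtype.ext
    exact (exists_monoidHom_of_isIrrCharacter_of_apply_one χ.1.2 χ.2).choose_spec.symm
  right_inv φ := by
    have h := (exists_monoidHom_of_isIrrCharacter_of_apply_one
      (isIrrCharacter_of_monoidHom φ) (by simp)).choose_spec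
    ext g
    exact (congrFun h g).symm

/-- The number of linear characters is the index of the commutator subgroup. -/
theorem card_linear_irrCharacter [Finite G] :
    Nat.card {χ : Cfsg.IrrCharacter G // (χ : G → ℂ) 1 = 1} = (commutator G).index := by
  rw [Nat.card_congr (linearCharEquiv G), Nat.card_congr Abelianization.lift,
    CommGroup.card_monoidHom_of_hasEnoughRootsOfUnity, Subgroup.index_eq_card]
  rfl

end OneDim

section Constituent

variable {G : Type*} [Group G] [Fintype G]

/-- If the irreducible character `χ` occurs in the character `Φ`, then `Φ = χ + Ψ` for a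
character `Ψ`. -/
theorem exists_add_of_classInner_ne_zero {Φ : G → ℂ} (hΦ : Cfsg.IsCharacter G Φ)
    (χ : Cfsg.IrrCharacter G) (h : Cfsg.classInner Φ (χ : G → ℂ) ≠ 0) :
    ∃ Ψ : G → ℂ, Cfsg.IsCharacter G Ψ ∧ Φ = (χ : G → ℂ) + Ψ := by
  classical
  obtain ⟨m, hm⟩ := IsCharacter.exists_multiset_irr hΦ
  have hmem : χ ∈ m := by
    by_contra hnot
    apply h
    rw [hm]
    clear hm
    induction m using Multiset.induction_on with
    | empty => simp
    | cons a s ih =>
      rw [Multiset.map_cons, Multiset.sum_cons, classInner_add_left]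
      have ha : a ≠ χ := fun hh => hnot (hh ▸ Multiset.mem_cons_self a s)
      rw [classInner_irrCharacter_ne ha, zero_add]
      exact ih (fun hh => hnot (Multiset.mem_cons_of_mem hh))
  obtain ⟨m', rfl⟩ := Multiset.exists_cons_of_mem hmem
  refine ⟨_, isCharacter_multiset_sum m', ?_⟩
  rw [hm, Multiset.map_cons, Multiset.sum_cons]

/-- A nonzero character has an irreducible constituent. -/
theorem exists_irr_add_of_ne_zero {Φ : G → ℂ} (hΦ : Cfsg.IsCharacter G Φ) (h0 : Φ ≠ 0) :
    ∃ (χ : Cfsg.IrrCharacter G) (Ψ : G → ℂ), Cfsg.IsCharacter G Ψ ∧ Φ = (χ : G → ℂ) + Ψ := by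
  obtain ⟨m, hm⟩ := IsCharacter.exists_multiset_irr hΦ
  induction m using Multiset.induction_on with
  | empty => exact absurd (by simpa using hm) h0
  | cons a s _ =>
    refine ⟨a, _, isCharacter_multiset_sum s, ?_⟩
    rw [hm, Multiset.map_cons, Multiset.sum_cons]

theorem indFun_apply_one (H : Subgroup G) (θ : H → ℂ) :
    Cfsg.indFun H θ 1 = (H.index : ℂ) * θ 1 := by
  rw [indFun_apply]
  have : ∀ x : G, Cfsg.extendByZero H θ (x⁻¹ * 1 * x) = θ 1 := by
    intro x
    have h1 : x⁻¹ * 1 * x = ((1 : H) : G) := by simp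
    rw [h1, extendByZero_coe]
  simp only [this]
  rw [Finset.sum_const, Finset.card_univ, nsmul_eq_mul, ← Nat.card_eq_fintype_card,
    ← Subgroup.card_mul_index H]
  have hne : (Nat.card H : ℂ) ≠ 0 := card_subgroup_ne_zero H
  push_cast
  field_simp

end Constituent

section Abelian

variable {G : Type*} [Group G]

/-- Irreducible characters of a commutative group have degree one. -/
theorem IsIrrCharacter.apply_one_of_comm (hab : ∀ a b : G, a * b = b * a) {χ : G → ℂ}
    (hχ : Cfsg.IsIrrCharacter G χ) : χ 1 = 1 := by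
  obtain ⟨n, ρ, hρ, rfl⟩ := hχ
  haveI : IsMulCommutative G := ⟨⟨hab⟩⟩
  rw [Representation.char_one, Representation.IsIrreducible.finrank_eq_one_of_isMulCommutative ρ]
  simp

/-- A finite group is commutative iff all irreducible characters have degree one. -/
theorem comm_iff_forall_irr_degree_one [Finite G] :
    (∀ a b : G, a * b = b * a) ↔ ∀ χ : Cfsg.IrrCharacter G, (χ : G → ℂ) 1 = 1 := by
  classical
  haveI : Fintype G := Fintype.ofFinite G
  haveI : Fintype (Cfsg.IrrCharacter G) := Fintype.ofFinite _
  haveI : Fintype (ConjClasses G) := Fintype.ofFinite _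
  constructor
  · intro hab χ
    exact IsIrrCharacter.apply_one_of_comm hab χ.2
  · intro h
    have h1 := sum_irr_degree_sq (G := G)
    simp only [h, one_pow, Finset.sum_const, Finset.card_univ, nsmul_eq_mul, mul_one] at h1
    have h2 : Fintype.card (Cfsg.IrrCharacter G) = Nat.card G := by exact_mod_cast h1
    have h3 : Fintype.card (ConjClasses G) = Fintype.card G := by
      rw [← Nat.card_eq_fintype_card, ← card_irrCharacter, Nat.card_eq_fintype_card, h2,
        Nat.card_eq_fintype_card]
    have hsurj : Function.Surjective (ConjClasses.mk : G → ConjClasses G) :=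
      ConjClasses.mk_surjective
    have hinj : Function.Injective (ConjClasses.mk : G → ConjClasses G) :=
      ((Fintype.bijective_iff_surjective_and_card _).mpr ⟨hsurj, h3.symm⟩).1
    intro a b
    have : ConjClasses.mk (a * b * a⁻¹) = ConjClasses.mk b := by
      rw [ConjClasses.mk_eq_mk_iff_isConj]
      exact (isConj_iff.mpr ⟨a, rfl⟩).symm
    have h4 := hinj this
    calc a * b = a * b * a⁻¹ * a := by group
      _ = b * a := by rw [h4]

end Abelian

section Bounds

variable {G : Type*} [Group G] [Fintype G]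

/-- If a character vanishes on the non-identity elements of a subgroup `P`, then `|P|` divides its
degree. -/
theorem card_dvd_degree_of_vanish (P : Subgroup G) (χ : G → ℂ) (hχ : Cfsg.IsCharacter G χ)
    (hvan : ∀ g : G, g ∈ P → g ≠ 1 → χ g = 0) : ∃ k : ℕ, χ 1 = (Nat.card P : ℂ) * k := by
  classical
  haveI : Fintype P := Fintype.ofFinite P
  have h1 : Cfsg.IsCharacter P (fun _ => (1 : ℂ)) := IsIrrCharacter.isCharacter isIrrCharacter_one
  obtain ⟨k, hk⟩ := classInner_isCharacter_nat (IsCharacter.restrict hχ P) h1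
  refine ⟨k, ?_⟩
  rw [classInner_def] at hk
  have hsum : ∑ g : P, (fun h : P => χ h) g * conj ((fun _ : P => (1 : ℂ)) g) = χ 1 := by
    rw [Finset.sum_eq_single (1 : P)]
    · simp
    · intro b _ hb
      have : χ (b : G) = 0 := hvan b b.2 (fun h => hb (Subtype.ext h))
      simp [this]
    · intro h; exact absurd (Finset.mem_univ _) h
  rw [hsum] at hk
  have hne : (Nat.card P : ℂ) ≠ 0 := card_subgroup_ne_zero P
  rw [← hk]
  field_simp

/-- The degree of an irreducible character is at most the index of any abelian subgroup. -/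
theorem degree_le_index_of_comm (χ : Cfsg.IrrCharacter G) (A : Subgroup G)
    (hA : ∀ a ∈ A, ∀ b ∈ A, a * b = b * a) (n : ℕ) (hn : (χ : G → ℂ) 1 = n) : n ≤ A.index := by
  classical
  haveI : Fintype A := Fintype.ofFinite A
  have hχA : Cfsg.IsCharacter A (fun a : A => (χ : G → ℂ) a) :=
    IsCharacter.restrict (IsIrrCharacter.isCharacter χ.2) A
  have hne : (fun a : A => (χ : G → ℂ) a) ≠ 0 := by
    intro h
    have := congrFun h 1
    simp only [Pi.zero_apply] at this
    exact IsIrrCharacter.apply_one_ne_zero χ.2 this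
  obtain ⟨lam, Ψ, hΨ, hdec⟩ := exists_irr_add_of_ne_zero hχA hne
  have hlam1 : (lam : A → ℂ) 1 = 1 :=
    IsIrrCharacter.apply_one_of_comm (fun a b => Subtype.ext (hA a a.2 b b.2)) lam.2
  -- ⟨χ|_A, λ⟩ = 1 + ⟨Ψ, λ⟩
  obtain ⟨c, hc⟩ := classInner_isCharacter_nat hΨ (IsIrrCharacter.isCharacter lam.2)
  have hinner : Cfsg.classInner (fun a : A => (χ : G → ℂ) a) (lam : A → ℂ) = ((1 + c : ℕ) : ℂ) := by
    rw [hdec, classInner_add_left, classInner_irrCharacter_self, hc]; push_cast; ring
  have hfrob := frobenius_reciprocity A (lam : A → ℂ) (χ : G → ℂ) (IrrCharacter.isClassFunction χ)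
  have hfrob' : Cfsg.classInner (Cfsg.indFun A (lam : A → ℂ)) (χ : G → ℂ) = ((1 + c : ℕ) : ℂ) := by
    rw [hfrob, ← classInner_conj_symm, hinner, Complex.conj_natCast]
  have hind : Cfsg.IsCharacter G (Cfsg.indFun A (lam : A → ℂ)) :=
    indFun_isCharacter A _ (IsIrrCharacter.isCharacter lam.2)
  obtain ⟨Ψ', hΨ', hdec'⟩ := exists_add_of_classInner_ne_zero hind χ (by
    rw [hfrob']; exact_mod_cast (by omega : (1 + c) ≠ 0))
  have h1 := congrFun hdec' 1
  rw [indFun_apply_one, hlam1, mul_one, Pi.add_apply, hn] at h1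
  obtain ⟨d, hd⟩ := IsCharacter.apply_one hΨ'
  rw [hd] at h1
  have : A.index = n + d := by exact_mod_cast h1
  omega

end Bounds

end Cfsg.Agent.Lib.Helper2
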