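import Mathlib
import Cfsg.Prelude.Def_Characters
import Cfsg.Agent.Lib.Helper2.Linear

/-!
# Brauer's permutation lemma; real characters and real classes (helper2 library)
-/

set_option autoImplicit false

namespace Cfsg.Agent.Lib.Helper2

open Module
open scoped ComplexConjugate MonoidAlgebra

section General

variable {G : Type*} [Group G] [Fintype G]

/-- Number of irreducible characters fixed by precomposition with `φ`, as a sum over the group. -/
theorem card_fixed_irr_eq_sum (φ : G → G) [DecidablePred fun g => IsConj (φ g) g]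
    (hφ : ∀ χ : Cfsg.IrrCharacter G, Cfsg.IsIrrCharacter G ((χ : G → ℂ) ∘ φ)) :
    (Nat.card {χ : Cfsg.IrrCharacter G // (χ : G → ℂ) ∘ φ = (χ : G → ℂ)} : ℂ)
      = ∑ g : G, (if IsConj (φ g) g then ((Nat.card {x : G // IsConj g x} : ℂ))⁻¹ else 0) := by
  classical
  haveI : Fintype (Cfsg.IrrCharacter G) := Fintype.ofFinite _
  have h1 : (Nat.card {χ : Cfsg.IrrCharacter G // (χ : G → ℂ) ∘ φ = (χ : G → ℂ)} : ℂ)
      = ∑ χ : Cfsg.IrrCharacter G, Cfsg.classInner ((χ : G → ℂ) ∘ φ) (χ : G → ℂ) := by
    have : ∀ χ : Cfsg.IrrCharacter G, Cfsg.classInner ((χ : G → ℂ) ∘ φ) (χ : G → ℂ)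
        = if (χ : G → ℂ) ∘ φ = (χ : G → ℂ) then 1 else 0 := by
      intro χ
      have := classInner_irrCharacter (⟨(χ : G → ℂ) ∘ φ, hφ χ⟩ : Cfsg.IrrCharacter G) χ
      rw [this]
      congr 1
      rw [Subtype.ext_iff]
    simp only [this]
    rw [Finset.sum_boole, Nat.card_eq_fintype_card, Fintype.card_subtype]
  rw [h1]
  simp only [classInner_def, Function.comp_apply]
  rw [← Finset.mul_sum, Finset.sum_comm, Finset.mul_sum]
  apply Finset.sum_congr rfl
  intro g _
  rw [column_orthogonality (φ g) g]
  by_cases hc : IsConj (φ g) g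
  · rw [if_pos hc, if_pos hc]
    have h2 := card_centralizer_mul_card_conj (φ g)
    have h3 : Nat.card {x : G // IsConj (φ g) x} = Nat.card {x : G // IsConj g x} := by
      apply Nat.card_congr
      apply Equiv.subtypeEquivRight
      intro x
      exact ⟨fun hx => hc.symm.trans hx, fun hx => hc.trans hx⟩
    rw [h3] at h2
    have hpos : (Nat.card {x : G // IsConj g x} : ℂ) ≠ 0 := by
      haveI : Nonempty {x : G // IsConj g x} := ⟨⟨g, IsConj.refl g⟩⟩
      exact_mod_cast Nat.card_pos.ne'
    have hG : (Nat.card G : ℂ) ≠ 0 := card_ne_zero_complex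
    rw [← h2]
    push_cast
    field_simp
  · rw [if_neg hc, if_neg hc, mul_zero]

/-- Averaging over conjugacy classes. -/
theorem sum_class_avg (P : G → Prop) [DecidablePred P] (hP : ∀ g h, IsConj g h → (P g ↔ P h)) :
    ∑ g : G, (if P g then ((Nat.card {x : G // IsConj g x} : ℂ))⁻¹ else 0)
      = (Nat.card {C : ConjClasses G // ∀ g : G, ConjClasses.mk g = C → P g} : ℂ) := by
  classical
  haveI : Fintype (ConjClasses G) := Fintype.ofFinite _
  rw [← Finset.sum_fiberwise Finset.univ (ConjClasses.mk : G → ConjClasses G)]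
  have : ∀ C : ConjClasses G,
      ∑ g ∈ Finset.univ.filter (fun g : G => ConjClasses.mk g = C),
        (if P g then ((Nat.card {x : G // IsConj g x} : ℂ))⁻¹ else 0)
      = if (∀ g : G, ConjClasses.mk g = C → P g) then 1 else 0 := by
    intro C
    obtain ⟨a, rfl⟩ := ConjClasses.mk_surjective C
    have hfilter : (Finset.univ.filter (fun g : G => ConjClasses.mk g = ConjClasses.mk a))
        = Finset.univ.filter (fun g : G => IsConj a g) := by
      ext x
      simp only [Finset.mem_filter, Finset.mem_univ, true_and, ConjClasses.mk_eq_mk_iff_isConj]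
      exact isConj_comm
    rw [hfilter]
    have hterm : ∀ g ∈ Finset.univ.filter (fun g : G => IsConj a g),
        (if P g then ((Nat.card {x : G // IsConj g x} : ℂ))⁻¹ else 0)
        = (if P a then ((Nat.card {x : G // IsConj a x} : ℂ))⁻¹ else 0) := by
      intro g hg
      rw [Finset.mem_filter] at hg
      have h1 : P g ↔ P a := (hP a g hg.2).symm
      have h2 : Nat.card {x : G // IsConj g x} = Nat.card {x : G // IsConj a x} := by
        apply Nat.card_congr
        apply Equiv.subtypeEquivRight
        intro x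
        exact ⟨fun hx => hg.2.trans hx, fun hx => hg.2.symm.trans hx⟩
      simp only [h1, h2]
    rw [Finset.sum_congr rfl hterm, Finset.sum_const, nsmul_eq_mul]
    have hcard : ((Finset.univ.filter (fun g : G => IsConj a g)).card : ℂ)
        = (Nat.card {x : G // IsConj a x} : ℂ) := by
      rw [Nat.card_eq_fintype_card, Fintype.card_subtype]
    rw [hcard]
    have hpos : (Nat.card {x : G // IsConj a x} : ℂ) ≠ 0 := by
      haveI : Nonempty {x : G // IsConj a x} := ⟨⟨a, IsConj.refl a⟩⟩
      exact_mod_cast Nat.card_pos.ne'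
    have hall : (∀ g : G, ConjClasses.mk g = ConjClasses.mk a → P g) ↔ P a := by
      constructor
      · intro h; exact h a rfl
      · intro h g hg
        rw [ConjClasses.mk_eq_mk_iff_isConj] at hg
        exact (hP g a hg).mpr h
    by_cases hPa : P a
    · rw [if_pos hPa, if_pos (hall.mpr hPa), mul_inv_cancel₀ hpos]
    · rw [if_neg hPa, if_neg (fun h => hPa (hall.mp h)), mul_zero]
  simp only [this]
  rw [Finset.sum_boole, Nat.card_eq_fintype_card, Fintype.card_subtype]

end General

section Applications

variable {G : Type*} [Group G] [Fintype G]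

omit [Fintype G] in
/-- Value of an irreducible character at an inverse. -/
theorem IrrCharacter.apply_inv [Finite G] (χ : Cfsg.IrrCharacter G) (g : G) :
    (χ : G → ℂ) g⁻¹ = conj ((χ : G → ℂ) g) := by
  obtain ⟨n, ρ, _, hρ⟩ := χ.2
  rw [← hρ]
  exact char_inv ρ g

omit [Fintype G] in
theorem IsCharacter.apply_inv [Finite G] {χ : G → ℂ} (hχ : Cfsg.IsCharacter G χ) (g : G) :
    χ g⁻¹ = conj (χ g) := by
  obtain ⟨n, ρ, rfl⟩ := hχ
  exact char_inv ρ g

/-- Precomposition of an irreducible character with an automorphism is irreducible. -/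
theorem isIrrCharacter_comp_mulEquiv (α : G ≃* G) (χ : Cfsg.IrrCharacter G) :
    Cfsg.IsIrrCharacter G ((χ : G → ℂ) ∘ α) := by
  apply isIrrCharacter_of_classInner_self_eq_one
  · exact IsCharacter.comp (IsIrrCharacter.isCharacter χ.2) α.toMonoidHom
  · rw [classInner_def, ← classInner_irrCharacter_self χ, classInner_def]
    congr 1
    exact Equiv.sum_comp α.toEquiv (fun g => (χ : G → ℂ) g * conj ((χ : G → ℂ) g))

/-- The complex conjugate (precomposition with inversion) of an irreducible character is
irreducible. -/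
theorem isIrrCharacter_comp_inv (χ : Cfsg.IrrCharacter G) :
    Cfsg.IsIrrCharacter G ((χ : G → ℂ) ∘ (fun g => g⁻¹)) := by
  apply isIrrCharacter_of_classInner_self_eq_one
  · obtain ⟨n, ρ, _, hρ⟩ := χ.2
    have := isCharacter_of_rep ρ.dual
    convert this using 1
    ext g
    rw [Function.comp_apply, Representation.char_dual, ← hρ]
  · rw [classInner_def, ← classInner_irrCharacter_self χ, classInner_def]
    congr 1
    exact Equiv.sum_comp (Equiv.inv G) (fun g => (χ : G → ℂ) g * conj ((χ : G → ℂ) g))

/-- Brauer's permutation lemma for a single automorphism. -/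
theorem brauer_permutation (α : G ≃* G) :
    Nat.card {C : ConjClasses G // ConjClasses.map α.toMonoidHom C = C}
      = Nat.card {χ : Cfsg.IrrCharacter G // (χ : G → ℂ) ∘ α = (χ : G → ℂ)} := by
  classical
  have h1 := card_fixed_irr_eq_sum (G := G) (fun g => α g) (isIrrCharacter_comp_mulEquiv α)
  have hP : ∀ g h : G, IsConj g h → (IsConj (α g) g ↔ IsConj (α h) h) := by
    intro g h hgh
    have hα : IsConj (α g) (α h) := by
      obtain ⟨c, hc⟩ := isConj_iff.mp hgh
      rw [isConj_iff]
      exact ⟨α c, by rw [← hc]; simp⟩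
    constructor
    · intro h1
      exact (hα.symm.trans h1).trans hgh
    · intro h1
      exact (hα.trans h1).trans hgh.symm
  rw [sum_class_avg (fun g => IsConj (α g) g) hP] at h1
  have h2 : Nat.card {χ : Cfsg.IrrCharacter G // (χ : G → ℂ) ∘ (fun g => α g) = (χ : G → ℂ)}
      = Nat.card {C : ConjClasses G // ∀ g : G, ConjClasses.mk g = C → IsConj (α g) g} := by
    exact_mod_cast h1
  rw [show (fun χ : Cfsg.IrrCharacter G => (χ : G → ℂ) ∘ α = (χ : G → ℂ))
      = (fun χ : Cfsg.IrrCharacter G => (χ : G → ℂ) ∘ (fun g => α g) = (χ : G → ℂ)) from rfl, h2]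
  apply Nat.card_congr
  apply Equiv.subtypeEquivRight
  intro C
  obtain ⟨a, rfl⟩ := ConjClasses.mk_surjective C
  constructor
  · intro h g hg
    rw [← hg] at h
    have h' : ConjClasses.mk (α g) = ConjClasses.mk g := h
    rw [ConjClasses.mk_eq_mk_iff_isConj] at h'
    exact h'
  · intro h
    change ConjClasses.mk (α a) = ConjClasses.mk a
    rw [ConjClasses.mk_eq_mk_iff_isConj]
    exact h a rfl

/-- The number of real-valued irreducible characters equals the number of real conjugacy
classes. -/
theorem card_real_irr_eq_card_real_classes :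
    Nat.card {χ : Cfsg.IrrCharacter G // ∀ g : G, ((χ : G → ℂ) g).im = 0}
      = Nat.card {C : ConjClasses G // ∀ g : G, ConjClasses.mk g = C → IsConj g g⁻¹} := by
  classical
  have h1 := card_fixed_irr_eq_sum (G := G) (fun g => g⁻¹) isIrrCharacter_comp_inv
  have hP : ∀ g h : G, IsConj g h → (IsConj g⁻¹ g ↔ IsConj h⁻¹ h) := by
    intro g h hgh
    have hinv : IsConj g⁻¹ h⁻¹ := by
      obtain ⟨c, hc⟩ := isConj_iff.mp hgh
      rw [isConj_iff]
      exact ⟨c, by rw [← hc]; group⟩
    constructor
    · intro h1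
      exact (hinv.symm.trans h1).trans hgh
    · intro h1
      exact (hinv.trans h1).trans hgh.symm
  rw [sum_class_avg (fun g => IsConj g⁻¹ g) hP] at h1
  have h2 : Nat.card {χ : Cfsg.IrrCharacter G // (χ : G → ℂ) ∘ (fun g => g⁻¹) = (χ : G → ℂ)}
      = Nat.card {C : ConjClasses G // ∀ g : G, ConjClasses.mk g = C → IsConj g⁻¹ g} := by
    exact_mod_cast h1
  have h3 : Nat.card {χ : Cfsg.IrrCharacter G // ∀ g : G, ((χ : G → ℂ) g).im = 0}
      = Nat.card {χ : Cfsg.IrrCharacter G // (χ : G → ℂ) ∘ (fun g => g⁻¹) = (χ : G → ℂ)} := by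
    apply Nat.card_congr
    apply Equiv.subtypeEquivRight
    intro χ
    constructor
    · intro h
      ext g
      rw [Function.comp_apply, IrrCharacter.apply_inv, Complex.conj_eq_iff_im]
      exact h g
    · intro h g
      have := congrFun h g
      rw [Function.comp_apply, IrrCharacter.apply_inv, Complex.conj_eq_iff_im] at this
      exact this
  rw [h3, h2]
  apply Nat.card_congr
  apply Equiv.subtypeEquivRight
  intro C
  constructor
  · intro h g hg; exact (h g hg).symm
  · intro h g hg; exact (h g hg).symm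

end Applications

end Cfsg.Agent.Lib.Helper2
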