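import Mathlib

/-!
# Real elements force even order (helper2 library)
-/

set_option autoImplicit false

namespace Cfsg.Agent.Lib.Helper2

variable {G : Type*} [Group G]

/-- In a group of odd order, only the identity is conjugate to its inverse. -/
theorem eq_one_of_isConj_inv_of_odd (hodd : Odd (Nat.card G)) (x : G) (hreal : IsConj x x⁻¹) :
    x = 1 := by
  obtain ⟨g, hg⟩ := isConj_iff.mp hreal
  -- `g` has odd order
  have hgodd : Odd (orderOf g) := by
    have := orderOf_dvd_natCard g
    exact Odd.of_dvd_nat hodd this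
  obtain ⟨m, hm⟩ := hgodd
  -- g^2 commutes with x
  have h2 : g ^ 2 * x * (g ^ 2)⁻¹ = x := by
    have : g ^ 2 * x * (g ^ 2)⁻¹ = g * (g * x * g⁻¹) * g⁻¹ := by
      rw [pow_two, mul_inv_rev]; group
    rw [this, hg]
    have : g * x⁻¹ * g⁻¹ = (g * x * g⁻¹)⁻¹ := by group
    rw [this, hg, inv_inv]
  have hcomm2 : Commute (g ^ 2) x := by
    have : g ^ 2 * x = x * g ^ 2 := by
      calc g ^ 2 * x = g ^ 2 * x * (g ^ 2)⁻¹ * g ^ 2 := by group
        _ = x * g ^ 2 := by rw [h2]
    exact this
  -- g is a power of g^2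
  have hgpow : g = (g ^ 2) ^ (m + 1) := by
    rw [← pow_mul]
    have : 2 * (m + 1) = orderOf g + 1 := by omega
    rw [this, pow_succ, pow_orderOf_eq_one, one_mul]
  have hcomm : Commute g x := by
    rw [hgpow]
    exact hcomm2.pow_left _
  have hx : x = x⁻¹ := by
    have : g * x * g⁻¹ = x := by
      rw [hcomm.eq]; group
    rw [this] at hg
    exact hg
  have hx2 : x ^ 2 = 1 := by
    rw [pow_two]
    nth_rewrite 2 [hx]
    exact mul_inv_cancel x
  have hxodd : Odd (orderOf x) := Odd.of_dvd_nat hodd (orderOf_dvd_natCard x)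
  have hdvd : orderOf x ∣ 2 := orderOf_dvd_of_pow_eq_one hx2
  have h1 : orderOf x = 1 := by
    rcases (Nat.dvd_prime Nat.prime_two).mp hdvd with h | h
    · exact h
    · rw [h] at hxodd; exact absurd hxodd (by decide)
  exact orderOf_eq_one_iff.mp h1

/-- If a nontrivial element is conjugate to its inverse then the group has even order. -/
theorem even_card_of_isConj_inv (x : G) (hx : x ≠ 1) (hreal : IsConj x x⁻¹) :
    Even (Nat.card G) := by
  by_contra h
  rw [Nat.not_even_iff_odd] at h
  exact hx (eq_one_of_isConj_inv_of_odd h x hreal)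

end Cfsg.Agent.Lib.Helper2
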