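import Mathlib
import Cfsg.Prelude.Def_Characters
import Cfsg.Agent.Lib.Helper2.PermLemma
import Cfsg.Agent.Lib.Helper2.RealElements
import Cfsg.Agent.Lib.Helper2.Integrality

/-!
# Characters of groups of odd order (helper2 library)
-/

set_option autoImplicit false

namespace Cfsg.Agent.Lib.Helper2

open Module
open scoped ComplexConjugate MonoidAlgebra

section OddOrder

variable {G : Type*} [Group G] [Fintype G]

/-- In a group of odd order, a real-valued irreducible character is trivial. -/
theorem eq_trivial_of_real_of_odd (hodd : Odd (Nat.card G)) (χ : Cfsg.IrrCharacter G)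
    (hreal : ∀ g : G, ((χ : G → ℂ) g).im = 0) : χ = trivialIrr G := by
  have hcard := card_real_irr_eq_card_real_classes (G := G)
  have hclasses : Nat.card {C : ConjClasses G // ∀ g : G, ConjClasses.mk g = C → IsConj g g⁻¹}
      = 1 := by
    rw [Nat.card_eq_one_iff_unique]
    constructor
    · constructor
      rintro ⟨C, hC⟩ ⟨D, hD⟩
      apply Subtype.ext
      obtain ⟨a, rfl⟩ := ConjClasses.mk_surjective C
      obtain ⟨b, rfl⟩ := ConjClasses.mk_surjective D
      have ha := eq_one_of_isConj_inv_of_odd hodd a (hC a rfl)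
      have hb := eq_one_of_isConj_inv_of_odd hodd b (hD b rfl)
      change ConjClasses.mk a = ConjClasses.mk b
      rw [ha, hb]
    · refine ⟨⟨ConjClasses.mk 1, ?_⟩⟩
      intro g hg
      rw [ConjClasses.mk_eq_mk_iff_isConj] at hg
      have : g = 1 := isConj_one_right.mp hg.symm
      rw [this]; simp
  rw [hclasses, Nat.card_eq_one_iff_unique] at hcard
  have hsub := hcard.1
  have h1 : (⟨χ, hreal⟩ : {χ : Cfsg.IrrCharacter G // ∀ g : G, ((χ : G → ℂ) g).im = 0})
      = ⟨trivialIrr G, fun g => by simp [trivialIrr]⟩ := Subsingleton.elim _ _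
  exact congrArg Subtype.val h1

/-- Degrees of irreducible characters as natural numbers. -/
theorem IrrCharacter.exists_degree (χ : Cfsg.IrrCharacter G) :
    ∃ d : ℕ, (χ : G → ℂ) 1 = (d : ℂ) ∧ d ∣ Nat.card G ∧ 0 < d := by
  obtain ⟨n, ρ, hρ, hχ⟩ := χ.2
  refine ⟨finrank ℂ (Fin n → ℂ), ?_, finrank_dvd_card ρ, finrank_pos_of_isIrreducible ρ⟩
  rw [← hχ]; exact Representation.char_one ρ

theorem zmod16_aux : ∀ x : ZMod 16, x.val % 2 = 1 → (x ^ 2 - 1) + (x ^ 2 - 1) = 0 := by
  decide

/-- For a group of odd order, `|G| ≡ k(G) mod 16`. -/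
theorem card_modEq_card_conjClasses_of_odd (hodd : Odd (Nat.card G)) :
    Nat.card G ≡ Nat.card (ConjClasses G) [MOD 16] := by
  classical
  haveI : Fintype (Cfsg.IrrCharacter G) := Fintype.ofFinite _
  choose d hd hdvd hdpos using IrrCharacter.exists_degree (G := G)
  have hsq : ∑ χ : Cfsg.IrrCharacter G, (d χ) ^ 2 = Nat.card G := by
    have h := sum_irr_degree_sq (G := G)
    simp only [hd] at h
    exact_mod_cast h
  have hk : ∑ _χ : Cfsg.IrrCharacter G, 1 = Nat.card (ConjClasses G) := by
    rw [← card_irrCharacter, Nat.card_eq_fintype_card]; simp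
  rw [← ZMod.natCast_eq_natCast_iff, ← hsq, ← hk]
  push_cast
  rw [← sub_eq_zero, ← Finset.sum_sub_distrib]
  -- the involution χ ↦ conj χ
  let ι : Cfsg.IrrCharacter G → Cfsg.IrrCharacter G :=
    fun χ => ⟨(χ : G → ℂ) ∘ (fun g => g⁻¹), isIrrCharacter_comp_inv χ⟩
  have hι2 : ∀ χ, ι (ι χ) = χ := by
    intro χ
    apply Subtype.ext
    ext g
    simp [ι]
  have hdι : ∀ χ, d (ι χ) = d χ := by
    intro χ
    have h1 := hd (ι χ)
    have h2 := hd χ
    have h3 : ((ι χ : Cfsg.IrrCharacter G) : G → ℂ) 1 = (χ : G → ℂ) 1 := by simp [ι]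
    rw [h3, h2] at h1
    exact_mod_cast h1.symm
  have hdodd : ∀ χ, ((d χ : ZMod 16)).val % 2 = 1 := by
    intro χ
    have hoddd : Odd (d χ) := Odd.of_dvd_nat hodd (hdvd χ)
    rw [ZMod.val_natCast]
    have : d χ % 16 % 2 = d χ % 2 := Nat.mod_mod_of_dvd _ (by norm_num)
    rw [this]
    exact Nat.odd_iff.mp hoddd
  apply Finset.sum_involution (fun χ _ => ι χ)
  · intro χ _
    rw [hdι]
    exact zmod16_aux _ (hdodd χ)
  · intro χ _ hne hfix
    apply hne
    -- χ is real, hence trivial, hence of degree one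
    have hreal : ∀ g : G, ((χ : G → ℂ) g).im = 0 := by
      intro g
      have := congrArg (fun ψ : Cfsg.IrrCharacter G => (ψ : G → ℂ) g) hfix
      simp only [ι, Function.comp_apply] at this
      rw [IrrCharacter.apply_inv, Complex.conj_eq_iff_im] at this
      exact this
    have htriv := eq_trivial_of_real_of_odd hodd χ hreal
    have hd1 : d χ = 1 := by
      have h1 := hd χ
      rw [htriv] at h1
      simp only [trivialIrr] at h1
      rw [htriv]
      exact_mod_cast h1.symm
    rw [hd1]; simp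
  · intro χ _; exact Finset.mem_univ _
  · intro χ _; exact hι2 χ

end OddOrder

end Cfsg.Agent.Lib.Helper2
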