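import Mathlib
import Cfsg.Prelude.Def_Characters
import Cfsg.Agent.Lib.Helper2.Induction
import Cfsg.Agent.Lib.Helper2.PermLemma
import Cfsg.Agent.Lib.Helper2.Linear
import Cfsg.Agent.Lib.Helper2.OddOrderChars

/-!
# Induction from a normal subgroup: conjugate characters and the inertia group
(helper2 library)
-/

set_option autoImplicit false

namespace Cfsg.Agent.Lib.Helper2

open scoped ComplexConjugate

variable {G : Type*} [Group G] (H : Subgroup G) [hN : H.Normal]

/-- The conjugate `θ^g : h ↦ θ (g h g⁻¹)` of a function on a normal subgroup. -/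
def conjFun (g : G) (θ : H → ℂ) : H → ℂ := fun h => θ ⟨g * h * g⁻¹, hN.conj_mem h h.2 g⟩

theorem conjFun_apply (g : G) (θ : H → ℂ) (h : H) :
    conjFun H g θ h = θ ⟨g * h * g⁻¹, hN.conj_mem h h.2 g⟩ := rfl

theorem conjFun_eq_comp (g : G) (θ : H → ℂ) :
    conjFun H g θ = θ ∘ (MulAut.conjNormal (H := H) g) := by
  ext h
  rw [conjFun_apply, Function.comp_apply]
  congr 1

theorem conjFun_one (θ : H → ℂ) : conjFun H 1 θ = θ := by
  ext h
  rw [conjFun_apply]
  congr 1
  apply Subtype.ext
  simp

theorem conjFun_mul (a b : G) (θ : H → ℂ) : conjFun H (a * b) θ = conjFun H b (conjFun H a θ) := by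
  ext h
  rw [conjFun_apply, conjFun_apply, conjFun_apply]
  congr 1
  apply Subtype.ext
  simp only [mul_inv_rev]
  group

theorem conjFun_const (g : G) (c : ℂ) : conjFun H g (fun _ => c) = fun _ => c := rfl

theorem conjFun_conj (g : G) (θ : H → ℂ) :
    conjFun H g (fun h => conj (θ h)) = fun h => conj (conjFun H g θ h) := rfl

/-- Elements of `H` fix class functions of `H`. -/
theorem conjFun_of_mem {θ : H → ℂ} (hθ : Cfsg.IsClassFunction H θ) {g : G} (hg : g ∈ H) :
    conjFun H g θ = θ := by
  ext h
  rw [conjFun_apply]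
  have := hθ h ⟨g, hg⟩
  rw [← this]
  congr 1

theorem isIrrCharacter_conjFun [Finite G] (g : G) {θ : H → ℂ} (hθ : Cfsg.IsIrrCharacter H θ) :
    Cfsg.IsIrrCharacter H (conjFun H g θ) := by
  classical
  haveI : Fintype H := Fintype.ofFinite H
  rw [conjFun_eq_comp]
  exact isIrrCharacter_comp_mulEquiv (MulAut.conjNormal (H := H) g) ⟨θ, hθ⟩

variable [Fintype G]

/-- On the normal subgroup `H`, the induced function is the average of the conjugates. -/
theorem indFun_apply_mem (θ : H → ℂ) (h : H) :
    Cfsg.indFun H θ h = (Nat.card H : ℂ)⁻¹ * ∑ x : G, conjFun H x θ h := by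
  rw [indFun_apply]
  congr 1
  rw [← Equiv.sum_comp (Equiv.inv G)]
  apply Finset.sum_congr rfl
  intro x _
  rw [conjFun_apply]
  have hm : (Equiv.inv G x)⁻¹ * (h : G) * (Equiv.inv G x) ∈ H := by
    have := hN.conj_mem h h.2 x
    simpa using this
  rw [extendByZero_of_mem H θ hm]
  congr 1
  apply Subtype.ext
  simp

/-- Off the normal subgroup `H`, the induced function vanishes. -/
theorem indFun_apply_not_mem (θ : H → ℂ) {g : G} (hg : g ∉ H) : Cfsg.indFun H θ g = 0 := by
  rw [indFun_apply]
  have : ∀ x : G, Cfsg.extendByZero H θ (x⁻¹ * g * x) = 0 := by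
    intro x
    apply extendByZero_of_not_mem
    intro hx
    apply hg
    have := hN.conj_mem _ hx x
    have h2 : x * (x⁻¹ * g * x) * x⁻¹ = g := by group
    rwa [h2] at this
  simp [this]

/-- Mackey-type formula for a normal subgroup: the inner product of two induced functions. -/
theorem classInner_indFun_indFun [Fintype H] (φ θ : H → ℂ) :
    Cfsg.classInner (Cfsg.indFun H φ) (Cfsg.indFun H θ)
      = (Nat.card H : ℂ)⁻¹ * ∑ x : G, Cfsg.classInner φ (conjFun H x θ) := by
  classical
  rw [frobenius_reciprocity H φ (Cfsg.indFun H θ) (indFun_isClassFunction H θ)]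
  have h1 : (fun h : H => Cfsg.indFun H θ h)
      = ((Nat.card H : ℂ)⁻¹) • ∑ x : G, conjFun H x θ := by
    ext h
    rw [indFun_apply_mem]
    simp [Finset.sum_apply]
  rw [h1, classInner_smul_right, classInner_sum_right]
  simp

/-- `|H| ⟨ind φ, ind θ⟩` counts the `g` with `θ^g = φ`, for irreducible `φ`, `θ`. -/
theorem card_mul_classInner_indFun_indFun {φ θ : H → ℂ} (hφ : Cfsg.IsIrrCharacter H φ)
    (hθ : Cfsg.IsIrrCharacter H θ) :
    (Nat.card H : ℂ) * Cfsg.classInner (Cfsg.indFun H φ) (Cfsg.indFun H θ)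
      = (Nat.card {g : G // conjFun H g θ = φ} : ℂ) := by
  classical
  haveI : Fintype H := Fintype.ofFinite H
  rw [classInner_indFun_indFun, ← mul_assoc, mul_inv_cancel₀ (card_subgroup_ne_zero H), one_mul]
  have h1 : ∀ x : G, Cfsg.classInner φ (conjFun H x θ)
      = if conjFun H x θ = φ then 1 else 0 := by
    intro x
    have := classInner_irrCharacter (⟨φ, hφ⟩ : Cfsg.IrrCharacter H)
      ⟨conjFun H x θ, isIrrCharacter_conjFun H x hθ⟩
    rw [this]
    by_cases hx : conjFun H x θ = φ
    · rw [if_pos hx, if_pos (Subtype.ext hx.symm)]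
    · rw [if_neg hx, if_neg (fun h => hx (congrArg Subtype.val h).symm)]
  simp only [h1]
  rw [Finset.sum_ite, Finset.sum_const_zero, add_zero, Finset.sum_const, nsmul_eq_mul, mul_one,
    Nat.card_eq_fintype_card, Fintype.card_subtype]

omit hN [Fintype G] in
theorem extendByZero_conj (θ : H → ℂ) (g : G) :
    conj (Cfsg.extendByZero H θ g) = Cfsg.extendByZero H (fun h => conj (θ h)) g := by
  by_cases hg : g ∈ H
  · rw [extendByZero_of_mem H θ hg, extendByZero_of_mem H _ hg]
  · rw [extendByZero_of_not_mem H θ hg, extendByZero_of_not_mem H _ hg, map_zero]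

omit hN in
/-- Induction commutes with complex conjugation. -/
theorem indFun_conj (θ : H → ℂ) (g : G) :
    conj (Cfsg.indFun H θ g) = Cfsg.indFun H (fun h => conj (θ h)) g := by
  rw [indFun_apply, indFun_apply, map_mul, map_inv₀, Complex.conj_natCast, map_sum]
  congr 1
  apply Finset.sum_congr rfl
  intro x _
  exact extendByZero_conj H θ _

omit [Fintype G] in
/-- The complex conjugate of an irreducible character is irreducible. -/
theorem isIrrCharacter_conj {K : Type*} [Group K] [Finite K] {θ : K → ℂ}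
    (hθ : Cfsg.IsIrrCharacter K θ) : Cfsg.IsIrrCharacter K (fun h => conj (θ h)) := by
  classical
  haveI : Fintype K := Fintype.ofFinite K
  have h1 := isIrrCharacter_comp_inv (⟨θ, hθ⟩ : Cfsg.IrrCharacter K)
  convert h1 using 1
  ext h
  exact (IrrCharacter.apply_inv (⟨θ, hθ⟩ : Cfsg.IrrCharacter K) h).symm

omit [Fintype G] in
theorem conjFun_pow {θ : H → ℂ} {a : G} (ha : conjFun H a θ = θ) (k : ℕ) :
    conjFun H (a ^ k) θ = θ := by
  induction k with
  | zero => rw [pow_zero, conjFun_one]
  | succ n ih => rw [pow_succ, conjFun_mul, ih, ha]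

/-- In a group of odd order, the function induced from a non-principal irreducible character of a
normal subgroup is orthogonal to its complex conjugate. -/
theorem classInner_conj_indFun_indFun_of_odd (hodd : Odd (Nat.card G)) {θ : H → ℂ}
    (hθ : Cfsg.IsIrrCharacter H θ) (hθ1 : θ ≠ fun _ => 1) :
    Cfsg.classInner (fun g => conj (Cfsg.indFun H θ g)) (Cfsg.indFun H θ) = 0 := by
  classical
  haveI : Fintype H := Fintype.ofFinite H
  have h1 : (fun g => conj (Cfsg.indFun H θ g)) = Cfsg.indFun H (fun h => conj (θ h)) := by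
    ext g; exact indFun_conj H θ g
  rw [h1]
  have h2 := card_mul_classInner_indFun_indFun H (isIrrCharacter_conj hθ) hθ
  have hempty : IsEmpty {g : G // conjFun H g θ = fun h => conj (θ h)} := by
    constructor
    rintro ⟨g, hg⟩
    have hg2 : conjFun H (g * g) θ = θ := by
      rw [conjFun_mul, hg, conjFun_conj, hg]
      ext h; simp
    -- `g` is a power of `g * g`
    obtain ⟨k, hk⟩ := hodd
    have hgpow : g = (g * g) ^ (k + 1) := by
      have h3 : g ^ (Nat.card G) = 1 := pow_card_eq_one'
      rw [← pow_two, ← pow_mul]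
      have : 2 * (k + 1) = Nat.card G + 1 := by omega
      rw [this, pow_succ, h3, one_mul]
    have hg1 : conjFun H g θ = θ := by
      rw [hgpow]; exact conjFun_pow H hg2 _
    have hreal : ∀ h : H, (θ h).im = 0 := by
      intro h
      have := congrFun (hg1.symm.trans hg) h
      exact Complex.conj_eq_iff_im.mp this.symm
    have hoddH : Odd (Nat.card H) := by
      have hdvd : Nat.card H ∣ Nat.card G := Subgroup.card_subgroup_dvd_card H
      exact Odd.of_dvd_nat ⟨k, hk⟩ hdvd
    have := eq_trivial_of_real_of_odd hoddH ⟨θ, hθ⟩ hreal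
    apply hθ1
    exact congrArg Subtype.val this
  have h3 : Nat.card {g : G // conjFun H g θ = fun h => conj (θ h)} = 0 := Nat.card_of_isEmpty
  rw [h3, Nat.cast_zero] at h2
  exact (mul_eq_zero.mp h2).resolve_left (card_subgroup_ne_zero H)

end Cfsg.Agent.Lib.Helper2
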