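import Mathlib
import Cfsg.Prelude.Def_Characters
import Cfsg.Agent.Lib.Helper2.NormalInduction

/-!
# The Frobenius–Schur indicator
(helper2 library)
-/

set_option autoImplicit false

namespace Cfsg.Agent.Lib.Helper2

open Module
open scoped ComplexConjugate

section Matrices

variable {n : Type*} [Fintype n] [DecidableEq n]

theorem mul_single_mul_apply (A B : Matrix n n ℂ) (i j a b : n) :
    (A * Matrix.single i j (1 : ℂ) * B) a b = A a i * B j b := by
  rw [Matrix.mul_apply]
  simp only [Matrix.mul_apply, Matrix.single_apply]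
  simp [Finset.sum_ite_eq, ite_and]

omit [DecidableEq n] in
theorem stdBasis_repr_apply (M : Matrix n n ℂ) (i j : n) :
    (Matrix.stdBasis ℂ n n).repr M (i, j) = M i j := by
  simp [Matrix.stdBasis]

theorem trace_eq_sum_single (L : Matrix n n ℂ →ₗ[ℂ] Matrix n n ℂ) :
    LinearMap.trace ℂ _ L = ∑ i, ∑ j, L (Matrix.single i j 1) i j := by
  rw [LinearMap.trace_eq_matrix_trace ℂ (Matrix.stdBasis ℂ n n), Matrix.trace,
    Fintype.sum_prod_type]
  apply Finset.sum_congr rfl; intro i _
  apply Finset.sum_congr rfl; intro j _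
  rw [Matrix.diag_apply, LinearMap.toMatrix_apply, Matrix.stdBasis_eq_single, stdBasis_repr_apply]

/-- The linear map `M ↦ A * M * B`. -/
def sandwich (A B : Matrix n n ℂ) : Matrix n n ℂ →ₗ[ℂ] Matrix n n ℂ where
  toFun M := A * M * B
  map_add' M N := by rw [Matrix.mul_add, Matrix.add_mul]
  map_smul' c M := by simp

@[simp] theorem sandwich_apply (A B M : Matrix n n ℂ) : sandwich A B M = A * M * B := rfl

theorem trace_sandwich (A B : Matrix n n ℂ) :
    LinearMap.trace ℂ _ (sandwich A B) = A.trace * B.trace := by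
  rw [trace_eq_sum_single]
  simp only [sandwich_apply, mul_single_mul_apply]
  rw [Matrix.trace, Matrix.trace, Finset.sum_mul_sum]
  rfl

/-- Transposition as a linear map. -/
def transposeLin : Matrix n n ℂ →ₗ[ℂ] Matrix n n ℂ :=
  (Matrix.transposeLinearEquiv n n ℂ ℂ).toLinearMap

@[simp] theorem transposeLin_apply (M : Matrix n n ℂ) : transposeLin M = M.transpose := rfl

theorem trace_transpose_sandwich (A B : Matrix n n ℂ) :
    LinearMap.trace ℂ _ (transposeLin ∘ₗ sandwich A B) = (A * B.transpose).trace := by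
  rw [trace_eq_sum_single]
  simp only [LinearMap.comp_apply, sandwich_apply, transposeLin_apply, Matrix.transpose_apply,
    mul_single_mul_apply]
  rw [Matrix.trace, Finset.sum_comm]
  apply Finset.sum_congr rfl
  intro j _
  rw [Matrix.diag_apply, Matrix.mul_apply]
  rfl

end Matrices

section AvgOp

variable {G : Type*} [Group G] [Fintype G] {n : Type*} [Fintype n] [DecidableEq n]

/-- The averaging operator `M ↦ |G|⁻¹ ∑ g, A g * M * (A g)ᵀ` on matrices. -/
noncomputable def avgOp (A : G → Matrix n n ℂ) : Matrix n n ℂ →ₗ[ℂ] Matrix n n ℂ :=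
  (Nat.card G : ℂ)⁻¹ • ∑ g : G, sandwich (A g) (A g).transpose

theorem avgOp_apply (A : G → Matrix n n ℂ) (M : Matrix n n ℂ) :
    avgOp A M = (Nat.card G : ℂ)⁻¹ • ∑ g : G, A g * M * (A g).transpose := by
  simp only [avgOp, LinearMap.smul_apply, LinearMap.sum_apply, sandwich_apply]

theorem avgOp_invariant (A : G → Matrix n n ℂ) (hA : ∀ g h : G, A (g * h) = A g * A h) (h : G)
    (M : Matrix n n ℂ) : A h * avgOp A M * (A h).transpose = avgOp A M := by
  rw [avgOp_apply, Matrix.mul_smul, Matrix.smul_mul, Finset.mul_sum, Finset.sum_mul]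
  congr 1
  rw [← Equiv.sum_comp (Equiv.mulLeft h) (fun g => A g * M * (A g).transpose)]
  apply Finset.sum_congr rfl
  intro g _
  simp only [Equiv.coe_mulLeft, hA, Matrix.transpose_mul]
  simp only [Matrix.mul_assoc]

theorem avgOp_fix (A : G → Matrix n n ℂ) (M : Matrix n n ℂ)
    (hM : ∀ h : G, A h * M * (A h).transpose = M) : avgOp A M = M := by
  rw [avgOp_apply]
  simp only [hM, Finset.sum_const, Finset.card_univ]
  have hcne : (Nat.card G : ℂ) ≠ 0 := card_ne_zero_complex
  rw [← Nat.cast_smul_eq_nsmul ℂ, smul_smul, ← Nat.card_eq_fintype_card,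
    inv_mul_cancel₀ hcne, one_smul]

theorem avgOp_isProj (A : G → Matrix n n ℂ) (hA : ∀ g h : G, A (g * h) = A g * A h) :
    LinearMap.IsProj (LinearMap.range (avgOp A)) (avgOp A) := by
  refine ⟨fun x => LinearMap.mem_range_self _ x, ?_⟩
  rintro x ⟨y, rfl⟩
  exact avgOp_fix A _ (fun h => avgOp_invariant A hA h y)

theorem transpose_avgOp (A : G → Matrix n n ℂ) (M : Matrix n n ℂ) :
    (avgOp A M).transpose = avgOp A M.transpose := by
  rw [avgOp_apply, avgOp_apply, Matrix.transpose_smul, Matrix.transpose_sum]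
  congr 1
  apply Finset.sum_congr rfl
  intro g _
  rw [Matrix.transpose_mul, Matrix.transpose_mul, Matrix.transpose_transpose, Matrix.mul_assoc]

theorem trace_avgOp (A : G → Matrix n n ℂ) :
    LinearMap.trace ℂ _ (avgOp A)
      = (Nat.card G : ℂ)⁻¹ * ∑ g : G, (A g).trace * (A g).trace := by
  simp only [avgOp, map_smul, map_sum, trace_sandwich, Matrix.trace_transpose, smul_eq_mul]

theorem trace_transpose_avgOp (A : G → Matrix n n ℂ) :
    LinearMap.trace ℂ _ (transposeLin ∘ₗ avgOp A)
      = (Nat.card G : ℂ)⁻¹ * ∑ g : G, (A g * A g).trace := by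
  have : transposeLin ∘ₗ avgOp A
      = (Nat.card G : ℂ)⁻¹ • ∑ g : G, transposeLin ∘ₗ sandwich (A g) (A g).transpose := by
    simp only [avgOp, LinearMap.comp_smul]
    congr 1
    ext M : 1
    simp only [LinearMap.comp_apply, LinearMap.sum_apply, map_sum]
  rw [this]
  simp only [map_smul, map_sum, trace_transpose_sandwich, Matrix.transpose_transpose,
    smul_eq_mul]

/-- Key dichotomy: if `tr P = 0` then `tr (τ P) = 0`; if `tr P = 1` then `tr (τ P) = ± 1`. -/
theorem trace_transpose_avgOp_cases (A : G → Matrix n n ℂ)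
    (hA : ∀ g h : G, A (g * h) = A g * A h) :
    (LinearMap.trace ℂ _ (avgOp A) = 0 → LinearMap.trace ℂ _ (transposeLin ∘ₗ avgOp A) = 0) ∧
    (LinearMap.trace ℂ _ (avgOp A) = 1 → (LinearMap.trace ℂ _ (transposeLin ∘ₗ avgOp A) = 1 ∨
      LinearMap.trace ℂ _ (transposeLin ∘ₗ avgOp A) = -1)) := by
  have hproj := avgOp_isProj A hA
  have hfr : (finrank ℂ (LinearMap.range (avgOp A)) : ℂ) = LinearMap.trace ℂ _ (avgOp A) :=
    (hproj.trace).symm
  constructor
  · intro h0
    rw [h0] at hfr
    have hfr0 : finrank ℂ (LinearMap.range (avgOp A)) = 0 := by exact_mod_cast hfr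
    have hr : LinearMap.range (avgOp A) = ⊥ := Submodule.finrank_eq_zero.mp hfr0
    have hP0 : avgOp A = 0 := LinearMap.range_eq_bot.mp hr
    rw [hP0, LinearMap.comp_zero, map_zero]
  · intro h1
    rw [h1] at hfr
    have hfr1 : finrank ℂ (LinearMap.range (avgOp A)) = 1 := by exact_mod_cast hfr
    obtain ⟨⟨M₀, hM₀r⟩, hM₀ne, hspan⟩ := finrank_eq_one_iff'.mp hfr1
    have hM₀ne' : M₀ ≠ 0 := fun h => hM₀ne (Subtype.ext h)
    have hspan' : ∀ M : Matrix n n ℂ, ∃ a : ℂ, a • M₀ = avgOp A M := by
      intro M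
      obtain ⟨a, ha⟩ := hspan ⟨avgOp A M, LinearMap.mem_range_self _ M⟩
      exact ⟨a, congrArg Subtype.val ha⟩
    obtain ⟨M₁, hM₁⟩ := hM₀r
    obtain ⟨c', hc'⟩ := hspan' M₁.transpose
    have hτM₀ : M₀.transpose = c' • M₀ := by
      rw [← hM₁, transpose_avgOp, ← hc', hM₁]
    have hc'2 : c' * c' = 1 := by
      have h1 : M₀ = (c' * c') • M₀ := by
        calc M₀ = M₀.transpose.transpose := (Matrix.transpose_transpose M₀).symm
          _ = (c' • M₀).transpose := by rw [hτM₀]
          _ = c' • M₀.transpose := Matrix.transpose_smul _ _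
          _ = (c' * c') • M₀ := by rw [hτM₀, smul_smul]
      have h2 : (c' * c' - 1) • M₀ = 0 := by rw [sub_smul, one_smul, ← h1, sub_self]
      rcases smul_eq_zero.mp h2 with h3 | h3
      · exact sub_eq_zero.mp h3
      · exact absurd h3 hM₀ne'
    have hτPc : transposeLin ∘ₗ avgOp A = c' • avgOp A := by
      apply LinearMap.ext
      intro M
      obtain ⟨a, ha⟩ := hspan' M
      rw [LinearMap.comp_apply, transposeLin_apply, LinearMap.smul_apply, ← ha,
        Matrix.transpose_smul, hτM₀, smul_comm]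
    rw [hτPc, map_smul, h1, smul_eq_mul, mul_one]
    have : (c' - 1) * (c' + 1) = 0 := by ring_nf; rw [← hc'2]; ring
    rcases mul_eq_zero.mp this with h | h
    · left; exact sub_eq_zero.mp h
    · right; exact eq_neg_of_add_eq_zero_left h

end AvgOp

section FS

variable {G : Type*} [Group G] [Fintype G]
variable {V : Type*} [AddCommGroup V] [Module ℂ V] [FiniteDimensional ℂ V]

/-- The Frobenius–Schur indicator of an irreducible representation is `0`, `1` or `-1`, and it is
`0` exactly when the character is not real-valued. -/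
theorem frobenius_schur (ρ : Representation ℂ G V) [ρ.IsIrreducible] :
    ((Nat.card G : ℂ)⁻¹ * ∑ s : G, ρ.character (s * s) = 0 ∨
      (Nat.card G : ℂ)⁻¹ * ∑ s : G, ρ.character (s * s) = 1 ∨
      (Nat.card G : ℂ)⁻¹ * ∑ s : G, ρ.character (s * s) = -1) ∧
    ((Nat.card G : ℂ)⁻¹ * ∑ s : G, ρ.character (s * s) = 0 ↔ ∃ s : G, (ρ.character s).im ≠ 0) := by
  classical
  set ν : ℂ := (Nat.card G : ℂ)⁻¹ * ∑ s : G, ρ.character (s * s) with hν
  let b := Module.finBasis ℂ V
  let A : G → Matrix (Fin (finrank ℂ V)) (Fin (finrank ℂ V)) ℂ :=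
    fun g => LinearMap.toMatrix b b (ρ g)
  have hA_mul : ∀ g h : G, A (g * h) = A g * A h := by
    intro g h
    simp only [A]
    rw [map_mul]
    exact LinearMap.toMatrix_mul b (ρ g) (ρ h)
  have hAtr : ∀ g : G, (A g).trace = ρ.character g := by
    intro g
    exact (LinearMap.trace_eq_matrix_trace ℂ b (ρ g)).symm
  set δ : ℂ := (Nat.card G : ℂ)⁻¹ * ∑ g : G, ρ.character g * ρ.character g with hδ
  have htrP : LinearMap.trace ℂ _ (avgOp A) = δ := by
    rw [trace_avgOp]
    simp only [hAtr]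
    rfl
  have htrτP : LinearMap.trace ℂ _ (transposeLin ∘ₗ avgOp A) = ν := by
    rw [trace_transpose_avgOp]
    simp only [← hA_mul, hAtr]
    rfl
  obtain ⟨hcase0, hcase1⟩ := trace_transpose_avgOp_cases A hA_mul
  rw [htrP, htrτP] at hcase0 hcase1
  -- δ is 0 or 1
  have hχ : Cfsg.IsIrrCharacter G ρ.character := isIrrCharacter_of_rep ρ
  have hχc : Cfsg.IsIrrCharacter G (fun g => conj (ρ.character g)) := isIrrCharacter_conj hχ
  have hδ' : δ = if (⟨ρ.character, hχ⟩ : Cfsg.IrrCharacter G) = ⟨_, hχc⟩ then 1 else 0 := by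
    rw [← classInner_irrCharacter, classInner_def, hδ]
    congr 1
    apply Finset.sum_congr rfl
    intro g _
    simp
  have hreal : (⟨ρ.character, hχ⟩ : Cfsg.IrrCharacter G) = ⟨_, hχc⟩ ↔
      ¬ ∃ s : G, (ρ.character s).im ≠ 0 := by
    constructor
    · intro h
      rintro ⟨s, hs⟩
      apply hs
      have := congrFun (congrArg Subtype.val h) s
      exact Complex.conj_eq_iff_im.mp this.symm
    · intro h
      simp only [not_exists, not_not] at h
      apply Subtype.ext
      ext s
      exact (Complex.conj_eq_iff_im.mpr (h s)).symm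
  by_cases hre : (⟨ρ.character, hχ⟩ : Cfsg.IrrCharacter G) = ⟨_, hχc⟩
  · rw [if_pos hre] at hδ'
    have hpm := hcase1 hδ'
    have hν0 : ν ≠ 0 := by
      rcases hpm with h | h <;> rw [h] <;> norm_num
    refine ⟨Or.inr hpm, ?_⟩
    constructor
    · intro h; exact absurd h hν0
    · intro h; exact absurd h (hreal.mp hre)
  · rw [if_neg hre] at hδ'
    have hν0 : ν = 0 := hcase0 hδ'
    refine ⟨Or.inl hν0, ?_⟩
    constructor
    · intro _
      by_contra hcon
      exact hre (hreal.mpr hcon)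
    · intro _; exact hν0

end FS

end Cfsg.Agent.Lib.Helper2
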