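import Mathlib
import Cfsg.Prelude.Def_Characters
import Cfsg.Agent.Lib.Helper2.NormalInduction
import Cfsg.Agent.Lib.Helper2.Expansion

/-!
# Clifford's theorem on the restriction of an irreducible character to a normal subgroup
(helper2 library)
-/

set_option autoImplicit false

namespace Cfsg.Agent.Lib.Helper2

open scoped ComplexConjugate

variable {G : Type*} [Group G] [Fintype G] (N : Subgroup G) [hN : N.Normal] [Fintype N]

omit [Fintype G] in
/-- The multiplicity of `χ^g` in the restriction of a class function of `G` equals that of `χ`. -/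
theorem classInner_restrict_conjFun {θ : G → ℂ} (hθ : Cfsg.IsClassFunction G θ) (χ : N → ℂ)
    (g : G) :
    Cfsg.classInner (fun n : N => θ n) (conjFun N g χ)
      = Cfsg.classInner (fun n : N => θ n) χ := by
  rw [classInner_def, classInner_def]
  congr 1
  rw [← Equiv.sum_comp (MulAut.conjNormal (H := N) g).toEquiv
    (fun m : N => θ m * conj (χ m))]
  apply Finset.sum_congr rfl
  intro n _
  have h1 : (((MulAut.conjNormal (H := N) g).toEquiv n : N) : G) = g * n * g⁻¹ := by
    simp [MulAut.conjNormal_apply]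
  have h2 : χ ((MulAut.conjNormal (H := N) g).toEquiv n) = conjFun N g χ n := by
    rw [conjFun_apply]; congr 1
  rw [h1, h2, hθ n g]

/-- Clifford: the irreducible constituents of `θ|_N` are conjugates of `χ`. -/
theorem classInner_restrict_eq_zero_of_not_conj {θ : G → ℂ} (hθ : Cfsg.IsIrrCharacter G θ)
    {χ : N → ℂ} (hχ : Cfsg.IsIrrCharacter N χ)
    (hconst : Cfsg.classInner (fun n : N => θ n) χ ≠ 0) {ψ : N → ℂ}
    (hψ : Cfsg.IsIrrCharacter N ψ) (hne : ∀ g : G, ψ ≠ conjFun N g χ) :
    Cfsg.classInner (fun n : N => θ n) ψ = 0 := by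
  classical
  have hθcf : Cfsg.IsClassFunction G θ :=
    IrrCharacter.isClassFunction (⟨θ, hθ⟩ : Cfsg.IrrCharacter G)
  have hfr := frobenius_reciprocity N χ θ hθcf
  have hne0 : Cfsg.classInner (Cfsg.indFun N χ) θ ≠ 0 := by
    rw [hfr, ← classInner_conj_symm]
    intro h
    apply hconst
    have := congrArg conj h
    simpa using this
  obtain ⟨Ψ, hΨ, hsum⟩ := exists_add_of_classInner_ne_zero
    (indFun_isCharacter N χ (IsIrrCharacter.isCharacter hχ)) (⟨θ, hθ⟩ : Cfsg.IrrCharacter G) hne0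
  have hres : (fun n : N => Cfsg.indFun N χ n) = (fun n : N => θ n) + (fun n : N => Ψ n) := by
    ext n
    have := congrFun hsum n
    simpa using this
  have h0 : Cfsg.classInner (fun n : N => Cfsg.indFun N χ n) ψ = 0 := by
    have h1 : (fun n : N => Cfsg.indFun N χ n)
        = ((Nat.card N : ℂ)⁻¹) • ∑ x : G, conjFun N x χ := by
      ext n
      rw [indFun_apply_mem]
      simp [Finset.sum_apply]
    rw [h1, classInner_smul_left, classInner_sum_left]
    have : ∀ x : G, Cfsg.classInner (conjFun N x χ) ψ = 0 := by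
      intro x
      have := classInner_irrCharacter_ne
        (χ := (⟨conjFun N x χ, isIrrCharacter_conjFun N x hχ⟩ : Cfsg.IrrCharacter N))
        (ψ := ⟨ψ, hψ⟩) (by
          intro h
          exact hne x (congrArg Subtype.val h).symm)
      exact this
    simp [this]
  rw [hres, classInner_add_left] at h0
  obtain ⟨a, ha⟩ := classInner_isCharacter_nat
    (IsCharacter.restrict (IsIrrCharacter.isCharacter hθ) N) (IsIrrCharacter.isCharacter hψ)
  obtain ⟨b, hb⟩ := classInner_isCharacter_nat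
    (IsCharacter.restrict hΨ N) (IsIrrCharacter.isCharacter hψ)
  rw [ha, hb] at h0
  rw [ha]
  have : a + b = 0 := by exact_mod_cast h0
  have : a = 0 := by omega
  rw [this, Nat.cast_zero]

omit [Fintype N] in
/-- The set of conjugates of `χ` is finite. -/
theorem finite_conjugates (χ : N → ℂ) : {ψ : N → ℂ | ∃ g : G, ψ = conjFun N g χ}.Finite := by
  have : {ψ : N → ℂ | ∃ g : G, ψ = conjFun N g χ} = Set.range (fun g : G => conjFun N g χ) := by
    ext ψ
    constructor
    · rintro ⟨g, rfl⟩; exact ⟨g, rfl⟩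
    · rintro ⟨g, rfl⟩; exact ⟨g, rfl⟩
  rw [this]
  exact Set.finite_range _

/-- Clifford's theorem. -/
theorem clifford_restriction {θ : G → ℂ} (hθ : Cfsg.IsIrrCharacter G θ)
    {χ : N → ℂ} (hχ : Cfsg.IsIrrCharacter N χ)
    (hconst : Cfsg.classInner (fun n : N => θ n) χ ≠ 0) :
    (fun n : N => θ n) = Cfsg.classInner (fun n : N => θ n) χ •
      ∑ᶠ ψ ∈ {ψ : N → ℂ | ∃ g : G, ψ = conjFun N g χ}, ψ := by
  classical
  haveI : Fintype (Cfsg.IrrCharacter N) := Fintype.ofFinite _
  have hθcf : Cfsg.IsClassFunction G θ :=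
    IrrCharacter.isClassFunction (⟨θ, hθ⟩ : Cfsg.IrrCharacter G)
  have hrescf : Cfsg.IsClassFunction N (fun n : N => θ n) := by
    intro n m
    exact hθcf n m
  set S : Set (N → ℂ) := {ψ : N → ℂ | ∃ g : G, ψ = conjFun N g χ} with hS
  have hfin : S.Finite := finite_conjugates N χ
  rw [finsum_mem_eq_finite_toFinset_sum _ hfin]
  have hexp := classFunction_expansion (fun n : N => θ n) hrescf
  -- the irreducible characters in `S`
  have hSirr : ∀ ψ ∈ hfin.toFinset, Cfsg.IsIrrCharacter N ψ := by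
    intro ψ hψ
    rw [Set.Finite.mem_toFinset] at hψ
    obtain ⟨g, rfl⟩ := hψ
    exact isIrrCharacter_conjFun N g hχ
  have h1 : ∑ ψ : Cfsg.IrrCharacter N,
      Cfsg.classInner (fun n : N => θ n) (ψ : N → ℂ) • (ψ : N → ℂ)
      = ∑ ψ : Cfsg.IrrCharacter N, if (ψ : N → ℂ) ∈ S then
          Cfsg.classInner (fun n : N => θ n) χ • (ψ : N → ℂ) else 0 := by
    apply Finset.sum_congr rfl
    intro ψ _
    by_cases hψ : (ψ : N → ℂ) ∈ S
    · rw [if_pos hψ]
      obtain ⟨g, hg⟩ := hψ
      rw [hg, classInner_restrict_conjFun N hθcf]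
    · rw [if_neg hψ]
      have : Cfsg.classInner (fun n : N => θ n) (ψ : N → ℂ) = 0 := by
        apply classInner_restrict_eq_zero_of_not_conj N hθ hχ hconst ψ.2
        intro g hg
        exact hψ ⟨g, hg⟩
      rw [this, zero_smul]
  rw [h1, ← Finset.sum_filter] at hexp
  refine hexp.trans ?_
  rw [Finset.smul_sum]
  symm
  apply Finset.sum_bij (fun (ψ : N → ℂ) (hψ : ψ ∈ hfin.toFinset) =>
    (⟨ψ, hSirr ψ hψ⟩ : Cfsg.IrrCharacter N))
  · intro ψ hψ
    rw [Finset.mem_filter]
    exact ⟨Finset.mem_univ _, (Set.Finite.mem_toFinset hfin).mp hψ⟩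
  · intro ψ₁ _ ψ₂ _ h
    exact congrArg Subtype.val h
  · intro ψ hψ
    rw [Finset.mem_filter] at hψ
    exact ⟨(ψ : N → ℂ), (Set.Finite.mem_toFinset hfin).mpr hψ.2, rfl⟩
  · intro ψ _
    rfl

end Cfsg.Agent.Lib.Helper2
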