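import Mathlib

/-!
A small lemma for the Schur multiplier of the Ree groups (requested by helper26):
in a group `P` of order 16 with a central involution `z` such that all squares lie in `{1, z}` and
all elements outside `{1, z}` are conjugate modulo `z`, the involution `z` is not a commutator
product.
-/

namespace Cfsg.Agent.Lib.Helper2.ReeMult2

theorem exists_mem_notMem_finset {Γ : Type*} [Group Γ] [DecidableEq Γ] (P : Subgroup Γ)
    (S : Finset Γ) (h : S.card < Nat.card P) : ∃ w ∈ P, w ∉ S := by
  by_contra hcon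
  push Not at hcon
  have hsub : (P : Set Γ) ⊆ (S : Set Γ) := fun w hw => by
    simpa using hcon w hw
  have h1 := Set.ncard_le_ncard hsub S.finite_toSet
  rw [Set.ncard_coe_finset] at h1
  have h2 : (P : Set Γ).ncard = Nat.card P := rfl
  omega

theorem not_mem_commutator_of_card16 {Γ : Type*} [Group Γ] (P : Subgroup Γ) (z : Γ)
    (hzP : z ∈ P) (hz2 : z * z = 1) (hz1 : z ≠ 1) (hzc : ∀ g : Γ, g * z = z * g)
    (hcard : Nat.card P = 16) (hsq : ∀ g ∈ P, g * g = 1 ∨ g * g = z)
    (hconj : ∀ g ∈ P, ∀ g' ∈ P, g ≠ 1 → g ≠ z → g' ≠ 1 → g' ≠ z →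
      ∃ n : Γ, n * g * n⁻¹ = g' ∨ n * g * n⁻¹ = g' * z) : z ∉ ⁅P, P⁆ := by
  classical
  -- squaring is constant outside `{1, z}`
  have hconst : ∀ g ∈ P, ∀ g' ∈ P, g ≠ 1 → g ≠ z → g' ≠ 1 → g' ≠ z → g * g = g' * g' := by
    intro g hg g' hg' h1 h2 h3 h4
    obtain ⟨n, hn⟩ := hconj g hg g' hg' h1 h2 h3 h4
    have hcen : n * (g * g) * n⁻¹ = g * g := by
      rcases hsq g hg with h | h
      · rw [h]; group
      · rw [h, hzc n]; group
    have hsqn : n * (g * g) * n⁻¹ = (n * g * n⁻¹) * (n * g * n⁻¹) := by group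
    rw [hsqn] at hcen
    rcases hn with hn | hn
    · rw [hn] at hcen; exact hcen.symm
    · rw [hn] at hcen
      have : g' * z * (g' * z) = g' * g' := by
        calc g' * z * (g' * z) = g' * (z * g') * z := by group
          _ = g' * (g' * z) * z := by rw [hzc g']
          _ = g' * g' * (z * z) := by group
          _ = g' * g' := by rw [hz2, mul_one]
      rw [this] at hcen
      exact hcen.symm
  by_cases hA : ∀ g ∈ P, g * g = 1
  · -- exponent 2, hence abelian
    have hcomm : ∀ a ∈ P, ∀ b ∈ P, a * b = b * a := by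
      intro a ha b hb
      have h1 := hA a ha
      have h2 := hA b hb
      have h3 := hA (a * b) (P.mul_mem ha hb)
      have ha' : a⁻¹ = a := by
        rw [inv_eq_iff_mul_eq_one]; exact h1
      have hb' : b⁻¹ = b := by
        rw [inv_eq_iff_mul_eq_one]; exact h2
      have : a * b = (a * b)⁻¹ := by
        rw [eq_comm, inv_eq_iff_mul_eq_one]; exact h3
      rw [this, mul_inv_rev, ha', hb']
    have hbot : ⁅P, P⁆ = ⊥ := by
      rw [Subgroup.commutator_eq_bot_iff_le_centralizer]
      intro a ha
      rw [Subgroup.mem_centralizer_iff]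
      intro b hb
      exact hcomm b hb a ha
    rw [hbot, Subgroup.mem_bot]
    exact hz1
  · exfalso
    push Not at hA
    obtain ⟨g₀, hg₀P, hg₀⟩ := hA
    have hg₀z : g₀ * g₀ = z := by
      rcases hsq g₀ hg₀P with h | h
      · exact absurd h hg₀
      · exact h
    have hg₀1 : g₀ ≠ 1 := by
      rintro rfl
      simp at hg₀
    have hg₀z' : g₀ ≠ z := by
      rintro rfl
      exact hg₀ hz2
    -- all elements outside `{1, z}` square to `z`
    have hall : ∀ g ∈ P, g ≠ 1 → g ≠ z → g * g = z := by
      intro g hg h1 h2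
      rw [hconst g hg g₀ hg₀P h1 h2 hg₀1 hg₀z', hg₀z]
    have hinv : ∀ g ∈ P, g ≠ 1 → g ≠ z → g⁻¹ = g * z := by
      intro g hg h1 h2
      rw [inv_eq_iff_mul_eq_one]
      calc g * (g * z) = g * g * z := by group
        _ = 1 := by rw [hall g hg h1 h2, hz2]
    -- the key commutation relation
    have hkey : ∀ a ∈ P, ∀ b ∈ P, a ≠ 1 → a ≠ z → b ≠ 1 → b ≠ z → a * b ≠ 1 → a * b ≠ z →
        b * a = a * b * z := by
      intro a ha b hb ha1 haz hb1 hbz hab1 habz
      have h1 := hinv a ha ha1 haz
      have h2 := hinv b hb hb1 hbz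
      have e1 := hall (a * b) (P.mul_mem ha hb) hab1 habz
      have h4 : b * a = a⁻¹ * (a * b * (a * b)) * b⁻¹ := by group
      rw [h4, e1, h1, h2]
      calc a * z * z * (b * z) = a * (z * z) * (b * z) := by group
        _ = a * b * z := by rw [hz2]; group
    -- choose `x`, `y`, `w`
    obtain ⟨x, hxP, hxS⟩ := exists_mem_notMem_finset P ({1, z} : Finset Γ) (by
      rw [hcard]
      exact lt_of_le_of_lt (Finset.card_le_two) (by norm_num))
    have hx1 : x ≠ 1 := fun h => hxS (by simp [h])
    have hxz : x ≠ z := fun h => hxS (by simp [h])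
    obtain ⟨y, hyP, hyS⟩ := exists_mem_notMem_finset P ({1, z, x, x * z} : Finset Γ) (by
      rw [hcard]
      exact lt_of_le_of_lt (Finset.card_le_four) (by norm_num))
    have hy1 : y ≠ 1 := fun h => hyS (by simp [h])
    have hyz : y ≠ z := fun h => hyS (by simp [h])
    have hyx : y ≠ x := fun h => hyS (by simp [h])
    have hyxz : y ≠ x * z := fun h => hyS (by simp [h])
    have hxinv := hinv x hxP hx1 hxz
    have hyinv := hinv y hyP hy1 hyz
    have hxy1 : x * y ≠ 1 := by
      intro h
      apply hyxz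
      rw [← hxinv, eq_comm, inv_eq_iff_mul_eq_one]; exact h
    have hxyz : x * y ≠ z := by
      intro h
      apply hyx
      have : y = x⁻¹ * z := by rw [← h]; group
      rw [this, hxinv, mul_assoc, hz2, mul_one]
    have hxyP : x * y ∈ P := P.mul_mem hxP hyP
    have hxyinv := hinv (x * y) hxyP hxy1 hxyz
    obtain ⟨w, hwP, hwS⟩ := exists_mem_notMem_finset P
      ({1, z, x, x * z, y, y * z, x * y, x * y * z} : Finset Γ) (by
      rw [hcard]
      refine lt_of_le_of_lt ((Finset.card_insert_le _ _).trans (Nat.succ_le_succ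
        ((Finset.card_insert_le _ _).trans (Nat.succ_le_succ Finset.card_le_six)))) (by norm_num))
    have hw1 : w ≠ 1 := fun h => hwS (by simp [h])
    have hwz : w ≠ z := fun h => hwS (by simp [h])
    have hwx : w ≠ x := fun h => hwS (by simp [h])
    have hwxz : w ≠ x * z := fun h => hwS (by simp [h])
    have hwy : w ≠ y := fun h => hwS (by simp [h])
    have hwyz : w ≠ y * z := fun h => hwS (by simp [h])
    have hwxy : w ≠ x * y := fun h => hwS (by simp [h])
    have hwxyz : w ≠ x * y * z := fun h => hwS (by simp [h])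
    -- generic: `a * w ∉ {1, z}` when `w ∉ {a, a z}`
    have hgen : ∀ a ∈ P, a ≠ 1 → a ≠ z → w ≠ a → w ≠ a * z → a * w ≠ 1 ∧ a * w ≠ z := by
      intro a ha ha1 haz hwa hwaz
      have hainv := hinv a ha ha1 haz
      constructor
      · intro h
        apply hwaz
        rw [← hainv, eq_comm, inv_eq_iff_mul_eq_one]; exact h
      · intro h
        apply hwa
        have : w = a⁻¹ * z := by rw [← h]; group
        rw [this, hainv, mul_assoc, hz2, mul_one]
    obtain ⟨hxw1, hxwz⟩ := hgen x hxP hx1 hxz hwx hwxz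
    obtain ⟨hyw1, hywz⟩ := hgen y hyP hy1 hyz hwy hwyz
    obtain ⟨hxyw1, hxywz⟩ := hgen (x * y) hxyP hxy1 hxyz hwxy hwxyz
    have r1 := hkey x hxP w hwP hx1 hxz hw1 hwz hxw1 hxwz
    have r2 := hkey y hyP w hwP hy1 hyz hw1 hwz hyw1 hywz
    have r3 := hkey (x * y) hxyP w hwP hxy1 hxyz hw1 hwz hxyw1 hxywz
    have r4 : w * (x * y) = x * y * w := by
      calc w * (x * y) = (w * x) * y := by group
        _ = x * w * z * y := by rw [r1]
        _ = x * w * (z * y) := by group
        _ = x * w * (y * z) := by rw [hzc y]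
        _ = x * (w * y) * z := by group
        _ = x * (y * w * z) * z := by rw [r2]
        _ = x * y * w * (z * z) := by group
        _ = x * y * w := by rw [hz2, mul_one]
    rw [r4] at r3
    apply hz1
    have : x * y * w * 1 = x * y * w * z := by rw [mul_one]; exact r3
    exact (mul_left_cancel this).symm

end Cfsg.Agent.Lib.Helper2.ReeMult2
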