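import Mathlib
import Cfsg.Agent.Lib.Helper6.Symp

set_option autoImplicit false

namespace Cfsg.Agent.Lib.Helper2

open Matrix Cfsg.Agent.Lib.Helper6

variable {m : ℕ} {F : Type*} [Field F]

/-- for a nonzero vector there is a vector pairing non-trivially with it -/
theorem exists_sympForm_ne_zero {v : Fin m ⊕ Fin m → F} (hv : v ≠ 0) :
    ∃ x : Fin m ⊕ Fin m → F, Cfsg.sympForm m F x v ≠ 0 := by
  classical
  obtain ⟨k, hk⟩ : ∃ k, v k ≠ 0 := by
    by_contra h
    push Not at h
    exact hv (funext h)
  rcases k with i | i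
  · refine ⟨Pi.single (Sum.inr i) 1, ?_⟩
    rw [sympForm_eq_sum]
    simp [Pi.single_apply, hk]
  · refine ⟨Pi.single (Sum.inl i) 1, ?_⟩
    rw [sympForm_eq_sum]
    simp [Pi.single_apply, hk]

/-- a matrix commuting with all symplectic transvections has every vector as an eigenvector -/
theorem symp_central_eigen (A : Matrix (Fin m ⊕ Fin m) (Fin m ⊕ Fin m) F)
    (hA : ∀ v : Fin m ⊕ Fin m → F,
      A * Cfsg.sympTransvection m v 1 = Cfsg.sympTransvection m v 1 * A)
    (v : Fin m ⊕ Fin m → F) : ∃ μ : F, A *ᵥ v = μ • v := by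
  by_cases hv : v = 0
  · exact ⟨0, by simp [hv]⟩
  · obtain ⟨x, hx⟩ := exists_sympForm_ne_zero hv
    have h := congrArg (· *ᵥ x) (hA v)
    simp only [← mulVec_mulVec, sympTransvection_mulVec] at h
    rw [mulVec_add, mulVec_smul] at h
    have h2 : Cfsg.sympForm m F x v • A *ᵥ v = Cfsg.sympForm m F (A *ᵥ x) v • v := by
      simpa using h
    refine ⟨(Cfsg.sympForm m F x v)⁻¹ * Cfsg.sympForm m F (A *ᵥ x) v, ?_⟩
    rw [mul_smul, ← h2, smul_smul, inv_mul_cancel₀ hx, one_smul]

/-- a matrix commuting with all symplectic transvections is scalar -/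
theorem symp_central_scalar (A : Matrix (Fin m ⊕ Fin m) (Fin m ⊕ Fin m) F)
    (hA : ∀ v : Fin m ⊕ Fin m → F,
      A * Cfsg.sympTransvection m v 1 = Cfsg.sympTransvection m v 1 * A) :
    ∃ μ : F, A = μ • (1 : Matrix (Fin m ⊕ Fin m) (Fin m ⊕ Fin m) F) := by
  have h : ∀ v, ¬ LinearIndependent F ![v, Matrix.toLin' A v] := by
    intro v hli
    obtain ⟨μ, hμ⟩ := symp_central_eigen A hA v
    rw [LinearIndependent.pair_iff] at hli
    have := hli μ (-1) (by rw [Matrix.toLin'_apply, hμ]; simp)
    exact one_ne_zero (neg_eq_zero.mp this.2)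
  obtain ⟨a, ha⟩ := LinearMap.exists_eq_smul_id_of_forall_notLinearIndependent h
  refine ⟨a, ?_⟩
  apply Matrix.toLin'.injective
  rw [ha]
  ext x
  simp

end Cfsg.Agent.Lib.Helper2

namespace Cfsg.Agent.Lib.Helper2

open Matrix Cfsg.Agent.Lib.Helper6

variable {m : ℕ} {F : Type*} [Field F]

/-- elements of the centre of the symplectic group are `±1` -/
theorem symp_center_coe (hm : 1 ≤ m) (A : symplecticGroup (Fin m) F)
    (hA : A ∈ Subgroup.center (symplecticGroup (Fin m) F)) :
    (A : Matrix (Fin m ⊕ Fin m) (Fin m ⊕ Fin m) F) = 1 ∨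
      (A : Matrix (Fin m ⊕ Fin m) (Fin m ⊕ Fin m) F) = -1 := by
  have hcomm : ∀ v : Fin m ⊕ Fin m → F,
      (A : Matrix _ _ F) * Cfsg.sympTransvection m v 1 =
        Cfsg.sympTransvection m v 1 * (A : Matrix _ _ F) := by
    intro v
    have h := (Subgroup.mem_center_iff.mp hA) ⟨_, sympTransvection_mem v (1 : F)⟩
    have h2 := congrArg Subtype.val h
    exact h2.symm
  obtain ⟨μ, hμ⟩ := symp_central_scalar _ hcomm
  have hmem := A.2
  rw [SymplecticGroup.mem_iff', hμ] at hmem
  have h1 : (μ * μ) • Matrix.J (Fin m) F = Matrix.J (Fin m) F := by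
    simpa [smul_smul, Matrix.transpose_smul] using hmem
  have h2 := congrFun (congrFun h1 (Sum.inl ⟨0, hm⟩)) (Sum.inr ⟨0, hm⟩)
  simp [Matrix.J] at h2
  have h3 : (μ - 1) * (μ + 1) = 0 := by
    have : μ * μ = 1 := by linear_combination h2
    linear_combination this
  rcases mul_eq_zero.mp h3 with h | h
  · left
    rw [hμ, sub_eq_zero.mp h, one_smul]
  · right
    rw [hμ, eq_neg_of_add_eq_zero_left h]
    simp

end Cfsg.Agent.Lib.Helper2

namespace Cfsg.Agent.Lib.Helper2

open Matrix Cfsg.Agent.Lib.Helper6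

variable {m : ℕ} {F : Type*} [Field F]

/-- `-1` as an element of the symplectic group -/
def sympNegOne (m : ℕ) (F : Type*) [Field F] : symplecticGroup (Fin m) F :=
  ⟨-1, SymplecticGroup.neg_mem (one_mem _)⟩

theorem sympNegOne_mem_center : sympNegOne m F ∈ Subgroup.center (symplecticGroup (Fin m) F) := by
  rw [Subgroup.mem_center_iff]
  intro g
  apply Subtype.ext
  simp [sympNegOne]

theorem symp_center_eq_pair (hm : 1 ≤ m) :
    ((Subgroup.center (symplecticGroup (Fin m) F) : Subgroup _) : Set (symplecticGroup (Fin m) F))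
      = {1, sympNegOne m F} := by
  ext A
  simp only [SetLike.mem_coe, Set.mem_insert_iff, Set.mem_singleton_iff]
  constructor
  · intro hA
    rcases symp_center_coe hm A hA with h | h
    · left; exact Subtype.ext h
    · right; exact Subtype.ext h
  · rintro (rfl | rfl)
    · exact one_mem _
    · exact sympNegOne_mem_center

theorem card_center_symplecticGroup [Fintype F] (hm : 1 ≤ m) :
    Nat.card (Subgroup.center (symplecticGroup (Fin m) F)) = Nat.gcd 2 (Fintype.card F - 1) := by
  have h1 : Nat.card (Subgroup.center (symplecticGroup (Fin m) F))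
      = Set.ncard ({1, sympNegOne m F} : Set (symplecticGroup (Fin m) F)) := by
    rw [← symp_center_eq_pair hm, ← Nat.card_coe_set_eq]
    rfl
  rw [h1]
  have hq2 : 2 ≤ Fintype.card F := Fintype.one_lt_card
  by_cases h2 : ringChar F = 2
  · have hev : Fintype.card F % 2 = 0 := FiniteField.even_card_iff_char_two.mp h2
    have h20 : (2 : F) = 0 := by
      have := (ringChar.spec F 2).mpr (by rw [h2])
      exact_mod_cast this
    have hneg : (-1 : F) = 1 := by linear_combination (-1 : F) * h20
    have hn1 : sympNegOne m F = 1 := by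
      apply Subtype.ext
      show (-1 : Matrix _ _ F) = 1
      ext i j
      by_cases hij : i = j
      · subst hij
        simp [hneg]
      · simp [hij]
    rw [hn1, Set.pair_eq_singleton, Set.ncard_singleton]
    have hodd : (Fintype.card F - 1) % 2 = 1 := by omega
    have : Nat.Coprime 2 (Fintype.card F - 1) := by
      rw [Nat.coprime_two_left]
      exact Nat.odd_iff.mpr hodd
    exact (Nat.Coprime.gcd_eq_one this).symm
  · have hodd : Fintype.card F % 2 = 1 := FiniteField.odd_card_of_char_ne_two h2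
    have h20 : (2 : F) ≠ 0 := by
      intro h
      apply h2
      have hd : ringChar F ∣ 2 := (ringChar.spec F 2).mp (by exact_mod_cast h)
      have hp : (ringChar F).Prime := CharP.char_is_prime F (ringChar F)
      exact (Nat.prime_dvd_prime_iff_eq hp Nat.prime_two).mp hd
    have hn1 : (1 : symplecticGroup (Fin m) F) ≠ sympNegOne m F := by
      intro h
      have h3 := congrArg Subtype.val h
      have h4 := congrFun (congrFun h3 (Sum.inl ⟨0, hm⟩)) (Sum.inl ⟨0, hm⟩)
      simp [sympNegOne] at h4
      apply h20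
      linear_combination h4
    rw [Set.ncard_pair hn1]
    have : 2 ∣ Fintype.card F - 1 := by omega
    exact (Nat.gcd_eq_left this).symm

end Cfsg.Agent.Lib.Helper2
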