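import Mathlib
import Cfsg.Prelude.Def_Characters
import Cfsg.Agent.Lib.Helper2.CharBasic
import Cfsg.Agent.Lib.Helper2.Column

/-!
# Galois conjugates of character values; rational-valued characters
(helper2 library)
-/

set_option autoImplicit false

namespace Cfsg.Agent.Lib.Helper2

open Module Polynomial
open scoped ComplexConjugate

section Abstract

/-- Galois descent for sums of roots of unity: a sum of powers of a primitive `N`-th root of unity
that is invariant under all the substitutions `ζ ↦ ζ ^ m`, `m` prime to `N`, is rational. -/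
theorem exists_rat_of_forall_pow_sum_eq (N : ℕ) [NeZero N] {K : Type*} [Field K] [Algebra ℚ K]
    [IsCyclotomicExtension {N} ℚ K] (φ : K →+* ℂ) (ζK : K) (hζK : IsPrimitiveRoot ζK N)
    {ι : Type*} [Fintype ι] (k : ι → ℕ)
    (h : ∀ m : ℕ, m.Coprime N → ∑ i, (φ ζK) ^ (m * k i) = ∑ i, (φ ζK) ^ (k i)) :
    ∃ q : ℚ, ∑ i, (φ ζK) ^ (k i) = (q : ℂ) := by
  haveI : IsGalois ℚ K := IsCyclotomicExtension.isGalois {N} ℚ K
  haveI : FiniteDimensional ℚ K := IsCyclotomicExtension.finiteDimensional {N} ℚ K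
  have hN : 0 < N := Nat.pos_of_ne_zero (NeZero.ne N)
  set αK : K := ∑ i, ζK ^ (k i) with hαK
  have hφα : φ αK = ∑ i, (φ ζK) ^ (k i) := by
    rw [hαK, map_sum]; simp only [map_pow]
  have hfix : ∀ σ : K ≃ₐ[ℚ] K, σ αK = αK := by
    intro σ
    have h1 : (σ ζK) ^ N = 1 := by rw [← map_pow, hζK.pow_eq_one, map_one]
    obtain ⟨m, _, hm⟩ := hζK.eq_pow_of_pow_eq_one h1
    have hprim : IsPrimitiveRoot (σ ζK) N := hζK.map_of_injective σ.injective
    rw [← hm] at hprim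
    have hcop : m.Coprime N := (hζK.pow_iff_coprime hN m).mp hprim
    apply φ.injective
    rw [hφα, hαK, map_sum, map_sum]
    simp only [map_pow, ← hm]
    rw [← h m hcop]
    apply Finset.sum_congr rfl
    intro i _
    rw [pow_mul]
  have hbot : αK ∈ (⊥ : IntermediateField ℚ K) := (IsGalois.mem_bot_iff_fixed αK).mpr hfix
  rw [IntermediateField.mem_bot] at hbot
  obtain ⟨q, hq⟩ := hbot
  refine ⟨q, ?_⟩
  rw [← hφα, ← hq, eq_ratCast (algebraMap ℚ K) q, map_ratCast]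

/-- The same statement for an arbitrary primitive `N`-th root of unity in `ℂ`. -/
theorem exists_rat_of_forall_pow_sum_eq' (N : ℕ) [NeZero N] (ζ : ℂ) (hζ : IsPrimitiveRoot ζ N)
    {ι : Type*} [Fintype ι] (k : ι → ℕ)
    (h : ∀ m : ℕ, m.Coprime N → ∑ i, ζ ^ (m * k i) = ∑ i, ζ ^ (k i)) :
    ∃ q : ℚ, ∑ i, ζ ^ (k i) = (q : ℂ) := by
  letI : Algebra ℚ (CyclotomicField N ℚ) := CyclotomicField.algebra N ℚ
  haveI : IsCyclotomicExtension {N} ℚ (CyclotomicField N ℚ) :=
    CyclotomicField.isCyclotomicExtension N ℚ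
  haveI : FiniteDimensional ℚ (CyclotomicField N ℚ) :=
    IsCyclotomicExtension.finiteDimensional {N} ℚ _
  let φ : CyclotomicField N ℚ →ₐ[ℚ] ℂ := IsAlgClosed.lift
  obtain ⟨ζK, hζK⟩ := IsCyclotomicExtension.exists_isPrimitiveRoot ℚ (CyclotomicField N ℚ)
    (Set.mem_singleton N) (NeZero.ne N)
  have hφζ : IsPrimitiveRoot (φ ζK) N := hζK.map_of_injective φ.toRingHom.injective
  -- `ζ` is a power of `φ ζK` and conversely
  obtain ⟨a, _, ha⟩ := hφζ.eq_pow_of_pow_eq_one hζ.pow_eq_one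
  have hN : 0 < N := Nat.pos_of_ne_zero (NeZero.ne N)
  have hacop : a.Coprime N := by
    rw [← ha] at hζ
    exact (hφζ.pow_iff_coprime hN a).mp hζ
  obtain ⟨b, _, hb⟩ := hζ.eq_pow_of_pow_eq_one hφζ.pow_eq_one
  have hbcop : b.Coprime N := by
    rw [← hb] at hφζ
    exact (hζ.pow_iff_coprime hN b).mp hφζ
  -- apply the abstract statement with exponents `a * k i`
  have key := exists_rat_of_forall_pow_sum_eq N φ.toRingHom ζK hζK (fun i => a * k i) (by
    intro m hm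
    have e1 : ∀ i, (φ.toRingHom ζK) ^ (m * (a * k i)) = ζ ^ (m * k i) := by
      intro i
      change (φ ζK) ^ (m * (a * k i)) = ζ ^ (m * k i)
      rw [← ha, ← pow_mul]; congr 1; ring
    have e2 : ∀ i, (φ.toRingHom ζK) ^ (a * k i) = ζ ^ (k i) := by
      intro i
      change (φ ζK) ^ (a * k i) = ζ ^ (k i)
      rw [← ha, ← pow_mul]
    simp only [e1, e2]
    exact h m hm)
  obtain ⟨q, hq⟩ := key
  refine ⟨q, ?_⟩
  rw [← hq]
  apply Finset.sum_congr rfl
  intro i _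
  change ζ ^ (k i) = (φ ζK) ^ (a * k i)
  rw [← ha, ← pow_mul]

/-- If a rational combination `∑ ζ^(k i)` of powers of a primitive `N`-th root of unity is
rational, then it is unchanged under `ζ ↦ ζ ^ m` for `m` prime to `N`. -/
theorem pow_sum_eq_of_rat (N : ℕ) (hN : 0 < N) (ζ : ℂ) (hζ : IsPrimitiveRoot ζ N)
    {ι : Type*} [Fintype ι] (k : ι → ℕ) (q : ℚ) (hq : ∑ i, ζ ^ (k i) = (q : ℂ))
    (m : ℕ) (hm : m.Coprime N) : ∑ i, ζ ^ (m * k i) = (q : ℂ) := by
  let P : ℚ[X] := ∑ i, X ^ (k i) - C q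
  have hP : ∀ z : ℂ, aeval z P = ∑ i, z ^ (k i) - (q : ℂ) := by
    intro z
    simp only [P, map_sub, map_sum, map_pow, aeval_X, aeval_C, eq_ratCast]
  have h0 : aeval ζ P = 0 := by rw [hP, hq, sub_self]
  have hdvd : cyclotomic N ℚ ∣ P := by
    rw [cyclotomic_eq_minpoly_rat hζ hN]
    exact minpoly.dvd ℚ ζ h0
  have hζm : IsPrimitiveRoot (ζ ^ m) N := hζ.pow_of_coprime m hm
  have hroot : aeval (ζ ^ m) (cyclotomic N ℚ) = 0 := by
    rw [aeval_def, eval₂_eq_eval_map, map_cyclotomic]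
    exact hζm.isRoot_cyclotomic hN
  have h1 : aeval (ζ ^ m) P = 0 := by
    obtain ⟨Q, hQ⟩ := hdvd
    rw [hQ, map_mul, hroot, zero_mul]
  rw [hP] at h1
  have h2 := sub_eq_zero.mp h1
  rw [← h2]
  apply Finset.sum_congr rfl
  intro i _
  rw [pow_mul]

end Abstract

section Characters

variable {G : Type*} [Group G] [Finite G]
variable {V : Type*} [AddCommGroup V] [Module ℂ V] [FiniteDimensional ℂ V]

/-- Eigenvalues of `ρ g` as powers of a fixed primitive `|G|`-th root of unity. -/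
theorem exists_exponents (ρ : Representation ℂ G V) (g : G) (ζ : ℂ)
    (hζ : IsPrimitiveRoot ζ (Nat.card G)) :
    ∃ k : Fin (finrank ℂ V) → ℕ, ∀ m : ℕ, ρ.character (g ^ m) = ∑ i, ζ ^ (m * k i) := by
  haveI : NeZero (Nat.card G) := ⟨Nat.card_pos.ne'⟩
  obtain ⟨μ, hμ1, hμ2, _⟩ := exists_eigenvalues ρ g
  have hμN : ∀ i, μ i ^ Nat.card G = 1 := by
    intro i
    obtain ⟨c, hc⟩ := orderOf_dvd_natCard g
    rw [hc, pow_mul, hμ1, one_pow]
  have hex : ∀ i, ∃ k, k < Nat.card G ∧ ζ ^ k = μ i := fun i => hζ.eq_pow_of_pow_eq_one (hμN i)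
  choose k _ hk using hex
  refine ⟨k, fun m => ?_⟩
  rw [hμ2 m]
  apply Finset.sum_congr rfl
  intro i _
  rw [← hk i, ← pow_mul, mul_comm]

/-- If `χ(g)` is rational and `m` is prime to `|G|`, then `χ(g^m) = χ(g)`. -/
theorem char_pow_eq_of_rat (ρ : Representation ℂ G V) (g : G) (q : ℚ)
    (hq : ρ.character g = (q : ℂ)) (m : ℕ) (hm : m.Coprime (Nat.card G)) :
    ρ.character (g ^ m) = ρ.character g := by
  have hN : Nat.card G ≠ 0 := Nat.card_pos.ne'
  have hζ := Complex.isPrimitiveRoot_exp (Nat.card G) hN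
  obtain ⟨k, hk⟩ := exists_exponents ρ g _ hζ
  have h1 := hk 1
  simp only [pow_one, one_mul] at h1
  rw [hk m, hq]
  exact pow_sum_eq_of_rat _ Nat.card_pos _ hζ k q (by rw [← h1, hq]) m hm

/-- If `χ(g^m) = χ(g)` for all `m` prime to `|G|`, then `χ(g)` is rational. -/
theorem char_rat_of_forall_pow_eq (ρ : Representation ℂ G V) (g : G)
    (h : ∀ m : ℕ, m.Coprime (Nat.card G) → ρ.character (g ^ m) = ρ.character g) :
    ∃ q : ℚ, ρ.character g = (q : ℂ) := by
  have hN : Nat.card G ≠ 0 := Nat.card_pos.ne'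
  haveI : NeZero (Nat.card G) := ⟨hN⟩
  have hζ := Complex.isPrimitiveRoot_exp (Nat.card G) hN
  obtain ⟨k, hk⟩ := exists_exponents ρ g _ hζ
  have h1 := hk 1
  simp only [pow_one, one_mul] at h1
  rw [h1]
  apply exists_rat_of_forall_pow_sum_eq' _ _ hζ
  intro m hm
  rw [← hk m, ← h1]
  exact h m hm

/-- All irreducible characters are rational-valued iff `g` is conjugate to `g ^ m` for all `m`
prime to `|G|`. -/
theorem rational_iff_conj_pow :
    (∀ χ : Cfsg.IrrCharacter G, ∀ g : G, ∃ q : ℚ, (χ : G → ℂ) g = (q : ℂ)) ↔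
      ∀ m : ℕ, m.Coprime (Nat.card G) → ∀ g : G, IsConj g (g ^ m) := by
  classical
  haveI : Fintype G := Fintype.ofFinite G
  constructor
  · intro h m hm g
    rw [isConj_iff_forall_irrCharacter]
    intro χ
    obtain ⟨n, ρ, _, hρ⟩ := χ.2
    obtain ⟨q, hq⟩ := h χ g
    rw [← hρ] at hq ⊢
    exact (char_pow_eq_of_rat ρ g q hq m hm).symm
  · intro h χ g
    obtain ⟨n, ρ, _, hρ⟩ := χ.2
    rw [← hρ]
    apply char_rat_of_forall_pow_eq
    intro m hm
    have hc := h m hm g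
    obtain ⟨c, hc⟩ := isConj_iff.mp hc
    rw [← hc, Representation.char_conj]

end Characters

end Cfsg.Agent.Lib.Helper2
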