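import Mathlib

/-!
# The subgroup generated by two involutions
(helper2 library)

`x y : G` with `x * x = 1`, `y * y = 1`, `u = x * y`.  Every element of `closure {x, y}` is
`u ^ k` or `u ^ k * x`.
-/

set_option autoImplicit false

namespace Cfsg.Agent.Lib.Helper2

variable {G : Type*} [Group G]

namespace TwoInv

theorem sq_of_orderOf {t : G} (h : orderOf t = 2) : t * t = 1 := by
  rw [← pow_two, ← h]; exact pow_orderOf_eq_one t

theorem inv_of_sq {t : G} (h : t * t = 1) : t⁻¹ = t := inv_eq_of_mul_eq_one_left h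

theorem ne_one_of_orderOf {t : G} (h : orderOf t = 2) : t ≠ 1 := by
  intro h1; rw [h1, orderOf_one] at h; omega

/-- `x` inverts `x * y`. -/
theorem conj_left {x y : G} (hx : x * x = 1) (hy : y * y = 1) :
    x * (x * y) * x⁻¹ = (x * y)⁻¹ := by
  rw [inv_of_sq hx, mul_inv_rev, inv_of_sq hx, inv_of_sq hy, ← mul_assoc x x y, hx, one_mul]

/-- `y` inverts `x * y`. -/
theorem conj_right {x y : G} (hx : x * x = 1) (hy : y * y = 1) :
    y * (x * y) * y⁻¹ = (x * y)⁻¹ := by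
  rw [inv_of_sq hy, mul_inv_rev, inv_of_sq hx, inv_of_sq hy, mul_assoc, mul_assoc, hy, mul_one]

theorem conj_zpow_left {x y : G} (hx : x * x = 1) (hy : y * y = 1) (k : ℤ) :
    x * (x * y) ^ k * x⁻¹ = (x * y) ^ (-k) := by
  have h := map_zpow (MulAut.conj x) (x * y) k
  simp only [MulAut.conj_apply] at h
  rw [h, conj_left hx hy, inv_zpow, zpow_neg]

theorem conj_zpow_right {x y : G} (hx : x * x = 1) (hy : y * y = 1) (k : ℤ) :
    y * (x * y) ^ k * y⁻¹ = (x * y) ^ (-k) := by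
  have h := map_zpow (MulAut.conj y) (x * y) k
  simp only [MulAut.conj_apply] at h
  rw [h, conj_right hx hy, inv_zpow, zpow_neg]

/-- `x * u ^ k = u ^ (-k) * x`. -/
theorem mul_zpow_left {x y : G} (hx : x * x = 1) (hy : y * y = 1) (k : ℤ) :
    x * (x * y) ^ k = (x * y) ^ (-k) * x := by
  rw [← conj_zpow_left hx hy k]; group

theorem y_eq' {x y : G} (hx : x * x = 1) (hy : y * y = 1) : y = (x * y) ^ (-1 : ℤ) * x := by
  rw [zpow_neg, zpow_one, mul_inv_rev, inv_of_sq hx, inv_of_sq hy, mul_assoc, hx, mul_one]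

/-- The "dihedral" subgroup `{u ^ k} ∪ {u ^ k * x}`. -/
def dih (x y : G) (hx : x * x = 1) (hy : y * y = 1) : Subgroup G where
  carrier := {d | (∃ k : ℤ, d = (x * y) ^ k) ∨ (∃ k : ℤ, d = (x * y) ^ k * x)}
  one_mem' := Or.inl ⟨0, by simp⟩
  mul_mem' := by
    rintro a b (⟨k, rfl⟩ | ⟨k, rfl⟩) (⟨l, rfl⟩ | ⟨l, rfl⟩)
    · exact Or.inl ⟨k + l, by rw [zpow_add]⟩
    · exact Or.inr ⟨k + l, by rw [zpow_add, mul_assoc]⟩
    · refine Or.inr ⟨k - l, ?_⟩
      rw [mul_assoc, mul_zpow_left hx hy, ← mul_assoc, ← zpow_add, sub_eq_add_neg]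
    · refine Or.inl ⟨k - l, ?_⟩
      rw [mul_assoc, ← mul_assoc x, mul_zpow_left hx hy, mul_assoc _ x x, hx, mul_one,
        ← zpow_add, sub_eq_add_neg]
  inv_mem' := by
    rintro a (⟨k, rfl⟩ | ⟨k, rfl⟩)
    · exact Or.inl ⟨-k, by rw [zpow_neg]⟩
    · refine Or.inr ⟨k, ?_⟩
      rw [mul_inv_rev, inv_of_sq hx, ← zpow_neg, mul_zpow_left hx hy, neg_neg]

theorem closure_le_dih {x y : G} (hx : x * x = 1) (hy : y * y = 1) :
    Subgroup.closure ({x, y} : Set G) ≤ dih x y hx hy := by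
  rw [Subgroup.closure_le]
  intro z hz
  rcases hz with rfl | hz
  · exact Or.inr ⟨0, by simp⟩
  · rw [Set.mem_singleton_iff] at hz
    subst hz
    exact Or.inr ⟨-1, y_eq' hx hy⟩

theorem x_mem {x y : G} : x ∈ Subgroup.closure ({x, y} : Set G) :=
  Subgroup.subset_closure (by simp)

theorem y_mem {x y : G} : y ∈ Subgroup.closure ({x, y} : Set G) :=
  Subgroup.subset_closure (by simp)

theorem u_mem {x y : G} : x * y ∈ Subgroup.closure ({x, y} : Set G) :=
  mul_mem x_mem y_mem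

theorem u_zpow_mem {x y : G} (k : ℤ) : (x * y) ^ k ∈ Subgroup.closure ({x, y} : Set G) :=
  Subgroup.zpow_mem _ u_mem k

/-- Structure of the subgroup generated by two involutions. -/
theorem mem_closure_iff {x y : G} (hx : x * x = 1) (hy : y * y = 1) (d : G) :
    d ∈ Subgroup.closure ({x, y} : Set G) ↔
      (∃ k : ℤ, d = (x * y) ^ k) ∨ (∃ k : ℤ, d = (x * y) ^ k * x) := by
  constructor
  · intro h; exact closure_le_dih hx hy h
  · rintro (⟨k, rfl⟩ | ⟨k, rfl⟩)
    · exact u_zpow_mem k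
    · exact mul_mem (u_zpow_mem k) x_mem

/-- Reflections square to one. -/
theorem refl_sq {x y : G} (hx : x * x = 1) (hy : y * y = 1) (k : ℤ) :
    ((x * y) ^ k * x) * ((x * y) ^ k * x) = 1 := by
  rw [mul_assoc, ← mul_assoc x, mul_zpow_left hx hy, mul_assoc _ x x, hx, mul_one,
    ← zpow_add, add_neg_cancel, zpow_zero]

/-- conjugating `x` by a rotation -/
theorem rot_conj {x y : G} (hx : x * x = 1) (hy : y * y = 1) (k : ℤ) :
    (x * y) ^ k * x * ((x * y) ^ k)⁻¹ = (x * y) ^ (2 * k) * x := by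
  rw [← zpow_neg, mul_assoc, mul_zpow_left hx hy, neg_neg, ← mul_assoc, ← zpow_add, two_mul]

/-- conjugating `x` by a reflection -/
theorem refl_conj {x y : G} (hx : x * x = 1) (hy : y * y = 1) (k : ℤ) :
    ((x * y) ^ k * x) * x * ((x * y) ^ k * x)⁻¹ = (x * y) ^ (2 * k) * x := by
  rw [mul_inv_rev, ← rot_conj hx hy k, inv_of_sq hx]
  have : (x * y) ^ k * x * x * (x * ((x * y) ^ k)⁻¹) = (x * y) ^ k * (x * x) * x * ((x * y) ^ k)⁻¹ := by
    group
  rw [this, hx, mul_one]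

/-- every conjugate of `x` by an element of `⟨x, y⟩` is `u ^ (2 k) * x`. -/
theorem conj_x_of_mem {x y : G} (hx : x * x = 1) (hy : y * y = 1) {d : G}
    (hd : d ∈ Subgroup.closure ({x, y} : Set G)) :
    ∃ k : ℤ, d * x * d⁻¹ = (x * y) ^ (2 * k) * x := by
  rcases (mem_closure_iff hx hy d).mp hd with ⟨k, rfl⟩ | ⟨k, rfl⟩
  · exact ⟨k, rot_conj hx hy k⟩
  · exact ⟨k, refl_conj hx hy k⟩

/-- `x` is not a power of `x * y` (when `y ≠ 1`). -/
theorem x_not_mem_zpowers {x y : G} (hx : x * x = 1) (hy : y * y = 1) (hx1 : x ≠ 1)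
    (hy1 : y ≠ 1) : x ∉ Subgroup.zpowers (x * y) := by
  rintro ⟨k, hk⟩
  -- `x` commutes with `u`, so `u = u⁻¹`
  have hcomm : x * (x * y) = (x * y) * x := by
    have : x = (x * y) ^ k := hk.symm
    calc x * (x * y) = (x * y) ^ k * (x * y) := by rw [← this]
      _ = (x * y) * (x * y) ^ k := by rw [← zpow_add_one, ← zpow_one_add, add_comm]
      _ = (x * y) * x := by rw [← this]
  have hyx : y * x = x * y := by
    have h1 : x * (x * y) = y := by rw [← mul_assoc, hx, one_mul]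
    have h2 : x * (x * y * x) = y * x := by rw [← mul_assoc, ← mul_assoc, hx, one_mul]
    rw [← h2, ← hcomm, ← mul_assoc x, hx, one_mul]
  -- so `u * u = 1`
  have hu2 : (x * y) * (x * y) = 1 := by
    calc (x * y) * (x * y) = x * (y * x) * y := by group
      _ = x * (x * y) * y := by rw [hyx]
      _ = (x * x) * (y * y) := by group
      _ = 1 := by rw [hx, hy, one_mul]
  -- then `x = u ^ k ∈ {1, u}`
  have hk' : (x * y) ^ k = 1 ∨ (x * y) ^ k = x * y := by
    rcases Int.even_or_odd' k with ⟨m, rfl | rfl⟩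
    · left
      rw [zpow_mul, zpow_two, hu2, one_zpow]
    · right
      rw [zpow_add, zpow_mul, zpow_two, hu2, one_zpow, one_mul, zpow_one]
  rcases hk' with h | h
  · exact hx1 (by rw [← hk]; exact h)
  · apply hy1
    have : x * y = x := by rw [← h]; exact hk
    calc y = x * (x * y) := by rw [← mul_assoc, hx, one_mul]
      _ = x * x := by rw [this]
      _ = 1 := hx

/-- S0207: elements outside `⟨x * y⟩` are involutions. -/
theorem orderOf_eq_two_of_not_mem_zpowers {x y : G} (hx : x * x = 1) (hy : y * y = 1) {d : G}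
    (hd : d ∈ Subgroup.closure ({x, y} : Set G)) (hd' : d ∉ Subgroup.zpowers (x * y)) :
    orderOf d = 2 := by
  rcases (mem_closure_iff hx hy d).mp hd with ⟨k, rfl⟩ | ⟨k, rfl⟩
  · exact absurd ⟨k, rfl⟩ hd'
  · apply orderOf_eq_prime
    · rw [pow_two]; exact refl_sq hx hy k
    · intro h1
      exact hd' (by rw [h1]; exact one_mem _)

/-- S0208: if `x * y` has odd order then `x` and `y` are conjugate in `⟨x, y⟩`. -/
theorem exists_conj_of_odd {x y : G} (hx : x * x = 1) (hy : y * y = 1)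
    (hodd : Odd (orderOf (x * y))) :
    ∃ d ∈ Subgroup.closure ({x, y} : Set G), d * x * d⁻¹ = y := by
  obtain ⟨m, hm⟩ := hodd
  refine ⟨(x * y) ^ (m : ℤ), u_zpow_mem _, ?_⟩
  rw [rot_conj hx hy]
  conv_rhs => rw [y_eq' hx hy]
  congr 1
  have h1 : (x * y) ^ ((2 * m + 1 : ℕ) : ℤ) = 1 := by
    rw [zpow_natCast, ← hm]; exact pow_orderOf_eq_one _
  have h2 : (2 * (m : ℤ)) = ((2 * m + 1 : ℕ) : ℤ) + (-1) := by push_cast; ring
  rw [h2, zpow_add, h1, one_mul]

/-- S0210: if `x * y` has even order then `x` and `y` are not conjugate in `⟨x, y⟩`. -/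
theorem not_conj_of_even {x y : G} (hx : x * x = 1) (hy : y * y = 1)
    (heven : Even (orderOf (x * y))) {d : G} (hd : d ∈ Subgroup.closure ({x, y} : Set G)) :
    d * x * d⁻¹ ≠ y := by
  intro h
  obtain ⟨k, hk⟩ := conj_x_of_mem hx hy hd
  rw [h] at hk
  nth_rewrite 1 [y_eq' hx hy] at hk
  have h1 : (x * y) ^ (-1 : ℤ) = (x * y) ^ (2 * k) := mul_right_cancel hk
  have h2 : (x * y) ^ (2 * k + 1) = 1 := by
    rw [zpow_add, ← h1, zpow_one, zpow_neg, zpow_one, inv_mul_cancel]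
  have h3 : (orderOf (x * y) : ℤ) ∣ 2 * k + 1 := orderOf_dvd_iff_zpow_eq_one.mpr h2
  obtain ⟨m, hm⟩ := heven
  rw [hm] at h3
  have h4 : (2 : ℤ) ∣ 2 * k + 1 := dvd_trans ⟨m, by push_cast; ring⟩ h3
  omega

/-- S0209: the central involution of `⟨x, y⟩` when `x * y` has even order. -/
theorem central_involution {x y : G} (hx : x * x = 1) (hy : y * y = 1)
    (hpos : 0 < orderOf (x * y)) (heven : Even (orderOf (x * y))) :
    orderOf ((x * y) ^ (orderOf (x * y) / 2)) = 2 ∧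
      Commute ((x * y) ^ (orderOf (x * y) / 2)) x ∧
      Commute ((x * y) ^ (orderOf (x * y) / 2)) y := by
  obtain ⟨m, hm⟩ := heven
  have hm2 : orderOf (x * y) / 2 = m := by omega
  have hmpos : 0 < m := by omega
  have hz2 : (x * y) ^ m * (x * y) ^ m = 1 := by
    rw [← pow_add, ← hm]; exact pow_orderOf_eq_one _
  have hzne : (x * y) ^ m ≠ 1 := by
    apply pow_ne_one_of_lt_orderOf hmpos.ne'
    omega
  rw [hm2]
  refine ⟨orderOf_eq_prime (by rw [pow_two]; exact hz2) hzne, ?_, ?_⟩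
  · have h1 := conj_zpow_left hx hy (m : ℤ)
    rw [zpow_neg, zpow_natCast, inv_of_sq hz2] at h1
    exact (mul_inv_eq_iff_eq_mul.mp h1).symm
  · have h1 := conj_zpow_right hx hy (m : ℤ)
    rw [zpow_neg, zpow_natCast, inv_of_sq hz2] at h1
    exact (mul_inv_eq_iff_eq_mul.mp h1).symm

/-- S0211. -/
theorem conj_x_mul_central_iff {x y : G} (hx : x * x = 1) (hy : y * y = 1)
    (hpos : 0 < orderOf (x * y)) (heven : Even (orderOf (x * y))) :
    (∃ d ∈ Subgroup.closure ({x, y} : Set G),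
        d * x * d⁻¹ = x * (x * y) ^ (orderOf (x * y) / 2)) ↔ 4 ∣ orderOf (x * y) := by
  have hc := (central_involution hx hy hpos heven).2.1
  obtain ⟨m, hm⟩ := heven
  have hm2 : orderOf (x * y) / 2 = m := by omega
  rw [hm2] at hc ⊢
  have hxz : x * (x * y) ^ m = (x * y) ^ m * x := hc.eq.symm
  constructor
  · rintro ⟨d, hd, hdx⟩
    obtain ⟨k, hk⟩ := conj_x_of_mem hx hy hd
    rw [hdx, hxz] at hk
    have h1 : (x * y) ^ m = (x * y) ^ (2 * k) := mul_right_cancel hk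
    have h2 : (x * y) ^ (2 * k - (m : ℤ)) = 1 := by
      rw [zpow_sub, ← h1, zpow_natCast, mul_inv_cancel]
    have h3 : (orderOf (x * y) : ℤ) ∣ 2 * k - m := orderOf_dvd_iff_zpow_eq_one.mpr h2
    rw [hm] at h3 ⊢
    obtain ⟨c, hc⟩ := h3
    push_cast at hc
    have : (2 : ℤ) ∣ m := ⟨k - m * c, by linarith⟩
    have h4 : 2 ∣ m := by exact_mod_cast this
    obtain ⟨q, hq⟩ := h4
    exact ⟨q, by omega⟩
  · rintro ⟨q, hq⟩
    refine ⟨(x * y) ^ (q : ℤ), u_zpow_mem _, ?_⟩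
    rw [rot_conj hx hy, hxz]
    congr 1
    have : (2 * (q : ℤ)) = ((m : ℕ) : ℤ) := by
      have : 2 * q = m := by omega
      exact_mod_cast this
    rw [this, zpow_natCast]

/-- If `x * y` has `2`-power order, then `⟨x, y⟩` is a `2`-group. -/
theorem isPGroup_closure {x y : G} (hx : x * x = 1) (hy : y * y = 1) {a : ℕ}
    (ha : (x * y) ^ (2 ^ a) = 1) : IsPGroup 2 (Subgroup.closure ({x, y} : Set G)) := by
  rintro ⟨d, hd⟩
  rcases (mem_closure_iff hx hy d).mp hd with ⟨k, rfl⟩ | ⟨k, rfl⟩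
  · refine ⟨a, ?_⟩
    apply Subtype.ext
    rw [Subgroup.coe_pow, Subgroup.coe_one, Subgroup.coe_mk, ← zpow_natCast, ← zpow_mul,
      mul_comm, zpow_mul, zpow_natCast, ha, one_zpow]
  · refine ⟨1, ?_⟩
    apply Subtype.ext
    rw [Subgroup.coe_pow, Subgroup.coe_one, Subgroup.coe_mk, pow_one, pow_two]
    exact refl_sq hx hy k

end TwoInv

end Cfsg.Agent.Lib.Helper2
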