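import Mathlib
import Cfsg.Agent.Lib.Helper2.Dihedral

/-!
# Two involutions generate a dihedral group
(helper2 library)
-/

set_option autoImplicit false

namespace Cfsg.Agent.Lib.Helper2

variable {G : Type*} [Group G]

namespace TwoInv

/-- powers of `u` indexed by `ZMod (orderOf u)`, as an additive hom. -/
noncomputable def zmodPow (u : G) : ZMod (orderOf u) →+ Additive G :=
  ZMod.lift (orderOf u) ⟨zmultiplesHom (Additive G) (Additive.ofMul u), by
    rw [zmultiplesHom_apply, natCast_zsmul, ← ofMul_pow, pow_orderOf_eq_one]; rfl⟩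

theorem zmodPow_intCast (u : G) (k : ℤ) :
    (zmodPow u (k : ZMod (orderOf u))).toMul = u ^ k := by
  unfold zmodPow
  rw [ZMod.lift_coe]
  simp only [zmultiplesHom_apply]
  rfl

theorem zmodPow_exists (u : G) (i : ZMod (orderOf u)) :
    ∃ k : ℤ, (k : ZMod (orderOf u)) = i ∧ (zmodPow u i).toMul = u ^ k := by
  obtain ⟨k, rfl⟩ := ZMod.intCast_surjective i
  exact ⟨k, rfl, zmodPow_intCast u k⟩

theorem zmodPow_injective (u : G) : Function.Injective (zmodPow u) := by
  unfold zmodPow
  rw [ZMod.lift_injective]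
  intro m hm
  simp only [zmultiplesHom_apply] at hm
  have h1 : u ^ m = 1 := by
    have : Additive.ofMul (u ^ m) = 0 := by rw [ofMul_zpow]; exact hm
    exact this
  rw [ZMod.intCast_zmod_eq_zero_iff_dvd]
  exact orderOf_dvd_iff_zpow_eq_one.mpr h1

/-- the map `DihedralGroup n → G`. -/
noncomputable def dihFun (x y : G) : DihedralGroup (orderOf (x * y)) → G
  | DihedralGroup.r i => (zmodPow (x * y) i).toMul
  | DihedralGroup.sr i => x * (zmodPow (x * y) i).toMul

theorem x_mul_zmodPow {x y : G} (hx : x * x = 1) (hy : y * y = 1) (i : ZMod (orderOf (x * y))) :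
    x * (zmodPow (x * y) i).toMul = (zmodPow (x * y) (-i)).toMul * x := by
  obtain ⟨k, rfl, hk⟩ := zmodPow_exists (x * y) i
  rw [hk, ← Int.cast_neg, zmodPow_intCast, mul_zpow_left hx hy]

theorem zmodPow_add' (u : G) (i j : ZMod (orderOf u)) :
    (zmodPow u (i + j)).toMul = (zmodPow u i).toMul * (zmodPow u j).toMul := by
  rw [map_add]; rfl

/-- the hom `DihedralGroup n →* G`. -/
noncomputable def dihHom (x y : G) (hx : x * x = 1) (hy : y * y = 1) :
    DihedralGroup (orderOf (x * y)) →* G :=
  MonoidHom.mk' (dihFun x y) (by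
    intro a b
    cases a with
    | r i =>
      cases b with
      | r j =>
        change (zmodPow (x * y) (i + j)).toMul = _
        rw [zmodPow_add']; rfl
      | sr j =>
        change x * (zmodPow (x * y) (j - i)).toMul =
          (zmodPow (x * y) i).toMul * (x * (zmodPow (x * y) j).toMul)
        rw [← mul_assoc _ x, ← neg_neg i, ← x_mul_zmodPow hx hy, neg_neg, mul_assoc,
          ← zmodPow_add', sub_eq_add_neg, add_comm]
    | sr i =>
      cases b with
      | r j =>
        change x * (zmodPow (x * y) (i + j)).toMul =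
          (x * (zmodPow (x * y) i).toMul) * (zmodPow (x * y) j).toMul
        rw [zmodPow_add', mul_assoc]
      | sr j =>
        change (zmodPow (x * y) (j - i)).toMul =
          (x * (zmodPow (x * y) i).toMul) * (x * (zmodPow (x * y) j).toMul)
        rw [x_mul_zmodPow hx hy i, mul_assoc, ← mul_assoc x x, hx, one_mul, ← zmodPow_add',
          sub_eq_add_neg, add_comm])

theorem dihHom_r {x y : G} (hx : x * x = 1) (hy : y * y = 1) (i : ZMod (orderOf (x * y))) :
    dihHom x y hx hy (DihedralGroup.r i) = (zmodPow (x * y) i).toMul := rfl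

theorem dihHom_sr {x y : G} (hx : x * x = 1) (hy : y * y = 1) (i : ZMod (orderOf (x * y))) :
    dihHom x y hx hy (DihedralGroup.sr i) = x * (zmodPow (x * y) i).toMul := rfl

theorem dihHom_injective {x y : G} (hx : x * x = 1) (hy : y * y = 1) (hx1 : x ≠ 1)
    (hy1 : y ≠ 1) : Function.Injective (dihHom x y hx hy) := by
  rw [injective_iff_map_eq_one]
  intro a ha
  cases a with
  | r i =>
    rw [dihHom_r] at ha
    have : zmodPow (x * y) i = 0 := ha
    have h0 : i = 0 := zmodPow_injective (x * y) (by rw [this, map_zero])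
    rw [h0]; rfl
  | sr i =>
    exfalso
    rw [dihHom_sr] at ha
    obtain ⟨k, -, hk⟩ := zmodPow_exists (x * y) i
    rw [hk] at ha
    apply x_not_mem_zpowers hx hy hx1 hy1
    refine ⟨-k, ?_⟩
    change (x * y) ^ (-k) = x
    rw [zpow_neg]
    exact (eq_inv_of_mul_eq_one_left ha).symm

theorem dihHom_range {x y : G} (hx : x * x = 1) (hy : y * y = 1) :
    (dihHom x y hx hy).range = Subgroup.closure ({x, y} : Set G) := by
  apply le_antisymm
  · rintro _ ⟨a, rfl⟩
    cases a with
    | r i =>
      rw [dihHom_r]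
      obtain ⟨k, -, hk⟩ := zmodPow_exists (x * y) i
      rw [hk]; exact u_zpow_mem k
    | sr i =>
      rw [dihHom_sr]
      obtain ⟨k, -, hk⟩ := zmodPow_exists (x * y) i
      rw [hk]; exact mul_mem x_mem (u_zpow_mem k)
  · rw [Subgroup.closure_le]
    intro z hz
    rcases hz with rfl | hz
    · refine ⟨DihedralGroup.sr 0, ?_⟩
      rw [dihHom_sr, map_zero]
      exact mul_one _
    · rw [Set.mem_singleton_iff] at hz
      subst hz
      refine ⟨DihedralGroup.sr ((1 : ℤ) : ZMod (orderOf (x * z))), ?_⟩
      rw [dihHom_sr, zmodPow_intCast, zpow_one, ← mul_assoc, hx, one_mul]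

/-- S0206: two involutions generate a dihedral group. -/
theorem nonempty_mulEquiv_dihedral {x y : G} (hx : x * x = 1) (hy : y * y = 1) (hx1 : x ≠ 1)
    (hy1 : y ≠ 1) :
    Nonempty (↥(Subgroup.closure ({x, y} : Set G)) ≃* DihedralGroup (orderOf (x * y))) := by
  have e1 := MonoidHom.ofInjective (dihHom_injective hx hy hx1 hy1)
  have e2 := MulEquiv.subgroupCongr (dihHom_range hx hy)
  exact ⟨(e1.trans e2).symm⟩

end TwoInv

end Cfsg.Agent.Lib.Helper2
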