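/-
helper2: farm-out pieces FO-7a and FO-7b for helper5's S3360 (Huppert).
Exact signatures of notes/S3360Skel_helper5.lean.txt.
-/
import Mathlib

set_option autoImplicit false

namespace Cfsg.Agent.Lib.Helper2.S3360FO7

lemma mem_zpowers_of_pow_eq_one {Z : Type*} [Group Z] [Finite Z] [IsCyclic Z] {r : ℕ}
    (hr : r.Prime) {c d : Z} (hc : c ≠ 1) (hcr : c ^ r = 1) (hdr : d ^ r = 1) :
    d ∈ Subgroup.zpowers c := by
  classical
  haveI := Fintype.ofFinite Z
  haveI : Fact r.Prime := ⟨hr⟩
  have hS : (Finset.univ.filter fun a : Z => a ^ r = 1).card ≤ r :=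
    IsCyclic.card_pow_eq_one_le hr.pos
  have hord : orderOf c = r := orderOf_eq_prime hcr hc
  have hT : ((Subgroup.zpowers c : Set Z).toFinset).card = r := by
    rw [Set.toFinset_card]
    have : Fintype.card (Subgroup.zpowers c) = orderOf c := Fintype.card_zpowers
    rw [← hord, ← this]
    rfl
  have hsub : (Subgroup.zpowers c : Set Z).toFinset ⊆ Finset.univ.filter fun a : Z => a ^ r = 1 := by
    intro a ha
    rw [Set.mem_toFinset] at ha
    obtain ⟨k, rfl⟩ := Subgroup.mem_zpowers_iff.mp ha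
    simp only [Finset.mem_filter, Finset.mem_univ, true_and]
    rw [← zpow_natCast, ← zpow_mul, mul_comm, zpow_mul, zpow_natCast, hcr, one_zpow]
  have heq := Finset.eq_of_subset_of_card_le hsub (by rw [hT]; exact hS)
  have hd : d ∈ Finset.univ.filter fun a : Z => a ^ r = 1 := by simp [hdr]
  rw [← heq, Set.mem_toFinset] at hd
  exact hd

section FO7a

variable {M : Type*} [Group M]

/-- In a group where all commutators are central, `w ↦ [w,x]` is a homomorphism. -/
def commHom (hcl : ∀ x y w : M, (x * y * x⁻¹ * y⁻¹) * w = w * (x * y * x⁻¹ * y⁻¹)) (x : M) :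
    M →* M :=
  MonoidHom.mk' (fun w => w * x * w⁻¹ * x⁻¹) (by
    intro a b
    have h := hcl b x (a * x * a⁻¹ * x⁻¹)
    have h2 := hcl b x a
    calc a * b * x * (a * b)⁻¹ * x⁻¹ = a * (b * x * b⁻¹ * x⁻¹) * x * a⁻¹ * x⁻¹ := by group
      _ = (b * x * b⁻¹ * x⁻¹) * a * x * a⁻¹ * x⁻¹ := by rw [h2]
      _ = (b * x * b⁻¹ * x⁻¹) * (a * x * a⁻¹ * x⁻¹) := by group
      _ = (a * x * a⁻¹ * x⁻¹) * (b * x * b⁻¹ * x⁻¹) := by rw [h])

@[simp] lemma commHom_apply (hcl : ∀ x y w : M, (x * y * x⁻¹ * y⁻¹) * w = w * (x * y * x⁻¹ * y⁻¹))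
    (x w : M) : commHom hcl x w = w * x * w⁻¹ * x⁻¹ := rfl

variable [Finite M]

theorem FO7a (r : ℕ) (hr : r.Prime)
    (hcl : ∀ x y w : M, (x * y * x⁻¹ * y⁻¹) * w = w * (x * y * x⁻¹ * y⁻¹))
    (hexp : ∀ x w : M, x ^ r * w = w * x ^ r)
    (hcyc : IsCyclic (Subgroup.center M)) :
    ∃ k : ℕ, (Subgroup.center M).index = (r ^ k) ^ 2 := by
  classical
  haveI : Fact r.Prime := ⟨hr⟩
  have hcen : ∀ x w : M, w * x * w⁻¹ * x⁻¹ ∈ Subgroup.center M := by
    intro x w; rw [Subgroup.mem_center_iff]; intro v; exact (hcl w x v).symm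
  have hpow : ∀ x w : M, (w * x * w⁻¹ * x⁻¹) ^ r = 1 := by
    intro x w
    have := map_pow (commHom hcl x) w r
    simp only [commHom_apply] at this
    rw [← this]
    have h := hexp w x
    rw [h]; group
  -- elements of the centre killed by `r` lie in `zpowers c`
  have hΩ : ∀ c d : M, c ∈ Subgroup.center M → d ∈ Subgroup.center M → c ≠ 1 → c ^ r = 1 →
      d ^ r = 1 → d ∈ Subgroup.zpowers c := by
    intro c d hc hd hc1 hcr hdr
    have := mem_zpowers_of_pow_eq_one (Z := Subgroup.center M) hr (c := ⟨c, hc⟩) (d := ⟨d, hd⟩)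
      (by intro h; exact hc1 (by simpa using congrArg Subtype.val h))
      (by ext; simpa using hcr) (by ext; simpa using hdr)
    obtain ⟨k, hk⟩ := Subgroup.mem_zpowers_iff.mp this
    refine Subgroup.mem_zpowers_iff.mpr ⟨k, ?_⟩
    have := congrArg Subtype.val hk
    simpa using this
  have key : ∀ n : ℕ, ∀ H : Subgroup M, Nat.card H = n → Subgroup.center M ≤ H →
      (∀ z ∈ H, (∀ w ∈ H, z * w = w * z) → z ∈ Subgroup.center M) →
      ∃ k, (Subgroup.center M).relIndex H = (r ^ k) ^ 2 := by
    intro n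
    induction n using Nat.strong_induction_on with
    | _ n ih =>
    intro H hHn hZH hZ
    by_cases hab : ∀ x ∈ H, ∀ y ∈ H, x * y = y * x
    · refine ⟨0, ?_⟩
      simp only [pow_zero, one_pow]
      rw [Subgroup.relIndex_eq_one]
      intro x hx
      exact hZ x hx (fun w hw => hab x hx w hw)
    · push Not at hab
      obtain ⟨x, hx, y, hy, hxy⟩ := hab
      set c := x * y * x⁻¹ * y⁻¹ with hc
      have hc1 : c ≠ 1 := by
        intro h
        apply hxy
        have : x * y * x⁻¹ * y⁻¹ = 1 := h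
        calc x * y = (x * y * x⁻¹ * y⁻¹) * (y * x) := by group
          _ = y * x := by rw [this, one_mul]
      have hcZ : c ∈ Subgroup.center M := hcen y x
      have hcr : c ^ r = 1 := hpow y x
      -- the subgroup H₁
      set H₁ : Subgroup M := H ⊓ Subgroup.centralizer {x, y} with hH₁
      have hH₁H : H₁ ≤ H := inf_le_left
      have hZH₁ : Subgroup.center M ≤ H₁ := by
        refine le_inf hZH ?_
        intro z hz
        rw [Subgroup.mem_centralizer_iff]
        intro w _
        exact (Subgroup.mem_center_iff.mp hz w)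
      have memH₁ : ∀ w, w ∈ H₁ ↔ w ∈ H ∧ w * x = x * w ∧ w * y = y * w := by
        intro w
        rw [hH₁, Subgroup.mem_inf, Subgroup.mem_centralizer_iff]
        constructor
        · rintro ⟨h1, h2⟩
          exact ⟨h1, (h2 x (by simp)).symm, (h2 y (by simp)).symm⟩
        · rintro ⟨h1, h2, h3⟩
          refine ⟨h1, ?_⟩
          intro v hv
          rcases hv with rfl | rfl
          · exact h2.symm
          · exact h3.symm
      -- decomposition of elements of H
      have hdec : ∀ w ∈ H, ∃ i j : ℤ, (y ^ i * x ^ j)⁻¹ * w ∈ H₁ := by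
        intro w hw
        have h1 : w * x * w⁻¹ * x⁻¹ ∈ Subgroup.zpowers c :=
          hΩ c _ hcZ (hcen x w) hc1 hcr (hpow x w)
        have h2 : w * y * w⁻¹ * y⁻¹ ∈ Subgroup.zpowers c :=
          hΩ c _ hcZ (hcen y w) hc1 hcr (hpow y w)
        obtain ⟨i, hi⟩ := Subgroup.mem_zpowers_iff.mp h1
        obtain ⟨j, hj⟩ := Subgroup.mem_zpowers_iff.mp h2
        refine ⟨-i, j, ?_⟩
        set u := y ^ (-i) * x ^ j with hu
        have hφx : commHom hcl x u = c ^ i := by
          rw [hu, map_mul, map_zpow, map_zpow]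
          have e1 : commHom hcl x y = c⁻¹ := by
            simp only [commHom_apply, hc]; group
          have e2 : commHom hcl x x = 1 := by
            simp only [commHom_apply]; group
          rw [e1, e2]; simp
        have hφy : commHom hcl y u = c ^ j := by
          rw [hu, map_mul, map_zpow, map_zpow]
          have e1 : commHom hcl y y = 1 := by
            simp only [commHom_apply]; group
          have e2 : commHom hcl y x = c := by
            simp only [commHom_apply, hc]
          rw [e1, e2]; simp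
        have hxw : commHom hcl x (u⁻¹ * w) = 1 := by
          rw [map_mul, map_inv, hφx, commHom_apply, ← hi]; group
        have hyw : commHom hcl y (u⁻¹ * w) = 1 := by
          rw [map_mul, map_inv, hφy, commHom_apply, ← hj]; group
        rw [memH₁]
        refine ⟨?_, ?_, ?_⟩
        · exact H.mul_mem (H.inv_mem (H.mul_mem (H.zpow_mem hy _) (H.zpow_mem hx _))) hw
        · rw [commHom_apply] at hxw
          calc u⁻¹ * w * x = (u⁻¹ * w * x * (u⁻¹ * w)⁻¹ * x⁻¹) * (x * (u⁻¹ * w)) := by group
            _ = x * (u⁻¹ * w) := by rw [hxw, one_mul]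
        · rw [commHom_apply] at hyw
          calc u⁻¹ * w * y = (u⁻¹ * w * y * (u⁻¹ * w)⁻¹ * y⁻¹) * (y * (u⁻¹ * w)) := by group
            _ = y * (u⁻¹ * w) := by rw [hyw, one_mul]
      -- centre of H₁
      have hZ₁ : ∀ z ∈ H₁, (∀ w ∈ H₁, z * w = w * z) → z ∈ Subgroup.center M := by
        intro z hz hzc
        obtain ⟨hzH, hzx, hzy⟩ := (memH₁ z).mp hz
        refine hZ z hzH ?_
        intro w hw
        obtain ⟨i, j, hij⟩ := hdec w hw
        have h1 := hzc _ hij
        have hzu : z * (y ^ i * x ^ j) = (y ^ i * x ^ j) * z := by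
          have a1 : Commute z y := hzy
          have a2 : Commute z x := hzx
          exact ((a1.zpow_right i).mul_right (a2.zpow_right j)).eq
        calc z * w = z * ((y ^ i * x ^ j) * ((y ^ i * x ^ j)⁻¹ * w)) := by group
          _ = (z * (y ^ i * x ^ j)) * ((y ^ i * x ^ j)⁻¹ * w) := by group
          _ = (y ^ i * x ^ j) * (z * ((y ^ i * x ^ j)⁻¹ * w)) := by rw [hzu]; group
          _ = (y ^ i * x ^ j) * (((y ^ i * x ^ j)⁻¹ * w) * z) := by rw [h1]
          _ = w * z := by group
      -- index of H₁ in H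
      have hidx : H₁.relIndex H = r ^ 2 := by
        set ψ : H →* M × M := ((commHom hcl x).prod (commHom hcl y)).comp H.subtype with hψ
        have hker : ψ.ker = H₁.subgroupOf H := by
          ext w
          rw [MonoidHom.mem_ker, Subgroup.mem_subgroupOf, memH₁]
          simp only [hψ, MonoidHom.comp_apply, MonoidHom.prod_apply, Subgroup.coe_subtype,
            commHom_apply, Prod.mk_eq_one]
          constructor
          · rintro ⟨h1, h2⟩
            refine ⟨w.2, ?_, ?_⟩
            · calc (w : M) * x = ((w : M) * x * (w : M)⁻¹ * x⁻¹) * (x * w) := by group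
                _ = x * w := by rw [h1, one_mul]
            · calc (w : M) * y = ((w : M) * y * (w : M)⁻¹ * y⁻¹) * (y * w) := by group
                _ = y * w := by rw [h2, one_mul]
          · rintro ⟨_, h1, h2⟩
            constructor
            · rw [h1]; group
            · rw [h2]; group
        have hrange : ψ.range = (Subgroup.zpowers c).prod (Subgroup.zpowers c) := by
          ext ⟨a, b⟩
          rw [MonoidHom.mem_range, Subgroup.mem_prod]
          constructor
          · rintro ⟨w, hw⟩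
            simp only [hψ, MonoidHom.comp_apply, MonoidHom.prod_apply, Subgroup.coe_subtype,
              commHom_apply, Prod.mk.injEq] at hw
            obtain ⟨rfl, rfl⟩ := hw
            exact ⟨hΩ c _ hcZ (hcen x w) hc1 hcr (hpow x w),
              hΩ c _ hcZ (hcen y w) hc1 hcr (hpow y w)⟩
          · rintro ⟨ha, hb⟩
            obtain ⟨i, hi⟩ := Subgroup.mem_zpowers_iff.mp ha
            obtain ⟨j, hj⟩ := Subgroup.mem_zpowers_iff.mp hb
            simp only at hi hj
            refine ⟨⟨y ^ (-i) * x ^ j, H.mul_mem (H.zpow_mem hy _) (H.zpow_mem hx _)⟩, ?_⟩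
            simp only [hψ, MonoidHom.comp_apply, MonoidHom.prod_apply, Subgroup.coe_subtype,
              Prod.mk.injEq]
            have e1 : commHom hcl x y = c⁻¹ := by
              simp only [commHom_apply, hc]; group
            have e2 : commHom hcl x x = 1 := by
              simp only [commHom_apply]; group
            have e3 : commHom hcl y y = 1 := by
              simp only [commHom_apply]; group
            have e4 : commHom hcl y x = c := by
              simp only [commHom_apply, hc]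
            constructor
            · rw [map_mul, map_zpow, map_zpow, e1, e2, ← hi]; simp
            · rw [map_mul, map_zpow, map_zpow, e3, e4, ← hj]; simp
        have hcard : Nat.card (Subgroup.zpowers c) = r := by
          rw [Nat.card_zpowers]; exact orderOf_eq_prime hcr hc1
        rw [Subgroup.relIndex, ← hker, Subgroup.index_ker, hrange,
          Nat.card_congr (Subgroup.prodEquiv _ _).toEquiv, Nat.card_prod, hcard]
        ring
      -- induction
      have hlt : Nat.card H₁ < n := by
        rw [← hHn]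
        have hne : H₁ < H := by
          refine lt_of_le_of_ne hH₁H ?_
          intro h
          have : x ∈ H₁ := h ▸ hx
          exact hxy ((memH₁ x).mp this).2.2
        exact Set.ncard_lt_ncard (by exact_mod_cast hne) (Set.toFinite _)
      obtain ⟨k, hk⟩ := ih _ hlt H₁ rfl hZH₁ hZ₁
      refine ⟨k + 1, ?_⟩
      rw [← Subgroup.relIndex_mul_relIndex _ _ _ hZH₁ hH₁H, hk, hidx]
      ring
  obtain ⟨k, hk⟩ := key _ ⊤ rfl le_top (by
    intro z _ hz
    rw [Subgroup.mem_center_iff]
    intro w
    exact (hz w (Subgroup.mem_top w)).symm)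
  exact ⟨k, by rwa [Subgroup.relIndex_top_right] at hk⟩

end FO7a

lemma card_modEq_card_fixed {α : Type*} [Finite α] (f : α → α) (p : ℕ) [Fact p.Prime]
    (hf : f^[p] = id) : Nat.card α ≡ Nat.card {a // f a = a} [MOD p] := by
  classical
  haveI := Fintype.ofFinite α
  have h := Equiv.Perm.card_fixedPoints_modEq (α := α) (f := (f : Function.End α)) (p := p) (n := 1)
    (by rw [pow_one]; exact hf)
  rw [Nat.card_eq_fintype_card, Nat.card_eq_fintype_card]
  refine h.trans ?_
  have : Fintype.card (Function.fixedPoints (f : Function.End α)) = Fintype.card {a // f a = a} := by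
    apply Fintype.card_congr
    exact Equiv.subtypeEquivRight (fun a => Iff.rfl)
  rw [this]

theorem FO7b {G : Type*} [Group G] [Finite G] (r : ℕ) (hr : r.Prime)
    (N : Subgroup G) (hN : IsPGroup r N) (g : G) (hgN : ∀ x ∈ N, g * x * g⁻¹ ∈ N)
    (hz : (orderOf g).Prime) (hzr : orderOf g ≠ r)
    (hcl : ∀ x ∈ N, ∀ y ∈ N, ∀ w ∈ N, (x * y * x⁻¹ * y⁻¹) * w = w * (x * y * x⁻¹ * y⁻¹))
    (hgZ : ∀ c ∈ N, (∀ w ∈ N, c * w = w * c) → g * c = c * g)
    (hg : ∃ x ∈ N, g * x ≠ x * g) :
    ∃ M : Subgroup G, M ≤ N ∧ (∀ x ∈ M, g * x * g⁻¹ ∈ M) ∧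
      (∀ c ∈ M, (∀ w ∈ M, c * w = w * c) → ∀ w ∈ N, c * w = w * c) ∧
      (∃ x ∈ M, ∃ y ∈ M, x * y ≠ y * x) ∧
      orderOf g ∣ (Subgroup.center M).index - 1 := by
  classical
  set z := orderOf g with hzdef
  haveI : Fact z.Prime := ⟨hz⟩
  haveI : Fact r.Prime := ⟨hr⟩
  have hgz : g ^ z = 1 := pow_orderOf_eq_one g
  -- r-elements killed by z are trivial
  have hrz : ∀ c ∈ N, c ^ z = 1 → c = 1 := by
    intro c hc hcz
    obtain ⟨k, hk⟩ := hN ⟨c, hc⟩
    have hk' : c ^ (r ^ k) = 1 := by simpa using congrArg Subtype.val hk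
    have hcop : Nat.Coprime (r ^ k) z := by
      apply Nat.Coprime.pow_left
      rw [Nat.coprime_primes hr hz]; exact fun h => hzr h.symm
    have := pow_gcd_eq_one.mpr ⟨hk', hcz⟩
    rwa [hcop, pow_one] at this
  set M : Subgroup G := Subgroup.closure {m | ∃ x ∈ N, m = g * x * g⁻¹ * x⁻¹} with hM
  have hgen : ∀ x ∈ N, g * x * g⁻¹ * x⁻¹ ∈ M := fun x hx => Subgroup.subset_closure ⟨x, hx, rfl⟩
  have hMN : M ≤ N := by
    rw [hM, Subgroup.closure_le]
    rintro m ⟨x, hx, rfl⟩
    exact N.mul_mem (hgN x hx) (N.inv_mem hx)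
  have hMg : ∀ m ∈ M, g * m * g⁻¹ ∈ M := by
    intro m hm
    induction hm using Subgroup.closure_induction with
    | mem m hm =>
      obtain ⟨x, hx, rfl⟩ := hm
      have := hgen _ (hgN x hx)
      convert this using 1; group
    | one => simp
    | mul a b _ _ ha hb => have := M.mul_mem ha hb; convert this using 1; group
    | inv a _ ha => have := M.inv_mem ha; convert this using 1; group
  have hcomm : ∀ h ∈ N, g * h = h * g → ∀ m ∈ M, h * m = m * h := by
    intro h hh hgh m hm
    induction hm using Subgroup.closure_induction with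
    | mem m hm =>
      obtain ⟨x, hx, rfl⟩ := hm
      set k := h * x * h⁻¹ * x⁻¹ with hk
      have hkN : k ∈ N := N.mul_mem (N.mul_mem (N.mul_mem hh hx) (N.inv_mem hh)) (N.inv_mem hx)
      have hkc : ∀ w ∈ N, k * w = w * k := fun w hw => hcl h hh x hx w hw
      have hgk : g * k = k * g := hgZ k hkN hkc
      have hkm : k * (g * x * g⁻¹ * x⁻¹) = (g * x * g⁻¹ * x⁻¹) * k :=
        hkc _ (N.mul_mem (hgN x hx) (N.inv_mem hx))
      have h1 : h * g = g * h := hgh.symm
      have h2 : h * g⁻¹ = g⁻¹ * h := by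
        calc h * g⁻¹ = g⁻¹ * (g * h) * g⁻¹ := by group
          _ = g⁻¹ * (h * g) * g⁻¹ := by rw [hgh]
          _ = g⁻¹ * h := by group
      have e : h * (g * x * g⁻¹ * x⁻¹) * h⁻¹ = k * (g * x * g⁻¹ * x⁻¹) * k⁻¹ := by
        calc h * (g * x * g⁻¹ * x⁻¹) * h⁻¹ = (h * g) * x * g⁻¹ * x⁻¹ * h⁻¹ := by group
          _ = g * h * x * g⁻¹ * x⁻¹ * h⁻¹ := by rw [h1]
          _ = g * (h * x * h⁻¹) * (h * g⁻¹) * x⁻¹ * h⁻¹ := by group
          _ = g * (h * x * h⁻¹) * (g⁻¹ * h) * x⁻¹ * h⁻¹ := by rw [h2]
          _ = g * (k * x) * g⁻¹ * (k * x)⁻¹ := by rw [hk]; group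
          _ = (g * k) * x * g⁻¹ * x⁻¹ * k⁻¹ := by group
          _ = (k * g) * x * g⁻¹ * x⁻¹ * k⁻¹ := by rw [hgk]
          _ = k * (g * x * g⁻¹ * x⁻¹) * k⁻¹ := by group
      rw [hkm, mul_inv_cancel_right] at e
      calc h * (g * x * g⁻¹ * x⁻¹) = (h * (g * x * g⁻¹ * x⁻¹) * h⁻¹) * h := by group
        _ = (g * x * g⁻¹ * x⁻¹) * h := by rw [e]
    | one => simp
    | mul a b _ _ ha hb => rw [← mul_assoc, ha, mul_assoc, hb, mul_assoc]
    | inv a _ ha =>
      calc h * a⁻¹ = a⁻¹ * (a * h) * a⁻¹ := by group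
        _ = a⁻¹ * (h * a) * a⁻¹ := by rw [ha]
        _ = a⁻¹ * h := by group
  have hMr : ∃ k, Nat.card M = r ^ k := by
    have : IsPGroup r M := hN.to_le hMN
    exact IsPGroup.iff_card.mp this
  have hzM : ¬ z ∣ Nat.card M := by
    obtain ⟨k, hk⟩ := hMr
    rw [hk]
    intro h
    have := (Nat.prime_dvd_prime_iff_eq hz hr).mp (hz.dvd_of_dvd_pow h)
    exact hzr this
  -- (A) coprime action: N = C_N(g) M
  have hA : ∀ x ∈ N, ∃ y ∈ N, g * y = y * g ∧ x⁻¹ * y ∈ M := by
    intro x hx
    have hxg : x⁻¹ * (g * x * g⁻¹) ∈ M := by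
      have := M.inv_mem (hgen x⁻¹ (N.inv_mem hx))
      convert this using 1; group
    let f : {y : G // x⁻¹ * y ∈ M} → {y : G // x⁻¹ * y ∈ M} := fun y => ⟨g * y.1 * g⁻¹, by
      have := M.mul_mem hxg (hMg _ y.2)
      convert this using 1; group⟩
    have hf : f^[z] = id := by
      funext y; apply Subtype.ext
      have : ∀ k : ℕ, ((f^[k] y : {y : G // x⁻¹ * y ∈ M}) : G) = g ^ k * y.1 * (g ^ k)⁻¹ := by
        intro k; induction k with
        | zero => simp
        | succ k ih =>
          rw [Function.iterate_succ_apply']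
          show g * (f^[k] y).1 * g⁻¹ = _
          rw [ih, pow_succ']; group
      rw [this, hgz]; simp
    have hcard : Nat.card {y : G // x⁻¹ * y ∈ M} = Nat.card M := by
      apply Nat.card_congr
      exact { toFun := fun y => ⟨x⁻¹ * y.1, y.2⟩
              invFun := fun m => ⟨x * m.1, by simp⟩
              left_inv := fun y => by apply Subtype.ext; simp
              right_inv := fun m => by apply Subtype.ext; simp }
    have hmod := card_modEq_card_fixed f z hf
    have hne : Nat.card {a : {y : G // x⁻¹ * y ∈ M} // f a = a} ≠ 0 := by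
      intro h0
      rw [h0, hcard] at hmod
      exact hzM (Nat.modEq_zero_iff_dvd.mp hmod)
    obtain ⟨⟨⟨y, hy⟩⟩, _⟩ := Nat.card_ne_zero.mp hne
    refine ⟨y.1, ?_, ?_, y.2⟩
    · have := N.mul_mem hx (hMN y.2); simpa using this
    · have h1 : g * y.1 * g⁻¹ = y.1 := congrArg Subtype.val hy
      calc g * y.1 = (g * y.1 * g⁻¹) * g := by group
        _ = y.1 * g := by rw [h1]
  -- (5)
  have hcenter : ∀ c ∈ M, (∀ w ∈ M, c * w = w * c) → ∀ w ∈ N, c * w = w * c := by
    intro c hc hcM w hw
    obtain ⟨y, hyN, hgy, hy⟩ := hA w hw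
    have h1 : y * c = c * y := hcomm y hyN hgy c hc
    have h2 := hcM _ hy
    have hw' : w = y * (w⁻¹ * y)⁻¹ := by group
    rw [hw']
    have h3 : c * (w⁻¹ * y)⁻¹ = (w⁻¹ * y)⁻¹ * c := by
      calc c * (w⁻¹ * y)⁻¹ = (w⁻¹ * y)⁻¹ * ((w⁻¹ * y) * c) * (w⁻¹ * y)⁻¹ := by group
        _ = (w⁻¹ * y)⁻¹ * (c * (w⁻¹ * y)) * (w⁻¹ * y)⁻¹ := by rw [h2]
        _ = (w⁻¹ * y)⁻¹ * c := by group
    calc c * (y * (w⁻¹ * y)⁻¹) = (c * y) * (w⁻¹ * y)⁻¹ := by group
      _ = (y * c) * (w⁻¹ * y)⁻¹ := by rw [h1]
      _ = y * (c * (w⁻¹ * y)⁻¹) := by group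
      _ = y * ((w⁻¹ * y)⁻¹ * c) := by rw [h3]
      _ = y * (w⁻¹ * y)⁻¹ * c := by group
  refine ⟨M, hMN, hMg, hcenter, ?_, ?_⟩
  · -- nonabelian
    by_contra hab
    push Not at hab
    obtain ⟨x, hx, hgx⟩ := hg
    apply hgx
    set c := g * x * g⁻¹ * x⁻¹ with hc
    have hcM : c ∈ M := hgen x hx
    have hcN : c ∈ N := hMN hcM
    have hgc : g * c = c * g := hgZ c hcN (hcenter c hcM (fun w hw => hab c hcM w hw))
    have hiter : ∀ k : ℕ, g ^ k * x * (g ^ k)⁻¹ = c ^ k * x := by
      intro k
      induction k with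
      | zero => simp
      | succ k ih =>
        have hgck : g * c ^ k = c ^ k * g := by
          have : Commute g c := hgc
          exact (this.pow_right k).eq
        calc g ^ (k + 1) * x * (g ^ (k + 1))⁻¹ = g * (g ^ k * x * (g ^ k)⁻¹) * g⁻¹ := by
              rw [pow_succ']; group
          _ = g * (c ^ k * x) * g⁻¹ := by rw [ih]
          _ = (g * c ^ k) * x * g⁻¹ := by group
          _ = (c ^ k * g) * x * g⁻¹ := by rw [hgck]
          _ = c ^ k * (g * x * g⁻¹ * x⁻¹) * x := by group
          _ = c ^ (k + 1) * x := by rw [← hc, pow_succ]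
    have hcz : c ^ z = 1 := by
      have := hiter z
      rw [hgz] at this
      simp only [one_mul, inv_one, mul_one] at this
      calc c ^ z = (c ^ z * x) * x⁻¹ := by group
        _ = x * x⁻¹ := by rw [← this]
        _ = 1 := by group
    have hc1 : c = 1 := hrz c hcN hcz
    calc g * x = (g * x * g⁻¹ * x⁻¹) * (x * g) := by group
      _ = x * g := by rw [← hc, hc1, one_mul]
  · -- index
    let f : M → M := fun m => ⟨g * m.1 * g⁻¹, hMg _ m.2⟩
    have hf : f^[z] = id := by
      funext y; apply Subtype.ext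
      have : ∀ k : ℕ, ((f^[k] y : M) : G) = g ^ k * y.1 * (g ^ k)⁻¹ := by
        intro k; induction k with
        | zero => simp
        | succ k ih =>
          rw [Function.iterate_succ_apply']
          show g * (f^[k] y).1 * g⁻¹ = _
          rw [ih, pow_succ']; group
      rw [this, hgz]; simp
    have hmod := card_modEq_card_fixed f z hf
    have hfix : Nat.card {a : M // f a = a} = Nat.card (Subgroup.center M) := by
      apply Nat.card_congr
      refine Equiv.subtypeEquivRight (fun a => ?_)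
      constructor
      · intro ha
        have h1 : g * a.1 * g⁻¹ = a.1 := congrArg Subtype.val ha
        have hga : g * a.1 = a.1 * g := by
          calc g * a.1 = (g * a.1 * g⁻¹) * g := by group
            _ = a.1 * g := by rw [h1]
        rw [Subgroup.mem_center_iff]
        intro m
        apply Subtype.ext
        exact (hcomm a.1 (hMN a.2) hga m.1 m.2).symm
      · intro ha
        rw [Subgroup.mem_center_iff] at ha
        have hac : ∀ w ∈ M, a.1 * w = w * a.1 := by
          intro w hw
          have := congrArg Subtype.val (ha ⟨w, hw⟩)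
          exact this.symm
        have hga := hgZ a.1 (hMN a.2) (hcenter a.1 a.2 hac)
        apply Subtype.ext
        show g * a.1 * g⁻¹ = a.1
        rw [hga]; group
    rw [hfix] at hmod
    have hmul : Nat.card (Subgroup.center M) * (Subgroup.center M).index = Nat.card M :=
      Subgroup.card_mul_index _
    have hpos : 1 ≤ (Subgroup.center M).index := Nat.one_le_iff_ne_zero.mpr Subgroup.index_ne_zero_of_finite
    have hle : Nat.card (Subgroup.center M) ≤ Nat.card M := by
      rw [← hmul]; exact Nat.le_mul_of_pos_right _ hpos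
    have hdvd : z ∣ Nat.card M - Nat.card (Subgroup.center M) :=
      (Nat.modEq_iff_dvd' hle).mp hmod.symm
    rw [← hmul, ← Nat.mul_sub_one] at hdvd
    have hcop : Nat.Coprime z (Nat.card (Subgroup.center M)) := by
      rw [Nat.Prime.coprime_iff_not_dvd hz]
      intro h
      apply hzM
      rw [← hmul]
      exact Dvd.dvd.mul_right h _
    exact hcop.dvd_of_dvd_mul_left hdvd


end Cfsg.Agent.Lib.Helper2.S3360FO7
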