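import Mathlib

/-!
# Counting involutions and inverting elements
(helper2 library)
-/

set_option autoImplicit false

namespace Cfsg.Agent.Lib.Helper2

variable {G : Type*} [Group G]

theorem orderOf_eq_two_iff' {t : G} : orderOf t = 2 ↔ t ≠ 1 ∧ t * t = 1 := by
  constructor
  · intro h
    refine ⟨fun h1 => by rw [h1, orderOf_one] at h; omega, ?_⟩
    rw [← pow_two, ← h]; exact pow_orderOf_eq_one t
  · rintro ⟨h1, h2⟩
    exact orderOf_eq_prime (by rw [pow_two]; exact h2) h1

theorem inv_eq_self_of_orderOf_eq_two {t : G} (h : orderOf t = 2) : t⁻¹ = t := by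
  have := (orderOf_eq_two_iff'.mp h).2
  exact inv_eq_of_mul_eq_one_left this

theorem inv_eq_self_iff {g : G} : g⁻¹ = g ↔ g = 1 ∨ orderOf g = 2 := by
  constructor
  · intro h
    by_cases h1 : g = 1
    · left; exact h1
    · right
      rw [orderOf_eq_two_iff']
      refine ⟨h1, ?_⟩
      nth_rewrite 1 [← h]
      exact inv_mul_cancel g
  · rintro (h | h)
    · rw [h, inv_one]
    · exact inv_eq_self_of_orderOf_eq_two h

/-- A finite group of even order has an odd number of involutions. -/
theorem odd_card_involutions [Finite G] (heven : Even (Nat.card G)) :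
    Odd (Nat.card {t : G // orderOf t = 2}) := by
  classical
  haveI : Fintype G := Fintype.ofFinite G
  let f : Function.End G := fun g => g⁻¹
  have hf : f ^ 2 ^ 1 = 1 := by
    rw [pow_one, pow_two]
    funext g
    change (g⁻¹)⁻¹ = g
    exact inv_inv g
  haveI : Fact (Nat.Prime 2) := ⟨Nat.prime_two⟩
  have h1 := Equiv.Perm.card_fixedPoints_modEq (p := 2) (n := 1) hf
  have h2 : Fintype.card (Function.fixedPoints f)
      = 1 + Fintype.card {t : G // orderOf t = 2} := by
    rw [Fintype.card_subtype, Fintype.card_subtype]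
    have : (Finset.univ.filter (fun g : G => g ∈ Function.fixedPoints f))
        = insert 1 (Finset.univ.filter (fun g : G => orderOf g = 2)) := by
      ext g
      simp only [Finset.mem_filter, Finset.mem_univ, true_and, Finset.mem_insert]
      change g⁻¹ = g ↔ _
      exact inv_eq_self_iff
    rw [this, Finset.card_insert_of_notMem, add_comm]
    simp
  rw [Nat.card_eq_fintype_card] at heven ⊢
  rw [h2] at h1
  have h3 : (1 + Fintype.card {t : G // orderOf t = 2}) % 2 = 0 := by
    rw [← h1]; exact Nat.even_iff.mp heven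
  rw [Nat.odd_iff]; omega

/-- If `x` is real, the elements inverting `x` form a coset of the centralizer. -/
theorem card_inverting_eq_card_centralizer [Finite G] (x : G) (hreal : IsConj x x⁻¹) :
    Nat.card {g : G // g * x * g⁻¹ = x⁻¹} = Nat.card (Subgroup.centralizer ({x} : Set G)) := by
  obtain ⟨g₀, hg₀⟩ := isConj_iff.mp hreal
  symm
  apply Nat.card_congr
  refine
    { toFun := fun c => ⟨g₀ * c, ?_⟩
      invFun := fun g => ⟨g₀⁻¹ * g, ?_⟩
      left_inv := fun c => by simp
      right_inv := fun g => by simp }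
  · have hc := Subgroup.mem_centralizer_iff.mp c.2 x (Set.mem_singleton x)
    calc g₀ * c * x * (g₀ * c)⁻¹ = g₀ * ((c : G) * x) * (c : G)⁻¹ * g₀⁻¹ := by group
      _ = g₀ * (x * c) * (c : G)⁻¹ * g₀⁻¹ := by rw [hc]
      _ = g₀ * x * g₀⁻¹ := by group
      _ = x⁻¹ := hg₀
  · rw [Subgroup.mem_centralizer_iff]
    intro y hy
    rw [Set.mem_singleton_iff] at hy
    subst hy
    have h1 : (g : G) * y * (g : G)⁻¹ = y⁻¹ := g.2
    have h2 : g₀⁻¹ * y⁻¹ * g₀ = y := by
      rw [← hg₀]; group
    calc y * (g₀⁻¹ * g) = g₀⁻¹ * (g₀ * y * g₀⁻¹) * g := by group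
      _ = g₀⁻¹ * y⁻¹ * g := by rw [hg₀]
      _ = g₀⁻¹ * ((g : G) * y * (g : G)⁻¹) * g := by rw [h1]
      _ = g₀⁻¹ * g * y := by group

/-- A nontrivial real element with centralizer of odd order is inverted by an involution. -/
theorem exists_involution_inverting [Finite G] (x : G) (hx : x ≠ 1) (hreal : IsConj x x⁻¹)
    (hodd : Odd (Nat.card (Subgroup.centralizer ({x} : Set G)))) :
    ∃ t : G, orderOf t = 2 ∧ t * x * t⁻¹ = x⁻¹ := by
  obtain ⟨g, hg⟩ := isConj_iff.mp hreal
  -- odd powers of `g` invert `x`, even powers centralize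
  have hpow : ∀ k : ℕ, g ^ (2 * k) * x * (g ^ (2 * k))⁻¹ = x ∧
      g ^ (2 * k + 1) * x * (g ^ (2 * k + 1))⁻¹ = x⁻¹ := by
    intro k
    induction k with
    | zero => simp [hg]
    | succ n ih =>
      have h1 : g ^ (2 * (n + 1)) * x * (g ^ (2 * (n + 1)))⁻¹ = x := by
        have : g ^ (2 * (n + 1)) = g * g ^ (2 * n + 1) := by
          rw [← pow_succ']; congr 1
        rw [this]
        calc g * g ^ (2 * n + 1) * x * (g * g ^ (2 * n + 1))⁻¹
            = g * (g ^ (2 * n + 1) * x * (g ^ (2 * n + 1))⁻¹) * g⁻¹ := by group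
          _ = g * x⁻¹ * g⁻¹ := by rw [ih.2]
          _ = (g * x * g⁻¹)⁻¹ := by group
          _ = x := by rw [hg, inv_inv]
      refine ⟨h1, ?_⟩
      have : g ^ (2 * (n + 1) + 1) = g * g ^ (2 * (n + 1)) := by rw [← pow_succ']
      rw [this]
      calc g * g ^ (2 * (n + 1)) * x * (g * g ^ (2 * (n + 1)))⁻¹
          = g * (g ^ (2 * (n + 1)) * x * (g ^ (2 * (n + 1)))⁻¹) * g⁻¹ := by group
        _ = g * x * g⁻¹ := by rw [h1]
        _ = x⁻¹ := hg
  -- write `orderOf g = 2 ^ a * m` with `m` odd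
  have hgpos : 0 < orderOf g := orderOf_pos g
  obtain ⟨a, m, hm, hgm⟩ := Nat.exists_eq_two_pow_mul_odd hgpos.ne'
  obtain ⟨k, hk⟩ := hm
  let t := g ^ m
  have htinv : t * x * t⁻¹ = x⁻¹ := by
    change g ^ m * x * (g ^ m)⁻¹ = x⁻¹
    rw [hk]; exact (hpow k).2
  have htpow : t ^ (2 ^ a) = 1 := by
    change (g ^ m) ^ (2 ^ a) = 1
    rw [← pow_mul, mul_comm, ← hgm, pow_orderOf_eq_one]
  -- `t * t` centralizes `x` and has 2-power order, so is trivial
  have ht2c : t * t ∈ Subgroup.centralizer ({x} : Set G) := by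
    rw [Subgroup.mem_centralizer_iff]
    intro y hy
    rw [Set.mem_singleton_iff] at hy
    subst hy
    have h2 : t * y⁻¹ * t⁻¹ = y := by
      have : t * y⁻¹ * t⁻¹ = (t * y * t⁻¹)⁻¹ := by group
      rw [this, htinv, inv_inv]
    have h3 : t * y = y⁻¹ * t := by
      rw [← htinv]; group
    have h4 : t * y⁻¹ = y * t := by
      nth_rewrite 2 [← h2]; group
    calc y * (t * t) = (y * t) * t := by group
      _ = t * y⁻¹ * t := by rw [h4]
      _ = t * (y⁻¹ * t) := by group
      _ = t * (t * y) := by rw [h3]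
      _ = t * t * y := by group
  have ht2 : t * t = 1 := by
    have hord1 : orderOf (t * t) ∣ 2 ^ a := by
      apply orderOf_dvd_of_pow_eq_one
      rw [(Commute.refl t).mul_pow, htpow, one_mul]
    have hord2 : orderOf (t * t) ∣ Nat.card (Subgroup.centralizer ({x} : Set G)) := by
      have := orderOf_dvd_natCard (⟨t * t, ht2c⟩ : Subgroup.centralizer ({x} : Set G))
      rwa [Subgroup.orderOf_mk (t * t) ht2c] at this
    have hcop : Nat.Coprime (2 ^ a) (Nat.card (Subgroup.centralizer ({x} : Set G))) := by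
      apply Nat.Coprime.pow_left
      exact (Nat.coprime_two_left).mpr hodd
    have : orderOf (t * t) = 1 := Nat.eq_one_of_dvd_coprimes hcop hord1 hord2
    exact orderOf_eq_one_iff.mp this
  refine ⟨t, orderOf_eq_two_iff'.mpr ⟨?_, ht2⟩, htinv⟩
  intro ht1
  rw [ht1] at htinv
  simp only [one_mul, inv_one, mul_one] at htinv
  -- `x = x⁻¹`, so `x` is an involution in its own centralizer
  have hx2 : orderOf x = 2 := by
    rw [orderOf_eq_two_iff']
    refine ⟨hx, ?_⟩
    nth_rewrite 1 [htinv]
    exact inv_mul_cancel x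
  have hxc : x ∈ Subgroup.centralizer ({x} : Set G) := by
    rw [Subgroup.mem_centralizer_iff]
    intro y hy
    rw [Set.mem_singleton_iff] at hy
    subst hy
    rfl
  have hdvd : 2 ∣ Nat.card (Subgroup.centralizer ({x} : Set G)) := by
    have := orderOf_dvd_natCard (⟨x, hxc⟩ : Subgroup.centralizer ({x} : Set G))
    rwa [Subgroup.orderOf_mk x hxc, hx2] at this
  rw [Nat.odd_iff] at hodd
  omega

end Cfsg.Agent.Lib.Helper2
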