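import Mathlib
import Cfsg.Agent.Lib.Helper2.Involutions

/-!
# Pairs of involutions with a given product
(helper2 library)
-/

set_option autoImplicit false

namespace Cfsg.Agent.Lib.Helper2

variable {G : Type*} [Group G]

/-- pairs of involutions `(u, v)` with `u * v = x`. -/
abbrev InvPairs (x : G) : Type _ :=
  {p : G × G // orderOf p.1 = 2 ∧ orderOf p.2 = 2 ∧ p.1 * p.2 = x}

theorem invPairs_fst_inverts {x : G} (p : InvPairs x) : p.1.1 * x * p.1.1⁻¹ = x⁻¹ := by
  obtain ⟨⟨u, v⟩, hu, hv, huv⟩ := p
  change u * x * u⁻¹ = x⁻¹
  have hu2 := (orderOf_eq_two_iff'.mp hu).2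
  have hui := inv_eq_self_of_orderOf_eq_two hu
  have hvi := inv_eq_self_of_orderOf_eq_two hv
  change u * v = x at huv
  rw [← huv, mul_inv_rev, hui, hvi, ← mul_assoc u u v, hu2, one_mul]

theorem invPairs_fst_injective {x : G} :
    Function.Injective (fun p : InvPairs x => p.1.1) := by
  rintro ⟨⟨u, v⟩, hu, hv, huv⟩ ⟨⟨u', v'⟩, hu', hv', huv'⟩ h
  change u = u' at h
  subst h
  change u * v = x at huv
  change u * v' = x at huv'
  have : v = v' := mul_left_cancel (huv.trans huv'.symm)
  subst this
  rfl

/-- from an involution `t` inverting `x` with `t ≠ x⁻¹`... the pair `(t, t * x)`. -/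
theorem invPairs_of_inverting {x t : G} (ht : orderOf t = 2) (htx : t * x * t⁻¹ = x⁻¹)
    (hne : t ≠ x) : orderOf t = 2 ∧ orderOf (t * x) = 2 ∧ t * (t * x) = x := by
  have ht2 := (orderOf_eq_two_iff'.mp ht).2
  have hti := inv_eq_self_of_orderOf_eq_two ht
  refine ⟨ht, ?_, by rw [← mul_assoc, ht2, one_mul]⟩
  rw [orderOf_eq_two_iff']
  constructor
  · intro h1
    apply hne
    have : t⁻¹ = x := inv_eq_of_mul_eq_one_right h1
    rw [← this, hti]
  · rw [hti] at htx
    calc t * x * (t * x) = (t * x * t) * x := by group
      _ = x⁻¹ * x := by rw [htx]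
      _ = 1 := inv_mul_cancel x

/-- S0235. -/
theorem card_invPairs_of_sq_ne_one [Finite G] (x : G) (hx : x ^ 2 ≠ 1) :
    Nat.card (InvPairs x) = Nat.card {t : G // orderOf t = 2 ∧ t * x * t⁻¹ = x⁻¹} := by
  apply Nat.card_congr
  refine
    { toFun := fun p => ⟨p.1.1, p.2.1, invPairs_fst_inverts p⟩
      invFun := fun t => ⟨(t.1, t.1 * x), invPairs_of_inverting t.2.1 t.2.2 ?_⟩
      left_inv := ?_
      right_inv := fun t => rfl }
  · intro h
    apply hx
    rw [pow_two, ← h]
    exact (orderOf_eq_two_iff'.mp t.2.1).2
  · intro p
    apply invPairs_fst_injective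
    rfl

/-- S0236. -/
theorem card_invPairs_of_involution [Finite G] (x : G) (hx : orderOf x = 2) :
    Nat.card (InvPairs x) + 1 = Nat.card {t : G // orderOf t = 2 ∧ Commute t x} := by
  have hxi := inv_eq_self_of_orderOf_eq_two hx
  rw [← Finite.card_option]
  apply Nat.card_congr
  classical
  refine
    { toFun := fun o => match o with
        | none => ⟨x, hx, Commute.refl x⟩
        | some p => ⟨p.1.1, p.2.1, ?_⟩
      invFun := fun t => if h : t.1 = x then none else
        some ⟨(t.1, t.1 * x), invPairs_of_inverting t.2.1 ?_ h⟩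
      left_inv := ?_
      right_inv := ?_ }
  · have h1 := invPairs_fst_inverts p
    rw [hxi] at h1
    exact mul_inv_eq_iff_eq_mul.mp h1
  · rw [hxi]
    exact mul_inv_eq_iff_eq_mul.mpr t.2.2.eq
  · intro o
    cases o with
    | none => simp
    | some p =>
      have hne : p.1.1 ≠ x := by
        intro h
        obtain ⟨⟨u, v⟩, hu, hv, huv⟩ := p
        change u = x at h
        change u * v = x at huv
        rw [h] at huv
        have : v = 1 := by
          have := mul_left_cancel (huv.trans (mul_one x).symm)
          exact this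
        rw [this, orderOf_one] at hv
        change 1 = 2 at hv
        omega
      simp only [hne, dite_false]
      congr 1
      apply invPairs_fst_injective
      rfl
  · intro t
    by_cases h : t.1 = x
    · simp only [h, dite_true]
      exact Subtype.ext h.symm
    · simp only [h, dite_false]

/-- the number of pairs is at most the number of inverting elements -/
theorem card_invPairs_le_inverting [Finite G] (x : G) :
    Nat.card (InvPairs x) ≤ Nat.card {g : G // g * x * g⁻¹ = x⁻¹} := by
  apply Nat.card_le_card_of_injective (fun p => (⟨p.1.1, invPairs_fst_inverts p⟩ :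
    {g : G // g * x * g⁻¹ = x⁻¹}))
  intro p q h
  apply invPairs_fst_injective
  exact congrArg Subtype.val h

theorem card_invPairs_eq_zero_of_not_real [Finite G] (x : G) (h : ¬ IsConj x x⁻¹) :
    Nat.card (InvPairs x) = 0 := by
  rw [Finite.card_eq_zero_iff]
  constructor
  intro p
  exact h (isConj_iff.mpr ⟨p.1.1, invPairs_fst_inverts p⟩)

/-- S0238. -/
theorem card_invPairs_bounds [Finite G] (x : G) :
    Nat.card (InvPairs x) ≤ Nat.card (Subgroup.centralizer ({x} : Set G)) ∧
    (¬ IsConj x x⁻¹ → Nat.card (InvPairs x) = 0) ∧
    (orderOf x = 2 → Nat.card (InvPairs x) + 2 ≤ Nat.card (Subgroup.centralizer ({x} : Set G))) := by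
  refine ⟨?_, card_invPairs_eq_zero_of_not_real x, ?_⟩
  · by_cases h : IsConj x x⁻¹
    · rw [← card_inverting_eq_card_centralizer x h]
      exact card_invPairs_le_inverting x
    · rw [card_invPairs_eq_zero_of_not_real x h]; exact Nat.zero_le _
  · intro hx
    have h1 := card_invPairs_of_involution x hx
    -- involutions commuting with x, plus the identity, inject into the centralizer
    have h2 : Nat.card {t : G // orderOf t = 2 ∧ Commute t x} + 1 ≤
        Nat.card (Subgroup.centralizer ({x} : Set G)) := by
      rw [← Finite.card_option]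
      apply Nat.card_le_card_of_injective
        (fun o : Option {t : G // orderOf t = 2 ∧ Commute t x} => match o with
          | none => (1 : Subgroup.centralizer ({x} : Set G))
          | some t => ⟨t.1, by
              rw [Subgroup.mem_centralizer_iff]
              intro y hy
              rw [Set.mem_singleton_iff] at hy
              subst hy
              exact t.2.2.eq.symm⟩)
      intro a b hab
      cases a with
      | none =>
        cases b with
        | none => rfl
        | some t =>
          exfalso
          have : (1 : G) = t.1 := congrArg (fun z : Subgroup.centralizer ({x} : Set G) => z.1) hab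
          have h2 := t.2.1
          rw [← this, orderOf_one] at h2
          omega
      | some s =>
        cases b with
        | none =>
          exfalso
          have : s.1 = (1 : G) := congrArg (fun z : Subgroup.centralizer ({x} : Set G) => z.1) hab
          have h2 := s.2.1
          rw [this, orderOf_one] at h2
          omega
        | some t =>
          have : s.1 = t.1 := congrArg (fun z : Subgroup.centralizer ({x} : Set G) => z.1) hab
          rw [Subtype.ext this]
    omega

/-- S0240. -/
theorem exists_strongly_real_of_card_lt [Finite G] (H : Subgroup G)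
    (hH : Nat.card G < Nat.card H * (Nat.card {t : G // orderOf t = 2} + 1)) :
    ∃ h : G, h ∈ H ∧ h ≠ 1 ∧ ∃ t : G, orderOf t = 2 ∧ t * h * t⁻¹ = h⁻¹ := by
  classical
  have hidx : H.index < Nat.card (Option {t : G // orderOf t = 2}) := by
    rw [Finite.card_option]
    rw [← H.card_mul_index] at hH
    exact lt_of_mul_lt_mul_left hH (Nat.zero_le _)
  let f : Option {t : G // orderOf t = 2} → G := fun o => match o with
    | none => 1
    | some t => t.1
  have hfinj : Function.Injective f := by
    intro a b hab
    cases a with
    | none =>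
      cases b with
      | none => rfl
      | some t =>
        exfalso
        have : (1 : G) = t.1 := hab
        have h2 := t.2
        rw [← this, orderOf_one] at h2
        omega
    | some s =>
      cases b with
      | none =>
        exfalso
        have : s.1 = (1 : G) := hab
        have h2 := s.2
        rw [this, orderOf_one] at h2
        omega
      | some t =>
        have : s.1 = t.1 := hab
        rw [Subtype.ext this]
  have hf2 : ∀ o, f o * f o = 1 := by
    intro o
    cases o with
    | none => exact mul_one 1
    | some t => exact (orderOf_eq_two_iff'.mp t.2).2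
  haveI : Fintype (Option {t : G // orderOf t = 2}) := Fintype.ofFinite _
  haveI : Fintype (G ⧸ H) := Fintype.ofFinite _
  have hlt : Fintype.card (G ⧸ H) < Fintype.card (Option {t : G // orderOf t = 2}) := by
    rw [← Nat.card_eq_fintype_card, ← Nat.card_eq_fintype_card]
    exact hidx
  obtain ⟨a, b, hab, hq⟩ := Fintype.exists_ne_map_eq_of_card_lt
    (fun o => (QuotientGroup.mk (f o) : G ⧸ H)) hlt
  have hmem : (f a)⁻¹ * f b ∈ H := QuotientGroup.eq.mp hq
  have hai : (f a)⁻¹ = f a := inv_eq_of_mul_eq_one_left (hf2 a)
  have hbi : (f b)⁻¹ = f b := inv_eq_of_mul_eq_one_left (hf2 b)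
  rw [hai] at hmem
  have hne : f a * f b ≠ 1 := by
    intro h1
    apply hab
    apply hfinj
    have : (f a)⁻¹ = f b := inv_eq_of_mul_eq_one_right h1
    rw [← this, hai]
  refine ⟨f a * f b, hmem, hne, ?_⟩
  have hinv : (f a * f b)⁻¹ = f b * f a := by rw [mul_inv_rev, hai, hbi]
  by_cases ha1 : f a = 1
  · -- then `f b` is an involution and inverts itself
    have hb1 : f b ≠ 1 := by rw [ha1, one_mul] at hne; exact hne
    refine ⟨f b, orderOf_eq_two_iff'.mpr ⟨hb1, hf2 b⟩, ?_⟩
    rw [hinv, ha1, one_mul, mul_one, hbi, hf2 b, one_mul]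
  · refine ⟨f a, orderOf_eq_two_iff'.mpr ⟨ha1, hf2 a⟩, ?_⟩
    rw [hinv, hai, ← mul_assoc (f a), hf2 a, one_mul]

end Cfsg.Agent.Lib.Helper2
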