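import Mathlib
import Cfsg.Agent.Lib.Helper2.InvolutionPairs

/-!
# Brauer–Fowler counting
(helper2 library)

`n` = number of involutions.  Main inequality:
`n ^ 2 + n ≤ ∑ over nontrivial real x of |C(x)|`.
-/

set_option autoImplicit false

namespace Cfsg.Agent.Lib.Helper2

open scoped Classical

variable {G : Type*} [Group G]

/-- pairs of involutions with product `1` correspond to involutions. -/
theorem card_invPairs_one [Finite G] :
    Nat.card (InvPairs (1 : G)) = Nat.card {t : G // orderOf t = 2} := by
  apply Nat.card_congr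
  refine
    { toFun := fun p => ⟨p.1.1, p.2.1⟩
      invFun := fun t => ⟨(t.1, t.1), t.2, t.2, (orderOf_eq_two_iff'.mp t.2).2⟩
      left_inv := ?_
      right_inv := fun t => rfl }
  intro p
  apply invPairs_fst_injective
  rfl

/-- the total number of pairs of involutions. -/
theorem sum_card_invPairs [Fintype G] :
    ∑ x : G, Nat.card (InvPairs x) = Nat.card {t : G // orderOf t = 2} ^ 2 := by
  rw [← Nat.card_sigma, pow_two, ← Nat.card_prod]
  apply Nat.card_congr
  refine
    { toFun := fun s => (⟨s.2.1.1, s.2.2.1⟩, ⟨s.2.1.2, s.2.2.2.1⟩)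
      invFun := fun p => ⟨p.1.1 * p.2.1, ⟨(p.1.1, p.2.1), p.1.2, p.2.2, rfl⟩⟩
      left_inv := ?_
      right_inv := fun p => rfl }
  rintro ⟨x, ⟨⟨u, v⟩, hu, hv, huv⟩⟩
  change u * v = x at huv
  subst huv
  rfl

/-- The Brauer–Fowler inequality. -/
theorem sq_add_le_sum_centralizer [Fintype G] :
    Nat.card {t : G // orderOf t = 2} ^ 2 + Nat.card {t : G // orderOf t = 2} ≤
      ∑ x ∈ Finset.univ.filter (fun x : G => x ≠ 1 ∧ IsConj x x⁻¹),
        Nat.card (Subgroup.centralizer ({x} : Set G)) := by
  set n := Nat.card {t : G // orderOf t = 2} with hn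
  set R := Finset.univ.filter (fun x : G => x ≠ 1 ∧ IsConj x x⁻¹) with hR
  set I := Finset.univ.filter (fun x : G => orderOf x = 2) with hI
  have hIcard : I.card = n := by
    rw [hn, Nat.card_eq_fintype_card, Fintype.card_subtype]
  have hIR : I ⊆ R := by
    intro x hx
    rw [hI, Finset.mem_filter] at hx
    rw [hR, Finset.mem_filter]
    refine ⟨Finset.mem_univ _, ?_, ?_⟩
    · intro h1; rw [h1, orderOf_one] at hx; omega
    · rw [inv_eq_self_of_orderOf_eq_two hx.2]
  have h1R : (1 : G) ∉ R := by
    rw [hR, Finset.mem_filter]; intro h; exact h.2.1 rfl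
  -- total count
  have htot : ∑ x : G, Nat.card (InvPairs x) = n ^ 2 := sum_card_invPairs
  have hsub : ∑ x : G, Nat.card (InvPairs x) = ∑ x ∈ insert 1 R, Nat.card (InvPairs x) := by
    symm
    apply Finset.sum_subset (Finset.subset_univ _)
    intro x _ hx
    rw [Finset.mem_insert, not_or] at hx
    apply card_invPairs_eq_zero_of_not_real
    intro hreal
    apply hx.2
    rw [hR, Finset.mem_filter]
    exact ⟨Finset.mem_univ _, hx.1, hreal⟩
  rw [Finset.sum_insert h1R, card_invPairs_one] at hsub
  -- termwise bound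
  have hterm : ∀ x ∈ R, Nat.card (InvPairs x) + (if x ∈ I then 2 else 0) ≤
      Nat.card (Subgroup.centralizer ({x} : Set G)) := by
    intro x _
    have hb := card_invPairs_bounds x
    by_cases hxI : x ∈ I
    · rw [if_pos hxI]
      rw [hI, Finset.mem_filter] at hxI
      exact hb.2.2 hxI.2
    · rw [if_neg hxI, add_zero]; exact hb.1
  have hsum := Finset.sum_le_sum hterm
  rw [Finset.sum_add_distrib] at hsum
  have h2 : ∑ x ∈ R, (if x ∈ I then 2 else 0) = 2 * n := by
    rw [← Finset.sum_filter]
    have : R.filter (fun x => x ∈ I) = I := by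
      ext x
      rw [Finset.mem_filter]
      exact ⟨fun h => h.2, fun h => ⟨hIR h, h⟩⟩
    rw [this, Finset.sum_const, hIcard, smul_eq_mul, mul_comm]
  rw [h2] at hsum
  rw [htot] at hsub
  omega

/-- class equation for one class: `|C(w)| * |cl(w)| = |G|` -/
theorem card_centralizer_mul_card_conjFinset [Fintype G] (w : G) :
    Nat.card ↥(Subgroup.centralizer ({w} : Set G)) *
      (Finset.univ.filter (fun t : G => IsConj w t)).card = Nat.card G := by
  have h1 := Subgroup.card_mul_index (MulAction.stabilizer (ConjAct G) w)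
  rw [MulAction.index_stabilizer, ConjAct.stabilizer_eq_centralizer] at h1
  have h2 : Nat.card ↥(Subgroup.centralizer ({ConjAct.toConjAct w} : Set (ConjAct G))) =
      Nat.card ↥(Subgroup.centralizer ({w} : Set G)) := rfl
  have h3 : (MulAction.orbit (ConjAct G) w).ncard =
      (Finset.univ.filter (fun t : G => IsConj w t)).card := by
    rw [← Set.ncard_coe_finset]
    congr 1
    ext t
    simp only [ConjAct.mem_orbit_conjAct, Finset.coe_filter, Finset.mem_univ, true_and,
      Set.mem_ofPred_eq]
    exact isConj_comm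
  have h4 : Nat.card (ConjAct G) = Nat.card G := rfl
  rw [h2, h3, h4] at h1
  exact h1

/-- the number of involutions is at least the class size of any involution:
`|G| ≤ n * |C(t)|`. -/
theorem card_le_involutions_mul_centralizer [Fintype G] (t : G) (ht : orderOf t = 2) :
    Nat.card G ≤ Nat.card {t : G // orderOf t = 2} *
      Nat.card (Subgroup.centralizer ({t} : Set G)) := by
  rw [← card_centralizer_mul_card_conjFinset t, mul_comm]
  apply Nat.mul_le_mul_right
  rw [Nat.card_eq_fintype_card, Fintype.card_subtype]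
  apply Finset.card_le_card
  intro s hs
  rw [Finset.mem_filter] at hs ⊢
  refine ⟨Finset.mem_univ _, ?_⟩
  obtain ⟨g, hg⟩ := isConj_iff.mp hs.2
  rw [← hg]
  have := orderOf_injective (MulAut.conj g).toMonoidHom (MulAut.conj g).injective t
  simp only [MulEquiv.coe_toMonoidHom, MulAut.conj_apply] at this
  rw [this, ht]

/-- The extended centralizer `C*(x)` of elements centralizing or inverting `x`. -/
def extCentralizer (x : G) : Subgroup G where
  carrier := {g | g * x * g⁻¹ = x ∨ g * x * g⁻¹ = x⁻¹}
  one_mem' := Or.inl (by simp)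
  mul_mem' := by
    intro a b ha hb
    have e1 : a * b * x * (a * b)⁻¹ = a * (b * x * b⁻¹) * a⁻¹ := by group
    have e2 : a * x⁻¹ * a⁻¹ = (a * x * a⁻¹)⁻¹ := by group
    rcases hb with hb | hb
    · rcases ha with ha | ha
      · left; rw [e1, hb, ha]
      · right; rw [e1, hb, ha]
    · rcases ha with ha | ha
      · right; rw [e1, hb, e2, ha]
      · left; rw [e1, hb, e2, ha, inv_inv]
  inv_mem' := by
    intro a ha
    rcases ha with ha | ha
    · left
      nth_rewrite 1 [← ha]; group
    · right
      have h3 : a * x⁻¹ * a⁻¹ = x := by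
        have e2 : a * x⁻¹ * a⁻¹ = (a * x * a⁻¹)⁻¹ := by group
        rw [e2, ha, inv_inv]
      calc a⁻¹ * x * a⁻¹⁻¹ = a⁻¹ * (a * x⁻¹ * a⁻¹) * a⁻¹⁻¹ := by rw [h3]
        _ = x⁻¹ := by group

theorem mem_extCentralizer {x g : G} :
    g ∈ extCentralizer x ↔ g * x * g⁻¹ = x ∨ g * x * g⁻¹ = x⁻¹ := Iff.rfl

/-- `|C*(x)| = 2 |C(x)|` for real `x` with `x ≠ x⁻¹`. -/
theorem card_extCentralizer [Finite G] (x : G) (hreal : IsConj x x⁻¹) (hne : x ≠ x⁻¹) :
    Nat.card (extCentralizer x) = 2 * Nat.card (Subgroup.centralizer ({x} : Set G)) := by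
  have hdisj : Disjoint (fun g : G => g * x * g⁻¹ = x) (fun g : G => g * x * g⁻¹ = x⁻¹) := by
    rw [disjoint_iff_inf_le]
    intro g hg
    exact hne (hg.1.symm.trans hg.2)
  have e := subtypeOrEquiv (fun g : G => g * x * g⁻¹ = x) (fun g : G => g * x * g⁻¹ = x⁻¹) hdisj
  have h1 : Nat.card (extCentralizer x) =
      Nat.card {g : G // g * x * g⁻¹ = x ∨ g * x * g⁻¹ = x⁻¹} := rfl
  rw [h1, Nat.card_congr e, Nat.card_sum, card_inverting_eq_card_centralizer x hreal, two_mul]
  congr 1
  apply Nat.card_congr
  apply Equiv.subtypeEquivRight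
  intro g
  rw [Subgroup.mem_centralizer_iff]
  constructor
  · intro h y hy
    rw [Set.mem_singleton_iff] at hy
    subst hy
    exact (mul_inv_eq_iff_eq_mul.mp h).symm
  · intro h
    exact mul_inv_eq_iff_eq_mul.mpr (h x (Set.mem_singleton x)).symm

theorem centralizer_le_extCentralizer (x : G) :
    Subgroup.centralizer ({x} : Set G) ≤ extCentralizer x := by
  intro g hg
  left
  rw [Subgroup.mem_centralizer_iff] at hg
  exact mul_inv_eq_iff_eq_mul.mpr (hg x (Set.mem_singleton x)).symm

/-- S0233: Brauer–Fowler. -/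
theorem brauer_fowler_index [Finite G] (heven : Even (Nat.card G))
    (hZ : Odd (Nat.card (Subgroup.center G))) :
    ∃ H : Subgroup G, H ≠ ⊤ ∧ (H.index = 2 ∨
      2 * H.index * (Nat.card {t : G // orderOf t = 2}) ^ 2 <
        Nat.card G * (Nat.card G + Nat.card {t : G // orderOf t = 2})) := by
  haveI : Fintype G := Fintype.ofFinite G
  by_cases h2 : ∃ H : Subgroup G, H.index = 2
  · obtain ⟨H, hH⟩ := h2
    refine ⟨H, ?_, Or.inl hH⟩
    intro htop
    rw [htop, Subgroup.index_top] at hH
    omega
  push Not at h2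
  have hNpos : 0 < Nat.card G := Nat.card_pos
  have hntriv : (⊥ : Subgroup G) ≠ ⊤ := by
    intro h
    have h1 : Nat.card (⊥ : Subgroup G) = Nat.card (⊤ : Subgroup G) := by rw [h]
    rw [Subgroup.card_bot, Subgroup.card_top] at h1
    rw [← h1] at heven
    exact absurd heven (by decide)
  -- a proper subgroup of minimal index
  have hex : ∃ k : ℕ, ∃ H : Subgroup G, H ≠ ⊤ ∧ H.index = k := ⟨_, ⊥, hntriv, rfl⟩
  obtain ⟨H, hHtop, hHk⟩ := Nat.find_spec hex
  have hmin : ∀ H' : Subgroup G, H' ≠ ⊤ → H.index ≤ H'.index := by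
    intro H' hH'
    rw [hHk]
    exact Nat.find_min' hex ⟨H', hH', rfl⟩
  refine ⟨H, hHtop, Or.inr ?_⟩
  set k := H.index with hk
  set N := Nat.card G with hN
  set n := Nat.card {t : G // orderOf t = 2} with hn
  set R := Finset.univ.filter (fun x : G => x ≠ 1 ∧ IsConj x x⁻¹) with hR
  set I := Finset.univ.filter (fun x : G => orderOf x = 2) with hI
  have hIcard : I.card = n := by
    rw [hn, Nat.card_eq_fintype_card, Fintype.card_subtype]
  have hIR : I ⊆ R := by
    intro x hx
    rw [hI, Finset.mem_filter] at hx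
    rw [hR, Finset.mem_filter]
    refine ⟨Finset.mem_univ _, ?_, ?_⟩
    · intro h1; rw [h1, orderOf_one] at hx; omega
    · rw [inv_eq_self_of_orderOf_eq_two hx.2]
  have hmain := sq_add_le_sum_centralizer (G := G)
  rw [← hn, ← hR] at hmain
  -- bounds on the centralizers
  have hinv : ∀ x ∈ I, 2 * k * Nat.card (Subgroup.centralizer ({x} : Set G)) ≤ 2 * N := by
    intro x hx
    rw [hI, Finset.mem_filter] at hx
    have hxord := hx.2
    have hCtop : Subgroup.centralizer ({x} : Set G) ≠ ⊤ := by
      intro htop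
      have hxZ : x ∈ Subgroup.center G := by
        rw [Subgroup.mem_center_iff]
        intro g
        have : g ∈ Subgroup.centralizer ({x} : Set G) := by rw [htop]; trivial
        rw [Subgroup.mem_centralizer_iff] at this
        exact (this x (Set.mem_singleton x)).symm
      have hdvd : 2 ∣ Nat.card (Subgroup.center G) := by
        have := orderOf_dvd_natCard (⟨x, hxZ⟩ : Subgroup.center G)
        rwa [Subgroup.orderOf_mk, hxord] at this
      rw [Nat.odd_iff] at hZ
      omega
    have h1 := hmin _ hCtop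
    have h2 := Subgroup.card_mul_index (Subgroup.centralizer ({x} : Set G))
    rw [← hN] at h2
    calc 2 * k * Nat.card (Subgroup.centralizer ({x} : Set G))
        = 2 * (Nat.card (Subgroup.centralizer ({x} : Set G)) * k) := by ring
      _ ≤ 2 * (Nat.card (Subgroup.centralizer ({x} : Set G)) *
            (Subgroup.centralizer ({x} : Set G)).index) :=
          Nat.mul_le_mul_left _ (Nat.mul_le_mul_left _ h1)
      _ = 2 * N := by rw [h2]
  have hninv : ∀ x ∈ R, x ∉ I →
      2 * k * Nat.card (Subgroup.centralizer ({x} : Set G)) ≤ N := by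
    intro x hx hxI
    rw [hR, Finset.mem_filter] at hx
    have hne : x ≠ x⁻¹ := by
      intro h
      apply hxI
      rw [hI, Finset.mem_filter]
      refine ⟨Finset.mem_univ _, ?_⟩
      rcases inv_eq_self_iff.mp h.symm with h1 | h1
      · exact absurd h1 hx.2.1
      · exact h1
    have hcard := card_extCentralizer x hx.2.2 hne
    have hEtop : extCentralizer x ≠ ⊤ := by
      intro htop
      apply h2 (Subgroup.centralizer ({x} : Set G))
      have h3 := Subgroup.card_mul_index (Subgroup.centralizer ({x} : Set G))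
      have h4 : Nat.card (extCentralizer x) = Nat.card G := by
        rw [htop, Subgroup.card_top]
      rw [hcard] at h4
      rw [← h4] at h3
      have hpos : 0 < Nat.card (Subgroup.centralizer ({x} : Set G)) := Nat.card_pos
      have : Nat.card (Subgroup.centralizer ({x} : Set G)) *
          (Subgroup.centralizer ({x} : Set G)).index =
          Nat.card (Subgroup.centralizer ({x} : Set G)) * 2 := by rw [h3]; ring
      exact Nat.eq_of_mul_eq_mul_left hpos this
    have h1 := hmin _ hEtop
    have h3 := Subgroup.card_mul_index (extCentralizer x)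
    rw [← hN, hcard] at h3
    calc 2 * k * Nat.card (Subgroup.centralizer ({x} : Set G))
        = 2 * Nat.card (Subgroup.centralizer ({x} : Set G)) * k := by ring
      _ ≤ 2 * Nat.card (Subgroup.centralizer ({x} : Set G)) * (extCentralizer x).index :=
          Nat.mul_le_mul_left _ h1
      _ = N := h3
  -- sum up
  have hsum : 2 * k * ∑ x ∈ R, Nat.card (Subgroup.centralizer ({x} : Set G)) ≤
      ∑ x ∈ R, (if x ∈ I then 2 * N else N) := by
    rw [Finset.mul_sum]
    apply Finset.sum_le_sum
    intro x hx
    by_cases hxI : x ∈ I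
    · rw [if_pos hxI]; exact hinv x hxI
    · rw [if_neg hxI]; exact hninv x hx hxI
  have hsplit : ∑ x ∈ R, (if x ∈ I then 2 * N else N) = 2 * N * n + N * (R \ I).card := by
    rw [Finset.sum_ite]
    have e1 : R.filter (fun x => x ∈ I) = I := by
      ext x
      rw [Finset.mem_filter]
      exact ⟨fun h => h.2, fun h => ⟨hIR h, h⟩⟩
    have e2 : R.filter (fun x => x ∉ I) = R \ I := by
      ext x
      rw [Finset.mem_filter, Finset.mem_sdiff]
    rw [e1, e2, Finset.sum_const, Finset.sum_const, hIcard, smul_eq_mul, smul_eq_mul]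
    ring
  have hRcard : (R \ I).card + n + 1 ≤ N := by
    have h1R : (1 : G) ∉ R := by
      rw [hR, Finset.mem_filter]; intro h; exact h.2.1 rfl
    have h3 : (insert 1 R).card ≤ N := by
      rw [hN, Nat.card_eq_fintype_card]; exact Finset.card_le_univ _
    rw [Finset.card_insert_of_notMem h1R] at h3
    have h4 := Finset.card_sdiff_add_card_eq_card hIR
    rw [hIcard] at h4
    omega
  have hfin : 2 * k * (n ^ 2 + n) ≤ 2 * N * n + N * (R \ I).card := by
    calc 2 * k * (n ^ 2 + n)
        ≤ 2 * k * ∑ x ∈ R, Nat.card (Subgroup.centralizer ({x} : Set G)) :=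
          Nat.mul_le_mul_left _ hmain
      _ ≤ _ := hsum
      _ = _ := hsplit
  have hr : N * (R \ I).card + N * n + N ≤ N * N := by
    calc N * (R \ I).card + N * n + N = N * ((R \ I).card + n + 1) := by ring
      _ ≤ N * N := Nat.mul_le_mul_left _ hRcard
  nlinarith

end Cfsg.Agent.Lib.Helper2
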