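import Mathlib
import Cfsg.Agent.Lib.Helper2.BrauerFowler
import Cfsg.Agent.Lib.Helper7.SylowBasic
import Cfsg.Agent.Lib.Helper2.IndexTwo

/-!
# Consequences of the Brauer–Fowler inequality
(helper2 library)
-/

set_option autoImplicit false

namespace Cfsg.Agent.Lib.Helper2

variable {G : Type*} [Group G]

/-- S0212: the Brauer–Fowler bound `|G| ≤ (2 n ^ 2)!`, `n = |C(t)|`. -/
theorem brauer_fowler_factorial [Finite G] [IsSimpleGroup G] (t : G) (ht : orderOf t = 2) :
    Nat.card G ≤ Nat.factorial (2 * (Nat.card (Subgroup.centralizer ({t} : Set G))) ^ 2) := by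
  haveI : Fintype G := Fintype.ofFinite G
  set c := Nat.card (Subgroup.centralizer ({t} : Set G)) with hc
  set N := Nat.card G with hN
  have hcpos : 0 < c := Nat.card_pos
  have heven : Even N := by
    rw [even_iff_two_dvd, ← ht]; exact orderOf_dvd_natCard t
  rcases (Subgroup.Normal.eq_bot_or_eq_top (H := Subgroup.center G) inferInstance) with hZ | hZ
  · -- centre trivial
    have hZodd : Odd (Nat.card (Subgroup.center G)) := by
      rw [hZ, Subgroup.card_bot]; exact odd_one
    obtain ⟨H, hHtop, hH⟩ := brauer_fowler_index heven hZodd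
    have hdvd := Cfsg.Agent.Lib.Helper7.card_dvd_factorial_index_of_simple H hHtop
    have hle : N ≤ H.index.factorial := Nat.le_of_dvd (Nat.factorial_pos _) hdvd
    refine hle.trans (Nat.factorial_le ?_)
    rcases hH with h2 | hlt
    · rw [h2]
      have : 1 ≤ c ^ 2 := Nat.one_le_pow _ _ hcpos
      omega
    · set n := Nat.card {t : G // orderOf t = 2} with hn
      have hNle : N ≤ n * c := card_le_involutions_mul_centralizer t ht
      have hnpos : 0 < n := by
        rw [hn]
        exact Nat.card_pos_iff.mpr ⟨⟨⟨t, ht⟩⟩, inferInstance⟩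
      -- 2 * idx * n^2 < N (N + n) ≤ n c (n c + n) = n^2 c (c+1)
      have h1 : N * (N + n) ≤ n * c * (n * c + n) :=
        Nat.mul_le_mul hNle (Nat.add_le_add_right hNle n)
      have h2 : 2 * H.index * n ^ 2 < n ^ 2 * (c * (c + 1)) := by
        calc 2 * H.index * n ^ 2 < N * (N + n) := hlt
          _ ≤ n * c * (n * c + n) := h1
          _ = n ^ 2 * (c * (c + 1)) := by ring
      have h3 : 2 * H.index < c * (c + 1) := by
        have hn2 : 0 < n ^ 2 := by positivity
        rw [mul_comm (2 * H.index)] at h2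
        exact lt_of_mul_lt_mul_left h2 (Nat.zero_le _)
      have h4 : c * (c + 1) ≤ 2 * c ^ 2 := by nlinarith
      nlinarith
  · -- `G` abelian: `c = N`
    have hCtop : Subgroup.centralizer ({t} : Set G) = ⊤ := by
      rw [eq_top_iff]
      intro g _
      rw [Subgroup.mem_centralizer_iff]
      intro y hy
      have hg : g ∈ Subgroup.center G := by rw [hZ]; trivial
      exact ((Subgroup.mem_center_iff.mp hg) y)
    have hcN : c = N := by rw [hc, hCtop, Subgroup.card_top]
    rw [hcN]
    refine le_trans ?_ (Nat.self_le_factorial _)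
    nlinarith [Nat.card_pos (α := G)]

/-- centre of odd order, no large proper subgroup: contradiction. -/
theorem exists_large_subgroup_of_center_odd [Finite G] (heven : Even (Nat.card G))
    (hZ : Odd (Nat.card (Subgroup.center G))) :
    ∃ H : Subgroup G, H ≠ ⊤ ∧ Nat.card G < (Nat.card H) ^ 3 := by
  classical
  haveI : Fintype G := Fintype.ofFinite G
  haveI : Fact (Nat.Prime 2) := ⟨Nat.prime_two⟩
  by_contra hcon
  push Not at hcon
  set N := Nat.card G with hN
  have hNpos : 0 < N := Nat.card_pos
  obtain ⟨t, ht⟩ := exists_prime_orderOf_dvd_card' (G := G) 2 heven.two_dvd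
  -- the integer cube root bound
  obtain ⟨m, hm3, hmle⟩ : ∃ m : ℕ, m ^ 3 ≤ N ∧ ∀ k : ℕ, k ^ 3 ≤ N → k ≤ m := by
    refine ⟨Nat.findGreatest (fun m => m ^ 3 ≤ N) N, ?_, ?_⟩
    · exact Nat.findGreatest_spec (P := fun m => m ^ 3 ≤ N) (Nat.zero_le N) (by simp)
    · intro k hk
      refine Nat.le_findGreatest (P := fun m => m ^ 3 ≤ N) ?_ hk
      calc k = k ^ 1 := (pow_one k).symm
        _ ≤ k ^ 3 := by
          rcases Nat.eq_zero_or_pos k with h0 | h0
          · rw [h0]; simp
          · exact Nat.pow_le_pow_right h0 (by norm_num)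
        _ ≤ N := hk
  -- no nontrivial real element is central
  have hcent : ∀ x : G, x ≠ 1 → IsConj x x⁻¹ → Subgroup.centralizer ({x} : Set G) ≠ ⊤ := by
    intro x hx1 hreal htop
    have hxZ : x ∈ Subgroup.center G := by
      rw [Subgroup.mem_center_iff]
      intro g
      have : g ∈ Subgroup.centralizer ({x} : Set G) := by rw [htop]; trivial
      rw [Subgroup.mem_centralizer_iff] at this
      exact (this x (Set.mem_singleton x)).symm
    obtain ⟨g, hg⟩ := isConj_iff.mp hreal
    have hxx : x = x⁻¹ := by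
      rw [← hg, (Subgroup.mem_center_iff.mp hxZ) g, mul_inv_cancel_right]
    have hxord : orderOf x = 2 := by
      rcases inv_eq_self_iff.mp hxx.symm with h1 | h1
      · exact absurd h1 hx1
      · exact h1
    have hdvd : 2 ∣ Nat.card (Subgroup.center G) := by
      have := orderOf_dvd_natCard (⟨x, hxZ⟩ : Subgroup.center G)
      rwa [Subgroup.orderOf_mk, hxord] at this
    rw [Nat.odd_iff] at hZ
    omega
  have hCle : ∀ x : G, x ≠ 1 → IsConj x x⁻¹ →
      Nat.card (Subgroup.centralizer ({x} : Set G)) ≤ m := by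
    intro x hx1 hreal
    exact hmle _ (hcon _ (hcent x hx1 hreal))
  set n := Nat.card {t : G // orderOf t = 2} with hn
  set c := Nat.card (Subgroup.centralizer ({t} : Set G)) with hc
  have ht1 : t ≠ 1 := by intro h; rw [h, orderOf_one] at ht; omega
  have htreal : IsConj t t⁻¹ := by rw [inv_eq_self_of_orderOf_eq_two ht]
  have hcm : c ≤ m := hCle t ht1 htreal
  have hNle : N ≤ n * c := card_le_involutions_mul_centralizer t ht
  have hmain := sq_add_le_sum_centralizer (G := G)
  rw [← hn] at hmain
  set R := Finset.univ.filter (fun x : G => x ≠ 1 ∧ IsConj x x⁻¹) with hR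
  have hsum : ∑ x ∈ R, Nat.card (Subgroup.centralizer ({x} : Set G)) ≤ R.card * m := by
    rw [← smul_eq_mul, ← Finset.sum_const]
    apply Finset.sum_le_sum
    intro x hx
    rw [hR, Finset.mem_filter] at hx
    exact hCle x hx.2.1 hx.2.2
  have hRcard : R.card + 1 ≤ N := by
    have h1R : (1 : G) ∉ R := by
      rw [hR, Finset.mem_filter]; intro h; exact h.2.1 rfl
    have h3 : (insert 1 R).card ≤ N := by
      rw [hN, Nat.card_eq_fintype_card]; exact Finset.card_le_univ _
    rwa [Finset.card_insert_of_notMem h1R] at h3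
  have hnpos : 0 < n := by
    rw [hn]
    exact Nat.card_pos_iff.mpr ⟨⟨⟨t, ht⟩⟩, inferInstance⟩
  have hmpos : 0 < m := by
    rcases Nat.eq_zero_or_pos m with h0 | h0
    · have := hmle 1 (by rw [one_pow]; exact hNpos)
      omega
    · exact h0
  -- n^2 + n ≤ (N - 1) m
  have h1 : n ^ 2 + n + m ≤ N * m := by
    calc n ^ 2 + n + m ≤ R.card * m + m := Nat.add_le_add_right (hmain.trans hsum) m
      _ = (R.card + 1) * m := by ring
      _ ≤ N * m := Nat.mul_le_mul_right m hRcard
  -- N ≤ n m
  have h2 : N ≤ n * m := hNle.trans (Nat.mul_le_mul_left n hcm)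
  -- n^2 < n m^2, so n < m^2
  have h3 : n ^ 2 < n * m ^ 2 := by
    calc n ^ 2 < n ^ 2 + n + m := by omega
      _ ≤ N * m := h1
      _ ≤ n * m * m := Nat.mul_le_mul_right m h2
      _ = n * m ^ 2 := by ring
  have h4 : n < m ^ 2 := by
    rw [pow_two n] at h3
    exact lt_of_mul_lt_mul_left h3 (Nat.zero_le _)
  have h5 : N < m ^ 3 := by
    calc N ≤ n * m := h2
      _ < m ^ 2 * m := Nat.mul_lt_mul_of_pos_right h4 hmpos
      _ = m ^ 3 := by ring
  omega

/-- a subgroup of index 2 is large enough -/
theorem large_of_index_two [Finite G] (hgt : 2 < Nat.card G) (H : Subgroup G)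
    (hH : H.index = 2) : H ≠ ⊤ ∧ Nat.card G < (Nat.card H) ^ 3 := by
  constructor
  · intro htop
    rw [htop, Subgroup.index_top] at hH
    omega
  · have h1 := H.card_mul_index
    rw [hH] at h1
    have h2 : 2 ≤ Nat.card H := by omega
    rw [← h1]
    nlinarith [pow_pos (Nat.card_pos (α := H)) 2]

/-- S0232: a group of even order `> 2` has a proper subgroup `H` with `|G| < |H| ^ 3`. -/
theorem exists_large_subgroup [Finite G] (heven : Even (Nat.card G)) (hgt : 2 < Nat.card G) :
    ∃ H : Subgroup G, H ≠ ⊤ ∧ Nat.card G < (Nat.card H) ^ 3 := by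
  classical
  haveI : Fact (Nat.Prime 2) := ⟨Nat.prime_two⟩
  induction hN : Nat.card G using Nat.strong_induction_on generalizing G with
  | _ N ih =>
    by_cases h2 : ∃ H : Subgroup G, H.index = 2
    · obtain ⟨H, hH⟩ := h2
      rw [← hN]
      exact ⟨H, large_of_index_two hgt H hH⟩
    by_cases hZ : Odd (Nat.card (Subgroup.center G))
    · rw [← hN]
      exact exists_large_subgroup_of_center_odd heven hZ
    -- a central involution
    rw [Nat.not_odd_iff_even] at hZ
    obtain ⟨z, hz⟩ := exists_prime_orderOf_dvd_card' (G := Subgroup.center G) 2 hZ.two_dvd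
    set Z : Subgroup G := Subgroup.zpowers (z : G) with hZdef
    have hzord : orderOf (z : G) = 2 := by rw [Subgroup.orderOf_coe]; exact hz
    have hZcard : Nat.card Z = 2 := by rw [hZdef, Nat.card_zpowers, hzord]
    haveI hZnormal : Z.Normal := by
      constructor
      rintro a ⟨k, rfl⟩ g
      refine ⟨k, ?_⟩
      change (z : G) ^ k = g * (z : G) ^ k * g⁻¹
      have hcomm : Commute g (z : G) := ((Subgroup.mem_center_iff.mp z.2) g)
      rw [(hcomm.zpow_right k).eq, mul_inv_cancel_right]
    have hQcard : Nat.card (G ⧸ Z) * 2 = Nat.card G := by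
      rw [← hZcard, mul_comm, ← Subgroup.index_eq_card]; exact Z.card_mul_index
    -- `4 ∣ |G|`, else a cyclic Sylow 2-subgroup gives index 2
    have hQeven : Even (Nat.card (G ⧸ Z)) := by
      by_contra hodd
      rw [Nat.not_even_iff_odd] at hodd
      apply h2
      obtain ⟨T⟩ : Nonempty (Sylow 2 G) := inferInstance
      apply exists_index_two_of_cyclic_sylow heven T
      have hT2 : 2 ∣ Nat.card (T : Subgroup G) := T.dvd_card_of_dvd_card heven.two_dvd
      obtain ⟨a, ha⟩ := IsPGroup.iff_card.mp T.2
      have hTdvd : Nat.card (T : Subgroup G) ∣ Nat.card G := Subgroup.card_subgroup_dvd_card _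
      rw [← hQcard, ha] at hTdvd
      have hcop : Nat.Coprime (2 ^ a) (Nat.card (G ⧸ Z)) :=
        Nat.Coprime.pow_left _ ((Nat.coprime_two_left).mpr hodd)
      have hdvd2 : 2 ^ a ∣ 2 := hcop.dvd_of_dvd_mul_left hTdvd
      have hle : 2 ^ a ≤ 2 := Nat.le_of_dvd (by norm_num) hdvd2
      have hTcard : Nat.card (T : Subgroup G) = 2 := by
        rw [ha] at hT2 ⊢
        have := Nat.le_of_dvd (by positivity) hT2
        omega
      exact isCyclic_of_prime_card hTcard
    by_cases hQ2 : Nat.card (G ⧸ Z) = 2
    · -- `|G| = 4`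
      refine ⟨Z, ?_, ?_⟩
      · intro htop
        rw [htop, Subgroup.card_top] at hZcard
        omega
      · rw [hZcard, ← hN, ← hQcard, hQ2]; norm_num
    · have hQgt : 2 < Nat.card (G ⧸ Z) := by
        rcases hQeven with ⟨r, hr⟩
        have : 0 < Nat.card (G ⧸ Z) := Nat.card_pos
        omega
      have hlt : Nat.card (G ⧸ Z) < N := by omega
      obtain ⟨Hbar, hHbar, hHlt⟩ := ih _ hlt hQeven hQgt rfl
      refine ⟨Hbar.comap (QuotientGroup.mk' Z), ?_, ?_⟩
      · intro htop
        apply hHbar
        have := Subgroup.index_comap_of_surjective Hbar (QuotientGroup.mk'_surjective Z)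
        rw [htop, Subgroup.index_top] at this
        exact Subgroup.index_eq_one.mp this.symm
      · have hidx := Subgroup.index_comap_of_surjective Hbar (QuotientGroup.mk'_surjective Z)
        have h3 := (Hbar.comap (QuotientGroup.mk' Z)).card_mul_index
        have h4 := Hbar.card_mul_index
        rw [hidx] at h3
        have hidxpos : 0 < Hbar.index := Nat.pos_of_ne_zero Subgroup.index_ne_zero_of_finite
        have h5 : Nat.card (Hbar.comap (QuotientGroup.mk' Z)) = 2 * Nat.card Hbar := by
          have : Nat.card (Hbar.comap (QuotientGroup.mk' Z)) * Hbar.index =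
              2 * Nat.card Hbar * Hbar.index := by
            rw [h3, ← hQcard, ← h4]; ring
          exact Nat.eq_of_mul_eq_mul_right hidxpos this
        rw [h5, ← hN, ← hQcard]
        have : (2 * Nat.card Hbar) ^ 3 = 8 * (Nat.card Hbar) ^ 3 := by ring
        rw [this]
        omega

end Cfsg.Agent.Lib.Helper2
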