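import Mathlib
import Cfsg.Agent.Lib.Helper2.BrauerFowler2
import Cfsg.Agent.Lib.Helper2.BurnsidePQ

/-!
# In a simple group of even order > 2 fewer than a third of the elements are involutions (S0234)
(helper2 library)
-/

set_option autoImplicit false

namespace Cfsg.Agent.Lib.Helper2

open Equiv

universe u

/-- number of involutions of `A₅` -/
theorem a5_card_involutions :
    Fintype.card {g : alternatingGroup (Fin 5) // g ≠ 1 ∧ g * g = 1} = 15 := by
  decide +kernel

theorem a5_natCard_involutions :
    Nat.card {g : alternatingGroup (Fin 5) // orderOf g = 2} = 15 := by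
  rw [← a5_card_involutions, ← Nat.card_eq_fintype_card]
  apply Nat.card_congr
  apply Equiv.subtypeEquivRight
  intro g
  exact orderOf_eq_two_iff'

/-- the number of involutions is invariant under isomorphism -/
theorem card_involutions_congr {G H : Type*} [Group G] [Group H] (e : G ≃* H) :
    Nat.card {g : G // orderOf g = 2} = Nat.card {h : H // orderOf h = 2} := by
  apply Nat.card_congr
  refine e.toEquiv.subtypeEquiv ?_
  intro g
  change orderOf g = 2 ↔ orderOf (e g) = 2
  rw [MulEquiv.orderOf_eq]

variable {G : Type u} [Group G]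

/-- a finite simple solvable group has prime order -/
theorem prime_card_of_simple_of_solvable [Finite G] [IsSimpleGroup G] (h : Group.IsSolvable G) :
    (Nat.card G).Prime := by
  have hcomm : ∀ a b : G, a * b = b * a := IsSimpleGroup.comm_iff_isSolvable.mpr h
  letI : CommGroup G := { (inferInstance : Group G) with mul_comm := hcomm }
  exact IsSimpleGroup.prime_card

/-- a simple group of even order `> 2` does not have order `p ^ a * q ^ b`. -/
theorem not_card_eq_prime_pow_mul_prime_pow [Finite G] [IsSimpleGroup G]
    (heven : Even (Nat.card G)) (hgt : 2 < Nat.card G) (p q a b : ℕ) (hp : p.Prime)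
    (hq : q.Prime) (h : Nat.card G = p ^ a * q ^ b) : False := by
  have hs := isSolvable_of_card_eq_prime_pow_mul_prime_pow p q hp hq (Nat.card G) G rfl ⟨a, b, h⟩
  have hprime := prime_card_of_simple_of_solvable hs
  have := (Nat.Prime.eq_one_or_self_of_dvd hprime 2 heven.two_dvd)
  omega

/-- the action of a simple group on the cosets of a proper subgroup is faithful -/
theorem toPermHom_injective_of_simple [IsSimpleGroup G] (H : Subgroup G) (hH : H ≠ ⊤) :
    Function.Injective (MulAction.toPermHom G (G ⧸ H)) := by
  rw [← MonoidHom.ker_eq_bot_iff]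
  rcases (Subgroup.Normal.eq_bot_or_eq_top (H := (MulAction.toPermHom G (G ⧸ H)).ker)
    inferInstance) with h | h
  · exact h
  · exfalso
    apply hH
    rw [eq_top_iff]
    intro g _
    have hg : g ∈ (MulAction.toPermHom G (G ⧸ H)).ker := by rw [h]; trivial
    rw [MonoidHom.mem_ker] at hg
    have h3 : g • ((1 : G) : G ⧸ H) = ((1 : G) : G ⧸ H) := by
      have := congrArg (fun σ : Equiv.Perm (G ⧸ H) => σ ((1 : G) : G ⧸ H)) hg
      simpa using this
    rw [MulAction.Quotient.smul_mk, QuotientGroup.eq] at h3
    simpa using h3

/-- S0234. -/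
theorem three_mul_card_involutions_lt [Finite G] [IsSimpleGroup G]
    (heven : Even (Nat.card G)) (hgt : 2 < Nat.card G) :
    3 * Nat.card {t : G // orderOf t = 2} < Nat.card G := by
  classical
  by_contra hcon
  push Not at hcon
  set N := Nat.card G with hN
  set n := Nat.card {t : G // orderOf t = 2} with hn
  have hnopq : ∀ p q a b : ℕ, p.Prime → q.Prime → N ≠ p ^ a * q ^ b := by
    intro p q a b hp hq h
    exact not_card_eq_prime_pow_mul_prime_pow heven hgt p q a b hp hq h
  -- the centre is trivial
  have hZ : Odd (Nat.card (Subgroup.center G)) := by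
    rcases (Subgroup.Normal.eq_bot_or_eq_top (H := Subgroup.center G) inferInstance) with h | h
    · rw [h, Subgroup.card_bot]; exact odd_one
    · exfalso
      have hcomm : ∀ a b : G, a * b = b * a := by
        intro a b
        have ha : a ∈ Subgroup.center G := by rw [h]; trivial
        exact ((Subgroup.mem_center_iff.mp ha) b).symm
      have hs : Group.IsSolvable G := IsSimpleGroup.comm_iff_isSolvable.mp hcomm
      have hprime := prime_card_of_simple_of_solvable hs
      have := (Nat.Prime.eq_one_or_self_of_dvd hprime 2 heven.two_dvd)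
      omega
  obtain ⟨H, hHtop, hH⟩ := brauer_fowler_index heven hZ
  have hdvd := Cfsg.Agent.Lib.Helper7.card_dvd_factorial_index_of_simple H hHtop
  have hnpos : 0 < n := by
    rcases Nat.eq_zero_or_pos n with h0 | h0
    · rw [h0] at hcon; omega
    · exact h0
  have hidx : H.index ≤ 5 := by
    rcases hH with h2 | hlt
    · omega
    · by_contra hbig
      push Not at hbig
      have h1 : N * (N + n) ≤ 3 * n * (3 * n + n) :=
        Nat.mul_le_mul hcon (Nat.add_le_add_right hcon n)
      have h2 : 2 * 6 * n ^ 2 ≤ 2 * H.index * n ^ 2 :=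
        Nat.mul_le_mul_right _ (Nat.mul_le_mul_left _ hbig)
      nlinarith
  have hidxpos : 0 < H.index := Nat.pos_of_ne_zero Subgroup.index_ne_zero_of_finite
  by_cases hidx4 : H.index ≤ 4
  · -- `N ∣ 24`
    have h24 : N ∣ 2 ^ 3 * 3 ^ 1 := by
      have : (H.index).factorial ∣ (4).factorial := Nat.factorial_dvd_factorial hidx4
      exact hdvd.trans this
    obtain ⟨a, b, -, -, hab⟩ := dvd_prime_pow_mul_prime_pow Nat.prime_two Nat.prime_three h24
    exact hnopq 2 3 a b Nat.prime_two Nat.prime_three hab
  · have hidx5 : H.index = 5 := by omega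
    haveI : Fintype (G ⧸ H) := Fintype.ofFinite _
    have hcard5 : Fintype.card (G ⧸ H) = 5 := by
      rw [← Nat.card_eq_fintype_card, ← Subgroup.index_eq_card, hidx5]
    have hinj := toPermHom_injective_of_simple H hHtop
    set f := MulAction.toPermHom G (G ⧸ H) with hf
    -- the image lies in the alternating group
    have hsign : ∀ g : G, Equiv.Perm.sign (f g) = 1 := by
      rcases (Subgroup.Normal.eq_bot_or_eq_top
        (H := (Equiv.Perm.sign.comp f).ker) inferInstance) with h | h
      · exfalso
        have hinj2 : Function.Injective (Equiv.Perm.sign.comp f) :=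
          (MonoidHom.ker_eq_bot_iff _).mp h
        have := Nat.card_le_card_of_injective _ hinj2
        rw [Nat.card_eq_fintype_card (α := ℤˣ)] at this
        have h2 : Fintype.card ℤˣ = 2 := by decide
        omega
      · intro g
        have hg : g ∈ (Equiv.Perm.sign.comp f).ker := by rw [h]; trivial
        exact hg
    let ψ : G →* alternatingGroup (G ⧸ H) :=
      f.codRestrict (alternatingGroup (G ⧸ H)) (fun g => Equiv.Perm.mem_alternatingGroup.mpr (hsign g))
    have hψ : Function.Injective ψ := by
      intro a b hab
      apply hinj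
      exact congrArg Subtype.val hab
    have hA : Nat.card (alternatingGroup (G ⧸ H)) = 60 := by
      haveI : Nontrivial (G ⧸ H) :=
        Fintype.one_lt_card_iff_nontrivial.mp (by rw [hcard5]; norm_num)
      have := two_mul_nat_card_alternatingGroup (α := G ⧸ H)
      rw [Nat.card_eq_fintype_card (α := Equiv.Perm (G ⧸ H)), Fintype.card_perm, hcard5] at this
      have h5 : (5).factorial = 120 := by decide
      omega
    have hrange : Nat.card ψ.range = N :=
      (Nat.card_congr (MonoidHom.ofInjective hψ).toEquiv).symm
    have hidxA : ψ.range.index * N = 60 := by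
      rw [← hrange, ← hA]; exact ψ.range.index_mul_card
    have hN60 : N ∣ 60 := ⟨ψ.range.index, by rw [← hidxA]; ring⟩
    have hmem : N ∈ Nat.divisors 60 := Nat.mem_divisors.mpr ⟨hN60, by norm_num⟩
    have hdiv : Nat.divisors 60 = {1, 2, 3, 4, 5, 6, 10, 12, 15, 20, 30, 60} := by decide
    rw [hdiv] at hmem
    simp only [Finset.mem_insert, Finset.mem_singleton] at hmem
    obtain ⟨r, hr⟩ := heven
    rcases hmem with h | h | h | h | h | h | h | h | h | h | h | h
    · omega
    · omega
    · omega
    · exact hnopq 2 3 2 0 Nat.prime_two Nat.prime_three (by rw [h]; norm_num)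
    · omega
    · exact hnopq 2 3 1 1 Nat.prime_two Nat.prime_three (by rw [h]; norm_num)
    · exact hnopq 2 5 1 1 Nat.prime_two Nat.prime_five (by rw [h]; norm_num)
    · exact hnopq 2 3 2 1 Nat.prime_two Nat.prime_three (by rw [h]; norm_num)
    · omega
    · exact hnopq 2 5 2 1 Nat.prime_two Nat.prime_five (by rw [h]; norm_num)
    · -- index 2 in `A₅`
      have hi2 : ψ.range.index = 2 := by rw [h] at hidxA; omega
      haveI : IsSimpleGroup (alternatingGroup (G ⧸ H)) :=
        alternatingGroup.isSimpleGroup (by rw [Nat.card_eq_fintype_card, hcard5])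
      have hnorm : ψ.range.Normal := Subgroup.normal_of_index_eq_two hi2
      rcases hnorm.eq_bot_or_eq_top with hb | ht
      · rw [hb, Subgroup.card_bot] at hrange; omega
      · rw [ht, Subgroup.index_top] at hi2; omega
    · -- `G ≃ A₅`
      have hsurj : ψ.range = ⊤ := by
        apply Subgroup.eq_top_of_card_eq
        rw [hrange, hA, h]
      have e1 : G ≃* alternatingGroup (G ⧸ H) :=
        MulEquiv.ofBijective ψ ⟨hψ, MonoidHom.range_eq_top.mp hsurj⟩
      have e2 : alternatingGroup (G ⧸ H) ≃* alternatingGroup (Fin 5) :=
        Equiv.altCongrHom (Fintype.equivFinOfCardEq hcard5)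
      have hn15 : n = 15 := by
        rw [hn, card_involutions_congr (e1.trans e2), a5_natCard_involutions]
      omega

end Cfsg.Agent.Lib.Helper2
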