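import Mathlib
import Cfsg.Prelude.Def_TwoFusion
import Cfsg.Agent.Lib.Helper2.Dihedral
import Cfsg.Agent.Lib.Helper9.Isolated

/-!
# Involutions isolated in a Sylow 2-subgroup
(helper2 library)
-/

set_option autoImplicit false

namespace Cfsg.Agent.Lib.Helper2

open TwoInv
open scoped Pointwise

variable {G : Type*} [Group G]

/-- the closure of two commuting involutions is a `2`-group -/
theorem isPGroup_closure_of_commute {u v : G} (hu : u * u = 1) (hv : v * v = 1)
    (hc : Commute u v) : IsPGroup 2 (Subgroup.closure ({u, v} : Set G)) := by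
  apply isPGroup_closure hu hv (a := 1)
  rw [pow_one, pow_two]
  calc u * v * (u * v) = u * (v * u) * v := by group
    _ = u * (u * v) * v := by rw [hc.eq]
    _ = (u * u) * (v * v) := by group
    _ = 1 := by rw [hu, hv, one_mul]

/-- If `u` is isolated in the Sylow 2-subgroup `P`, then it is isolated in every 2-subgroup
containing it. -/
theorem conj_eq_of_mem_pgroup [Finite G] (P : Sylow 2 G) (u : G)
    (hiso : ∀ g : G, g * u * g⁻¹ ∈ P → g * u * g⁻¹ = u) (K : Subgroup G) (hK : IsPGroup 2 K)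
    (huK : u ∈ K) (g : G) (hgK : g * u * g⁻¹ ∈ K) : g * u * g⁻¹ = u := by
  haveI : Fact (Nat.Prime 2) := ⟨Nat.prime_two⟩
  obtain ⟨Q, hKQ⟩ := hK.exists_le_sylow
  obtain ⟨h, hh⟩ := MulAction.exists_smul_eq G P Q
  -- `Q = h P h⁻¹`
  have hmemQ : ∀ x : G, x ∈ Q ↔ h⁻¹ * x * h ∈ P := by
    intro x
    have hQ : (Q : Subgroup G) = MulAut.conj h • (P : Subgroup G) := by
      rw [← hh, Sylow.smul_def, Sylow.pointwise_smul_def]
    change x ∈ (Q : Subgroup G) ↔ _
    rw [hQ, Subgroup.mem_pointwise_smul_iff_inv_smul_mem]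
    simp only [MulAut.smul_def, MulAut.conj_inv_apply]
    rfl
  have h1 : h⁻¹ * u * h = u := by
    have := hiso h⁻¹ (by rw [inv_inv]; exact (hmemQ u).mp (hKQ huK))
    rwa [inv_inv] at this
  have h2 : h⁻¹ * (g * u * g⁻¹) * h = u := by
    have e : h⁻¹ * (g * u * g⁻¹) * h = (h⁻¹ * g) * u * (h⁻¹ * g)⁻¹ := by group
    rw [e]
    apply hiso
    rw [← e]
    exact (hmemQ _).mp (hKQ hgK)
  calc g * u * g⁻¹ = h * (h⁻¹ * (g * u * g⁻¹) * h) * h⁻¹ := by group
    _ = h * u * h⁻¹ := by rw [h2]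
    _ = h * (h⁻¹ * u * h) * h⁻¹ := by rw [h1]
    _ = u := by group

/-- An involution isolated in a Sylow 2-subgroup is an isolated involution. -/
theorem isIsolatedInvolution_of_sylow [Finite G] (P : Sylow 2 G) (u : G) (hu : orderOf u = 2)
    (hiso : ∀ g : G, g * u * g⁻¹ ∈ P → g * u * g⁻¹ = u) : Cfsg.IsIsolatedInvolution u := by
  refine ⟨hu, ?_⟩
  intro g hc
  have hu2 := sq_of_orderOf hu
  have hv2 : (g * u * g⁻¹) * (g * u * g⁻¹) = 1 := by
    calc g * u * g⁻¹ * (g * u * g⁻¹) = g * (u * u) * g⁻¹ := by group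
      _ = 1 := by rw [hu2]; group
  exact conj_eq_of_mem_pgroup P u hiso _ (isPGroup_closure_of_commute hu2 hv2 hc) x_mem g y_mem

/-- S0216. -/
theorem isolated_iff_commutators_odd [Finite G] (P : Sylow 2 G) (u : G) (hu : orderOf u = 2)
    (huP : u ∈ P) :
    (∀ g : G, g * u * g⁻¹ ∈ P → g * u * g⁻¹ = u) ↔
      (∀ g : G, Odd (orderOf (u * g * u⁻¹ * g⁻¹))) := by
  have hu2 := sq_of_orderOf hu
  have hui := inv_of_sq hu2
  have hcomm : ∀ g : G, u * g * u⁻¹ * g⁻¹ = u * (g * u * g⁻¹) := by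
    intro g; rw [hui]; group
  constructor
  · intro hiso g
    rw [hcomm]
    exact Cfsg.Agent.Lib.Helper9.isolated_odd_orderOf_mul_conj
      (isIsolatedInvolution_of_sylow P u hu hiso) g
  · intro hodd g hg
    have h1 := hodd g
    rw [hcomm] at h1
    have hmem : u * (g * u * g⁻¹) ∈ (P : Subgroup G) := (P : Subgroup G).mul_mem huP hg
    obtain ⟨k, hk⟩ := (P.2 : IsPGroup 2 (P : Subgroup G)) ⟨_, hmem⟩
    have hk' : (u * (g * u * g⁻¹)) ^ (2 ^ k) = 1 := by
      have := congrArg Subtype.val hk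
      simpa using this
    have hdvd : orderOf (u * (g * u * g⁻¹)) ∣ 2 ^ k := orderOf_dvd_of_pow_eq_one hk'
    have hcop : Nat.Coprime (orderOf (u * (g * u * g⁻¹))) (2 ^ k) :=
      Nat.Coprime.pow_right _ ((Nat.coprime_two_right).mpr h1)
    have h1' : orderOf (u * (g * u * g⁻¹)) = 1 := Nat.Coprime.eq_one_of_dvd hcop hdvd
    rw [orderOf_eq_one_iff] at h1'
    have : g * u * g⁻¹ = u⁻¹ := (inv_eq_of_mul_eq_one_right h1').symm
    rw [this, hui]

/-- S0229. -/
theorem orderOf_mul_isolated [Finite G] (S : Sylow 2 G) (t : G) (ht : orderOf t = 2)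
    (hiso : ∀ g : G, g * t * g⁻¹ ∈ S → g * t * g⁻¹ = t) (s : G) (hs : orderOf s = 2)
    (hns : ¬ IsConj s t) : orderOf (s * t) % 4 = 2 := by
  have ht2 := sq_of_orderOf ht
  have hs2 := sq_of_orderOf hs
  have hI := isIsolatedInvolution_of_sylow S t ht hiso
  have hinv : s * t = (t * s)⁻¹ := by rw [mul_inv_rev, inv_of_sq hs2, inv_of_sq ht2]
  have hord : orderOf (s * t) = orderOf (t * s) := by rw [hinv, orderOf_inv]
  rw [hord]
  have hpos : 0 < orderOf (t * s) := orderOf_pos _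
  have heven : Even (orderOf (t * s)) := by
    by_contra hodd
    rw [Nat.not_even_iff_odd] at hodd
    obtain ⟨d, -, hd⟩ := exists_conj_of_odd ht2 hs2 hodd
    exact hns (isConj_iff.mpr ⟨d, hd⟩).symm
  have h4 : ¬ 4 ∣ orderOf (t * s) := by
    intro h4
    obtain ⟨d, -, hd⟩ := (conj_x_mul_central_iff ht2 hs2 hpos heven).mpr h4
    obtain ⟨hz2, hzt, -⟩ := central_involution ht2 hs2 hpos heven
    set z := (t * s) ^ (orderOf (t * s) / 2) with hz
    have hc : Commute t (d * t * d⁻¹) := by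
      rw [hd]
      change t * (t * z) = t * z * t
      rw [mul_assoc, hzt.eq]
    have := hI.2 d hc
    rw [hd] at this
    have hz1 : z = 1 := mul_left_cancel (this.trans (mul_one t).symm)
    rw [hz1, orderOf_one] at hz2
    omega
  obtain ⟨r, hr⟩ := heven
  omega

end Cfsg.Agent.Lib.Helper2
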