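import Mathlib
import Cfsg.Prelude.Def_Characters
import Cfsg.Agent.Lib.Helper2.Induction

/-!
# Induction from the normalizer of a trivial-intersection set (helper2 library)
-/

set_option autoImplicit false

namespace Cfsg.Agent.Lib.Helper2

open Module
open scoped ComplexConjugate MonoidAlgebra

section TI

variable {G : Type*} [Group G] [Fintype G]

/-- Induction from the normalizer of a TI-set: values on non-identity elements of `T`. -/
theorem indFun_TI_apply (T : Set G)
    (hTI : ∀ g : G, g ∉ Subgroup.normalizer T → ∀ t ∈ T, g * t * g⁻¹ ∈ T → t = 1)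
    (ψ : Subgroup.normalizer T → ℂ) (hψ : Cfsg.IsClassFunction (Subgroup.normalizer T) ψ)
    (hψT : ∀ x : Subgroup.normalizer T, (x : G) ∉ T → ψ x = 0)
    (t : Subgroup.normalizer T) (htT : (t : G) ∈ T) (ht1 : t ≠ 1) :
    Cfsg.indFun (Subgroup.normalizer T) ψ t = ψ t := by
  classical
  haveI : Fintype (Subgroup.normalizer T) := Fintype.ofFinite _
  have ht1' : (t : G) ≠ 1 := by
    intro h
    apply ht1
    exact Subtype.ext h
  have hterm : ∀ x : G, Cfsg.extendByZero (Subgroup.normalizer T) ψ (x⁻¹ * (t : G) * x)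
      = if x ∈ Subgroup.normalizer T then ψ t else 0 := by
    intro x
    by_cases hx : x ∈ Subgroup.normalizer T
    · rw [if_pos hx]
      have hmem : x⁻¹ * (t : G) * x ∈ Subgroup.normalizer T := (Subgroup.normalizer T).mul_mem ((Subgroup.normalizer T).mul_mem ((Subgroup.normalizer T).inv_mem hx) t.2) hx
      rw [extendByZero_of_mem _ _ hmem]
      have := hψ t ⟨x⁻¹, (Subgroup.normalizer T).inv_mem hx⟩
      rw [← this]
      congr 1
      apply Subtype.ext
      simp
    · rw [if_neg hx]
      by_cases hmem : x⁻¹ * (t : G) * x ∈ Subgroup.normalizer T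
      · rw [extendByZero_of_mem _ _ hmem]
        apply hψT
        intro hT
        have hx' : x⁻¹ ∉ Subgroup.normalizer T := fun h => hx (by simpa using (Subgroup.normalizer T).inv_mem h)
        have := hTI x⁻¹ hx' (t : G) htT (by simpa using hT)
        exact ht1' this
      · exact extendByZero_of_not_mem _ _ hmem
  rw [indFun_apply]
  simp only [hterm]
  rw [Finset.sum_ite, Finset.sum_const_zero, add_zero, Finset.sum_const, nsmul_eq_mul]
  have hcard : (Finset.univ.filter (fun x : G => x ∈ Subgroup.normalizer T)).card = Nat.card (Subgroup.normalizer T) := by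
    rw [Nat.card_eq_fintype_card, Fintype.card_subtype]
  rw [hcard]
  have hne : (Nat.card (Subgroup.normalizer T) : ℂ) ≠ 0 := card_subgroup_ne_zero _
  field_simp

/-- Induction from the normalizer of a TI-set is an isometry on class functions vanishing off
`T` and at the identity. -/
theorem classInner_indFun_TI (T : Set G)
    (hTI : ∀ g : G, g ∉ Subgroup.normalizer T → ∀ t ∈ T, g * t * g⁻¹ ∈ T → t = 1)
    [Fintype (Subgroup.normalizer T)]
    (ψ θ : Subgroup.normalizer T → ℂ)
    (hθ : Cfsg.IsClassFunction (Subgroup.normalizer T) θ)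
    (hψT : ∀ x : Subgroup.normalizer T, (x : G) ∉ T → ψ x = 0)
    (hθT : ∀ x : Subgroup.normalizer T, (x : G) ∉ T → θ x = 0)
    (hψ1 : ψ 1 = 0) :
    Cfsg.classInner (Cfsg.indFun (Subgroup.normalizer T) ψ)
      (Cfsg.indFun (Subgroup.normalizer T) θ) = Cfsg.classInner ψ θ := by
  rw [frobenius_reciprocity _ ψ _ (indFun_isClassFunction _ θ)]
  rw [classInner_def, classInner_def]
  congr 1
  apply Finset.sum_congr rfl
  intro n _
  by_cases hn : (n : G) ∈ T
  · by_cases hn1 : n = 1
    · rw [hn1, hψ1, zero_mul, zero_mul]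
    · rw [indFun_TI_apply T hTI θ hθ hθT n hn hn1]
  · rw [hψT n hn, zero_mul, zero_mul]

end TI

end Cfsg.Agent.Lib.Helper2
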