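import Mathlib
import Cfsg.Prelude.Def_Characters
import Cfsg.Agent.Lib.Helper2.Orthogonality
import Cfsg.Agent.Lib.Helper2.BurnsidePQ
import Cfsg.Agent.Lib.Helper11.GenChar

/-!
# The isometry lemma behind exceptional characters
(helper2 library)
-/

set_option autoImplicit false

namespace Cfsg.Agent.Lib.Helper2

open scoped ComplexConjugate

section

variable {G : Type*} [Group G] [Fintype G]

/-- Inner product of two differences of irreducible characters. -/
theorem classInner_sub_sub (a b c d : Cfsg.IrrCharacter G) [DecidableEq (Cfsg.IrrCharacter G)] :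
    Cfsg.classInner ((a : G → ℂ) - (b : G → ℂ)) ((c : G → ℂ) - (d : G → ℂ))
      = (if a = c then 1 else 0) - (if a = d then 1 else 0) - (if b = c then 1 else 0)
        + (if b = d then 1 else 0) := by
  rw [classInner_sub_left, classInner_sub_right, classInner_sub_right]
  rw [classInner_irrCharacter, classInner_irrCharacter, classInner_irrCharacter,
    classInner_irrCharacter]
  ring

/-- Pair relation: two differences of irreducibles with inner product one share exactly one
constituent, with the same sign. -/
theorem pair_relation {a b c d : Cfsg.IrrCharacter G} (_hab : a ≠ b) (hcd : c ≠ d)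
    (h : Cfsg.classInner ((a : G → ℂ) - (b : G → ℂ)) ((c : G → ℂ) - (d : G → ℂ)) = 1) :
    (a = c ∧ b ≠ d) ∨ (b = d ∧ a ≠ c) := by
  classical
  rw [classInner_sub_sub] at h
  have h' : ((if a = c then 1 else 0) - (if a = d then 1 else 0) - (if b = c then 1 else 0)
      + (if b = d then 1 else 0) : ℤ) = 1 := by
    have : (((if a = c then 1 else 0) - (if a = d then 1 else 0) - (if b = c then 1 else 0)
      + (if b = d then 1 else 0) : ℤ) : ℂ) = ((1 : ℤ) : ℂ) := by
      push_cast
      exact h
    exact_mod_cast this
  by_cases h1 : a = c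
  · by_cases h4 : b = d
    · exfalso
      have h2 : a ≠ d := by rw [h1]; exact hcd
      have h3 : b ≠ c := by rw [h4]; exact hcd.symm
      rw [if_pos h1, if_neg h2, if_neg h3, if_pos h4] at h'
      omega
    · left; exact ⟨h1, h4⟩
  · by_cases h4 : b = d
    · right; exact ⟨h4, h1⟩
    · exfalso
      rw [if_neg h1, if_neg h4] at h'
      split_ifs at h' <;> omega

/-- The isometry lemma. -/
theorem isometry_lemma (n : ℕ) (i₀ : Fin n) (τ : Fin n → (G → ℂ)) (h0 : τ i₀ = 0)
    (hgen : ∀ i, Cfsg.IsGeneralizedCharacter G (τ i)) (hone : ∀ i, τ i 1 = 0)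
    (hgram : ∀ i j, i ≠ i₀ → j ≠ i₀ →
      Cfsg.classInner (τ i) (τ j) = if i = j then 2 else 1) :
    ∃ ε : ℂ, (ε = 1 ∨ ε = -1) ∧ ∃ μ : Fin n → (G → ℂ),
      (∀ i, Cfsg.IsIrrCharacter G (μ i)) ∧ Function.Injective μ ∧
        ∀ i, τ i = ε • (μ i - μ i₀) := by
  classical
  -- each `τ i` is a difference of two irreducible characters
  have hex : ∀ i : Fin n, ∃ p q : Cfsg.IrrCharacter G, i ≠ i₀ →
      (p ≠ q ∧ τ i = (p : G → ℂ) - (q : G → ℂ)) := by
    intro i
    by_cases hi : i = i₀
    · exact ⟨trivialIrr G, trivialIrr G, fun h => absurd hi h⟩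
    · have hn := hgram i i hi hi
      rw [if_pos rfl] at hn
      obtain ⟨p, q, hpq, hτ⟩ :=
        Cfsg.Agent.Lib.Helper11.IsGeneralizedCharacter.eq_sub_of_norm_two (hgen i) hn (hone i)
      exact ⟨p, q, fun _ => ⟨hpq, hτ⟩⟩
  choose p q hpq using hex
  -- pair relation
  have hpair : ∀ i j, i ≠ i₀ → j ≠ i₀ → i ≠ j →
      (p i = p j ∧ q i ≠ q j) ∨ (q i = q j ∧ p i ≠ p j) := by
    intro i j hi hj hij
    have h1 := hgram i j hi hj
    rw [if_neg hij, (hpq i hi).2, (hpq j hj).2] at h1
    exact pair_relation (hpq i hi).1 (hpq j hj).1 h1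
  have hp_ne : ∀ i j, i ≠ i₀ → j ≠ i₀ → p i ≠ p j → q i = q j := by
    intro i j hi hj hne
    have hij : i ≠ j := fun h => hne (by rw [h])
    rcases hpair i j hi hj hij with h | h
    · exact absurd h.1 hne
    · exact h.1
  have hq_ne : ∀ i j, i ≠ i₀ → j ≠ i₀ → q i ≠ q j → p i = p j := by
    intro i j hi hj hne
    have hij : i ≠ j := fun h => hne (by rw [h])
    rcases hpair i j hi hj hij with h | h
    · exact h.1
    · exact absurd h.1 hne
  -- global dichotomy
  have hdich : (∀ i j, i ≠ i₀ → j ≠ i₀ → p i = p j) ∨ (∀ i j, i ≠ i₀ → j ≠ i₀ → q i = q j) := by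
    by_contra hcon
    rw [not_or] at hcon
    obtain ⟨hA, hB⟩ := hcon
    simp only [not_forall] at hA hB
    obtain ⟨i, j, hi, hj, hpij⟩ := hA
    obtain ⟨k, l, hk, hl, hqkl⟩ := hB
    have hpkl : p k = p l := hq_ne k l hk hl hqkl
    by_cases hki : p k = p i
    · -- then p k ≠ p j
      have hkj : p k ≠ p j := fun h => hpij (hki.symm.trans h)
      have h1 : q k = q j := hp_ne k j hk hj hkj
      have h2 : q l = q j := hp_ne l j hl hj (by rw [← hpkl]; exact hkj)
      exact hqkl (h1.trans h2.symm)
    · have h1 : q k = q i := hp_ne k i hk hi hki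
      have h2 : q l = q i := hp_ne l i hl hi (by rw [← hpkl]; exact hki)
      exact hqkl (h1.trans h2.symm)
  by_cases hJ : ∃ j₀ : Fin n, j₀ ≠ i₀
  · obtain ⟨j₀, hj₀⟩ := hJ
    rcases hdich with hA | hB
    · -- all `p` equal: ε = -1
      let m : Fin n → Cfsg.IrrCharacter G := fun i => if i = i₀ then p j₀ else q i
      refine ⟨-1, Or.inr rfl, fun i => (m i : G → ℂ), fun i => (m i).2, ?_, ?_⟩
      · intro i j hij
        have hij' : m i = m j := Subtype.ext hij
        by_cases hi : i = i₀ <;> by_cases hj : j = i₀
        · rw [hi, hj]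
        · exfalso
          simp only [m, if_pos hi, if_neg hj] at hij'
          have : p j = q j := by rw [hA j j₀ hj hj₀]; exact hij'
          exact (hpq j hj).1 this
        · exfalso
          simp only [m, if_neg hi, if_pos hj] at hij'
          have : p i = q i := by rw [hA i j₀ hi hj₀]; exact hij'.symm
          exact (hpq i hi).1 this
        · simp only [m, if_neg hi, if_neg hj] at hij'
          by_contra hne
          rcases hpair i j hi hj hne with h | h
          · exact h.2 hij'
          · exact h.2 (hA i j hi hj)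
      · intro i
        by_cases hi : i = i₀
        · rw [hi, h0]; simp
        · simp only [m, if_neg hi, if_pos rfl]
          rw [(hpq i hi).2, hA i j₀ hi hj₀]
          ext g; simp
    · -- all `q` equal: ε = 1
      let m : Fin n → Cfsg.IrrCharacter G := fun i => if i = i₀ then q j₀ else p i
      refine ⟨1, Or.inl rfl, fun i => (m i : G → ℂ), fun i => (m i).2, ?_, ?_⟩
      · intro i j hij
        have hij' : m i = m j := Subtype.ext hij
        by_cases hi : i = i₀ <;> by_cases hj : j = i₀
        · rw [hi, hj]
        · exfalso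
          simp only [m, if_pos hi, if_neg hj] at hij'
          have : p j = q j := by rw [hB j j₀ hj hj₀]; exact hij'.symm
          exact (hpq j hj).1 this
        · exfalso
          simp only [m, if_neg hi, if_pos hj] at hij'
          have : p i = q i := by rw [hB i j₀ hi hj₀]; exact hij'
          exact (hpq i hi).1 this
        · simp only [m, if_neg hi, if_neg hj] at hij'
          by_contra hne
          rcases hpair i j hi hj hne with h | h
          · exact h.2 (hB i j hi hj)
          · exact h.2 hij'
      · intro i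
        by_cases hi : i = i₀
        · rw [hi, h0]; simp
        · simp only [m, if_neg hi, if_pos rfl]
          rw [(hpq i hi).2, hB i j₀ hi hj₀]
          ext g; simp
  · simp only [not_exists, not_not] at hJ
    refine ⟨1, Or.inl rfl, fun _ => ((trivialIrr G : Cfsg.IrrCharacter G) : G → ℂ),
      fun _ => (trivialIrr G).2, ?_, ?_⟩
    · intro i j _
      rw [hJ i, hJ j]
    · intro i
      rw [hJ i, h0]; simp

end

end Cfsg.Agent.Lib.Helper2
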