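import Mathlib
import Cfsg.Prelude.Def_Characters
import Cfsg.Agent.Lib.Helper2.IsometryLemma
import Cfsg.Agent.Lib.Helper2.InductionTI
import Cfsg.Agent.Lib.Helper2.Linear

/-!
# Exceptional characters
(helper2 library)
-/

set_option autoImplicit false

namespace Cfsg.Agent.Lib.Helper2

open scoped ComplexConjugate

section

variable {G : Type*} [Group G] [Fintype G]

omit [Fintype G] in
theorem extendByZero_sub (H : Subgroup G) (f g : H → ℂ) (x : G) :
    Cfsg.extendByZero H (f - g) x = Cfsg.extendByZero H f x - Cfsg.extendByZero H g x := by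
  by_cases hx : x ∈ H
  · rw [extendByZero_of_mem H _ hx, extendByZero_of_mem H _ hx, extendByZero_of_mem H _ hx]
    rfl
  · rw [extendByZero_of_not_mem H _ hx, extendByZero_of_not_mem H _ hx,
      extendByZero_of_not_mem H _ hx, sub_zero]

theorem indFun_sub (H : Subgroup G) (f g : H → ℂ) :
    Cfsg.indFun H (f - g) = Cfsg.indFun H f - Cfsg.indFun H g := by
  ext x
  rw [Pi.sub_apply, indFun_apply, indFun_apply, indFun_apply, ← mul_sub, ← Finset.sum_sub_distrib]
  congr 1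
  apply Finset.sum_congr rfl
  intro y _
  exact extendByZero_sub H f g _

/-- Exceptional characters. -/
theorem exceptional_characters (S : Set G)
    (hTI : ∀ g : G, g ∉ Subgroup.normalizer S → ∀ s ∈ S, g * s * g⁻¹ ∈ S → s = 1) (n : ℕ)
    (hn : 2 ≤ n) (χ : Fin n → (Subgroup.normalizer S → ℂ))
    (hirr : ∀ i, Cfsg.IsIrrCharacter (Subgroup.normalizer S) (χ i))
    (hinj : Function.Injective χ)
    (hvan : ∀ i, ∀ x : Subgroup.normalizer S, (x : G) ∉ S → χ i x = 0)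
    (hdeg : ∀ i j, χ i 1 = χ j 1) :
    ∃ ε : ℂ, (ε = 1 ∨ ε = -1) ∧ ∃ θ : Fin n → (G → ℂ), (∀ i, Cfsg.IsIrrCharacter G (θ i)) ∧
      Function.Injective θ ∧ ∀ i j, Cfsg.indFun (Subgroup.normalizer S) (χ i)
        - Cfsg.indFun (Subgroup.normalizer S) (χ j) = ε • (θ i - θ j) := by
  classical
  haveI : Fintype (Subgroup.normalizer S) := Fintype.ofFinite _
  let N := Subgroup.normalizer S
  let i₀ : Fin n := ⟨0, by omega⟩
  let τ : Fin n → (G → ℂ) := fun i => Cfsg.indFun N (χ i - χ i₀)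
  have hτ : ∀ i, τ i = Cfsg.indFun N (χ i) - Cfsg.indFun N (χ i₀) := fun i => indFun_sub N _ _
  have h0 : τ i₀ = 0 := by rw [hτ, sub_self]
  have hgen : ∀ i, Cfsg.IsGeneralizedCharacter G (τ i) := by
    intro i
    exact ⟨_, _, indFun_isCharacter N _ (IsIrrCharacter.isCharacter (hirr i)),
      indFun_isCharacter N _ (IsIrrCharacter.isCharacter (hirr i₀)), hτ i⟩
  have hone : ∀ i, τ i 1 = 0 := by
    intro i
    rw [hτ, Pi.sub_apply, indFun_apply_one, indFun_apply_one, hdeg i i₀, sub_self]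
  have hcf : ∀ i, Cfsg.IsClassFunction N (χ i - χ i₀) := by
    intro i
    exact isClassFunction_sub (IrrCharacter.isClassFunction ⟨χ i, hirr i⟩)
      (IrrCharacter.isClassFunction ⟨χ i₀, hirr i₀⟩)
  have hvan' : ∀ i, ∀ x : N, (x : G) ∉ S → (χ i - χ i₀) x = 0 := by
    intro i x hx
    rw [Pi.sub_apply, hvan i x hx, hvan i₀ x hx, sub_self]
  have hgram : ∀ i j, i ≠ i₀ → j ≠ i₀ →
      Cfsg.classInner (τ i) (τ j) = if i = j then 2 else 1 := by
    intro i j hi hj
    have h1 := classInner_indFun_TI S hTI (χ i - χ i₀) (χ j - χ i₀) (hcf j) (hvan' i) (hvan' j)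
      (by rw [Pi.sub_apply, hdeg i i₀, sub_self])
    change Cfsg.classInner (Cfsg.indFun N (χ i - χ i₀)) (Cfsg.indFun N (χ j - χ i₀)) = _
    rw [h1]
    have h2 := classInner_sub_sub (⟨χ i, hirr i⟩ : Cfsg.IrrCharacter N) ⟨χ i₀, hirr i₀⟩
      ⟨χ j, hirr j⟩ ⟨χ i₀, hirr i₀⟩
    change Cfsg.classInner (χ i - χ i₀) (χ j - χ i₀) = _ at h2
    rw [h2]
    have e1 : ((⟨χ i, hirr i⟩ : Cfsg.IrrCharacter N) = ⟨χ j, hirr j⟩) ↔ i = j := by
      constructor
      · intro h; exact hinj (congrArg Subtype.val h)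
      · intro h; subst h; rfl
    have e2 : ¬ ((⟨χ i, hirr i⟩ : Cfsg.IrrCharacter N) = ⟨χ i₀, hirr i₀⟩) := by
      intro h; exact hi (hinj (congrArg Subtype.val h))
    have e3 : ¬ ((⟨χ i₀, hirr i₀⟩ : Cfsg.IrrCharacter N) = ⟨χ j, hirr j⟩) := by
      intro h; exact hj (hinj (congrArg Subtype.val h)).symm
    rw [if_neg e2, if_neg e3, if_pos rfl]
    by_cases hij : i = j
    · rw [if_pos (e1.mpr hij), if_pos hij]; norm_num
    · rw [if_neg (fun h => hij (e1.mp h)), if_neg hij]; norm_num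
  obtain ⟨ε, hε, μ, hμirr, hμinj, hμ⟩ := isometry_lemma n i₀ τ h0 hgen hone hgram
  refine ⟨ε, hε, μ, hμirr, hμinj, ?_⟩
  intro i j
  have h1 : Cfsg.indFun N (χ i) - Cfsg.indFun N (χ j) = τ i - τ j := by
    rw [hτ, hτ]; abel
  change Cfsg.indFun N (χ i) - Cfsg.indFun N (χ j) = _
  rw [h1, hμ i, hμ j, ← smul_sub]
  congr 1
  abel

end

end Cfsg.Agent.Lib.Helper2
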