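import Mathlib

/-!
# The unique involution of a generalized quaternion group
(helper2 library)
-/

set_option autoImplicit false

namespace Cfsg.Agent.Lib.Helper2

open QuaternionGroup

/-- In `ZMod (2 * n)`, `i + i = 0` and `i ≠ 0` force `i = n`. -/
theorem zmod_two_mul_eq_of_add_self {n : ℕ} [NeZero n] (i : ZMod (2 * n)) (h : i + i = 0)
    (h0 : i ≠ 0) : i = (n : ZMod (2 * n)) := by
  haveI : NeZero (2 * n) := ⟨by have := NeZero.ne n; omega⟩
  have hlt : i.val < 2 * n := ZMod.val_lt i
  have h1 : ((i.val + i.val : ℕ) : ZMod (2 * n)) = 0 := by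
    push_cast
    rw [ZMod.natCast_zmod_val]; exact h
  rw [ZMod.natCast_eq_zero_iff] at h1
  have h2 : i.val ≠ 0 := by
    intro hv; exact h0 ((ZMod.val_eq_zero i).mp hv)
  have h3 : i.val = n := by
    obtain ⟨c, hc⟩ := h1
    have hc1 : c = 1 := by
      rcases c with _ | _ | c
      · omega
      · rfl
      · exfalso
        have : 2 * n * (c + 1 + 1) ≥ 2 * n * 2 := Nat.mul_le_mul_left _ (by omega)
        omega
    rw [hc1] at hc; omega
  have h4 : ((i.val : ℕ) : ZMod (2 * n)) = i := ZMod.natCast_zmod_val i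
  rw [← h4]
  exact congrArg (fun k : ℕ => (k : ZMod (2 * n))) h3

/-- `QuaternionGroup n` has exactly one involution, namely `a n`. -/
theorem quaternion_involution_eq {n : ℕ} [NeZero n] (g : QuaternionGroup n) (hg : orderOf g = 2) :
    g = a (n : ZMod (2 * n)) := by
  cases g with
  | a i =>
    have h2 : (a i : QuaternionGroup n) * a i = 1 := by
      rw [← pow_two, ← hg]; exact pow_orderOf_eq_one _
    rw [a_mul_a, one_def] at h2
    have h3 : i + i = 0 := by injection h2
    have h0 : i ≠ 0 := by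
      intro h
      rw [h, a_zero, orderOf_one] at hg
      omega
    rw [zmod_two_mul_eq_of_add_self i h3 h0]
  | xa i =>
    rw [orderOf_xa] at hg; omega

theorem quaternion_orderOf_a_n {n : ℕ} [NeZero n] :
    orderOf (a (n : ZMod (2 * n)) : QuaternionGroup n) = 2 := by
  haveI : NeZero (2 * n) := ⟨by have := NeZero.ne n; omega⟩
  apply orderOf_eq_prime
  · rw [pow_two, a_mul_a, one_def]
    congr 1
    have : ((n + n : ℕ) : ZMod (2 * n)) = 0 := by
      rw [ZMod.natCast_eq_zero_iff]; exact ⟨1, by ring⟩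
    push_cast at this
    exact this
  · rw [one_def]
    intro h
    have h1 : (n : ZMod (2 * n)) = 0 := by injection h
    rw [ZMod.natCast_eq_zero_iff] at h1
    have := Nat.le_of_dvd (Nat.pos_of_ne_zero (NeZero.ne n)) h1
    have := NeZero.ne n
    omega

/-- S0218 (for arbitrary `n ≠ 0`). -/
theorem quaternion_card_involutions (n : ℕ) [NeZero n] :
    Nat.card {x : QuaternionGroup n // orderOf x = 2} = 1 := by
  rw [Nat.card_eq_one_iff_unique]
  refine ⟨⟨?_⟩, ⟨⟨a (n : ZMod (2 * n)), quaternion_orderOf_a_n⟩⟩⟩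
  rintro ⟨g, hg⟩ ⟨h, hh⟩
  apply Subtype.ext
  change g = h
  rw [quaternion_involution_eq g hg, quaternion_involution_eq h hh]

end Cfsg.Agent.Lib.Helper2
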