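import Mathlib
import Cfsg.Prelude.Def_Transfer
import Cfsg.Agent.Lib.Helper10.UniqueOrderP
import Cfsg.Agent.Lib.Helper10.NormalEpSq
import Cfsg.Agent.Lib.Helper1.ClassTwo
import Cfsg.Agent.Lib.Helper1.Extraspecial

/-!
# Non-cyclic `p`-groups (`p` odd) with a cyclic subgroup of index `p`; normal `E_{p^2}`
(helper2 library)
-/

set_option autoImplicit false

namespace Cfsg.Agent.Lib.Helper2

open scoped commutatorElement

namespace CyclicIndexP

/-- number theory: for `p` odd, `r ^ p ≡ 1 [MOD p ^ (m+1)]` implies `r ≡ 1 [MOD p ^ m]` -/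
theorem modEq_one_of_pow_modEq_one {p : ℕ} (hp : p.Prime) (hp2 : p ≠ 2) (m r : ℕ)
    (h : r ^ p ≡ 1 [MOD p ^ (m + 1)]) : r ≡ 1 [MOD p ^ m] := by
  haveI : Fact p.Prime := ⟨hp⟩
  have hodd : Odd p := hp.odd_of_ne_two hp2
  have hr1 : 1 ≤ r := by
    rcases Nat.eq_zero_or_pos r with h0 | h0
    · subst h0
      rw [zero_pow hp.ne_zero] at h
      have h1 := (Nat.modEq_zero_iff_dvd.mp h.symm)
      have h2 : p ∣ 1 := (dvd_pow_self p (Nat.succ_ne_zero m)).trans h1
      exact absurd (Nat.dvd_one.mp h2) hp.one_lt.ne'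
    · exact h0
  have hrp1 : 1 ≤ r ^ p := Nat.one_le_pow _ _ hr1
  have hmodp : (r : ZMod p) = 1 := by
    have h6 : ((r ^ p : ℕ) : ZMod p) = ((1 : ℕ) : ZMod p) := by
      rw [ZMod.natCast_eq_natCast_iff]
      exact h.of_dvd (dvd_pow_self p (Nat.succ_ne_zero m))
    rw [Nat.cast_pow, ZMod.pow_card, Nat.cast_one] at h6
    exact h6
  have hpr : ¬ p ∣ r := by
    intro hd
    have : (r : ZMod p) = 0 := (ZMod.natCast_eq_zero_iff r p).mpr hd
    rw [this] at hmodp
    exact zero_ne_one hmodp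
  have hpr1 : p ∣ r - 1 := by
    have h7 : (1 : ℕ) ≡ r [MOD p] := by
      rw [← ZMod.natCast_eq_natCast_iff, hmodp, Nat.cast_one]
    exact (Nat.modEq_iff_dvd' hr1).mp h7
  have hlte := Nat.emultiplicity_pow_sub_pow hp hodd (x := r) (y := 1) hpr1 hpr p
  rw [one_pow, hp.emultiplicity_self] at hlte
  have hdvd : p ^ (m + 1) ∣ r ^ p - 1 := (Nat.modEq_iff_dvd' hrp1).mp h.symm
  have hle : ((m + 1 : ℕ) : ℕ∞) ≤ emultiplicity p (r ^ p - 1) :=
    pow_dvd_iff_le_emultiplicity.mp hdvd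
  rw [hlte] at hle
  have hle' : (m : ℕ∞) ≤ emultiplicity p (r - 1) := by
    have : ((m + 1 : ℕ) : ℕ∞) = (m : ℕ∞) + 1 := by push_cast; rfl
    rw [this] at hle
    exact (ENat.add_le_add_iff_right (by simp)).mp hle
  have hdvd' : p ^ m ∣ r - 1 := pow_dvd_iff_le_emultiplicity.mpr hle'
  exact ((Nat.modEq_iff_dvd' hr1).mpr hdvd').symm

end CyclicIndexP

end Cfsg.Agent.Lib.Helper2

namespace Cfsg.Agent.Lib.Helper2

open scoped commutatorElement

namespace CyclicIndexP

section Conj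

variable {R : Type*} [Group R]

/-- if `y` of order dividing `p` (odd) normalises `⟨c⟩` with `c` of order `p^(m+1)`, then
`y c y⁻¹ = c * (c^(p^m))^k` for some `k` -/
theorem conj_eq_mul_pow {p : ℕ} (hp : p.Prime) (hp2 : p ≠ 2) {c y : R} {m : ℕ}
    (hc : orderOf c = p ^ (m + 1)) (hy : y ^ p = 1) (hyc : y * c * y⁻¹ ∈ Subgroup.zpowers c) :
    ∃ k : ℕ, y * c * y⁻¹ = c * (c ^ (p ^ m)) ^ k := by
  have hfin : IsOfFinOrder c := by
    rw [← orderOf_pos_iff, hc]; exact pow_pos hp.pos _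
  rw [← hfin.mem_powers_iff_mem_zpowers] at hyc
  obtain ⟨r, hr⟩ := hyc
  have hr' : y * c * y⁻¹ = c ^ r := hr.symm
  have h1 := Cfsg.Agent.Lib.Helper10.conj_pow_eq_pow_pow hr' p
  rw [hy] at h1
  have h3 : c ^ (r ^ p) = c ^ 1 := by rw [← h1]; group
  have h4 : r ^ p ≡ 1 [MOD p ^ (m + 1)] := by
    rw [← hc]
    exact pow_eq_pow_iff_modEq.mp h3
  have h5 := modEq_one_of_pow_modEq_one hp hp2 m r h4
  have hr1 : 1 ≤ r := by
    rcases Nat.eq_zero_or_pos r with h0 | h0
    · subst h0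
      rw [zero_pow hp.ne_zero] at h4
      have h6 := (Nat.modEq_zero_iff_dvd.mp h4.symm)
      have h7 : p ∣ 1 := (dvd_pow_self p (Nat.succ_ne_zero m)).trans h6
      exact absurd (Nat.dvd_one.mp h7) hp.one_lt.ne'
    · exact h0
  obtain ⟨k, hk⟩ := (Nat.modEq_iff_dvd' hr1).mp h5.symm
  refine ⟨k, ?_⟩
  have : r = 1 + p ^ m * k := by omega
  rw [hr', this, pow_add, pow_one, pow_mul]

end Conj

end CyclicIndexP

end Cfsg.Agent.Lib.Helper2

namespace Cfsg.Agent.Lib.Helper2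

open scoped commutatorElement

namespace CyclicIndexP

section Main

variable {R : Type*} [Group R] [Finite R] {p : ℕ} [hpf : Fact p.Prime]

/-- a non-cyclic `p`-group (`p` odd) with a cyclic subgroup of index `p` has a normal
elementary abelian subgroup of order `p^2` containing all elements of order dividing `p` -/
theorem exists_omega (hp2 : p ≠ 2) (hR : IsPGroup p R) (hnc : ¬ IsCyclic R) (C : Subgroup R)
    (hC : IsCyclic C) (hCi : C.index = p) :
    ∃ E : Subgroup R, E.Normal ∧ Cfsg.IsElementaryAbelian p E ∧ Nat.card E = p ^ 2 ∧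
      ∀ x : R, x ^ p = 1 → x ∈ E := by
  have hp : p.Prime := Fact.out
  obtain ⟨n, hn⟩ := hR.exists_card_eq
  have hn0 : n ≠ 0 := by
    rintro rfl
    rw [pow_zero] at hn
    have h1 : C.index = 1 := by
      have := C.index_dvd_card
      rw [hn] at this; exact Nat.dvd_one.mp this
    rw [hCi] at h1; exact hp.one_lt.ne' h1
  haveI hCn : C.Normal :=
    Subgroup.normal_of_index_eq_minFac_card (by rw [hCi, hn, hp.pow_minFac hn0])
  -- a generator
  obtain ⟨g, hg⟩ := hC.exists_generator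
  obtain ⟨c, hcC⟩ := g
  have hCle : ∀ x ∈ C, x ∈ Subgroup.zpowers c := by
    intro x hx
    obtain ⟨k, hk⟩ := Subgroup.mem_zpowers_iff.mp (hg ⟨x, hx⟩)
    refine Subgroup.mem_zpowers_iff.mpr ⟨k, ?_⟩
    have := congrArg Subtype.val hk
    simpa using this
  have hCeq : C = Subgroup.zpowers c := le_antisymm hCle (Subgroup.zpowers_le.mpr hcC)
  have hcardC : Nat.card C = orderOf c := by
    rw [← Nat.card_zpowers]
    exact congrArg (fun H : Subgroup R => Nat.card H) hCeq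
  obtain ⟨m', hm'⟩ := (hR.to_subgroup C).exists_card_eq
  have hm0 : m' ≠ 0 := by
    rintro rfl
    rw [pow_zero] at hm'
    have hcardR : Nat.card R = p := by
      rw [← C.card_mul_index, hm', hCi, one_mul]
    exact hnc (isCyclic_of_prime_card hcardR)
  obtain ⟨m, rfl⟩ : ∃ m, m' = m + 1 := ⟨m' - 1, by omega⟩
  have hoc : orderOf c = p ^ (m + 1) := by rw [← hcardC, hm']
  -- an element of order `p` outside `C`
  obtain ⟨y, hyC, hyp⟩ : ∃ y, y ∉ C ∧ y ^ p = 1 := by
    by_contra hcon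
    push Not at hcon
    have hall : ∀ y : R, y ^ p = 1 → y ∈ C := fun y hy => by
      by_contra h; exact hcon y h hy
    have hu : Cfsg.Agent.Lib.Helper10.UniqueOrderP p R := by
      intro x y hx hx1 hy
      have hox : orderOf x = p := orderOf_eq_prime hx hx1
      exact Cfsg.Agent.Lib.Helper10.mem_zpowers_of_orderOf_dvd' C hC (hall y hy) (hall x hx)
        (by rw [hox]; exact orderOf_dvd_of_pow_eq_one hy)
    rcases Cfsg.Agent.Lib.Helper10.isCyclic_or_quaternion_of_uniqueOrderP hR hu with h | ⟨h, _⟩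
    · exact hnc h
    · exact hp2 h
  -- the element `z` generating `Ω₁(C)`
  set z : R := c ^ (p ^ m) with hzdef
  have hzp : z ^ p = 1 := by rw [hzdef, ← pow_mul, ← pow_succ, ← hoc, pow_orderOf_eq_one]
  have hz1 : z ≠ 1 := by
    intro h
    have h1 := orderOf_dvd_of_pow_eq_one h
    rw [hoc] at h1
    have := (Nat.pow_dvd_pow_iff_le_right hp.one_lt).mp h1
    omega
  have hzC : z ∈ C := C.pow_mem hcC _
  have hoz : orderOf z = p := orderOf_eq_prime hzp hz1
  haveI hZn : (Subgroup.zpowers z).Normal := by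
    constructor
    intro w hw g
    obtain ⟨j, rfl⟩ := Subgroup.mem_zpowers_iff.mp hw
    have hgc : g * c * g⁻¹ ∈ Subgroup.zpowers c := by
      rw [← hCeq]; exact hCn.conj_mem c hcC g
    obtain ⟨k, hk⟩ := Subgroup.mem_zpowers_iff.mp hgc
    have h1 : g * z * g⁻¹ = z ^ k := by
      rw [hzdef, ← conj_pow, ← hk, ← zpow_natCast, ← zpow_natCast, ← zpow_mul, ← zpow_mul,
        mul_comm]
    have h2 : g * z ^ j * g⁻¹ = (g * z * g⁻¹) ^ j := by rw [conj_zpow]
    rw [h2, h1]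
    exact Subgroup.zpow_mem _ (Subgroup.zpow_mem _ (Subgroup.mem_zpowers z) k) j
  have hzcenter : z ∈ Subgroup.center R :=
    Cfsg.Agent.Lib.Helper1.le_center_of_normal_of_card_prime hR (Subgroup.zpowers z)
      (by rw [Nat.card_zpowers, hoz]) (Subgroup.mem_zpowers z)
  have hZcentral : ∀ w ∈ Subgroup.zpowers z, ∀ g : R, w * g = g * w := by
    intro w hw g
    have : w ∈ Subgroup.center R := (Subgroup.zpowers_le.mpr hzcenter) hw
    exact ((Subgroup.mem_center_iff.mp this) g).symm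
  -- commutators
  obtain ⟨k, hk⟩ := conj_eq_mul_pow hp hp2 hoc hyp
    (by rw [← hCeq]; exact hCn.conj_mem c hcC y)
  have hcomm1 : ∀ a ∈ C, ⁅y, a⁆ ∈ Subgroup.zpowers z := by
    intro a ha
    obtain ⟨i, rfl⟩ := Subgroup.mem_zpowers_iff.mp (hCle a ha)
    have hzc : Commute c (z ^ k) := ((Commute.refl c).pow_right _).pow_right _
    have h1 : y * c ^ i * y⁻¹ = (c * z ^ k) ^ i := by rw [← hk, conj_zpow]
    have h2 : ⁅y, c ^ i⁆ = (z ^ k) ^ i := by
      rw [commutatorElement_def, h1, hzc.mul_zpow]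
      have : Commute (c ^ i) ((z ^ k) ^ i) := (hzc.zpow_left i).zpow_right i
      rw [this.eq]; group
    rw [h2]
    exact Subgroup.zpow_mem _ (Subgroup.pow_mem _ (Subgroup.mem_zpowers z) k) i
  have hcomm2 : ∀ j : ℕ, ∀ a ∈ C, ⁅y ^ j, a⁆ ∈ Subgroup.zpowers z := by
    intro j
    induction j with
    | zero => intro a _; simp
    | succ j ih =>
      intro a ha
      have hw := ih a ha
      have hwc := hZcentral _ hw
      have h1 : ⁅y ^ (j + 1), a⁆ = ⁅y ^ j, a⁆ * ⁅y, a⁆ := by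
        have e1 : ⁅y ^ (j + 1), a⁆ = y * (⁅y ^ j, a⁆ * a) * y⁻¹ * a⁻¹ := by
          simp only [commutatorElement_def, pow_succ']; group
        rw [e1]
        calc y * (⁅y ^ j, a⁆ * a) * y⁻¹ * a⁻¹ = (y * ⁅y ^ j, a⁆) * a * y⁻¹ * a⁻¹ := by group
          _ = (⁅y ^ j, a⁆ * y) * a * y⁻¹ * a⁻¹ := by rw [hwc y]
          _ = ⁅y ^ j, a⁆ * ⁅y, a⁆ := by simp only [commutatorElement_def]; group
      rw [h1]; exact mul_mem hw (hcomm1 a ha)
  -- `R = C ⟨y⟩`
  have htop : C ⊔ Subgroup.zpowers y = ⊤ := by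
    have hlt : C < C ⊔ Subgroup.zpowers y := by
      refine lt_of_le_of_ne le_sup_left ?_
      intro heq; apply hyC; rw [heq]
      exact (le_sup_right : Subgroup.zpowers y ≤ _) (Subgroup.mem_zpowers y)
    have hdvd : (C ⊔ Subgroup.zpowers y).index ∣ C.index := Subgroup.index_dvd_of_le le_sup_left
    rw [hCi] at hdvd
    rcases (Nat.dvd_prime hp).mp hdvd with h1 | h1
    · exact Subgroup.index_eq_one.mp h1
    · exfalso
      have h2 : Nat.card (C ⊔ Subgroup.zpowers y : Subgroup R) = Nat.card C := by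
        have e1 := (C ⊔ Subgroup.zpowers y).card_mul_index
        have e2 := C.card_mul_index
        rw [h1] at e1; rw [hCi] at e2
        have : Nat.card (C ⊔ Subgroup.zpowers y : Subgroup R) * p = Nat.card C * p := by
          rw [e1, e2]
        exact Nat.eq_of_mul_eq_mul_right hp.pos this
      exact hlt.ne (Subgroup.eq_of_le_of_card_ge hlt.le h2.le)
  have hdecomp : ∀ x : R, ∃ a ∈ C, ∃ j : ℕ, x = a * y ^ j := by
    intro x
    have hx : x ∈ ((C ⊔ Subgroup.zpowers y : Subgroup R) : Set R) := by rw [htop]; trivial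
    rw [Subgroup.normal_mul] at hx
    obtain ⟨a, ha, b, hb, rfl⟩ := hx
    have hfin : IsOfFinOrder y := isOfFinOrder_of_finite y
    rw [SetLike.mem_coe, ← hfin.mem_powers_iff_mem_zpowers] at hb
    obtain ⟨j, rfl⟩ := hb
    exact ⟨a, ha, j, rfl⟩
  -- the power formula
  have hpow : ∀ a ∈ C, ∀ j : ℕ, (a * y ^ j) ^ p = a ^ p := by
    intro a ha j
    have hw := hcomm2 j a ha
    have hwc := hZcentral _ hw
    have hf := Cfsg.Agent.Lib.Helper1.mul_pow_of_commutator_central (x := a) (y := y ^ j)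
      (hwc a) (hwc (y ^ j)) p
    rw [hf]
    have h1 : (y ^ j) ^ p = 1 := by rw [← pow_mul, mul_comm, pow_mul, hyp, one_pow]
    have h2 : ⁅y ^ j, a⁆ ^ p.choose 2 = 1 := by
      have hd : p ∣ p.choose 2 :=
        hp.dvd_choose_self (by norm_num) (by have := hp.two_le; omega)
      obtain ⟨t, ht⟩ := hd
      have hwp : ⁅y ^ j, a⁆ ^ p = 1 := by
        obtain ⟨i, hi⟩ := Subgroup.mem_zpowers_iff.mp hw
        rw [← hi, ← zpow_natCast, ← zpow_mul, mul_comm, zpow_mul, zpow_natCast, hzp, one_zpow]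
      rw [ht, pow_mul, hwp, one_pow]
    rw [h1, h2, mul_one, mul_one]
  -- the subgroup `E`
  have hyZ : y ∉ Subgroup.zpowers z := fun h => hyC ((Subgroup.zpowers_le.mpr hzC) h)
  have hgood := Cfsg.Agent.Lib.Helper10.goodEpSq_of_central_mod hR z y hzcenter hzp hz1 hyp hyZ (by
    intro g
    obtain ⟨a, ha, j, rfl⟩ := hdecomp g
    have : a * y ^ j * y * (a * y ^ j)⁻¹ * y⁻¹ = (⁅y, a⁆)⁻¹ := by
      have hc : y ^ j * y = y * y ^ j := by rw [← pow_succ, ← pow_succ']
      simp only [commutatorElement_def]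
      calc a * y ^ j * y * (a * y ^ j)⁻¹ * y⁻¹
          = a * (y ^ j * y) * (y ^ j)⁻¹ * a⁻¹ * y⁻¹ := by group
        _ = a * (y * y ^ j) * (y ^ j)⁻¹ * a⁻¹ * y⁻¹ := by rw [hc]
        _ = (y * a * y⁻¹ * a⁻¹)⁻¹ := by group
    rw [this]
    exact inv_mem (hcomm1 a ha))
  obtain ⟨hEn, hEea, hEcard, _⟩ := hgood
  refine ⟨_, hEn, hEea, hEcard, ?_⟩
  intro x hx
  obtain ⟨a, ha, j, rfl⟩ := hdecomp x
  rw [hpow a ha j] at hx
  have haZ : a ∈ Subgroup.zpowers z :=
    Cfsg.Agent.Lib.Helper10.mem_zpowers_of_orderOf_dvd' C hC ha hzC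
      (by rw [hoz]; exact orderOf_dvd_of_pow_eq_one hx)
  exact mul_mem ((le_sup_left : Subgroup.zpowers z ≤ _) haZ)
    ((le_sup_right : Subgroup.zpowers y ≤ _) (Subgroup.pow_mem _ (Subgroup.mem_zpowers y) j))

end Main

end CyclicIndexP

end Cfsg.Agent.Lib.Helper2

namespace Cfsg.Agent.Lib.Helper2

namespace CyclicIndexP

section Omega

variable {R : Type*} [Group R] [Finite R] {p : ℕ} [hpf : Fact p.Prime]

/-- **S0127** -/
theorem omega_one_of_cyclic_index_p (hp2 : p ≠ 2) (hR : IsPGroup p R) (hnc : ¬ IsCyclic R)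
    (C : Subgroup R) (hC : IsCyclic C) (hCi : C.index = p) :
    Cfsg.IsElementaryAbelian p (Subgroup.closure {x : R | x ^ p = 1}) ∧
      Nat.card (Subgroup.closure {x : R | x ^ p = 1}) = p ^ 2 := by
  obtain ⟨E, _, hEea, hEcard, hE⟩ := exists_omega hp2 hR hnc C hC hCi
  have heq : Subgroup.closure {x : R | x ^ p = 1} = E := by
    apply le_antisymm
    · rw [Subgroup.closure_le]
      intro x hx
      exact hE x hx
    · intro e he
      exact Subgroup.subset_closure (hEea.2 e he)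
  rw [heq]
  exact ⟨hEea, hEcard⟩

end Omega

end CyclicIndexP

end Cfsg.Agent.Lib.Helper2
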