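import Mathlib
import Cfsg.Agent.Lib.Helper10.PGroup

/-!
# `|G| ≤ p^(a(a+1)/2)` for a `p`-group with a maximal normal abelian subgroup of order `p^a`
(helper2 library)
-/

set_option autoImplicit false

namespace Cfsg.Agent.Lib.Helper2

open scoped commutatorElement

section Nilpotent

variable {G : Type*} [Group G]

/-- in a nilpotent group, `[A, G] < A` for a nontrivial normal subgroup `A` -/
theorem commutator_top_lt_of_nilpotent [Group.IsNilpotent G] (A : Subgroup G) [A.Normal]
    (hA : A ≠ ⊥) : ⁅A, (⊤ : Subgroup G)⁆ < A := by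
  refine lt_of_le_of_ne (Subgroup.commutator_le_left A ⊤) ?_
  intro heq
  apply hA
  obtain ⟨n, hn⟩ := Subgroup.nilpotent_iff_lowerCentralSeries.mp (inferInstance : Group.IsNilpotent G)
  have key : ∀ k, A ≤ (⊤ : Subgroup G).lowerCentralSeries k := by
    intro k
    induction k with
    | zero => simp
    | succ k ih =>
      rw [Subgroup.lowerCentralSeries_succ]
      calc A = ⁅A, (⊤ : Subgroup G)⁆ := heq.symm
        _ ≤ ⁅(⊤ : Subgroup G).lowerCentralSeries k, ⊤⁆ := Subgroup.commutator_mono ih le_rfl
  have := key n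
  rw [hn] at this
  exact le_bot_iff.mp this

end Nilpotent

section PGroup

variable {G : Type*} [Group G] [Finite G] {p : ℕ} [hp : Fact p.Prime]

/-- a normal subgroup of order `p^(a+1)` of a `p`-group contains a normal subgroup of
order `p^a` -/
theorem exists_normal_le_card_pow (hG : IsPGroup p G) (A : Subgroup G) [hAn : A.Normal] (a : ℕ)
    (hA : Nat.card A = p ^ (a + 1)) :
    ∃ A₁ : Subgroup G, A₁.Normal ∧ A₁ ≤ A ∧ Nat.card A₁ = p ^ a := by
  haveI : Group.IsNilpotent G := hG.isNilpotent
  have hAne : A ≠ ⊥ := by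
    rintro rfl
    rw [Subgroup.card_bot] at hA
    have := Nat.one_lt_pow (n := a + 1) (by omega) hp.out.one_lt
    omega
  set D := ⁅A, (⊤ : Subgroup G)⁆ with hD
  have hDlt : D < A := commutator_top_lt_of_nilpotent A hAne
  have hDle : D ≤ A := hDlt.le
  obtain ⟨d, hd⟩ := (hG.to_subgroup D).exists_card_eq
  have hcardlt : Nat.card D < Nat.card A := by
    refine lt_of_le_of_ne (Subgroup.card_le_of_le hDle) ?_
    intro heq
    exact hDlt.ne (Subgroup.eq_of_le_of_card_ge hDle heq.ge)
  have hda : d ≤ a := by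
    rw [hd, hA] at hcardlt
    have := (Nat.pow_lt_pow_iff_right hp.out.one_lt).mp hcardlt
    omega
  have hD' : Nat.card (D.subgroupOf A) = p ^ d := by
    rw [Nat.card_congr (Subgroup.subgroupOfEquivOfLe hDle).toEquiv, hd]
  obtain ⟨K', hK'card, hK'le⟩ := Sylow.exists_subgroup_card_pow_prime_le p
    (by rw [hA]; exact pow_dvd_pow p (Nat.le_succ a)) (D.subgroupOf A) hD' hda
  refine ⟨K'.map A.subtype, ?_, Subgroup.map_subtype_le K', ?_⟩
  · -- normality
    have hDK : D ≤ K'.map A.subtype := by
      intro x hx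
      exact ⟨⟨x, hDle hx⟩, hK'le (Subgroup.mem_subgroupOf.mpr hx), rfl⟩
    constructor
    intro b hb g
    have hbA : b ∈ A := Subgroup.map_subtype_le K' hb
    have hcomm : ⁅g, b⁆ ∈ D := by
      rw [hD, Subgroup.commutator_comm]
      exact Subgroup.commutator_mem_commutator (Subgroup.mem_top g) hbA
    have : g * b * g⁻¹ = ⁅g, b⁆ * b := by rw [commutatorElement_def]; group
    rw [this]
    exact mul_mem (hDK hcomm) hb
  · rw [Subgroup.card_map_of_injective A.subtype_injective, hK'card]

end PGroup

end Cfsg.Agent.Lib.Helper2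

namespace Cfsg.Agent.Lib.Helper2

section Bound

variable {G : Type*} [Group G] [Finite G] {p : ℕ} [hp : Fact p.Prime]

/-- a `p`-subgroup `P` all of whose conjugates of `x ≠ 1` lie in a subgroup of order `p^(a+1)`
has `|P : C_P(x)| ≤ p^a` -/
theorem relIndex_centralizer_le (P A : Subgroup G) (hP : IsPGroup p P) (a : ℕ)
    (hA : Nat.card A = p ^ (a + 1)) {x : G} (hx1 : x ≠ 1) (hconj : ∀ g ∈ P, g * x * g⁻¹ ∈ A) :
    (Subgroup.centralizer ({x} : Set G)).relIndex P ≤ p ^ a := by
  classical
  set S := (Subgroup.centralizer ({x} : Set G)).subgroupOf P with hS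
  obtain ⟨k, hk⟩ := hP.index S
  have hne : ∀ g : G, g * x * g⁻¹ ≠ 1 := by
    intro g h
    apply hx1
    have : x = g⁻¹ * (g * x * g⁻¹) * g := by group
    rw [this, h]; group
  let f : P ⧸ S → {y : A // y ≠ 1} := fun q =>
    Quotient.liftOn' q (fun g : P => (⟨⟨(g : G) * x * (g : G)⁻¹, hconj g g.2⟩, fun h =>
      hne g (congrArg Subtype.val h)⟩ : {y : A // y ≠ 1})) (by
      intro g h hgh
      rw [QuotientGroup.leftRel_apply] at hgh
      have hc : ((g⁻¹ * h : P) : G) ∈ Subgroup.centralizer ({x} : Set G) :=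
        Subgroup.mem_subgroupOf.mp hgh
      rw [Subgroup.mem_centralizer_singleton_iff] at hc
      apply Subtype.ext; apply Subtype.ext
      simp only
      have hc' : (g : G)⁻¹ * (h : G) * x = x * ((g : G)⁻¹ * (h : G)) := by
        simpa using hc
      calc (g : G) * x * (g : G)⁻¹
          = (g : G) * (x * ((g : G)⁻¹ * (h : G))) * (h : G)⁻¹ := by group
        _ = (g : G) * ((g : G)⁻¹ * (h : G) * x) * (h : G)⁻¹ := by rw [hc']
        _ = (h : G) * x * (h : G)⁻¹ := by group)
  have hf : Function.Injective f := by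
    intro q₁ q₂
    refine Quotient.inductionOn₂' q₁ q₂ ?_
    intro g h hgh
    apply Quotient.sound'
    rw [QuotientGroup.leftRel_apply]
    apply Subgroup.mem_subgroupOf.mpr
    rw [Subgroup.mem_centralizer_singleton_iff]
    have h1 : (g : G) * x * (g : G)⁻¹ = (h : G) * x * (h : G)⁻¹ :=
      congrArg (fun y : {y : A // y ≠ 1} => ((y : A) : G)) hgh
    have : ((g⁻¹ * h : P) : G) = (g : G)⁻¹ * (h : G) := by simp
    rw [this]
    calc (g : G)⁻¹ * (h : G) * x = (g : G)⁻¹ * ((h : G) * x * (h : G)⁻¹) * (h : G) := by group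
      _ = (g : G)⁻¹ * ((g : G) * x * (g : G)⁻¹) * (h : G) := by rw [h1]
      _ = x * ((g : G)⁻¹ * (h : G)) := by group
  have hcard1 : Nat.card (P ⧸ S) ≤ Nat.card {y : A // y ≠ 1} :=
    Nat.card_le_card_of_injective f hf
  have hcard2 : Nat.card {y : A // y ≠ 1} < Nat.card A := by
    haveI : Fintype A := Fintype.ofFinite A
    rw [Nat.card_eq_fintype_card, Nat.card_eq_fintype_card]
    exact Fintype.card_subtype_lt (x := (1 : A)) (by simp)
  have hidx : S.index = Nat.card (P ⧸ S) := Subgroup.index_eq_card S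
  have hlt : p ^ k < p ^ (a + 1) := by
    rw [← hk, hidx, ← hA]
    exact lt_of_le_of_lt hcard1 hcard2
  have hka : k ≤ a := by
    have := (Nat.pow_lt_pow_iff_right hp.out.one_lt).mp hlt
    omega
  show S.index ≤ p ^ a
  rw [hk]
  exact Nat.pow_le_pow_right hp.out.pos hka

end Bound

end Cfsg.Agent.Lib.Helper2

namespace Cfsg.Agent.Lib.Helper2

section Bound2

variable {G : Type*} [Group G] [Finite G] {p : ℕ} [hp : Fact p.Prime]

/-- `|G : C_G(A)| ≤ p^(a(a-1)/2)` for a normal subgroup `A` of order `p^a` of a `p`-group -/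
theorem index_centralizer_le (hG : IsPGroup p G) : ∀ (a : ℕ) (A : Subgroup G) [A.Normal],
    Nat.card A = p ^ a → (Subgroup.centralizer (A : Set G)).index ≤ p ^ (a * (a - 1) / 2) := by
  intro a
  induction a with
  | zero =>
    intro A _ hA
    rw [pow_zero] at hA
    have hbot : A = ⊥ := Subgroup.card_eq_one.mp hA
    have : Subgroup.centralizer (A : Set G) = ⊤ := by
      rw [Subgroup.centralizer_eq_top_iff_subset, hbot]
      intro x hx
      rw [Subgroup.coe_bot, Set.mem_singleton_iff] at hx
      rw [hx]; exact one_mem _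
    rw [this, Subgroup.index_top]
    simp
  | succ a ih =>
    intro A hAn hA
    obtain ⟨A₁, hA₁n, hA₁le, hA₁card⟩ := exists_normal_le_card_pow hG A a hA
    obtain ⟨x₀, hx₀A, hx₀⟩ : ∃ x₀ ∈ A, x₀ ∉ A₁ := by
      by_contra hcon
      push Not at hcon
      have : A ≤ A₁ := hcon
      have := Subgroup.card_le_of_le this
      rw [hA, hA₁card] at this
      have := (Nat.pow_le_pow_iff_right hp.out.one_lt).mp this
      omega
    have hx₀1 : x₀ ≠ 1 := by
      rintro rfl
      exact hx₀ (one_mem _)
    -- `A = A₁ ⊔ ⟨x₀⟩`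
    have hBle : A₁ ⊔ Subgroup.zpowers x₀ ≤ A :=
      sup_le hA₁le ((Subgroup.zpowers_le).mpr hx₀A)
    have hBeq : A₁ ⊔ Subgroup.zpowers x₀ = A := by
      apply Subgroup.eq_of_le_of_card_ge hBle
      obtain ⟨b, hb⟩ := (hG.to_subgroup (A₁ ⊔ Subgroup.zpowers x₀)).exists_card_eq
      have hlt : A₁ < A₁ ⊔ Subgroup.zpowers x₀ := by
        refine lt_of_le_of_ne le_sup_left ?_
        intro heq
        apply hx₀
        rw [heq]
        exact (le_sup_right : Subgroup.zpowers x₀ ≤ _) (Subgroup.mem_zpowers x₀)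
      have hcardlt : Nat.card A₁ < Nat.card (A₁ ⊔ Subgroup.zpowers x₀ : Subgroup G) := by
        refine lt_of_le_of_ne (Subgroup.card_le_of_le hlt.le) ?_
        intro heq
        exact hlt.ne (Subgroup.eq_of_le_of_card_ge hlt.le heq.ge)
      rw [hA₁card, hb] at hcardlt
      have hab := (Nat.pow_lt_pow_iff_right hp.out.one_lt).mp hcardlt
      rw [hA, hb]
      exact Nat.pow_le_pow_right hp.out.pos hab
    -- the centralizer
    have hcent : Subgroup.centralizer (A : Set G) =
        Subgroup.centralizer (A₁ : Set G) ⊓ Subgroup.centralizer ({x₀} : Set G) := by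
      apply le_antisymm
      · apply le_inf
        · exact Subgroup.centralizer_le hA₁le
        · apply Subgroup.centralizer_le
          intro y hy
          rw [Set.mem_singleton_iff] at hy
          rw [hy]; exact hx₀A
      · rintro g ⟨hg1, hg2⟩
        rw [Subgroup.mem_centralizer_iff]
        have hle : A₁ ⊔ Subgroup.zpowers x₀ ≤ Subgroup.centralizer ({g} : Set G) := by
          apply sup_le
          · intro y hy
            rw [Subgroup.mem_centralizer_singleton_iff]
            exact (Subgroup.mem_centralizer_iff.mp hg1) y hy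
          · rw [Subgroup.zpowers_le, Subgroup.mem_centralizer_singleton_iff]
            have hg2' : g ∈ Subgroup.centralizer ({x₀} : Set G) := hg2
            rw [Subgroup.mem_centralizer_singleton_iff] at hg2'
            exact hg2'.symm
        intro y hy
        rw [← hBeq] at hy
        have := hle hy
        rw [Subgroup.mem_centralizer_singleton_iff] at this
        exact this
    have hidx : (Subgroup.centralizer (A : Set G)).index =
        (Subgroup.centralizer ({x₀} : Set G)).relIndex (Subgroup.centralizer (A₁ : Set G)) *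
          (Subgroup.centralizer (A₁ : Set G)).index := by
      rw [hcent, ← Subgroup.relIndex_mul_index (inf_le_left :
        Subgroup.centralizer (A₁ : Set G) ⊓ Subgroup.centralizer ({x₀} : Set G) ≤ _),
        Subgroup.inf_relIndex_left]
    have h1 := relIndex_centralizer_le (Subgroup.centralizer (A₁ : Set G)) A
      (hG.to_subgroup _) a hA hx₀1 (fun g _ => hAn.conj_mem x₀ hx₀A g)
    have h2 := ih A₁ hA₁card
    rw [hidx, Nat.triangle_succ, pow_add, mul_comm]
    exact Nat.mul_le_mul h2 h1

/-- **S0129**: `|G| ≤ p^(a(a+1)/2)` if `G` has a maximal normal abelian subgroup of order `p^a` -/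
theorem card_le_of_maximal_normal_abelian (hG : IsPGroup p G) (A : Subgroup G) [A.Normal]
    (hA : IsMulCommutative A)
    (hmax : ∀ B : Subgroup G, B.Normal → IsMulCommutative B → A ≤ B → B = A) (a : ℕ)
    (ha : Nat.card A = p ^ a) : Nat.card G ≤ p ^ (a * (a + 1) / 2) := by
  have hC := Cfsg.Agent.Lib.Helper10.centralizer_le_of_maximal_normal_abelian hG A hA hmax
  have h1 := index_centralizer_le hG a A ha
  have h2 : Nat.card (Subgroup.centralizer (A : Set G)) ≤ p ^ a := by
    rw [← ha]; exact Subgroup.card_le_of_le hC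
  have h3 : a * (a + 1) / 2 = a * (a - 1) / 2 + a := by
    have := Nat.triangle_succ a
    rw [Nat.add_sub_cancel, mul_comm] at this
    exact this
  rw [← Subgroup.card_mul_index (Subgroup.centralizer (A : Set G)), h3, pow_add, mul_comm]
  exact Nat.mul_le_mul h1 h2

end Bound2

end Cfsg.Agent.Lib.Helper2
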