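import Mathlib
import Cfsg.Agent.Lib.Helper2.CyclicIndexP
import Cfsg.Agent.Lib.Helper2.PGroupAbelianBound

/-!
# A non-cyclic `p`-group (`p` odd) has a normal elementary abelian subgroup of order `p^2`
(helper2 library)
-/

set_option autoImplicit false

namespace Cfsg.Agent.Lib.Helper2

namespace NormalEpSq

section Series

variable {G : Type*} [Group G] [Finite G] {p : ℕ} [hpf : Fact p.Prime]

/-- normal subgroups of every smaller `p`-power order inside a normal subgroup -/
theorem exists_normal_le_card_pow' (hG : IsPGroup p G) (k : ℕ) :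
    ∀ (N : Subgroup G) [N.Normal], Nat.card N = p ^ k → ∀ j ≤ k,
      ∃ N' : Subgroup G, N'.Normal ∧ N' ≤ N ∧ Nat.card N' = p ^ j := by
  induction k with
  | zero =>
    intro N _ hN j hj
    have : j = 0 := by omega
    subst this
    exact ⟨N, inferInstance, le_rfl, hN⟩
  | succ k ih =>
    intro N _ hN j hj
    rcases Nat.lt_or_ge j (k + 1) with h | h
    · obtain ⟨N₁, hN₁n, hN₁le, hN₁c⟩ := exists_normal_le_card_pow hG N k hN
      haveI := hN₁n
      obtain ⟨N', h1, h2, h3⟩ := ih N₁ hN₁c j (by omega)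
      exact ⟨N', h1, h2.trans hN₁le, h3⟩
    · have : j = k + 1 := by omega
      subst this
      exact ⟨N, inferInstance, le_rfl, hN⟩

/-- a proper normal subgroup `A` of a `p`-group lies in a normal subgroup of order `p |A|` -/
theorem exists_normal_ge_card_mul (hG : IsPGroup p G) (A : Subgroup G) [hAn : A.Normal]
    (hA : A ≠ ⊤) : ∃ B : Subgroup G, B.Normal ∧ A ≤ B ∧ Nat.card B = p * Nat.card A := by
  have hp : p.Prime := Fact.out
  have hQ : IsPGroup p (G ⧸ A) := hG.to_quotient A
  haveI : Nontrivial (G ⧸ A) := by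
    rw [← Finite.one_lt_card_iff_nontrivial, ← Subgroup.index_eq_card]
    have h1 : A.index ≠ 1 := fun h => hA (Subgroup.index_eq_one.mp h)
    have h2 : A.index ≠ 0 := Subgroup.index_ne_zero_of_finite
    omega
  haveI hcnt : Nontrivial (Subgroup.center (G ⧸ A)) := hQ.center_nontrivial
  obtain ⟨c, hc1⟩ := exists_ne (1 : Subgroup.center (G ⧸ A))
  have hc1' : (c : G ⧸ A) ≠ 1 := fun h => hc1 (Subtype.ext h)
  obtain ⟨z, hzc, hzp, hz1⟩ :=
    Cfsg.Agent.Lib.Helper10.exists_orderOf_eq_prime_zpowers hQ (c : G ⧸ A) hc1'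
  have hz : z ∈ Subgroup.center (G ⧸ A) := (Subgroup.zpowers_le.mpr c.2) hzc
  have hoz : orderOf z = p := orderOf_eq_prime hzp hz1
  haveI hZn : (Subgroup.zpowers z).Normal := by
    constructor
    intro w hw g
    have hwc : w ∈ Subgroup.center (G ⧸ A) := (Subgroup.zpowers_le.mpr hz) hw
    have h2 := (Subgroup.mem_center_iff.mp hwc) g
    have : g * w * g⁻¹ = w := by rw [h2]; group
    rw [this]; exact hw
  refine ⟨(Subgroup.zpowers z).comap (QuotientGroup.mk' A), inferInstance, ?_, ?_⟩
  · intro a ha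
    rw [Subgroup.mem_comap]
    have : QuotientGroup.mk' A a = 1 := (QuotientGroup.eq_one_iff a).mpr ha
    rw [this]; exact one_mem _
  · have hidx : ((Subgroup.zpowers z).comap (QuotientGroup.mk' A)).index
        = (Subgroup.zpowers z).index :=
      Subgroup.index_comap_of_surjective _ (QuotientGroup.mk'_surjective A)
    have e1 := ((Subgroup.zpowers z).comap (QuotientGroup.mk' A)).card_mul_index
    have e2 := (Subgroup.zpowers z).card_mul_index
    have e3 : Nat.card A * Nat.card (G ⧸ A) = Nat.card G := by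
      rw [mul_comm]; exact (Subgroup.card_eq_card_quotient_mul_card_subgroup A).symm
    rw [Nat.card_zpowers, hoz] at e2
    have hidxpos : 0 < (Subgroup.zpowers z).index :=
      Nat.pos_of_ne_zero Subgroup.index_ne_zero_of_finite
    have : Nat.card ((Subgroup.zpowers z).comap (QuotientGroup.mk' A)) *
        (Subgroup.zpowers z).index = (p * Nat.card A) * (Subgroup.zpowers z).index := by
      rw [← hidx, e1, ← e3, ← e2, hidx]; ring
    exact Nat.eq_of_mul_eq_mul_right hidxpos this

end Series

end NormalEpSq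

end Cfsg.Agent.Lib.Helper2

namespace Cfsg.Agent.Lib.Helper2

namespace NormalEpSq

section Main

variable {R : Type*} [Group R] [Finite R] {p : ℕ} [hpf : Fact p.Prime]

/-- **S0126**: a non-cyclic `p`-group (`p` odd) has a normal `E_{p^2}` -/
theorem exists_normal_elementaryAbelian_sq (hp2 : p ≠ 2) (hR : IsPGroup p R)
    (hnc : ¬ IsCyclic R) :
    ∃ A : Subgroup R, A.Normal ∧ Cfsg.IsElementaryAbelian p A ∧ Nat.card A = p ^ 2 := by
  have hp : p.Prime := Fact.out
  obtain ⟨A, hAn, hAc, hAmax⟩ := Cfsg.Agent.Lib.Helper10.exists_maximal_normal_abelian R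
  haveI := hAn
  have hAcomm : ∀ a ∈ A, ∀ b ∈ A, a * b = b * a := fun a ha b hb =>
    congrArg Subtype.val (hAc.is_comm.comm ⟨a, ha⟩ ⟨b, hb⟩)
  by_cases hAcyc : IsCyclic A
  · -- `A` cyclic
    have hAtop : A ≠ ⊤ := by
      intro h
      apply hnc
      have hsurj : Function.Surjective A.subtype := by
        intro x
        exact ⟨⟨x, by rw [h]; trivial⟩, rfl⟩
      exact isCyclic_of_surjective A.subtype hsurj
    obtain ⟨B, hBn, hAB, hBcard⟩ := exists_normal_ge_card_mul hR A hAtop
    haveI := hBn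
    have hBp : IsPGroup p B := hR.to_subgroup B
    have hApos : 0 < Nat.card A := Nat.card_pos
    have hBnc : ¬ IsCyclic B := by
      intro hBc
      have hBcomm : IsMulCommutative B :=
        ⟨⟨fun a b => (IsCyclic.commGroup (α := B)).mul_comm a b⟩⟩
      have := hAmax B hBn hBcomm hAB
      rw [this] at hBcard
      have := hp.one_lt
      nlinarith
    have hC' : IsCyclic (A.subgroupOf B) :=
      isCyclic_of_surjective (Subgroup.subgroupOfEquivOfLe hAB).symm.toMonoidHom
        (Subgroup.subgroupOfEquivOfLe hAB).symm.surjective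
    have hidx : (A.subgroupOf B).index = p := by
      have e1 := (A.subgroupOf B).card_mul_index
      rw [Nat.card_congr (Subgroup.subgroupOfEquivOfLe hAB).toEquiv, hBcard] at e1
      have : Nat.card A * (A.subgroupOf B).index = Nat.card A * p := by rw [e1]; ring
      exact Nat.eq_of_mul_eq_mul_left hApos this
    obtain ⟨E, hEn, hEea, hEcard, hE⟩ :=
      CyclicIndexP.exists_omega hp2 hBp hBnc (A.subgroupOf B) hC' hidx
    have hEp : ∀ e ∈ E, ((e : B) : R) ^ p = 1 := by
      intro e he
      have := congrArg Subtype.val (hEea.2 e he)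
      simpa using this
    refine ⟨E.map B.subtype, ?_, ⟨?_, ?_⟩, ?_⟩
    · constructor
      rintro _ ⟨e, he, rfl⟩ g
      have hgB : g * (e : R) * g⁻¹ ∈ B := hBn.conj_mem _ e.2 g
      refine ⟨⟨g * (e : R) * g⁻¹, hgB⟩, ?_, rfl⟩
      apply hE
      apply Subtype.ext
      rw [Subgroup.coe_pow]
      simp only [Subgroup.coe_one]
      rw [conj_pow, hEp e he]; group
    · have hEc := hEea.1
      refine IsMulCommutative.of_setLike_mul_comm ?_
      rintro _ ⟨x, hx, rfl⟩ _ ⟨y, hy, rfl⟩
      have := hEc.is_comm.comm ⟨x, hx⟩ ⟨y, hy⟩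
      have h2 := congrArg (fun t : E => ((t : B) : R)) this
      simpa using h2
    · rintro _ ⟨e, he, rfl⟩
      exact hEp e he
    · rw [Subgroup.card_map_of_injective B.subtype_injective, hEcard]
  · -- `A` not cyclic
    have hAp : IsPGroup p A := hR.to_subgroup A
    set Ω := Cfsg.Agent.Lib.Helper10.omegaSub A hAcomm p with hΩ
    haveI hΩn : Ω.Normal := ⟨fun a ha g => Cfsg.Agent.Lib.Helper10.conj_mem_omegaSub g ha⟩
    obtain ⟨k, hk⟩ := (hR.to_subgroup Ω).exists_card_eq
    have hk2 : 2 ≤ k := by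
      by_contra hlt
      push Not at hlt
      apply hAcyc
      apply Cfsg.Agent.Lib.Helper10.isCyclic_of_comm_of_uniqueOrderP hAp
        (fun a b => Subtype.ext (hAcomm a a.2 b b.2))
      intro x y hx hx1 hy
      have hx' : (x : R) ^ p = 1 := by
        have := congrArg Subtype.val hx; simpa using this
      have hy' : (y : R) ^ p = 1 := by
        have := congrArg Subtype.val hy; simpa using this
      have hx1' : (x : R) ≠ 1 := fun h0 => hx1 (Subtype.ext h0)
      have hxΩ : (x : R) ∈ Ω := ⟨x.2, hx'⟩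
      have hyΩ : (y : R) ∈ Ω := ⟨y.2, hy'⟩
      have hle : Subgroup.zpowers (x : R) ≤ Ω := Subgroup.zpowers_le.mpr hxΩ
      have hcz : Nat.card (Subgroup.zpowers (x : R)) = p := by
        rw [Nat.card_zpowers]; exact orderOf_eq_prime hx' hx1'
      have hcΩ : Nat.card Ω ≤ p := by
        rw [hk]
        calc p ^ k ≤ p ^ 1 := Nat.pow_le_pow_right hp.pos (by omega)
          _ = p := pow_one p
      have heq : Subgroup.zpowers (x : R) = Ω :=
        Subgroup.eq_of_le_of_card_ge hle (by rw [hcz]; exact hcΩ)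
      have hyz : (y : R) ∈ Subgroup.zpowers (x : R) := by rw [heq]; exact hyΩ
      obtain ⟨i, hi⟩ := Subgroup.mem_zpowers_iff.mp hyz
      refine Subgroup.mem_zpowers_iff.mpr ⟨i, ?_⟩
      apply Subtype.ext
      rw [Subgroup.coe_zpow]
      exact hi
    obtain ⟨U, hUn, hUΩ, hUcard⟩ := exists_normal_le_card_pow' hR k Ω hk 2 hk2
    refine ⟨U, hUn, ⟨?_, ?_⟩, hUcard⟩
    · exact IsMulCommutative.of_setLike_mul_comm
        (fun a ha b hb => hAcomm a (hUΩ ha).1 b (hUΩ hb).1)
    · intro a ha
      exact (hUΩ ha).2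

end Main

end NormalEpSq

end Cfsg.Agent.Lib.Helper2
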