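import Mathlib
import Cfsg.Agent.Lib.Helper10.BGThirteenA
import Cfsg.Agent.Lib.Helper9.BGPrime1
import Cfsg.Agent.Lib.Helper9.BGHallFus
import Cfsg.Agent.S1417
import Cfsg.Agent.S1423

/-!
# Helper2 library: B & G Section 13, auxiliary lemmas

Small tools for a maximal subgroup `M` whose `M_σ` is not nilpotent.
-/

set_option autoImplicit false
set_option linter.style.haveILetI false
set_option linter.unusedSectionVars false
set_option linter.unusedVariables false

open Cfsg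
open Cfsg.Agent.Lib.Helper10.BG
open Cfsg.Agent.Lib.Helper9.BGExc

namespace Cfsg.Agent.Lib.Helper2.BG13

variable {G : Type*} [Group G] [Finite G]

/-- if `M_σ` is not nilpotent then `τ₂(M)` is empty. -/
theorem not_mem_tau2_of_not_nilpotent (hG : IsMinSimpleOddOrder G) {M : Subgroup G}
    (hM : IsCoatom M) (hnn : ¬ Group.IsNilpotent (sigmaCore M)) (p : ℕ) : p ∉ tau2 M := by
  intro hp
  haveI : Fact p.Prime := ⟨hp.1⟩
  obtain ⟨T, hT⟩ := exists_isSylowIn p M
  obtain ⟨A, hAT, hAe, hAcard⟩ :=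
    Cfsg.Agent.Lib.Helper9.BGPrime.exists_elemAb_sq_le hp.2.2.1 hp.2.2.2 hT
  exact hnn (Cfsg.Agent.S1417.result hG M hM p hp A ⟨hAT.trans hT.le, hAe, hAcard⟩).1

/-- if `M_σ` is not nilpotent, `M` has `p`-rank at most one for every `p ∉ σ(M)`. -/
theorem pRankLE_one_of_not_sigma (hG : IsMinSimpleOddOrder G) {M : Subgroup G}
    (hM : IsCoatom M) (hnn : ¬ Group.IsNilpotent (sigmaCore M)) {p : ℕ} (hp : p.Prime)
    (hpσ : p ∉ sigma M) : PRankLE p 1 ↥M := by
  have h2 : PRankLE p 2 ↥M := alpha_rank M p hp (fun hα => hpσ (alpha_subset_sigma hG hM hα))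
  by_contra h1
  exact not_mem_tau2_of_not_nilpotent hG hM hnn p ⟨hp, hpσ, h2, h1⟩

/-- a subgroup of order `q` in a nontrivial `q`-group. -/
theorem exists_card_prime_le {q : ℕ} [Fact q.Prime] {Y : Subgroup G} (hY : IsPGroup q Y)
    (hY1 : Y ≠ ⊥) : ∃ X : Subgroup G, X ≤ Y ∧ Nat.card X = q := by
  have hq : q.Prime := Fact.out
  have hd : q ∣ Nat.card Y := by
    by_contra h
    exact hY1 (eq_bot_of_isPGroup_of_not_dvd_card hY h)
  obtain ⟨y, hy⟩ := exists_prime_orderOf_dvd_card' (G := ↥Y) q hd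
  refine ⟨Subgroup.zpowers (y : G), ?_, ?_⟩
  · rw [Subgroup.zpowers_le]
    exact y.2
  · rw [Nat.card_zpowers, Subgroup.orderOf_coe, hy]

/-- no Sylow `q`-subgroup of `M` lies in a unique maximal subgroup, if one Sylow `q`-subgroup of
`G` lies in `M` and in a maximal subgroup `H` not conjugate to `M`. -/
theorem not_inUniqueMaximal_of_le {M H S : Subgroup G} (hM : IsCoatom M) (hH : IsCoatom H)
    {q : ℕ} [Fact q.Prime] (hnc : ∀ g : G, M ≠ cj g H) (hS : IsSylowIn q S ⊤) (hSM : S ≤ M)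
    (hSH : S ≤ H) (T : Subgroup G) (hT : IsSylowIn q T M) : ¬ InUniqueMaximal T := by
  intro hU
  obtain ⟨m, hmM, hTm⟩ := (hS.of_le hSM le_top).exists_conj hT
  obtain ⟨L, hL, hTL, huniq⟩ := inUniqueMaximal_exists hU
  have h1 : M = L := huniq M hM hT.le
  have h2 : cj m H = L := huniq (cj m H) (isCoatom_map_conj m hH) (by
    rw [hTm]
    exact cj_mono m hSH)
  exact hnc m (h1.trans h2.symm)

/-- every prime divisor of `|G|` lies in `σ(M)` for some maximal subgroup `M`. -/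
theorem exists_coatom_mem_sigma (hG : IsMinSimpleOddOrder G) {p : ℕ} (hp : p.Prime)
    (hd : p ∣ Nat.card G) : ∃ M : Subgroup G, IsCoatom M ∧ p ∈ sigma M := by
  haveI : Fact p.Prime := ⟨hp⟩
  obtain ⟨P, hP⟩ := exists_isSylowIn p (⊤ : Subgroup G)
  have hP1 : P ≠ ⊥ := hP.ne_bot_of_dvd (by rw [Subgroup.card_top]; exact hd)
  obtain ⟨M, hσ, hNM⟩ := Cfsg.Agent.Lib.Helper9.BG10.exists_sigmaProp_of_sylow hG hP hP1
  refine ⟨M, hσ.1, mem_sigma_of_sigmaProp hσ ?_⟩
  have hPM : P ≤ M := Subgroup.le_normalizer.trans hNM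
  have h1 : p ∣ Nat.card P := by
    by_contra h
    exact hP1 (eq_bot_of_isPGroup_of_not_dvd_card hP.isPGroup h)
  exact h1.trans (Subgroup.card_dvd_of_le hPM)

end Cfsg.Agent.Lib.Helper2.BG13
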