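import Mathlib
import Cfsg.Agent.Lib.Helper10.FrobAction

/-!
# Helper2 library: a generation lemma for Frobenius-like actions

If `K R` is Frobenius-like (`R` acts freely on the solvable normal subgroup `K`) and acts
coprimely on a nilpotent group `M`, then `M` is the only invariant subgroup containing both
`C_M(K)` and `C_M(R)`.
-/

set_option autoImplicit false

namespace Cfsg.Agent.Lib.Helper2.BG13

open Cfsg.Agent.Lib.Helper10.FrobAction

universe u v

variable {L : Type v} [Group L] [Finite L]

/-- generation lemma: an invariant subgroup containing the fixed points of `K` and of `R`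
is everything. -/
theorem eq_top_of_fixedSub_le (K R : Subgroup L) [K.Normal] (hKsolv : Group.IsSolvable K)
    (hfpf : ∀ r ∈ R, r ≠ 1 → ∀ k ∈ K, r * k = k * r → k = 1)
    (M : Type u) [Group M] [Finite M] (ψ : L →* MulAut M) (hnil : Group.IsNilpotent M)
    (hcop : (Nat.card L).Coprime (Nat.card M))
    (U : Subgroup M) (hU : Invariant ψ U) (hK : fixedSub ψ K ≤ U) (hR : fixedSub ψ R ≤ U) :
    U = ⊤ := by
  revert hcop U
  refine nilpotent_induction (L := L)
    (P := fun (M : Type u) [Group M] [Finite M] (ψ : L →* MulAut M) =>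
      (Nat.card L).Coprime (Nat.card M) → ∀ U : Subgroup M, Invariant ψ U →
        fixedSub ψ K ≤ U → fixedSub ψ R ≤ U → U = ⊤) ?_ ?_ M ψ hnil
  · -- irreducible case
    intro M _ _ ψ hnil hirr hcop U hU hK hR
    have hcomm := comm_of_irred ψ hnil hirr
    have hUn : U.Normal := by
      constructor
      intro n hn g
      rw [hcomm g n, mul_inv_cancel_right]
      exact hn
    rcases hirr U hUn hU (fun x _ y _ => hcomm x y) with h | h
    · have hCK : ∀ m : M, (∀ k ∈ K, ψ k m = m) → m = 1 := by
        intro m hm
        have h1 : m ∈ U := hK hm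
        rwa [h, Subgroup.mem_bot] at h1
      have hB := card_eq_card_fixedSub_pow K R hKsolv hfpf M ψ hnil hcop hCK
      have h2 : Nat.card (fixedSub ψ R) = 1 := by
        rw [Subgroup.card_eq_one, eq_bot_iff, ← h]
        exact hR
      rw [h2, one_pow] at hB
      have : Subsingleton M := (Nat.card_eq_one_iff_unique.mp hB).1
      rw [eq_top_iff]
      intro x _
      rw [Subsingleton.elim x 1]
      exact U.one_mem
    · exact h
  · -- induction step
    intro M _ _ ψ N _ hNinv hNab hN1 hN2 hnil ihN ihQ hcop U hU hK hR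
    have hcopN : (Nat.card L).Coprime (Nat.card N) :=
      Nat.Coprime.coprime_dvd_right (Subgroup.card_subgroup_dvd_card N) hcop
    have hcopQ : (Nat.card L).Coprime (Nat.card (M ⧸ N)) :=
      Nat.Coprime.coprime_dvd_right (Subgroup.card_quotient_dvd_card N) hcop
    have hcopKN : (Nat.card K).Coprime (Nat.card N) :=
      Nat.Coprime.coprime_dvd_left (Subgroup.card_subgroup_dvd_card K) hcopN
    have hcopRN : (Nat.card R).Coprime (Nat.card N) :=
      Nat.Coprime.coprime_dvd_left (Subgroup.card_subgroup_dvd_card R) hcopN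
    -- `N ≤ U`
    have h1 : U.subgroupOf N = ⊤ := by
      apply ihN hcopN
      · intro g n hn
        rw [Subgroup.mem_subgroupOf] at hn ⊢
        exact hU g n hn
      · intro n hn
        rw [Subgroup.mem_subgroupOf]
        apply hK
        intro k hk
        exact congrArg Subtype.val (hn k hk)
      · intro n hn
        rw [Subgroup.mem_subgroupOf]
        apply hR
        intro k hk
        exact congrArg Subtype.val (hn k hk)
    have hNU : N ≤ U := Subgroup.subgroupOf_eq_top.mp h1
    -- the image of `U` is everything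
    have h2 : U.map (QuotientGroup.mk' N) = ⊤ := by
      apply ihQ hcopQ
      · rintro g q ⟨m, hm, rfl⟩
        exact ⟨ψ g m, hU g m hm, rfl⟩
      · intro q hq
        obtain ⟨m, hm⟩ := fixedMap_surjective ψ N hNab hNinv K hcopKN ⟨q, hq⟩
        have h3 : (((m : M)) : M ⧸ N) = q := congrArg Subtype.val hm
        exact ⟨(m : M), hK m.2, h3⟩
      · intro q hq
        obtain ⟨m, hm⟩ := fixedMap_surjective ψ N hNab hNinv R hcopRN ⟨q, hq⟩
        have h3 : (((m : M)) : M ⧸ N) = q := congrArg Subtype.val hm
        exact ⟨(m : M), hR m.2, h3⟩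
    rw [eq_top_iff]
    intro x _
    have h3 : ((x : M) : M ⧸ N) ∈ U.map (QuotientGroup.mk' N) := h2 ▸ Subgroup.mem_top _
    obtain ⟨u, hu, hux⟩ := h3
    have h4 : u⁻¹ * x ∈ N := by
      rw [← QuotientGroup.eq]
      exact hux
    have h5 : x = u * (u⁻¹ * x) := by group
    rw [h5]
    exact U.mul_mem hu (hNU h4)

end Cfsg.Agent.Lib.Helper2.BG13
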