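import Mathlib
import Cfsg.Agent.Lib.Helper2.BG13Gen
import Cfsg.Agent.Lib.Helper10.FrobSub
import Cfsg.Agent.Lib.Helper7.BG13B

/-!
# Helper2 library: B & G Section 13, the final step of the asymmetry argument

`final_step`: in the configuration of B & G Lemma 13.8 (with `Q = Q* = S` a Sylow `q`-subgroup
of `G`), `C_{M_β}(P) ≤ H` is impossible.
-/

set_option autoImplicit false
set_option linter.style.haveILetI false
set_option linter.unusedSectionVars false
set_option linter.unusedVariables false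

open Cfsg
open Cfsg.Agent.Lib.Helper10.BG
open Cfsg.Agent.Lib.Helper9.BGExc

namespace Cfsg.Agent.Lib.Helper2.BG13

variable {G : Type*} [Group G] [Finite G]

open Cfsg.Agent.Lib.Helper10.FrobAction in
/-- subgroup form of the generation lemma: if `S P` is Frobenius-like and acts coprimely on the
nilpotent subgroup `V`, and `H` is an `S P`-invariant subgroup containing `C_V(S)` and `C_V(P)`,
then `V ≤ H`. -/
theorem le_of_centralizers_le {S P V H : Subgroup G}
    (hPS : P ≤ Subgroup.normalizer (S : Set G)) (hSsolv : Group.IsSolvable S)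
    (hSV : S ≤ Subgroup.normalizer (V : Set G)) (hPV : P ≤ Subgroup.normalizer (V : Set G))
    (hVnil : Group.IsNilpotent V)
    (hcop : (Nat.card S * Nat.card P).Coprime (Nat.card V))
    (hfpf : ∀ r ∈ P, r ≠ 1 → ∀ k ∈ S, r * k = k * r → k = 1)
    (hSH : S ≤ Subgroup.normalizer (H : Set G)) (hPH : P ≤ Subgroup.normalizer (H : Set G))
    (hCS : V ⊓ Subgroup.centralizer (S : Set G) ≤ H)
    (hCP : V ⊓ Subgroup.centralizer (P : Set G) ≤ H) : V ≤ H := by
  obtain ⟨J, hJ⟩ : ∃ J : Subgroup G, J = S ⊔ P := ⟨_, rfl⟩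
  have hSJ : S ≤ J := hJ ▸ le_sup_left
  have hPJ : P ≤ J := hJ ▸ le_sup_right
  have hJV : J ≤ Subgroup.normalizer (V : Set G) := hJ ▸ sup_le hSV hPV
  have hJH : J ≤ Subgroup.normalizer (H : Set G) := hJ ▸ sup_le hSH hPH
  have hJS : J ≤ Subgroup.normalizer (S : Set G) := hJ ▸ sup_le Subgroup.le_normalizer hPS
  haveI hKn : (S.subgroupOf J).Normal :=
    (Subgroup.normal_subgroupOf_iff_le_normalizer hSJ).mpr hJS
  have hKsolv : Group.IsSolvable (S.subgroupOf J) := by
    haveI := hSsolv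
    exact Group.isSolvable_of_isSolvable_injective (f := (Subgroup.subgroupOfEquivOfLe hSJ).toMonoidHom)
      (Subgroup.subgroupOfEquivOfLe hSJ).injective
  have hcard : Nat.card J ∣ Nat.card S * Nat.card P := by
    rw [hJ]
    exact Cfsg.Agent.Lib.Helper9.card_sup_dvd_of_le_normalizer hPS
  have hcop' : (Nat.card J).Coprime (Nat.card V) := Nat.Coprime.coprime_dvd_left hcard hcop
  have hfpf' : ∀ r ∈ P.subgroupOf J, r ≠ 1 → ∀ k ∈ S.subgroupOf J, r * k = k * r → k = 1 := by
    intro r hr hr1 k hk hrk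
    apply Subtype.ext
    apply hfpf (r : G) (Subgroup.mem_subgroupOf.mp hr) (fun h => hr1 (Subtype.ext h)) (k : G)
      (Subgroup.mem_subgroupOf.mp hk)
    exact congrArg Subtype.val hrk
  have e1 : (S.subgroupOf J).map J.subtype = S := Subgroup.map_subgroupOf_eq_of_le hSJ
  have e2 : (P.subgroupOf J).map J.subtype = P := Subgroup.map_subgroupOf_eq_of_le hPJ
  have hUinv : Invariant (Cfsg.Agent.Lib.Helper10.FrobAction.conjHom V J hJV) (H.subgroupOf V) := by
    intro g m hm
    rw [Subgroup.mem_subgroupOf] at hm ⊢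
    rw [conjHom_apply]
    exact (Subgroup.mem_normalizer_iff.mp (hJH g.2) _).mp hm
  have hK : fixedSub (Cfsg.Agent.Lib.Helper10.FrobAction.conjHom V J hJV) (S.subgroupOf J) ≤ H.subgroupOf V := by
    intro m hm
    rw [Subgroup.mem_subgroupOf]
    have h2 : ((m : ↥V) : G) ∈ V ⊓ Subgroup.centralizer
        (((S.subgroupOf J).map J.subtype : Subgroup G) : Set G) :=
      (fixedSubEquiv V J hJV (S.subgroupOf J) ⟨m, hm⟩).2
    rw [e1] at h2
    exact hCS h2
  have hR : fixedSub (Cfsg.Agent.Lib.Helper10.FrobAction.conjHom V J hJV) (P.subgroupOf J) ≤ H.subgroupOf V := by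
    intro m hm
    rw [Subgroup.mem_subgroupOf]
    have h2 : ((m : ↥V) : G) ∈ V ⊓ Subgroup.centralizer
        (((P.subgroupOf J).map J.subtype : Subgroup G) : Set G) :=
      (fixedSubEquiv V J hJV (P.subgroupOf J) ⟨m, hm⟩).2
    rw [e2] at h2
    exact hCP h2
  have h3 := eq_top_of_fixedSub_le (S.subgroupOf J) (P.subgroupOf J) hKsolv hfpf' ↥V
    (Cfsg.Agent.Lib.Helper10.FrobAction.conjHom V J hJV) hVnil hcop' (H.subgroupOf V) hUinv hK hR
  exact Subgroup.subgroupOf_eq_top.mp h3

/-- the final step of the asymmetry argument. -/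
theorem final_step (hG : IsMinSimpleOddOrder G) {M H S P : Subgroup G} (hM : IsCoatom M)
    (hH : IsCoatom H) (hne : M ≠ H) {q p : ℕ} [Fact q.Prime] [Fact p.Prime]
    (hqβ : q ∉ beta M) (hpβ : p ∉ beta M) (hSq : IsPGroup q S) (hSM : S ≤ M) (hSH : S ≤ H)
    (hNS : Subgroup.normalizer (S : Set G) ≤ H)
    (hMβD : M ≤ piCoreOf (beta M) M ⊔ (M ⊓ H))
    (hP : Nat.card P = p) (hPM : P ≤ M) (hPH : P ≤ H)
    (hPS : P ≤ Subgroup.normalizer (S : Set G))
    (hfix : S ⊓ Subgroup.centralizer (P : Set G) = ⊥)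
    (hX : piCoreOf (beta M) M ⊓ Subgroup.centralizer (P : Set G) ≤ H) : False := by
  have hq : q.Prime := Fact.out
  have hp : p.Prime := Fact.out
  obtain ⟨hβHall, -, -, -, -⟩ := Cfsg.Agent.S1414.result hG M hM
  have hβn : M ≤ Subgroup.normalizer (piCoreOf (beta M) M : Set G) := by
    unfold piCoreOf
    exact le_normalizer_map_subtype_of_normal (piCore (beta M) ↥M)
  have hqd : ¬ q ∣ Nat.card (piCoreOf (beta M) M) := fun h => hqβ (hβHall.2.1 q hq h)
  have hpd : ¬ p ∣ Nat.card (piCoreOf (beta M) M) := fun h => hpβ (hβHall.2.1 p hp h)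
  have hcop : (Nat.card S * Nat.card P).Coprime (Nat.card (piCoreOf (beta M) M)) := by
    apply Nat.Coprime.mul_left
    · obtain ⟨k, hk⟩ := hSq.exists_card_eq
      rw [hk]
      exact Nat.Coprime.pow_left k ((Nat.Prime.coprime_iff_not_dvd hq).mpr hqd)
    · rw [hP]
      exact (Nat.Prime.coprime_iff_not_dvd hp).mpr hpd
  have hSPM : S ⊔ P ≤ M := sup_le hSM hPM
  have hact : Cfsg.Agent.Lib.Helper1.CoprimeAct (S ⊔ P) (piCoreOf (beta M) M) :=
    ⟨hSPM.trans hβn,
      Nat.Coprime.coprime_dvd_left (Cfsg.Agent.Lib.Helper9.card_sup_dvd_of_le_normalizer hPS)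
        hcop,
      Or.inl (isSolvable_of_ne_top hG (ne_top_of_le_isCoatom hM hSPM))⟩
  have hfpf : ∀ r ∈ P, r ≠ 1 → ∀ k ∈ S, r * k = k * r → k = 1 := by
    intro r hr hr1 k hk hrk
    have h1 : k ∈ S ⊓ Subgroup.centralizer (P : Set G) := by
      refine Subgroup.mem_inf.mpr ⟨hk, ?_⟩
      rw [Subgroup.mem_centralizer_iff]
      intro x hx
      -- `P` is generated by `r`
      have h2 : Subgroup.zpowers (⟨r, hr⟩ : P) = ⊤ := by
        apply zpowers_eq_top_of_prime_card (p := p) hP
        intro h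
        exact hr1 (congrArg Subtype.val h)
      have h3 : (⟨x, hx⟩ : P) ∈ Subgroup.zpowers (⟨r, hr⟩ : P) := h2 ▸ Subgroup.mem_top _
      obtain ⟨n, hn⟩ := Subgroup.mem_zpowers_iff.mp h3
      have h4 : x = r ^ n := by
        have := congrArg Subtype.val hn
        simpa using this.symm
      rw [h4]
      have h5 : Commute r k := hrk
      exact (h5.zpow_left n).eq
    rw [hfix, Subgroup.mem_bot] at h1
    exact h1
  have hβH : piCoreOf (beta M) M ≤ H := by
    apply le_of_forall_sylow_le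
    intro s hs
    haveI : Fact s.Prime := ⟨hs⟩
    obtain ⟨Q, hQ, hQn⟩ := coprime_exists_isSylowIn hact s
    refine ⟨Q, hQ, ?_⟩
    have hSQ : S ≤ Subgroup.normalizer (Q : Set G) := le_sup_left.trans hQn
    have hPQ : P ≤ Subgroup.normalizer (Q : Set G) := le_sup_right.trans hQn
    apply le_of_centralizers_le hPS (by haveI := hSq.isNilpotent; infer_instance) hSQ hPQ
      hQ.isPGroup.isNilpotent
      (Nat.Coprime.coprime_dvd_right (Subgroup.card_dvd_of_le hQ.le) hcop) hfpf
      (hSH.trans Subgroup.le_normalizer) (hPH.trans Subgroup.le_normalizer)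
    · exact (inf_le_right.trans (Subgroup.centralizer_le_normalizer _)).trans hNS
    · exact (inf_le_inf_right _ hQ.le).trans hX
  have hMH : M ≤ H := hMβD.trans (sup_le hβH inf_le_right)
  exact hne (eq_of_isCoatom_of_le hM hH hMH).symm

end Cfsg.Agent.Lib.Helper2.BG13
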