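import Mathlib
import Cfsg.Agent.Lib.Helper7.BG13B
import Cfsg.Agent.Lib.Helper10.BGTwelveF
import Cfsg.Agent.Lib.Helper29.BGExcCfg

/-!
# Helper2 library: B & G Section 13, normalizers of `β(M)`-subgroups

* `normalizer_le_of_mem_beta` : for `s ∈ β(M)` and a nontrivial `s`-subgroup `T ≤ M`,
  `N_G(T) ≤ M`.
* `isSylowIn_of_centralizer_beta` : for `p ∈ τ₁(M)`, `P ≤ M` of order `p`, `L ∈ ℳ(N_G(P))`,
  the Sylow subgroups of `C_{M_β}(P)` are cyclic Sylow subgroups of `L`.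
-/

set_option autoImplicit false
set_option linter.style.haveILetI false
set_option linter.unusedSectionVars false
set_option linter.unusedVariables false

open Cfsg
open Cfsg.Agent.Lib.Helper10.BG
open Cfsg.Agent.Lib.Helper9.BGExc

namespace Cfsg.Agent.Lib.Helper2.BG13

variable {G : Type*} [Group G] [Finite G]

/-- for `s ∈ β(M)` and a nontrivial `s`-subgroup `T` of `M`, `N_G(T) ≤ M`. -/
theorem normalizer_le_of_mem_beta (hG : IsMinSimpleOddOrder G) {M T : Subgroup G}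
    (hM : IsCoatom M) {s : ℕ} [Fact s.Prime] (hs : s ∈ beta M) (hTs : IsPGroup s T)
    (hT1 : T ≠ ⊥) (hTM : T ≤ M) : Subgroup.normalizer (T : Set G) ≤ M := by
  by_contra hcon
  have hsp : s.Prime := Fact.out
  have hsσ : s ∈ sigma M := alpha_subset_sigma hG hM hs.1
  have hNtop : Subgroup.normalizer (T : Set G) ≠ ⊤ :=
    Cfsg.Agent.Lib.Lead.BGTrans.normalizer_ne_top hG.2 hT1 (ne_top_of_le_isCoatom hM hTM)
  obtain ⟨L, hL, hNL⟩ := exists_isCoatom_ge hNtop
  have hLM : L ≠ M := fun h => hcon (h ▸ hNL)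
  have hTL : T ≤ L := Subgroup.le_normalizer.trans hNL
  obtain ⟨S₂, hS₂, hTS₂⟩ := exists_isSylowIn_ge (le_inf hTM hTL) hTs
  obtain ⟨hNS₂, hS₂L⟩ := lemma_12_15 hG hM hsσ hTs hT1 hNL hS₂ hTS₂
  have hnc := ne_conj_of_normalizer_le hG hM hL hsσ hTs hT1 hTM hNL hLM
  have hsL : s ∉ sigma L := by
    intro h
    obtain ⟨g, hg⟩ := exists_conj_of_mem_alpha_of_mem_sigma hG hM hL hs.1 h
    exact hnc g hg
  have hsdL : s ∣ Nat.card L :=
    (dvd_card_of_pgroup_ne_bot hTs hT1).trans (Subgroup.card_dvd_of_le hTL)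
  have hr2 : PRankLE s 2 ↥L := by
    by_contra h
    exact hsL (alpha_subset_sigma hG hL ⟨hsp, h⟩)
  have hr1 : PRankLE s 1 ↥L := by
    by_contra h
    exact (Cfsg.Agent.S1408.result hG L hL s hsL hr2 h).1 hs.2
  have hs2 : s ≠ 2 := prime_ne_two hG (hsdL.trans (Subgroup.card_subgroup_dvd_card L))
  have hS₂c : IsCyclic S₂ := isCyclic_of_pRankLE_one hs2 hr1 hS₂L.le hS₂L.isPGroup
  have h1 : Subgroup.normalizer (S₂ : Set G) ≤ Subgroup.normalizer (T : Set G) := by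
    intro n hn
    apply mem_normalizer_of_map_conj_eq
    have h2 : T.map (MulAut.conj n).toMonoidHom ≤ S₂ := by
      rintro _ ⟨x, hx, rfl⟩
      exact conj_mem_of_mem_normalizer hn (hTS₂ hx)
    haveI := hS₂c
    exact Cfsg.Agent.Lib.Helper10.eq_of_card_eq_of_le_isCyclic S₂ _ _ h2 hTS₂
      (Subgroup.card_map_of_injective (MulAut.conj n).injective)
  exact hsL (Cfsg.Agent.Lib.Helper29.BGExcCfg.mem_sigma_of_sylow hS₂L (h1.trans hNL) hsdL)

/-- `M_β ≤ M_σ`. -/
theorem betaCore_le_sigmaCore (hG : IsMinSimpleOddOrder G) {M : Subgroup G} (hM : IsCoatom M) :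
    piCoreOf (beta M) M ≤ sigmaCore M :=
  Subgroup.map_mono (piCore_mono_set (fun p hp => alpha_subset_sigma hG hM hp.1))

/-- `M` normalizes `M_β`. -/
theorem le_normalizer_betaCore (M : Subgroup G) :
    M ≤ Subgroup.normalizer (piCoreOf (beta M) M : Set G) := by
  unfold piCoreOf
  exact le_normalizer_map_subtype_of_normal (piCore (beta M) ↥M)

/-- an `s`-subgroup of `M`, `s ∈ β(M)`, lies in `M_β`. -/
theorem pgroup_le_betaCore (hG : IsMinSimpleOddOrder G) {M Q : Subgroup G} (hM : IsCoatom M)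
    {s : ℕ} [Fact s.Prime] (hs : s ∈ beta M) (hQ : IsPGroup s Q) (hQM : Q ≤ M) :
    Q ≤ piCoreOf (beta M) M := by
  obtain ⟨hβHall, -, -, -, -⟩ := Cfsg.Agent.S1414.result hG M hM
  exact pgroup_le_of_not_dvd_relIndex (le_normalizer_betaCore M)
    (hβHall.2.2 s Fact.out hs) hQ hQM

/-- step (2): the Sylow subgroups of `C_{M_β}(P)` are cyclic Sylow subgroups of `L`. -/
theorem isSylowIn_of_centralizer_beta (hG : IsMinSimpleOddOrder G) {M L P T : Subgroup G}
    (hM : IsCoatom M) (hL : IsCoatom L) {p s : ℕ} [Fact p.Prime] [Fact s.Prime]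
    (hp : p ∈ tau1 M) (hPM : P ≤ M) (hP : Nat.card P = p)
    (hNP : Subgroup.normalizer (P : Set G) ≤ L)
    (hT : IsSylowIn s T (piCoreOf (beta M) M ⊓ Subgroup.centralizer (P : Set G)))
    (hT1 : T ≠ ⊥) :
    s ∈ beta M ∧ IsSylowIn s T L ∧ IsCyclic T ∧
      ∀ g : G, L ≠ M.map (MulAut.conj g).toMonoidHom := by
  have hsp : s.Prime := Fact.out
  have hpp : p.Prime := Fact.out
  have hPp : IsPGroup p P := IsPGroup.of_card (n := 1) (by rw [hP, pow_one])
  have hP1 : P ≠ ⊥ := by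
    intro h
    rw [h, Subgroup.card_bot] at hP
    exact hpp.one_lt.ne hP
  obtain ⟨hnc, ha, -, -⟩ := Cfsg.Agent.Lib.Helper7.BG13.cor_13_2 hG hM hL (Or.inl hp) hPp hP1 hNP
  obtain ⟨hβHall, -, -, -, -⟩ := Cfsg.Agent.S1414.result hG M hM
  have hTβ : T ≤ piCoreOf (beta M) M := hT.le.trans inf_le_left
  have hTM : T ≤ M := hTβ.trans hβHall.1
  have hsβ : s ∈ beta M :=
    hβHall.2.1 s hsp ((dvd_card_of_pgroup_ne_bot hT.isPGroup hT1).trans
      (Subgroup.card_dvd_of_le hTβ))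
  have hPL : P ≤ L := Subgroup.le_normalizer.trans hNP
  have hTL : T ≤ L :=
    (hT.le.trans inf_le_right).trans ((Subgroup.centralizer_le_normalizer _).trans hNP)
  -- `M_β ∩ L ≤ C_G(P)`
  have hβL : piCoreOf (beta M) M ⊓ L ≤
      piCoreOf (beta M) M ⊓ Subgroup.centralizer (P : Set G) := by
    refine le_inf inf_le_left ?_
    have h1 := ha P (le_inf hPM hPL) hPp
    rw [Subgroup.commutator_eq_bot_iff_le_centralizer] at h1
    exact (inf_le_inf_right L (betaCore_le_sigmaCore hG hM)).trans h1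
  have hTsyl : IsSylowIn s T L := by
    apply IsSylowIn.of_normalizer_le hTL hT.isPGroup
    intro x hxL hxN hxp
    have hQN : T ⊔ Subgroup.zpowers x ≤ Subgroup.normalizer (T : Set G) :=
      sup_le Subgroup.le_normalizer (Subgroup.zpowers_le.mpr hxN)
    have hQM : T ⊔ Subgroup.zpowers x ≤ M :=
      hQN.trans (normalizer_le_of_mem_beta hG hM hsβ hT.isPGroup hT1 hTM)
    have hQL : T ⊔ Subgroup.zpowers x ≤ L := sup_le hTL (Subgroup.zpowers_le.mpr hxL)
    have hQβ : T ⊔ Subgroup.zpowers x ≤ piCoreOf (beta M) M :=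
      pgroup_le_betaCore hG hM hsβ hxp hQM
    have h2 := hT.eq_of_le ((le_inf hQβ hQL).trans hβL) hxp le_sup_left
    rw [← h2]
    exact Subgroup.mem_sup_right (Subgroup.mem_zpowers x)
  have hsL : s ∉ sigma L := by
    intro h
    obtain ⟨g, hg⟩ := exists_conj_of_mem_alpha_of_mem_sigma hG hM hL hsβ.1 h
    exact hnc g hg
  have hsdL : s ∣ Nat.card L :=
    (dvd_card_of_pgroup_ne_bot hT.isPGroup hT1).trans (Subgroup.card_dvd_of_le hTL)
  have hr2 : PRankLE s 2 ↥L := by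
    by_contra h
    exact hsL (alpha_subset_sigma hG hL ⟨hsp, h⟩)
  have hr1 : PRankLE s 1 ↥L := by
    by_contra h
    exact (Cfsg.Agent.S1408.result hG L hL s hsL hr2 h).1 hsβ.2
  have hs2 : s ≠ 2 := prime_ne_two hG (hsdL.trans (Subgroup.card_subgroup_dvd_card L))
  exact ⟨hsβ, hTsyl, isCyclic_of_pRankLE_one hs2 hr1 hTL hT.isPGroup, hnc⟩

end Cfsg.Agent.Lib.Helper2.BG13
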