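import Mathlib
import Cfsg.Agent.Lib.Helper2.BG13N
import Cfsg.Agent.Lib.Helper9.BGExc7
import Cfsg.Agent.S1428

/-!
# Helper2 library: B & G Section 13, steps (4) and (5) of the asymmetry argument

`sigma_centralizer_le`: if `M = M_β (M ∩ H)`, `p ∈ τ₁(M)`, `P ≤ M ∩ H` has order `p` and `C_M(P)`
contains a nontrivial `s'`-subgroup with `s' ∈ β(H)`, then `C_{M_σ}(P) ≤ H`.
-/

set_option autoImplicit false
set_option linter.style.haveILetI false
set_option linter.unusedSectionVars false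
set_option linter.unusedVariables false

open Cfsg
open Cfsg.Agent.Lib.Helper10.BG
open Cfsg.Agent.Lib.Helper9.BGExc

namespace Cfsg.Agent.Lib.Helper2.BG13

variable {G : Type*} [Group G] [Finite G]

theorem sigma_centralizer_le (hG : IsMinSimpleOddOrder G) {M H P R₁ : Subgroup G}
    (hM : IsCoatom M) (hH : IsCoatom H) (hnc : ∀ g : G, M ≠ cj g H)
    {p s' : ℕ} [Fact p.Prime] [Fact s'.Prime] (hp : p ∈ tau1 M) (hP : Nat.card P = p)
    (hPM : P ≤ M) (hPH : P ≤ H)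
    (hMβD : M ≤ piCoreOf (beta M) M ⊔ (M ⊓ H))
    (hs' : s' ∈ beta H) (hR₁s : IsPGroup s' R₁) (hR₁1 : R₁ ≠ ⊥) (hR₁M : R₁ ≤ M)
    (hR₁P : R₁ ≤ Subgroup.centralizer (P : Set G)) :
    sigmaCore M ⊓ Subgroup.centralizer (P : Set G) ≤ H := by
  have hpp : p.Prime := Fact.out
  have hs'p : s'.Prime := Fact.out
  have hpσ : p ∉ sigma M := hp.2.1
  have hs'σ : s' ∉ sigma M := by
    intro h
    obtain ⟨g, hg⟩ := exists_conj_of_mem_alpha_of_mem_sigma hG hH hM hs'.1 h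
    exact hnc g hg
  have hs'βM : s' ∉ beta M := fun h => hs'σ (alpha_subset_sigma hG hM h.1)
  have hpβM : p ∉ beta M := fun h => hpσ (alpha_subset_sigma hG hM h.1)
  have hPp : IsPGroup p P := IsPGroup.of_card (n := 1) (by rw [hP, pow_one])
  obtain ⟨hβHall, -, -, -, -⟩ := Cfsg.Agent.S1414.result hG M hM
  have hs'd : ¬ s' ∣ Nat.card (piCoreOf (beta M) M) := fun h => hs'βM (hβHall.2.1 s' hs'p h)
  have hpd : ¬ p ∣ Nat.card (piCoreOf (beta M) M) := fun h => hpβM (hβHall.2.1 p hpp h)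
  -- step (4)
  have hPR : P ≤ Subgroup.normalizer (R₁ : Set G) :=
    (Subgroup.le_centralizer_iff.mp hR₁P).trans (Subgroup.centralizer_le_normalizer _)
  have hKcard : Nat.card ↥(R₁ ⊔ P) ∣ Nat.card R₁ * Nat.card P :=
    Cfsg.Agent.Lib.Helper9.card_sup_dvd_of_le_normalizer hPR
  have hKcop : (Nat.card ↥(R₁ ⊔ P)).Coprime (Nat.card (piCoreOf (beta M) M)) := by
    apply Nat.Coprime.coprime_dvd_left hKcard
    apply Nat.Coprime.mul_left
    · obtain ⟨k, hk⟩ := hR₁s.exists_card_eq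
      rw [hk]
      exact Nat.Coprime.pow_left k ((Nat.Prime.coprime_iff_not_dvd hs'p).mpr hs'd)
    · rw [hP]
      exact (Nat.Prime.coprime_iff_not_dvd hpp).mpr hpd
  have hcopβ : (Nat.card (piCoreOf (beta M) M)).Coprime ((piCoreOf (beta M) M).relIndex M) :=
    Nat.coprime_of_dvd (fun k hk h1 h2 => hβHall.2.2 k hk (hβHall.2.1 k hk h1) h2)
  obtain ⟨g, hgM, hg⟩ := Cfsg.Agent.Lib.Helper7.BG13.exists_conj_le_of_factor
    (isSolvable_of_ne_top hG hM.1) hβHall.1 (le_normalizer_betaCore M) inf_le_left hMβD hcopβ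
    (sup_le hR₁M hPM) hKcop
  have hg' : cj g (R₁ ⊔ P) ≤ M ⊓ H := hg
  have hPD : P ≤ M ⊓ H := le_inf hPM hPH
  have hP'D : cj g P ≤ M ⊓ H := (cj_mono g le_sup_right).trans hg'
  have hR'D : cj g R₁ ≤ M ⊓ H := (cj_mono g le_sup_left).trans hg'
  have hr1 : PRankLE p 1 ↥M := hp.2.2.2.2
  have hp2 : p ≠ 2 := prime_ne_two hG (hp.2.2.1.trans (Subgroup.card_subgroup_dvd_card M))
  obtain ⟨P₀, hP₀, hPP₀⟩ := exists_isSylowIn_ge hPD hPp
  obtain ⟨P₀', hP₀', hP'P₀'⟩ := exists_isSylowIn_ge hP'D (hPp.map (MulAut.conj g).toMonoidHom)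
  obtain ⟨d, hdD, hd⟩ := hP₀.exists_conj hP₀'
  have hd' : P₀' = cj d P₀ := hd
  have hcyc : IsCyclic P₀' :=
    isCyclic_of_pRankLE_one hp2 hr1 (hP₀'.le.trans inf_le_left) hP₀'.isPGroup
  have h1 : cj d P ≤ P₀' := by
    rw [hd']
    exact cj_mono d hPP₀
  have heq : cj d P = cj g P := by
    haveI := hcyc
    exact Cfsg.Agent.Lib.Helper10.eq_of_card_eq_of_le_isCyclic P₀' _ _ h1 hP'P₀'
      (by rw [card_cj, card_cj])
  have hxP : cj (d⁻¹ * g) P = P := by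
    rw [← cj_cj, ← heq, cj_inv_cj]
  obtain ⟨R, hRdef⟩ : ∃ R : Subgroup G, R = cj (d⁻¹ * g) R₁ := ⟨_, rfl⟩
  have hRD : R ≤ M ⊓ H := by
    rw [hRdef, ← cj_cj]
    exact cj_le_of_mem ((M ⊓ H).inv_mem hdD) hR'D
  have hRC : R ≤ Subgroup.centralizer (P : Set G) := by
    have h2 : cj (d⁻¹ * g) R₁ ≤
        Subgroup.centralizer ((cj (d⁻¹ * g) P : Subgroup G) : Set G) := le_centralizer_cj hR₁P
    rw [hxP] at h2
    rw [hRdef]
    exact h2
  have hR1 : R ≠ ⊥ := by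
    rw [hRdef]
    exact fun h => hR₁1 (cj_eq_bot_iff.mp h)
  have hRs : IsPGroup s' R := by
    rw [hRdef]
    exact hR₁s.map _
  -- step (5)
  have hs'R : s' ∣ Nat.card R := dvd_card_of_pgroup_ne_bot hRs hR1
  obtain ⟨y, hy⟩ := exists_prime_orderOf_dvd_card' (G := R) s' hs'R
  obtain ⟨R₀, hR₀def⟩ : ∃ R₀ : Subgroup G, R₀ = Subgroup.zpowers (y : G) := ⟨_, rfl⟩
  have hR₀card : Nat.card R₀ = s' := by
    rw [hR₀def, Nat.card_zpowers, Subgroup.orderOf_coe, hy]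
  have hR₀R : R₀ ≤ R := by
    rw [hR₀def]
    exact Subgroup.zpowers_le.mpr y.2
  have hR₀s : IsPGroup s' R₀ := IsPGroup.of_card (n := 1) (by rw [hR₀card, pow_one])
  have hR₀1 : R₀ ≠ ⊥ := by
    intro h
    rw [h, Subgroup.card_bot] at hR₀card
    exact hs'p.one_lt.ne hR₀card
  have hR₀H : R₀ ≤ H := (hR₀R.trans hRD).trans inf_le_right
  have hR₀M : R₀ ≤ M := (hR₀R.trans hRD).trans inf_le_left
  have hN : Subgroup.normalizer (R₀ : Set G) ≤ H :=
    normalizer_le_of_mem_beta hG hH hs' hR₀s hR₀1 hR₀H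
  have hR₀C : R₀ ≤ Subgroup.centralizer (P : Set G) := hR₀R.trans hRC
  have hPR₀ : P ≤ Subgroup.normalizer (R₀ : Set G) :=
    (Subgroup.le_centralizer_iff.mp hR₀C).trans (Subgroup.centralizer_le_normalizer _)
  have hYcop : (Nat.card ↥(R₀ ⊔ P)).Coprime (Nat.card (sigmaCore M)) := by
    apply Nat.Coprime.coprime_dvd_left
      (Cfsg.Agent.Lib.Helper9.card_sup_dvd_of_le_normalizer hPR₀)
    rw [hR₀card, hP]
    exact Nat.Coprime.mul_left (coprime_card_sigmaCore hG hM hs'p hs'σ).symm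
      (coprime_card_sigmaCore hG hM hpp hpσ).symm
  obtain ⟨E, hE, hYE⟩ := exists_isComplIn_sigmaCore_ge hG hM (sup_le hR₀M hPM) hYcop
  have h28 := Cfsg.Agent.S1428.result hG M hM E hE p hp P (le_sup_right.trans hYE) hP R₀
    (le_inf (le_sup_left.trans hYE) hR₀C) (by rw [hR₀card]; exact hs'p)
  exact (h28.trans inf_le_right).trans ((Subgroup.centralizer_le_normalizer _).trans hN)

end Cfsg.Agent.Lib.Helper2.BG13
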