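import Mathlib
import Cfsg.Agent.Lib.Helper2.BG13FS
import Cfsg.Agent.Lib.Helper2.BG13K

/-!
# Helper2 library: B & G Lemma 13.8 (asymmetry), in the form needed for Theorem 13.9

`config_false`: `M`, `H` non-conjugate maximal subgroups, `q ∈ σ(M) ∩ σ(H)`, `S ≤ M ∩ H` a Sylow
`q`-subgroup of `G`, `p ∈ τ₁(M) ∩ τ₁(H)`, `P ≤ M ∩ H` of order `p` acting on `S` without fixed
points: impossible.
-/

set_option autoImplicit false
set_option linter.style.haveILetI false
set_option linter.unusedSectionVars false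
set_option linter.unusedVariables false

open Cfsg
open Cfsg.Agent.Lib.Helper10.BG
open Cfsg.Agent.Lib.Helper9.BGExc

namespace Cfsg.Agent.Lib.Helper2.BG13

variable {G : Type*} [Group G] [Finite G]

/-- the statement of the lemma on two cyclic Sylow subgroups of a solvable group. -/
def HZ (G : Type*) [Group G] : Prop :=
  ∀ (C T T' : Subgroup G) (s s' : ℕ), s.Prime → s'.Prime → Group.IsSolvable C → s ≠ s' →
    IsSylowIn s T C → IsSylowIn s' T' C → IsCyclic T → IsCyclic T' →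
    ∃ c ∈ C, cj c T' ≤ Subgroup.normalizer (T : Set G) ∨
      T ≤ Subgroup.normalizer ((cj c T' : Subgroup G) : Set G)

theorem config_false (hG : IsMinSimpleOddOrder G) (hHZ : HZ G) {M H S P : Subgroup G}
    (hM : IsCoatom M) (hH : IsCoatom H) (hnc : ∀ g : G, H ≠ cj g M)
    {q p : ℕ} [Fact q.Prime] [Fact p.Prime] (hqM : q ∈ sigma M) (hqH : q ∈ sigma H)
    (hS : IsSylowIn q S ⊤) (hSM : S ≤ M) (hSH : S ≤ H)
    (hpM : p ∈ tau1 M) (hpH : p ∈ tau1 H) (hP : Nat.card P = p) (hPM : P ≤ M) (hPH : P ≤ H)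
    (hPS : P ≤ Subgroup.normalizer (S : Set G))
    (hfix : S ⊓ Subgroup.centralizer (P : Set G) = ⊥) : False := by
  have hq : q.Prime := Fact.out
  have hpp : p.Prime := Fact.out
  have hnc' : ∀ g : G, M ≠ cj g H := by
    intro g hg
    apply hnc g⁻¹
    rw [hg, cj_inv_cj]
  have hne : M ≠ H := by
    intro h
    apply hnc 1
    rw [cj_one, h]
  have hSsM : IsSylowIn q S M := hS.of_le hSM le_top
  have hSsH : IsSylowIn q S H := hS.of_le hSH le_top
  have hNSM : Subgroup.normalizer (S : Set G) ≤ M := (sigmaProp_of_mem_sigma hM hqM).2 S hSsM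
  have hNSH : Subgroup.normalizer (S : Set G) ≤ H := (sigmaProp_of_mem_sigma hH hqH).2 S hSsH
  have hqβM : q ∉ beta M := not_mem_beta_of_not_conj hG hH hM hnc' hq hqH
  have hqβH : q ∉ beta H := not_mem_beta_of_not_conj hG hM hH hnc hq hqM
  have hpβM : p ∉ beta M := fun h => hpM.2.1 (alpha_subset_sigma hG hM h.1)
  have hpβH : p ∉ beta H := fun h => hpH.2.1 (alpha_subset_sigma hG hH h.1)
  have hMβD : M ≤ piCoreOf (beta M) M ⊔ (M ⊓ H) :=
    (le_beta_sup_normalizer hG hM hqM hqβM hSsM).trans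
      (sup_le_sup_left (inf_le_inf_left M hNSH) _)
  have hHβD : H ≤ piCoreOf (beta H) H ⊔ (H ⊓ M) :=
    (le_beta_sup_normalizer hG hH hqH hqβH hSsH).trans
      (sup_le_sup_left (inf_le_inf_left H hNSM) _)
  by_cases hX : piCoreOf (beta M) M ⊓ Subgroup.centralizer (P : Set G) ≤ H
  · exact final_step hG hM hH hne hqβM hpβM hS.isPGroup hSM hSH hNSH hMβD hP hPM hPH hPS hfix hX
  by_cases hX' : piCoreOf (beta H) H ⊓ Subgroup.centralizer (P : Set G) ≤ M
  · exact final_step hG hH hM hne.symm hqβH hpβH hS.isPGroup hSH hSM hNSM hHβD hP hPH hPM hPS hfix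
      hX'
  -- a maximal subgroup containing `N_G(P)`
  have hP1 : P ≠ ⊥ := by
    intro h
    rw [h, Subgroup.card_bot] at hP
    exact hpp.one_lt.ne hP
  have hNtop : Subgroup.normalizer (P : Set G) ≠ ⊤ :=
    Cfsg.Agent.Lib.Lead.BGTrans.normalizer_ne_top hG.2 hP1 (ne_top_of_le_isCoatom hM hPM)
  obtain ⟨L, hL, hNL⟩ := exists_isCoatom_ge hNtop
  have hCL : Subgroup.centralizer (P : Set G) ≤ L :=
    (Subgroup.centralizer_le_normalizer _).trans hNL
  -- the Sylow subgroups `T`, `T'`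
  have hXcard : Nat.card ↥(piCoreOf (beta M) M ⊓ Subgroup.centralizer (P : Set G)) ≠ 1 := by
    intro h
    apply hX
    rw [Subgroup.card_eq_one.mp h]
    exact bot_le
  have hX'card : Nat.card ↥(piCoreOf (beta H) H ⊓ Subgroup.centralizer (P : Set G)) ≠ 1 := by
    intro h
    apply hX'
    rw [Subgroup.card_eq_one.mp h]
    exact bot_le
  obtain ⟨s, hs, hsd⟩ := Nat.exists_prime_and_dvd hXcard
  obtain ⟨s', hs', hs'd⟩ := Nat.exists_prime_and_dvd hX'card
  haveI : Fact s.Prime := ⟨hs⟩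
  haveI : Fact s'.Prime := ⟨hs'⟩
  obtain ⟨T, hT⟩ := exists_isSylowIn s (piCoreOf (beta M) M ⊓ Subgroup.centralizer (P : Set G))
  obtain ⟨T', hT'⟩ :=
    exists_isSylowIn s' (piCoreOf (beta H) H ⊓ Subgroup.centralizer (P : Set G))
  have hT1 : T ≠ ⊥ := hT.ne_bot_of_dvd hsd
  have hT'1 : T' ≠ ⊥ := hT'.ne_bot_of_dvd hs'd
  obtain ⟨hsβ, hTL, hTc, -⟩ := isSylowIn_of_centralizer_beta hG hM hL hpM hPM hP hNL hT hT1
  obtain ⟨hs'β, hT'L, hT'c, -⟩ := isSylowIn_of_centralizer_beta hG hH hL hpH hPH hP hNL hT' hT'1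
  have hss' : s ≠ s' := by
    intro h
    rw [← h] at hs'β
    exact not_mem_beta_of_not_conj hG hH hM hnc' hs (alpha_subset_sigma hG hH hs'β.1) hsβ
  have hTC : T ≤ Subgroup.centralizer (P : Set G) := hT.le.trans inf_le_right
  have hT'C : T' ≤ Subgroup.centralizer (P : Set G) := hT'.le.trans inf_le_right
  have hTM : T ≤ M := (hT.le.trans inf_le_left).trans (Cfsg.Agent.S1414.result hG M hM).1.1
  have hT'H : T' ≤ H := (hT'.le.trans inf_le_left).trans (Cfsg.Agent.S1414.result hG H hH).1.1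
  obtain ⟨c, hc, hcase⟩ := hHZ (Subgroup.centralizer (P : Set G)) T T' s s' hs hs'
    (isSolvable_of_ne_top hG (ne_top_of_le_isCoatom hL hCL)) hss' (hTL.of_le hTC hCL)
    (hT'L.of_le hT'C hCL) hTc hT'c
  have hβσM : piCoreOf (beta M) M ⊓ Subgroup.centralizer (P : Set G) ≤
      sigmaCore M ⊓ Subgroup.centralizer (P : Set G) :=
    inf_le_inf_right _ (betaCore_le_sigmaCore hG hM)
  have hβσH : piCoreOf (beta H) H ⊓ Subgroup.centralizer (P : Set G) ≤
      sigmaCore H ⊓ Subgroup.centralizer (P : Set G) :=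
    inf_le_inf_right _ (betaCore_le_sigmaCore hG hH)
  rcases hcase with h | h
  · -- `cj c T'` normalizes `T`
    have hR₁M : cj c T' ≤ M :=
      h.trans (normalizer_le_of_mem_beta hG hM hsβ hT.isPGroup hT1 hTM)
    have hR₁C : cj c T' ≤ Subgroup.centralizer (P : Set G) := cj_le_of_mem hc hT'C
    have hR₁1 : cj c T' ≠ ⊥ := fun h0 => hT'1 (cj_eq_bot_iff.mp h0)
    have hR₁s : IsPGroup s' (cj c T') := hT'.isPGroup.map _
    exact hX (hβσM.trans
      (sigma_centralizer_le hG hM hH hnc' hpM hP hPM hPH hMβD hs'β hR₁s hR₁1 hR₁M hR₁C))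
  · -- `T` normalizes `cj c T'`
    have h1 : cj c⁻¹ T ≤ Subgroup.normalizer ((cj c⁻¹ (cj c T') : Subgroup G) : Set G) :=
      le_normalizer_cj h
    rw [cj_inv_cj] at h1
    have hR₁H : cj c⁻¹ T ≤ H :=
      h1.trans (normalizer_le_of_mem_beta hG hH hs'β hT'.isPGroup hT'1 hT'H)
    have hR₁C : cj c⁻¹ T ≤ Subgroup.centralizer (P : Set G) :=
      cj_le_of_mem ((Subgroup.centralizer (P : Set G)).inv_mem hc) hTC
    have hR₁1 : cj c⁻¹ T ≠ ⊥ := fun h0 => hT1 (cj_eq_bot_iff.mp h0)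
    have hR₁s : IsPGroup s (cj c⁻¹ T) := hT.isPGroup.map _
    have hHβD' : H ≤ piCoreOf (beta H) H ⊔ (H ⊓ M) := hHβD
    exact hX' (hβσH.trans
      (sigma_centralizer_le hG hH hM hnc hpH hP hPH hPM hHβD' hsβ hR₁s hR₁1 hR₁H hR₁C))

end Cfsg.Agent.Lib.Helper2.BG13
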