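import Mathlib
import Cfsg.Agent.Lib.Helper2.BG13Cfg
import Cfsg.Agent.Lib.Helper2.BG13Aux
import Cfsg.Agent.Lib.Helper19.BGCompl
import Cfsg.Agent.Lib.Helper9.BGExc15
import Cfsg.Agent.Lib.Helper11.BGFourteenA
import Cfsg.Agent.S1426
import Cfsg.Agent.S1427
import Cfsg.Agent.S1415

/-!
# Helper2 library: B & G Theorem 13.9 (the sets `σ(M)` partition the primes)

Reduction of Theorem 13.9 to the configuration of `config_false`.
-/

set_option autoImplicit false
set_option linter.style.haveILetI false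
set_option linter.unusedSectionVars false
set_option linter.unusedVariables false

open Cfsg
open scoped commutatorElement
open Cfsg.Agent.Lib.Helper10.BG
open Cfsg.Agent.Lib.Helper9.BGExc
open Cfsg.Agent.Lib.Helper19.BGCompl
open Cfsg.Agent.Lib.Helper1 (CoprimeAct)

namespace Cfsg.Agent.Lib.Helper2.BG13

variable {G : Type*} [Group G] [Finite G]

/-- the statement "coprime `β(M)'`-subgroups of `M'` normalizing each other commute". -/
def NH (G : Type*) [Group G] : Prop :=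
  ∀ (M A B : Subgroup G), IsCoatom M → A ≤ ⁅M, M⁆ → B ≤ ⁅M, M⁆ →
    A ≤ Subgroup.normalizer (B : Set G) → (Nat.card A).Coprime (Nat.card B) →
    (∀ r : ℕ, r.Prime → r ∣ Nat.card A → r ∉ beta M) →
    (∀ r : ℕ, r.Prime → r ∣ Nat.card B → r ∉ beta M) → ⁅B, A⁆ = ⊥

/-- a Sylow `q`-subgroup of `M_σ` not lying in a unique maximal subgroup meets `(M_σ)'`
trivially. -/
theorem inf_commutator_sigmaCore_eq_bot (hG : IsMinSimpleOddOrder G) {M S : Subgroup G}
    (hM : IsCoatom M) {q : ℕ} [Fact q.Prime] (hqM : q ∈ sigma M)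
    (hS : IsSylowIn q S (sigmaCore M)) (hnu : ¬ InUniqueMaximal S) :
    S ⊓ ⁅sigmaCore M, sigmaCore M⁆ = ⊥ := by
  by_contra hne
  obtain ⟨X, hXle, hXcard⟩ :=
    exists_card_prime_le (hS.isPGroup.to_le inf_le_left) hne
  have hSM : S ≤ M := hS.le.trans (sigmaCore_le M)
  have h1 := (Cfsg.Agent.S1423.result hG M hM q hqM X ((hXle.trans inf_le_left).trans hSM)
    hXcard hS.toSylow (Or.inr (hXle.trans inf_le_right))).2.1
  have h2 : ((hS.toSylow : Sylow q ↥(sigmaCore M)) : Subgroup ↥(sigmaCore M)).map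
      (sigmaCore M).subtype = S := by
    rw [hS.coe_toSylow, Subgroup.map_subgroupOf_eq_of_le hS.le]
  rw [h2] at h1
  exact hnu h1

/-- elements of a subgroup commute with `x` if the subgroup lies in `C_G(x)`. -/
theorem mem_centralizer_of_le_centralizer_singleton {K : Subgroup G} {x : G}
    (h : K ≤ Subgroup.centralizer ({x} : Set G)) : x ∈ Subgroup.centralizer (K : Set G) := by
  rw [Subgroup.mem_centralizer_iff]
  intro k hk
  have h1 := Subgroup.mem_centralizer_singleton_iff.mp (h hk)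
  exact h1

theorem le_centralizer_singleton_of_mem {K : Subgroup G} {x : G}
    (h : x ∈ Subgroup.centralizer (K : Set G)) : K ≤ Subgroup.centralizer ({x} : Set G) := by
  intro k hk
  rw [Subgroup.mem_centralizer_singleton_iff]
  exact (Subgroup.mem_centralizer_iff.mp h) k hk

/-- the `τ₁`-part of a complement `E` normalizing `S` contains a subgroup of prime order acting
without fixed points on `S`. -/
theorem exists_tau1_fpf (hG : IsMinSimpleOddOrder G) (hNH : NH G) {M S E : Subgroup G}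
    (hM : IsCoatom M) {q : ℕ} [Fact q.Prime] (hqM : q ∈ sigma M) (hqβ : q ∉ beta M)
    (hnn : ¬ Group.IsNilpotent (sigmaCore M)) (hE : IsComplIn E (sigmaCore M) M)
    (hS : IsSylowIn q S (sigmaCore M)) (hS1 : S ≠ ⊥)
    (hES : E ≤ Subgroup.normalizer (S : Set G))
    (hinf : S ⊓ ⁅sigmaCore M, sigmaCore M⁆ = ⊥) :
    ∃ (p : ℕ) (P : Subgroup G), p ∈ tau1 M ∧ P ≤ E ∧ Nat.card P = p ∧
      S ⊓ Subgroup.centralizer (P : Set G) = ⊥ := by
  have hq : q.Prime := Fact.out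
  have hEM : E ≤ M := hE.1
  have hEtop : E ≠ ⊤ := ne_top_of_le_isCoatom hM hEM
  have hEsolv : Group.IsSolvable ↥E := isSolvable_of_ne_top hG hEtop
  have hSσ : S ≤ sigmaCore M := hS.le
  have hSM' : S ≤ ⁅M, M⁆ := hSσ.trans (sigmaCore_le_commutator hG hM)
  have hCE : S ⊓ Subgroup.centralizer (E : Set G) = ⊥ := by
    rw [eq_bot_iff, ← hinf]
    exact le_inf inf_le_left
      ((inf_le_inf_right _ hSσ).trans (Cfsg.Agent.S1426.result hG M hM E hE).1)
  have hSβ : ∀ r : ℕ, r.Prime → r ∣ Nat.card S → r ∉ beta M := by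
    intro r hr hd
    obtain ⟨k, hk⟩ := hS.isPGroup.exists_card_eq
    rw [hk] at hd
    have : r = q := (Nat.prime_dvd_prime_iff_eq hr hq).mp (hr.dvd_of_dvd_pow hd)
    rw [this]
    exact hqβ
  -- a Hall `τ₁(M)`-subgroup of `E`
  have hcop0 : (Nat.card (⊥ : Subgroup G)).Coprime (Nat.card E) := by
    rw [Subgroup.card_bot]; exact Nat.coprime_one_left _
  obtain ⟨E₁, hE₁, -⟩ := (Cfsg.Agent.S3745.result (⊥ : Subgroup G) E bot_le hcop0 hEsolv
    (tau1 M)).1
  have hE₁c : IsCyclic E₁ := (Cfsg.Agent.S1415.result hG M hM E hE).2.1 E₁ hE₁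
  have hE₁E : E₁ ≤ E := hE₁.1
  have hE₁ab : ∀ a ∈ E₁, ∀ b ∈ E₁, a * b = b * a := by
    intro a ha b hb
    haveI := hE₁c
    have h1 : (⟨a, ha⟩ : E₁) * ⟨b, hb⟩ = ⟨b, hb⟩ * ⟨a, ha⟩ := by
      letI : CommGroup E₁ := IsCyclic.commGroup
      exact mul_comm _ _
    exact congrArg Subtype.val h1
  -- primes of `E`
  have hclass : ∀ r : ℕ, r.Prime → r ∣ Nat.card E → r ∈ tau1 M ∨ r ∈ tau3 M := by
    intro r hr hd
    have hrσ : r ∉ sigma M := compl_not_mem_sigma hG hM hE hr hd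
    have hrM : r ∣ Nat.card M := hd.trans (Subgroup.card_dvd_of_le hEM)
    have hr1 := pRankLE_one_of_not_sigma hG hM hnn hr hrσ
    by_cases h' : r ∣ Nat.card ↥⁅M, M⁆
    · exact Or.inr ⟨hr, hrσ, h', hr1⟩
    · exact Or.inl ⟨hr, hrσ, hrM, h', hr1⟩
  -- Step A
  have hA : S ⊓ Subgroup.centralizer (E₁ : Set G) = ⊥ := by
    rw [eq_bot_iff, ← hCE]
    intro x hx
    obtain ⟨hxS, hxE₁⟩ := Subgroup.mem_inf.mp hx
    refine Subgroup.mem_inf.mpr ⟨hxS, ?_⟩
    apply mem_centralizer_of_le_centralizer_singleton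
    apply le_of_forall_sylow_le
    intro r hr
    haveI : Fact r.Prime := ⟨hr⟩
    by_cases hrd : r ∣ Nat.card E
    · rcases hclass r hr hrd with h1 | h3
      · obtain ⟨R, hR⟩ := exists_isSylowIn r E₁
        exact ⟨R, hR.of_not_dvd_relIndex hE₁E (hE₁.2.2 r hr h1),
          hR.le.trans (le_centralizer_singleton_of_mem hxE₁)⟩
      · obtain ⟨R, hR⟩ := exists_isSylowIn r E
        refine ⟨R, hR, ?_⟩
        have hRM : IsSylowIn r R M := compl_isSylowIn hG hM hE h3.2.1 hR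
        have hr2 : r ≠ 2 := prime_ne_two hG ((hrd.trans (Subgroup.card_dvd_of_le hEM)).trans
          (Subgroup.card_subgroup_dvd_card M))
        have hRc : IsCyclic R := isCyclic_of_pRankLE_one hr2 h3.2.2.2 hRM.le hRM.isPGroup
        have hRM' : R ≤ ⁅M, M⁆ :=
          Cfsg.Agent.Lib.Helper9.BGPrime.isSylowIn_le_commutator_of_cyclic hRM hRc h3.2.2.1
        have hrq : r ≠ q := fun h => h3.2.1 (h ▸ hqM)
        have hcop : (Nat.card R).Coprime (Nat.card S) := by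
          obtain ⟨k, hk⟩ := hR.isPGroup.exists_card_eq
          obtain ⟨j, hj⟩ := hS.isPGroup.exists_card_eq
          rw [hk, hj]
          exact Nat.Coprime.pow k j ((Nat.coprime_primes hr hq).mpr hrq)
        have hRβ : ∀ t : ℕ, t.Prime → t ∣ Nat.card R → t ∉ beta M := by
          intro t ht hd
          obtain ⟨k, hk⟩ := hR.isPGroup.exists_card_eq
          rw [hk] at hd
          have : t = r := (Nat.prime_dvd_prime_iff_eq ht hr).mp (ht.dvd_of_dvd_pow hd)
          rw [this]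
          exact fun h => h3.2.1 (alpha_subset_sigma hG hM h.1)
        have h4 := hNH M R S hM hRM' hSM' (hR.le.trans hES) hcop hRβ hSβ
        rw [Subgroup.commutator_eq_bot_iff_le_centralizer] at h4
        have h5 : R ≤ Subgroup.centralizer (S : Set G) := Subgroup.le_centralizer_iff.mp h4
        exact h5.trans (Subgroup.centralizer_le (Set.singleton_subset_iff.mpr hxS))
    · obtain ⟨R, hR⟩ := exists_isSylowIn r E
      refine ⟨R, hR, ?_⟩
      have : R = ⊥ := eq_bot_of_isPGroup_of_not_dvd_card hR.isPGroup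
        (fun h => hrd (h.trans (Subgroup.card_dvd_of_le hR.le)))
      rw [this]
      exact bot_le
  -- `E₁ ≠ ⊥`
  have hE₁1 : Nat.card E₁ ≠ 1 := by
    intro h
    apply hS1
    rw [eq_bot_iff, ← hA]
    refine le_inf le_rfl ?_
    rw [Subgroup.card_eq_one.mp h]
    intro x _
    rw [Subgroup.mem_centralizer_iff]
    intro y hy
    rw [Subgroup.coe_bot, Set.mem_singleton_iff] at hy
    rw [hy, one_mul, mul_one]
  obtain ⟨p, hp, hpd⟩ := Nat.exists_prime_and_dvd hE₁1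
  haveI : Fact p.Prime := ⟨hp⟩
  have hpτ : p ∈ tau1 M := hE₁.2.1 p hp hpd
  obtain ⟨y₀, hy₀⟩ := exists_prime_orderOf_dvd_card' (G := ↥E₁) p hpd
  obtain ⟨P, hPdef⟩ : ∃ P : Subgroup G, P = Subgroup.zpowers (y₀ : G) := ⟨_, rfl⟩
  have hPcard : Nat.card P = p := by
    rw [hPdef, Nat.card_zpowers, Subgroup.orderOf_coe, hy₀]
  have hPE₁ : P ≤ E₁ := by
    rw [hPdef]
    exact Subgroup.zpowers_le.mpr y₀.2
  refine ⟨p, P, hpτ, hPE₁.trans hE₁E, hPcard, ?_⟩
  -- Step B
  rw [eq_bot_iff, ← hA]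
  intro x hx
  obtain ⟨hxS, hxP⟩ := Subgroup.mem_inf.mp hx
  refine Subgroup.mem_inf.mpr ⟨hxS, ?_⟩
  apply mem_centralizer_of_le_centralizer_singleton
  apply le_of_forall_sylow_le
  intro r hr
  haveI : Fact r.Prime := ⟨hr⟩
  obtain ⟨R, hR⟩ := exists_isSylowIn r E₁
  refine ⟨R, hR, ?_⟩
  by_cases hR1 : R = ⊥
  · rw [hR1]
    exact bot_le
  have hrd : r ∣ Nat.card E₁ :=
    (dvd_card_of_pgroup_ne_bot hR.isPGroup hR1).trans (Subgroup.card_dvd_of_le hR.le)
  have hrτ : r ∈ tau1 M := hE₁.2.1 r hr hrd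
  have hRE : IsSylowIn r R E := hR.of_not_dvd_relIndex hE₁E (hE₁.2.2 r hr hrτ)
  have hr2 : r ≠ 2 := prime_ne_two hG (hrτ.2.2.1.trans (Subgroup.card_subgroup_dvd_card M))
  have hRc : IsCyclic R :=
    isCyclic_of_pRankLE_one hr2 hrτ.2.2.2.2 (hRE.le.trans hEM) hR.isPGroup
  obtain ⟨Pr, hPrR, hPrcard⟩ :=
    exists_card_prime_le hR.isPGroup hR1
  have hPrE₁ : Pr ≤ E₁ := hPrR.trans hR.le
  have hPrC : Pr ≤ Subgroup.centralizer (P : Set G) := by
    intro a ha
    rw [Subgroup.mem_centralizer_iff]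
    intro b hb
    exact hE₁ab b (hPE₁ hb) a (hPrE₁ ha)
  have h28 := Cfsg.Agent.S1428.result hG M hM E hE p hpτ P (hPE₁.trans hE₁E) hPcard Pr
    (le_inf (hPrE₁.trans hE₁E) hPrC) (by rw [hPrcard]; exact hr)
  have hx1 : x ∈ sigmaCore M ⊓ Subgroup.centralizer (Pr : Set G) :=
    h28 (Subgroup.mem_inf.mpr ⟨hSσ hxS, hxP⟩)
  -- a nonidentity element of `Pr`
  have hPr1 : Pr ≠ ⊥ := by
    intro h
    rw [h, Subgroup.card_bot] at hPrcard
    exact hr.one_lt.ne hPrcard
  obtain ⟨y, hyPr, hy1⟩ : ∃ y ∈ Pr, y ≠ 1 := by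
    by_contra hcon
    push Not at hcon
    exact hPr1 ((Subgroup.eq_bot_iff_forall Pr).mpr hcon)
  -- S1427 for the Sylow subgroup `R` of `E`
  have hmap : ((hRE.toSylow : Sylow r ↥E) : Subgroup ↥E).map E.subtype = R := by
    rw [hRE.coe_toSylow, Subgroup.map_subgroupOf_eq_of_le hRE.le]
  have hne : ((hRE.toSylow : Sylow r ↥E) : Subgroup ↥E) ≠ ⊥ := by
    intro h
    apply hR1
    rw [← hmap, h, Subgroup.map_bot]
  have hcyc : IsCyclic ((hRE.toSylow : Sylow r ↥E) : Subgroup ↥E) := by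
    rw [hRE.coe_toSylow]
    haveI := hRc
    exact isCyclic_of_surjective (Subgroup.subgroupOfEquivOfLe hRE.le).symm.toMonoidHom
      (Subgroup.subgroupOfEquivOfLe hRE.le).symm.surjective
  have h27 := Cfsg.Agent.S1427.result hG M hM E hE r hRE.toSylow hne hcyc y
    (by rw [hmap]; exact hPrR hyPr) hy1
  rw [hmap] at h27
  have hx2 : x ∈ sigmaCore M ⊓ Subgroup.centralizer ({y} : Set G) := by
    refine Subgroup.mem_inf.mpr ⟨hSσ hxS, ?_⟩
    exact Subgroup.centralizer_le (Set.singleton_subset_iff.mpr hyPr)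
      (Subgroup.mem_inf.mp hx1).2
  rw [h27] at hx2
  exact le_centralizer_singleton_of_mem (Subgroup.mem_inf.mp hx2).2

/-- a subgroup of prime order `p` of `H` acting without fixed points on a Sylow `q`-subgroup `S`
of `H_σ` (not in a unique maximal subgroup) has `p ∈ τ₁(H)`. -/
theorem mem_tau1_of_fpf (hG : IsMinSimpleOddOrder G) (hNH : NH G) {H S P : Subgroup G}
    (hH : IsCoatom H) {q p : ℕ} [Fact q.Prime] [Fact p.Prime] (hqH : q ∈ sigma H)
    (hqβ : q ∉ beta H) (hnn : ¬ Group.IsNilpotent (sigmaCore H))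
    (hS : IsSylowIn q S (sigmaCore H)) (hS1 : S ≠ ⊥)
    (hinf : S ⊓ ⁅sigmaCore H, sigmaCore H⁆ = ⊥) (hP : Nat.card P = p) (hPH : P ≤ H)
    (hPS : P ≤ Subgroup.normalizer (S : Set G))
    (hfix : S ⊓ Subgroup.centralizer (P : Set G) = ⊥) : p ∈ tau1 H := by
  have hq : q.Prime := Fact.out
  have hp : p.Prime := Fact.out
  have hPp : IsPGroup p P := IsPGroup.of_card (n := 1) (by rw [hP, pow_one])
  have hSσ : S ≤ sigmaCore H := hS.le
  have hSH' : S ≤ ⁅H, H⁆ := hSσ.trans (sigmaCore_le_commutator hG hH)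
  have hcomm : ⁅S, P⁆ ≠ ⊥ := by
    intro h
    rw [Subgroup.commutator_eq_bot_iff_le_centralizer] at h
    apply hS1
    rw [eq_bot_iff, ← hfix]
    exact le_inf le_rfl h
  have hpσ : p ∉ sigma H := by
    intro h
    have hPσ : P ≤ sigmaCore H := pgroup_le_sigmaCore hG hH h hPp hPH
    apply hcomm
    rw [eq_bot_iff, ← hinf]
    exact le_inf (Cfsg.Agent.Lib.Helper1.commutator_le_of_le_normalizer hPS)
      (Subgroup.commutator_mono hSσ hPσ)
  have hpH : p ∣ Nat.card H := by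
    rw [← hP]
    exact Subgroup.card_dvd_of_le hPH
  have hr1 := pRankLE_one_of_not_sigma hG hH hnn hp hpσ
  have hpq : p ≠ q := fun h => hpσ (h ▸ hqH)
  refine ⟨hp, hpσ, hpH, ?_, hr1⟩
  intro hd
  obtain ⟨P₀, hP₀, hPP₀⟩ := exists_isSylowIn_ge hPH hPp
  have hp2 : p ≠ 2 := prime_ne_two hG (hpH.trans (Subgroup.card_subgroup_dvd_card H))
  have hP₀c : IsCyclic P₀ := isCyclic_of_pRankLE_one hp2 hr1 hP₀.le hP₀.isPGroup
  have hPH' : P ≤ ⁅H, H⁆ :=
    hPP₀.trans (Cfsg.Agent.Lib.Helper9.BGPrime.isSylowIn_le_commutator_of_cyclic hP₀ hP₀c hd)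
  have hcop : (Nat.card P).Coprime (Nat.card S) := by
    obtain ⟨j, hj⟩ := hS.isPGroup.exists_card_eq
    rw [hP, hj]
    exact Nat.Coprime.pow_right j ((Nat.coprime_primes hp hq).mpr hpq)
  have hPβ : ∀ t : ℕ, t.Prime → t ∣ Nat.card P → t ∉ beta H := by
    intro t ht hd'
    rw [hP] at hd'
    have : t = p := (Nat.prime_dvd_prime_iff_eq ht hp).mp hd'
    rw [this]
    exact fun h => hpσ (alpha_subset_sigma hG hH h.1)
  have hSβ : ∀ t : ℕ, t.Prime → t ∣ Nat.card S → t ∉ beta H := by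
    intro t ht hd'
    obtain ⟨k, hk⟩ := hS.isPGroup.exists_card_eq
    rw [hk] at hd'
    have : t = q := (Nat.prime_dvd_prime_iff_eq ht hq).mp (ht.dvd_of_dvd_pow hd')
    rw [this]
    exact hqβ
  exact hcomm (hNH H P S hH hPH' hSH' hPS hcop hPβ hSβ)

end Cfsg.Agent.Lib.Helper2.BG13
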