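import Mathlib
import Cfsg.Agent.Lib.Helper2.BG13Red

/-!
# Helper2 library: B & G Theorem 13.9

Maximal subgroups `M`, `H` with `σ(M) ∩ σ(H) ≠ ∅` are conjugate, modulo the two group-theoretic
lemmas `HZ` and `NH`.
-/

set_option autoImplicit false
set_option linter.style.haveILetI false
set_option linter.unusedSectionVars false
set_option linter.unusedVariables false

open Cfsg
open scoped commutatorElement
open Cfsg.Agent.Lib.Helper10.BG
open Cfsg.Agent.Lib.Helper9.BGExc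
open Cfsg.Agent.Lib.Helper19.BGCompl
open Cfsg.Agent.Lib.Helper1 (CoprimeAct)

namespace Cfsg.Agent.Lib.Helper2.BG13

variable {G : Type*} [Group G] [Finite G]

theorem core13 (hG : IsMinSimpleOddOrder G) (hHZ : HZ G) (hNH : NH G) {M H S : Subgroup G}
    (hM : IsCoatom M) (hH : IsCoatom H) {q : ℕ} [Fact q.Prime] (hqM : q ∈ sigma M)
    (hqH : q ∈ sigma H) (hnc : ∀ g : G, H ≠ cj g M) (hS : IsSylowIn q S ⊤) (hSM : S ≤ M)
    (hSH : S ≤ H) : False := by
  have hq : q.Prime := Fact.out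
  have hnc' : ∀ g : G, M ≠ cj g H := by
    intro g hg
    apply hnc g⁻¹
    rw [hg, cj_inv_cj]
  have hnnM : ¬ Group.IsNilpotent (sigmaCore M) := fun hnil =>
    Cfsg.Agent.Lib.Helper9.BGPrime.sigma_disjoint_of_nilpotent hG hH hM hnil hnc' hqH hqM
  have hnnH : ¬ Group.IsNilpotent (sigmaCore H) := fun hnil =>
    Cfsg.Agent.Lib.Helper9.BGPrime.sigma_disjoint_of_nilpotent hG hM hH hnil hnc hqM hqH
  have hσM := sigmaProp_of_mem_sigma hM hqM
  have hσH := sigmaProp_of_mem_sigma hH hqH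
  have hSylM : IsSylowIn q S M := hS.of_le hSM le_top
  have hSylH : IsSylowIn q S H := hS.of_le hSH le_top
  have hNM : Subgroup.normalizer (S : Set G) ≤ M := hσM.2 S hSylM
  have hNH' : Subgroup.normalizer (S : Set G) ≤ H := hσH.2 S hSylH
  have hSσM : S ≤ sigmaCore M := pgroup_le_sigmaCore hG hM hqM hS.isPGroup hSM
  have hSσH : S ≤ sigmaCore H := pgroup_le_sigmaCore hG hH hqH hS.isPGroup hSH
  have hSylσM : IsSylowIn q S (sigmaCore M) := hS.of_le hSσM le_top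
  have hSylσH : IsSylowIn q S (sigmaCore H) := hS.of_le hSσH le_top
  have hnuM : ¬ InUniqueMaximal S := not_inUniqueMaximal_of_le hM hH hnc' hS hSM hSH S hSylM
  have hnuH : ¬ InUniqueMaximal S := not_inUniqueMaximal_of_le hH hM hnc hS hSH hSM S hSylH
  have hinfM := inf_commutator_sigmaCore_eq_bot hG hM hqM hSylσM hnuM
  have hinfH := inf_commutator_sigmaCore_eq_bot hG hH hqH hSylσH hnuH
  have hqβM : q ∉ beta M := not_mem_beta_of_not_conj hG hH hM hnc' hq hqH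
  have hqβH : q ∉ beta H := not_mem_beta_of_not_conj hG hM hH hnc hq hqM
  have hS1 : S ≠ ⊥ := hSylM.ne_bot_of_dvd hqM.2.1
  -- a complement `E` of `M_σ` in `M` normalizing `S`
  obtain ⟨E₀, hE₀, -⟩ := exists_isComplIn_sigmaCore_ge hG hM (X := ⊥) bot_le (by
    rw [Subgroup.card_bot]; exact Nat.coprime_one_left _)
  have hcop₀ : CoprimeAct E₀ (sigmaCore M) :=
    ⟨hE₀.1.trans (le_normalizer_sigmaCore M), compl_coprime hG hM hE₀,
      Or.inl (isSolvable_of_ne_top hG (ne_top_of_le_isCoatom hM hE₀.1))⟩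
  obtain ⟨S₀, hS₀, hES₀⟩ := coprime_exists_isSylowIn hcop₀ q
  obtain ⟨m, hm, hSm⟩ := hS₀.exists_conj hSylσM
  have hmM : m ∈ M := sigmaCore_le M hm
  have hE : IsComplIn (cj m E₀) (sigmaCore M) M := compl_conj hE₀ hmM
  have hES : cj m E₀ ≤ Subgroup.normalizer (S : Set G) := by
    rw [hSm]
    exact le_normalizer_cj hES₀
  obtain ⟨E, hEdef⟩ : ∃ E : Subgroup G, E = cj m E₀ := ⟨_, rfl⟩
  rw [← hEdef] at hE hES
  obtain ⟨p, P, hpτM, hPE, hPcard, hfix⟩ :=
    exists_tau1_fpf hG hNH hM hqM hqβM hnnM hE hSylσM hS1 hES hinfM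
  haveI : Fact p.Prime := ⟨hpτM.1⟩
  have hPS : P ≤ Subgroup.normalizer (S : Set G) := hPE.trans hES
  have hPM : P ≤ M := hPE.trans hE.1
  have hPH : P ≤ H := hPS.trans hNH'
  have hpτH : p ∈ tau1 H :=
    mem_tau1_of_fpf hG hNH hH hqH hqβH hnnH hSylσH hS1 hinfH hPcard hPH hPS hfix
  exact config_false hG hHZ hM hH hnc hqM hqH hS hSM hSH hpτM hpτH hPcard hPM hPH hPS hfix

/-- **B & G Theorem 13.9**: maximal subgroups with a common prime in `σ` are conjugate. -/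
theorem sigma_partition (hG : IsMinSimpleOddOrder G) (hHZ : HZ G) (hNH : NH G)
    {M H : Subgroup G} (hM : IsCoatom M) (hH : IsCoatom H)
    {q : ℕ} (hqM : q ∈ sigma M) (hqH : q ∈ sigma H) : ∃ g : G, H = cj g M := by
  by_contra hnc
  push Not at hnc
  haveI : Fact q.Prime := ⟨hqM.1⟩
  obtain ⟨S, hS⟩ := exists_isSylowIn q M
  obtain ⟨S', hS'⟩ := exists_isSylowIn q H
  have hStop := (sigmaProp_of_mem_sigma hM hqM).isSylowIn_top hS
  have hStop' := (sigmaProp_of_mem_sigma hH hqH).isSylowIn_top hS'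
  obtain ⟨g, -, hg⟩ := hStop.exists_conj hStop'
  have hH₁ : IsCoatom (cj g⁻¹ H) := isCoatom_map_conj g⁻¹ hH
  have hqH₁ : q ∈ sigma (cj g⁻¹ H) := mem_sigma_cj hH hqH g⁻¹
  have hSH₁ : S ≤ cj g⁻¹ H := by
    rw [← cj_le_iff]
    have h1 : cj g S = S' := hg.symm
    rw [h1]
    exact hS'.le
  apply core13 hG hHZ hNH hM hH₁ hqM hqH₁ ?_ hStop hS.le hSH₁
  intro k hk
  apply hnc (g * k)
  rw [← cj_cj, ← hk, cj_cj_inv]

/-- statement S1378, modulo `HZ` and `NH`. -/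
theorem s1378_of (hG : IsMinSimpleOddOrder G) (hHZ : HZ G) (hNH : NH G) :
    (∀ p : ℕ, p.Prime → p ∣ Nat.card G → ∃ M : Subgroup G, IsCoatom M ∧ p ∈ Cfsg.sigma M) ∧
      ∀ M N : Subgroup G, IsCoatom M → IsCoatom N → (Cfsg.sigma M ∩ Cfsg.sigma N).Nonempty →
        ∃ g : G, N = M.map (MulAut.conj g).toMonoidHom := by
  refine ⟨fun p hp hd => exists_coatom_mem_sigma hG hp hd, ?_⟩
  rintro M N hM hN ⟨q, hqM, hqN⟩
  exact sigma_partition hG hHZ hNH hM hN hqM hqN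

end Cfsg.Agent.Lib.Helper2.BG13
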