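import Mathlib
import Cfsg.Prelude
import Cfsg.Agent.S1378
import Cfsg.Agent.S1404
import Cfsg.Agent.S1409
import Cfsg.Agent.S1416
import Cfsg.Agent.S1417
import Cfsg.Agent.S1420
import Cfsg.Agent.Lib.Helper10.BGTwelveG
import Cfsg.Agent.Lib.Helper10.BGTwelveF
import Cfsg.Agent.Lib.Helper10.BGEleven
import Cfsg.Agent.Lib.Helper11.BGFourteenA
import Cfsg.Agent.Lib.Helper1.BGFthm
import Cfsg.Agent.Lib.Helper1.BGSigmaDecomp
import Cfsg.Agent.Lib.Helper9.BGPrime1
import Cfsg.Agent.Lib.Helper19.BGCompl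
import Cfsg.Agent.Lib.Lead.BGTrans

/-!
# Bender--Glauberman, Theorem 14.4 (helper2)

Rows S1374 and S1375, relative to the third part of Theorem 13.? (row S1430), taken as the
hypothesis `H30c` of helper11.
-/

set_option autoImplicit false
open Cfsg
open Cfsg.Agent.Lib.Helper10.BG
open Cfsg.Agent.Lib.Helper9.BGExc
open Cfsg.Agent.Lib.Helper11.BG14 (H30c no_mix mem_kappa_or_tau2 orderOf_pow_div)

namespace Cfsg.Agent.Lib.Helper2.BG14T

variable {G : Type*} [Group G]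

/-- `C_G(x) ≤ C_G(x^k)`. -/
theorem centralizer_le_centralizer_pow (x : G) (k : ℕ) :
    Subgroup.centralizer ({x} : Set G) ≤ Subgroup.centralizer ({x ^ k} : Set G) := by
  intro c hc
  rw [Subgroup.mem_centralizer_iff] at hc ⊢
  intro z hz
  rw [Set.mem_singleton_iff] at hz
  subst hz
  have h1 : Commute x c := hc x (Set.mem_singleton x)
  exact (h1.pow_left k).eq

/-- `C_G(x) ≤ N_G(⟨x^k⟩)`. -/
theorem centralizer_le_normalizer_zpowers_pow (x : G) (k : ℕ) :
    Subgroup.centralizer ({x} : Set G) ≤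
      Subgroup.normalizer (Subgroup.zpowers (x ^ k) : Set G) :=
  (centralizer_le_centralizer_pow x k).trans
    (Cfsg.Agent.Lib.Helper11.BG12.centralizer_singleton_le_normalizer_zpowers (x ^ k))

theorem self_mem_centralizer (x : G) : x ∈ Subgroup.centralizer ({x} : Set G) := by
  rw [Subgroup.mem_centralizer_iff]
  intro h hh
  rw [Set.mem_singleton_iff.mp hh]

theorem mem_centralizer_singleton {x c : G} :
    c ∈ Subgroup.centralizer ({x} : Set G) ↔ x * c = c * x := by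
  rw [Subgroup.mem_centralizer_iff]
  constructor
  · intro h
    exact h x (Set.mem_singleton x)
  · intro h z hz
    rw [Set.mem_singleton_iff.mp hz]
    exact h

/-- powers of a product `b * s` with `s` in a subgroup normalized by `b`. -/
theorem exists_pow_mul_eq {S : Subgroup G} {b s : G}
    (hb : b ∈ Subgroup.normalizer (S : Set G)) (hs : s ∈ S) (m : ℕ) :
    ∃ s' ∈ S, (b * s) ^ m = b ^ m * s' := by
  induction m with
  | zero => exact ⟨1, S.one_mem, by simp⟩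
  | succ m ih =>
    obtain ⟨s', hs', h⟩ := ih
    refine ⟨b⁻¹ * s' * b * s, S.mul_mem (conj_mem_of_mem_normalizer' hb hs') hs, ?_⟩
    rw [pow_succ, h, pow_succ]
    group

/-- if `s ∈ N_σ`, `x ∈ D ∩ N` and `s⁻¹ x s ∈ D` where `D ∩ N_σ = 1`, then `s` commutes with `x`. -/
theorem commute_of_conj_mem {N D : Subgroup G} (hD : D ⊓ sigmaCore N = ⊥) {x s : G}
    (hxN : x ∈ N) (hxD : x ∈ D) (hs : s ∈ sigmaCore N) (hsx : s⁻¹ * x * s ∈ D) :
    x * s = s * x := by
  have h1 : s⁻¹ * x * s * x⁻¹ ∈ D := D.mul_mem hsx (D.inv_mem hxD)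
  have h2 : s⁻¹ * x * s * x⁻¹ ∈ sigmaCore N := by
    have h3 : x * s * x⁻¹ ∈ sigmaCore N :=
      conj_mem_of_mem_normalizer (le_normalizer_sigmaCore N hxN) hs
    have h4 : s⁻¹ * x * s * x⁻¹ = s⁻¹ * (x * s * x⁻¹) := by group
    rw [h4]
    exact (sigmaCore N).mul_mem ((sigmaCore N).inv_mem hs) h3
  have h5 : s⁻¹ * x * s * x⁻¹ ∈ D ⊓ sigmaCore N := ⟨h1, h2⟩
  rw [hD, Subgroup.mem_bot] at h5
  have h6 : s⁻¹ * x * s = x := mul_inv_eq_one.mp h5
  calc x * s = s * (s⁻¹ * x * s) := by group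
    _ = s * x := by rw [h6]

variable [Finite G]

/-- `κ(N)` and `τ₂(N)` are disjoint. -/
theorem not_mem_kappa_of_mem_tau2 {N : Subgroup G} {p : ℕ} (hτ : p ∈ tau2 N) : p ∉ kappa N := by
  intro hκ
  have hp : p.Prime := hτ.1
  haveI : Fact p.Prime := ⟨hp⟩
  obtain ⟨P⟩ : Nonempty (Sylow p ↥N) := inferInstance
  have hc := (hκ.2.2.2 P).1
  have hQ₀ : IsSylowIn p ((P : Subgroup ↥N).map N.subtype) N := isSylowIn_of_sylow P
  have hc' : IsCyclic ↥((P : Subgroup ↥N).map N.subtype) :=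
    isCyclic_of_surjective
      ((P : Subgroup ↥N).equivMapOfInjective N.subtype N.subtype_injective)
      ((P : Subgroup ↥N).equivMapOfInjective N.subtype N.subtype_injective).surjective
  exact hτ.2.2.2 (Cfsg.Agent.Lib.Helper9.BGPrime.pRankLE_one_of_cyclic hp hQ₀ hc')

/-- a maximal subgroup containing `N_G(⟨x^(o(x)/q)⟩)`. -/
theorem exists_coatom_normalizer (hG : IsMinSimpleOddOrder G) {x : G} {q : ℕ} [Fact q.Prime]
    (hq : q ∣ orderOf x) :
    ∃ N : Subgroup G, IsCoatom N ∧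
      Subgroup.normalizer (Subgroup.zpowers (x ^ (orderOf x / q)) : Set G) ≤ N := by
  have hqp : q.Prime := Fact.out
  have hyq : orderOf (x ^ (orderOf x / q)) = q := orderOf_pow_div hq
  have hcard : Nat.card (Subgroup.zpowers (x ^ (orderOf x / q))) = q := by
    rw [Nat.card_zpowers, hyq]
  have hXq : IsPGroup q (Subgroup.zpowers (x ^ (orderOf x / q))) :=
    IsPGroup.of_card (n := 1) (by rw [hcard, pow_one])
  have hX1 : Subgroup.zpowers (x ^ (orderOf x / q)) ≠ ⊥ := by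
    intro h
    rw [h, Subgroup.card_bot] at hcard
    exact hqp.one_lt.ne hcard
  exact exists_isCoatom_ge (Cfsg.Agent.Lib.Lead.BGTrans.normalizer_ne_top hG.2 hX1
    (Cfsg.Agent.Lib.Lead.BGTrans.pgroup_ne_top hG.2 hXq))

/-- the configuration of B & G, Theorem 14.4. -/
structure Data (M N : Subgroup G) (x : G) (q : ℕ) : Prop where
  qsigma : q ∈ sigma M
  nconj : ∀ g : G, N ≠ M.map (MulAut.conj g).toMonoidHom
  qtau2 : q ∈ tau2 N
  nil : Group.IsNilpotent (sigmaCore N)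
  disj : sigmaCore N ⊓ M = ⊥
  compl : IsComplIn (M ⊓ N) (sigmaCore N) N
  exA : ∃ A : Subgroup G, A ≤ M ⊓ N ∧ IsElementaryAbelian q A ∧ Nat.card A = q ^ 2
  cent_le : Subgroup.centralizer ({x} : Set G) ≤ N
  complC : IsComplIn (M ⊓ Subgroup.centralizer ({x} : Set G))
    (sigmaCore N ⊓ Subgroup.centralizer ({x} : Set G)) (Subgroup.centralizer ({x} : Set G))
  Rne : sigmaCore N ⊓ Subgroup.centralizer ({x} : Set G) ≠ ⊥
  alltau2 : ∀ p : ℕ, p.Prime → p ∣ orderOf x → p ∈ tau2 N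
  hat : x ∈ sigmaHat N
  uniq : ∀ L : Subgroup G, IsCoatom L → Subgroup.centralizer ({x} : Set G) ≤ L → L = N

/-- **B & G, Theorem 14.4**, the analysis of `N ⊇ N_G(X)`. -/
theorem analysis (hG : IsMinSimpleOddOrder G) (h30c : H30c G) {M N : Subgroup G}
    (hM : IsCoatom M) (hN : IsCoatom N) {x : G} (hx : x ∈ sigmaCore M) (hx1 : x ≠ 1)
    (hxM : ¬ Subgroup.centralizer ({x} : Set G) ≤ M) {q : ℕ} [Fact q.Prime]
    (hq : q ∣ orderOf x)
    (hNX : Subgroup.normalizer (Subgroup.zpowers (x ^ (orderOf x / q)) : Set G) ≤ N) :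
    Data M N x q := by
  have hqp : q.Prime := Fact.out
  have hyq : orderOf (x ^ (orderOf x / q)) = q := orderOf_pow_div hq
  have hXcard : Nat.card (Subgroup.zpowers (x ^ (orderOf x / q))) = q := by
    rw [Nat.card_zpowers, hyq]
  have hXq : IsPGroup q (Subgroup.zpowers (x ^ (orderOf x / q))) :=
    IsPGroup.of_card (n := 1) (by rw [hXcard, pow_one])
  have hX1 : Subgroup.zpowers (x ^ (orderOf x / q)) ≠ ⊥ := by
    intro h
    rw [h, Subgroup.card_bot] at hXcard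
    exact hqp.one_lt.ne hXcard
  have hxM' : x ∈ M := sigmaCore_le M hx
  have hyσ : x ^ (orderOf x / q) ∈ sigmaCore M := (sigmaCore M).pow_mem hx _
  have hXσ : Subgroup.zpowers (x ^ (orderOf x / q)) ≤ sigmaCore M := Subgroup.zpowers_le.mpr hyσ
  have hXM : Subgroup.zpowers (x ^ (orderOf x / q)) ≤ M := hXσ.trans (sigmaCore_le M)
  have hqσM : q ∈ sigma M :=
    mem_sigma_of_dvd_card_sigmaCore hG hM hqp (by rw [← hXcard]; exact Subgroup.card_dvd_of_le hXσ)
  have hCN : Subgroup.centralizer ({x} : Set G) ≤ N :=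
    (centralizer_le_normalizer_zpowers_pow x _).trans hNX
  have hNM : N ≠ M := by
    intro h
    exact hxM (h ▸ hCN)
  have hnc : ∀ g : G, N ≠ M.map (MulAut.conj g).toMonoidHom :=
    ne_conj_of_normalizer_le hG hM hN hqσM hXq hX1 hXM hNX hNM
  have hXMN : Subgroup.zpowers (x ^ (orderOf x / q)) ≤ M ⊓ N :=
    le_inf hXM (Subgroup.le_normalizer.trans hNX)
  obtain ⟨S, hS, hXS⟩ := exists_isSylowIn_ge hXMN hXq
  obtain ⟨hNS, hSN⟩ := lemma_12_15 hG hM hqσM hXq hX1 hNX hS hXS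
  have hqσN : q ∉ sigma N := by
    intro h
    obtain ⟨g, hg⟩ := (Cfsg.Agent.S1378.result hG).2 M N hM hN ⟨q, hqσM, h⟩
    exact hnc g hg
  obtain ⟨⟨hr2, hr1⟩, -, -⟩ := Cfsg.Agent.S1409.result hG N hN q hqσN _ hXcard hNX
  have hqτ : q ∈ tau2 N := ⟨hqp, hqσN, hr2, hr1⟩
  obtain ⟨A, hAS, hAe, hAcard⟩ :=
    Cfsg.Agent.Lib.Helper9.BGPrime.exists_elemAb_sq_le hr2 hr1 hSN
  have hAMN : A ≤ M ⊓ N := hAS.trans hS.le
  have hAM : A ≤ M := hAMN.trans inf_le_left
  have hAN : A ≤ N := hAMN.trans inf_le_right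
  obtain ⟨hnil, hsup⟩ := le_sigmaCore_sup_of_tau2 hG hM hN hqσM hqτ hAM hAN hAe hAcard
  have h17 := Cfsg.Agent.S1417.result hG N hN q hqτ A ⟨hAN, hAe, hAcard⟩
  have hdisj : sigmaCore N ⊓ M = ⊥ := h17.2.2.2.2.1 M hM hNM.symm hAM
  have hNσN : N ≤ Subgroup.normalizer (sigmaCore N : Set G) := le_normalizer_sigmaCore N
  have hDσ : (M ⊓ N) ⊓ sigmaCore N = ⊥ := by
    rw [eq_bot_iff, ← hdisj]
    exact le_inf inf_le_right (inf_le_left.trans inf_le_left)
  have hcompl : IsComplIn (M ⊓ N) (sigmaCore N) N := by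
    refine ⟨inf_le_right, sigmaCore_le N, hDσ, ?_⟩
    intro n hn
    have hn' : n⁻¹ ∈ sigmaCore N ⊔ (M ⊓ N) := hsup (N.inv_mem hn)
    obtain ⟨s, hs, d, hd, hsd⟩ :=
      exists_mul_of_mem_sup_of_le_normalizer (inf_le_right.trans hNσN) hn'
    refine ⟨d⁻¹, (M ⊓ N).inv_mem hd, s⁻¹, (sigmaCore N).inv_mem hs, ?_⟩
    rw [← mul_inv_rev, ← hsd, inv_inv]
  have hxN : x ∈ N := hCN (self_mem_centralizer x)
  have hxD : x ∈ M ⊓ N := ⟨hxM', hxN⟩
  have hcomplC : IsComplIn (M ⊓ Subgroup.centralizer ({x} : Set G))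
      (sigmaCore N ⊓ Subgroup.centralizer ({x} : Set G)) (Subgroup.centralizer ({x} : Set G)) := by
    refine ⟨inf_le_right, inf_le_right, ?_, ?_⟩
    · rw [eq_bot_iff, ← hdisj]
      exact le_inf (inf_le_right.trans inf_le_left) (inf_le_left.trans inf_le_left)
    · intro c hc
      obtain ⟨a, ha, b, hb, hcab⟩ := hcompl.2.2.2 c (hCN hc)
      have hxc : x * c = c * x := mem_centralizer_singleton.mp hc
      rw [hcab] at hxc
      have h1 : (b⁻¹)⁻¹ * x * b⁻¹ ∈ M ⊓ N := by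
        have h2 : (b⁻¹)⁻¹ * x * b⁻¹ = a⁻¹ * x * a := by
          calc (b⁻¹)⁻¹ * x * b⁻¹ = a⁻¹ * (a * b * x) * b⁻¹ := by group
            _ = a⁻¹ * (x * (a * b)) * b⁻¹ := by rw [hxc]
            _ = a⁻¹ * x * a := by group
        rw [h2]
        exact (M ⊓ N).mul_mem ((M ⊓ N).mul_mem ((M ⊓ N).inv_mem ha) hxD) ha
      have hb' : x * b⁻¹ = b⁻¹ * x :=
        commute_of_conj_mem hDσ hxN hxD ((sigmaCore N).inv_mem hb) h1
      have hbx : Commute x b := by
        have h3 : Commute x b⁻¹ := hb'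
        simpa using h3.inv_right
      have hbC : b ∈ Subgroup.centralizer ({x} : Set G) := mem_centralizer_singleton.mpr hbx.eq
      have haC : a ∈ Subgroup.centralizer ({x} : Set G) := by
        have h4 : a = c * b⁻¹ := by rw [hcab]; group
        rw [h4]
        exact Subgroup.mul_mem _ hc (Subgroup.inv_mem _ hbC)
      exact ⟨a, ⟨ha.1, haC⟩, b, ⟨hb, hbC⟩, hcab⟩
  have hRne : sigmaCore N ⊓ Subgroup.centralizer ({x} : Set G) ≠ ⊥ := by
    intro hR
    apply hxM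
    intro c hc
    obtain ⟨a, ha, b, hb, hcab⟩ := hcomplC.2.2.2 c hc
    rw [hR, Subgroup.mem_bot] at hb
    rw [hcab, hb, mul_one]
    exact ha.1
  obtain ⟨r, hrR, hr1⟩ : ∃ r ∈ sigmaCore N ⊓ Subgroup.centralizer ({x} : Set G), r ≠ 1 := by
    by_contra hcon
    push Not at hcon
    exact hRne ((Subgroup.eq_bot_iff_forall _).mpr hcon)
  have hrx : x * r = r * x := mem_centralizer_singleton.mp hrR.2
  have hyN : x ^ (orderOf x / q) ∈ N := N.pow_mem hxN _
  have halltau : ∀ p : ℕ, p.Prime → p ∣ orderOf x → p ∈ tau2 N := by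
    intro p hp hpd
    haveI : Fact p.Prime := ⟨hp⟩
    have hzp : orderOf (x ^ (orderOf x / p)) = p := orderOf_pow_div hpd
    have hzσ : x ^ (orderOf x / p) ∈ sigmaCore M := (sigmaCore M).pow_mem hx _
    have hzN : x ^ (orderOf x / p) ∈ N := N.pow_mem hxN _
    have hpσM : p ∈ sigma M := by
      apply mem_sigma_of_dvd_card_sigmaCore hG hM hp
      have := orderOf_dvd_natCard (⟨x ^ (orderOf x / p), hzσ⟩ : ↥(sigmaCore M))
      rwa [Subgroup.orderOf_mk, hzp] at this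
    have hpσN : p ∉ sigma N := by
      intro h
      obtain ⟨g, hg⟩ := (Cfsg.Agent.S1378.result hG).2 M N hM hN ⟨p, hpσM, h⟩
      exact hnc g hg
    have hzr : x ^ (orderOf x / p) * r = r * x ^ (orderOf x / p) :=
      ((show Commute x r from hrx).pow_left _).eq
    rcases mem_kappa_or_tau2 hG hN hrR.1 hr1 hzN hzp hpσN hzr with hκ | hτ
    · exfalso
      exact no_mix hG h30c hN hκ hqτ hzN hzp hyq hyN ((Commute.refl x).pow_pow _ _).eq
    · exact hτ
  have hhat : x ∈ sigmaHat N := ⟨hxN, r, hrR.1, hr1, hrx⟩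
  have h20 := (Cfsg.Agent.S1420.result hG N hN (M ⊓ N) hcompl).2.2.2 x hxN hx1 halltau hhat
  exact ⟨hqσM, hnc, hqτ, hnil, hdisj, hcompl, ⟨A, hAMN, hAe, hAcard⟩, hCN, hcomplC, hRne, halltau,
    hhat, h20.2⟩

/-- **B & G, Theorem 14.4 (b)**, existence: the conjugates of `M` containing `x` are of the form
`M^s` with `s ∈ C_{N_σ}(x)`. -/
theorem exists_conj_eq (hG : IsMinSimpleOddOrder G) (h30c : H30c G) {M N : Subgroup G}
    (hM : IsCoatom M) (hN : IsCoatom N) {x : G} (hx : x ∈ sigmaCore M) (hx1 : x ≠ 1)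
    (hxM : ¬ Subgroup.centralizer ({x} : Set G) ≤ M) {q : ℕ} [Fact q.Prime]
    (hq : q ∣ orderOf x)
    (hNX : Subgroup.normalizer (Subgroup.zpowers (x ^ (orderOf x / q)) : Set G) ≤ N)
    (g : G) (hxg : x ∈ cj g M) :
    ∃ s ∈ sigmaCore N ⊓ Subgroup.centralizer ({x} : Set G), cj s M = cj g M := by
  have hqp : q.Prime := Fact.out
  have hD := analysis hG h30c hM hN hx hx1 hxM hq hNX
  have hM' : IsCoatom (cj g M) := isCoatom_map_conj g hM
  have hxσ' : x ∈ sigmaCore (cj g M) := by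
    have hZ : Subgroup.zpowers x ≤ sigmaCore (cj g M) := by
      apply le_sigmaCore_of_sigma_group hG hM' (Subgroup.zpowers_le.mpr hxg)
      intro p hp hpd
      haveI : Fact p.Prime := ⟨hp⟩
      apply mem_sigma_cj hM _ g
      apply mem_sigma_of_dvd_card_sigmaCore hG hM hp
      exact hpd.trans (Subgroup.card_dvd_of_le (Subgroup.zpowers_le.mpr hx))
    exact hZ (Subgroup.mem_zpowers x)
  have hxM'' : ¬ Subgroup.centralizer ({x} : Set G) ≤ cj g M := by
    intro h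
    exact hD.nconj g (hD.uniq _ hM' h).symm
  have hD' := analysis hG h30c hM' hN hxσ' hx1 hxM'' hq hNX
  obtain ⟨A', hA'MN, hA'e, hA'card⟩ := hD'.exA
  have hK : ∀ p : ℕ, p.Prime → p ∣ Nat.card ↥(cj g M ⊓ N) → p ∉ sigma N :=
    fun p hp hd => Cfsg.Agent.Lib.Helper19.BGCompl.compl_not_mem_sigma hG hN hD'.compl hp hd
  obtain ⟨n, hnN, hn⟩ := Cfsg.Agent.Lib.Helper19.BGCompl.compl_dominance hG hN hD.compl
    (inf_le_right : cj g M ⊓ N ≤ N) hK
  have hA'1 : A' ≤ cj n M := (hA'MN.trans hn).trans (cj_mono n inf_le_left)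
  have hA'2 : A' ≤ cj g M := hA'MN.trans inf_le_left
  have heq : cj n M = cj g M := by
    have hM₁c : IsCoatom (cj n M) := isCoatom_map_conj n hM
    have hqσ₁ : q ∈ sigma (cj n M) := mem_sigma_cj hM hD.qsigma n
    have hA'q : IsPGroup q A' := IsPGroup.of_card hA'card
    have hA'ne : A' ≠ ⊥ := by
      intro h
      rw [h, Subgroup.card_bot] at hA'card
      have : 1 < q ^ 2 := Nat.one_lt_pow (by norm_num) hqp.one_lt
      omega
    have h1 : cj g M = cj (g * n⁻¹) (cj n M) := by rw [cj_cj, inv_mul_cancel_right]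
    have h2 : cj (g * n⁻¹)⁻¹ A' ≤ cj n M := by
      rw [cj_le_iff, inv_inv, ← h1]
      exact hA'2
    obtain ⟨m, hm, c, hc, hmc⟩ :=
      (Cfsg.Agent.S1404.result hG (cj n M) hM₁c q hqσ₁ A' hA'q hA'ne hA'1).1 _ h2
    have hcM : c ∈ cj n M :=
      (Cfsg.Agent.S1416.result hG (cj n M) hM₁c q A' ⟨hA'1, hA'e, hA'card⟩).1 hc
    have h3 : (g * n⁻¹)⁻¹ ∈ cj n M := by
      rw [hmc]
      exact (cj n M).mul_mem hm hcM
    have h4 : g * n⁻¹ ∈ cj n M := by simpa using (cj n M).inv_mem h3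
    rw [h1, cj_eq_self_of_mem h4]
  obtain ⟨a, ha, b, hb, hnab⟩ := hD.compl.2.2.2 n⁻¹ (N.inv_mem hnN)
  have hn' : n = b⁻¹ * a⁻¹ := by rw [← mul_inv_rev, ← hnab, inv_inv]
  have hsσ : b⁻¹ ∈ sigmaCore N := (sigmaCore N).inv_mem hb
  have h5 : cj b⁻¹ M = cj g M := by
    rw [← heq, hn', ← cj_cj, cj_eq_self_of_mem (M.inv_mem ha.1)]
  have hxN : x ∈ N := hD.cent_le (self_mem_centralizer x)
  have hxD : x ∈ M ⊓ N := ⟨sigmaCore_le M hx, hxN⟩
  have hsN : b⁻¹ ∈ N := sigmaCore_le N hsσ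
  have h6 : (b⁻¹)⁻¹ * x * b⁻¹ ∈ M ⊓ N := by
    refine ⟨?_, N.mul_mem (N.mul_mem (N.inv_mem hsN) hxN) hsN⟩
    have : x ∈ cj b⁻¹ M := by rw [h5]; exact hxg
    exact mem_cj.mp this
  have h7 : x * b⁻¹ = b⁻¹ * x := commute_of_conj_mem hD.compl.2.2.1 hxN hxD hsσ h6
  exact ⟨b⁻¹, ⟨hsσ, mem_centralizer_singleton.mpr h7⟩, h5⟩

/-- **B & G, Theorem 14.4 (b)**, uniqueness. -/
theorem conj_unique (hG : IsMinSimpleOddOrder G) {M N : Subgroup G} (hM : IsCoatom M)
    (hdisj : sigmaCore N ⊓ M = ⊥) {r r' : G} (hr : r ∈ sigmaCore N) (hr' : r' ∈ sigmaCore N)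
    (h : cj r M = cj r' M) : r = r' := by
  have h1 : cj (r'⁻¹ * r) M = M := by rw [← cj_cj, h, cj_inv_cj]
  have h2 : r'⁻¹ * r ∈ M := mem_of_map_conj_eq_self hG hM h1
  have h3 : r'⁻¹ * r ∈ sigmaCore N ⊓ M :=
    ⟨(sigmaCore N).mul_mem ((sigmaCore N).inv_mem hr') hr, h2⟩
  rw [hdisj, Subgroup.mem_bot] at h3
  exact (inv_mul_eq_one.mp h3).symm

/-- the part of Theorem 14.4 about standard factorisations `N = K' U' N_σ`. -/
theorem decomposition_facts (hG : IsMinSimpleOddOrder G) {N : Subgroup G} (hN : IsCoatom N)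
    {x : G} (hxN : x ∈ N) (hxσ : x ∉ sigmaCore N)
    (hτ : ∀ p : ℕ, p.Prime → p ∣ orderOf x → p ∈ tau2 N) {K' U' : Subgroup G}
    (hKU : IsSigmaDecomposition N K' U') :
    U' ≠ ⊥ ∧ x ∈ U' ⊔ sigmaCore N := by
  have hE := Cfsg.Agent.Lib.Helper1.BGSigmaDecomp.isComplIn_UK hG hN hKU
  obtain ⟨e, he, s, hs, hxes⟩ := hE.2.2.2 x hxN
  have heN : e ∈ N := hE.1 he
  have he_norm : e ∈ Subgroup.normalizer (sigmaCore N : Set G) := le_normalizer_sigmaCore N heN
  obtain ⟨s', hs', hpow⟩ := exists_pow_mul_eq he_norm hs (orderOf x)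
  have hem : e ^ orderOf x = 1 := by
    have h1 : e ^ orderOf x ∈ (U' ⊔ K') ⊓ sigmaCore N := by
      refine ⟨(U' ⊔ K').pow_mem he _, ?_⟩
      rw [← hxes, pow_orderOf_eq_one] at hpow
      have h2 : e ^ orderOf x = s'⁻¹ := eq_inv_of_mul_eq_one_left hpow.symm
      rw [h2]
      exact (sigmaCore N).inv_mem hs'
    rw [hE.2.2.1] at h1
    exact Subgroup.mem_bot.mp h1
  have hKnorm : K' ≤ Subgroup.normalizer (U' : Set G) := hKU.normal
  obtain ⟨u, hu, k, hk, heuk⟩ := exists_mul_of_mem_sup_of_le_normalizer hKnorm he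
  have hk_norm : k ∈ Subgroup.normalizer (U' : Set G) := hKnorm hk
  have hu' : k⁻¹ * u * k ∈ U' := conj_mem_of_mem_normalizer' hk_norm hu
  obtain ⟨u'', hu'', hpow2⟩ := exists_pow_mul_eq hk_norm hu' (orderOf x)
  have hkm : k ^ orderOf x = 1 := by
    have h1 : k ^ orderOf x ∈ U' ⊓ K' := by
      refine ⟨?_, K'.pow_mem hk _⟩
      have h2 : k * (k⁻¹ * u * k) = e := by rw [heuk]; group
      rw [h2, hem] at hpow2
      have h3 : k ^ orderOf x = u''⁻¹ := eq_inv_of_mul_eq_one_left hpow2.symm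
      rw [h3]
      exact U'.inv_mem hu''
    rw [Cfsg.Agent.Lib.Helper1.BGSigmaDecomp.U_inf_K hKU] at h1
    exact Subgroup.mem_bot.mp h1
  have hk1 : k = 1 := by
    have hd1 : orderOf k ∣ orderOf x := orderOf_dvd_of_pow_eq_one hkm
    have hd2 : orderOf k ∣ Nat.card K' := by
      have := orderOf_dvd_natCard (⟨k, hk⟩ : ↥K')
      rwa [Subgroup.orderOf_mk] at this
    have hcop : (orderOf x).Coprime (Nat.card K') := by
      apply Nat.coprime_of_dvd
      intro p hp hd1 hd2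
      exact not_mem_kappa_of_mem_tau2 (hτ p hp hd1) (hKU.hall.2.1 p hp hd2)
    have : orderOf k = 1 := Nat.eq_one_of_dvd_coprimes hcop hd1 hd2
    exact orderOf_eq_one_iff.mp this
  have heu : e = u := by rw [heuk, hk1, mul_one]
  constructor
  · intro hU
    apply hxσ
    have hu1 : u = 1 := by
      rw [hU] at hu
      exact Subgroup.mem_bot.mp hu
    rw [hxes, heu, hu1, one_mul]
    exact hs
  · rw [hxes, heu]
    exact Subgroup.mul_mem _ (Subgroup.mem_sup_left hu) (Subgroup.mem_sup_right hs)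

/-- **B & G, Theorem 14.4** (row S1375), relative to `H30c`. -/
theorem s1375_of (hG : IsMinSimpleOddOrder G) (h30c : H30c G)
    (M : Subgroup G) (hM : IsCoatom M) (x : G) (hx : x ∈ Cfsg.sigmaCore M) (hx1 : x ≠ 1)
    (hxM : ¬ Subgroup.centralizer ({x} : Set G) ≤ M) :
    ∃ N : Subgroup G, (IsCoatom N ∧ Subgroup.centralizer ({x} : Set G) ≤ N) ∧ (∀ L : Subgroup G, IsCoatom L → Subgroup.centralizer ({x} : Set G) ≤ L → L = N) ∧
        Cfsg.sigmaCore N = Cfsg.fittingHallOf N ∧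
        Subgroup.centralizer ({x} : Set G) ≤ Subgroup.normalizer ((Cfsg.sigmaCore N ⊓ Subgroup.centralizer ({x} : Set G) : Subgroup G) : Set G) ∧
        Cfsg.IsComplIn (M ⊓ Subgroup.centralizer ({x} : Set G)) (Cfsg.sigmaCore N ⊓ Subgroup.centralizer ({x} : Set G)) (Subgroup.centralizer ({x} : Set G)) ∧
        Cfsg.IsComplIn (M ⊓ N) (Cfsg.sigmaCore N) N ∧
        ∀ K' U' : Subgroup G, Cfsg.IsSigmaDecomposition N K' U' → U' ≠ ⊥ ∧ x ∈ Cfsg.sigmaA N U' ∧ x ∉ Cfsg.sigmaCore N := by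
  have ho : orderOf x ≠ 1 := fun h => hx1 (orderOf_eq_one_iff.mp h)
  obtain ⟨q, hqp, hq⟩ := Nat.exists_prime_and_dvd ho
  haveI : Fact q.Prime := ⟨hqp⟩
  obtain ⟨N, hN, hNX⟩ := exists_coatom_normalizer hG hq
  have hD := analysis hG h30c hM hN hx hx1 hxM hq hNX
  have hxN : x ∈ N := hD.cent_le (self_mem_centralizer x)
  have hxσN : x ∉ sigmaCore N := by
    intro h
    have h1 : x ∈ sigmaCore N ⊓ M := ⟨h, sigmaCore_le M hx⟩
    rw [hD.disj] at h1
    exact hx1 (Subgroup.mem_bot.mp h1)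
  refine ⟨N, ⟨hN, hD.cent_le⟩, hD.uniq,
    (Cfsg.Agent.Lib.Helper1.BGFthm.fittingHallOf_eq_of_nilpotent hG hN hD.nil).symm,
    le_normalizer_inf (hD.cent_le.trans (le_normalizer_sigmaCore N)) Subgroup.le_normalizer,
    hD.complC, hD.compl, ?_⟩
  intro K' U' hKU
  obtain ⟨hU, hxU⟩ := decomposition_facts hG hN hxN hxσN hD.alltau2 hKU
  exact ⟨hU, ⟨hD.hat, hxU⟩, hxσN⟩

/-- `C_G(x) ≤ M` and `x ∈ M^g` force `M^g = M`. -/
theorem conj_eq_self_of_centralizer_le (hG : IsMinSimpleOddOrder G) (h30c : H30c G)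
    {M : Subgroup G} (hM : IsCoatom M) {x : G} (hx : x ∈ sigmaCore M) (hx1 : x ≠ 1)
    (hxM : Subgroup.centralizer ({x} : Set G) ≤ M) (g : G) (hxg : x ∈ cj g M) :
    cj g M = M := by
  have ho : orderOf x ≠ 1 := fun h => hx1 (orderOf_eq_one_iff.mp h)
  obtain ⟨q, hqp, hq⟩ := Nat.exists_prime_and_dvd ho
  haveI : Fact q.Prime := ⟨hqp⟩
  have hyq : orderOf (x ^ (orderOf x / q)) = q := orderOf_pow_div hq
  have hyσ : x ^ (orderOf x / q) ∈ sigmaCore M := (sigmaCore M).pow_mem hx _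
  have hy1 : x ^ (orderOf x / q) ≠ 1 := by
    intro h
    rw [h, orderOf_one] at hyq
    exact hqp.one_lt.ne hyq
  have hyg : x ^ (orderOf x / q) ∈ cj g M := (cj g M).pow_mem hxg _
  have hYcard : Nat.card (Subgroup.zpowers (x ^ (orderOf x / q))) = q := by
    rw [Nat.card_zpowers, hyq]
  have hYq : IsPGroup q (Subgroup.zpowers (x ^ (orderOf x / q))) :=
    IsPGroup.of_card (n := 1) (by rw [hYcard, pow_one])
  have hY1 : Subgroup.zpowers (x ^ (orderOf x / q)) ≠ ⊥ := by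
    intro h
    rw [h, Subgroup.card_bot] at hYcard
    exact hqp.one_lt.ne hYcard
  have hYσ : Subgroup.zpowers (x ^ (orderOf x / q)) ≤ sigmaCore M := Subgroup.zpowers_le.mpr hyσ
  have hYM : Subgroup.zpowers (x ^ (orderOf x / q)) ≤ M := hYσ.trans (sigmaCore_le M)
  have hqσM : q ∈ sigma M :=
    mem_sigma_of_dvd_card_sigmaCore hG hM hqp (by rw [← hYcard]; exact Subgroup.card_dvd_of_le hYσ)
  by_cases hCy : Subgroup.centralizer ({x ^ (orderOf x / q)} : Set G) ≤ M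
  · have h2 : cj g⁻¹ (Subgroup.zpowers (x ^ (orderOf x / q))) ≤ M := by
      rw [cj_le_iff, inv_inv]
      exact Subgroup.zpowers_le.mpr hyg
    obtain ⟨m, hm, c, hc, hmc⟩ :=
      (Cfsg.Agent.S1404.result hG M hM q hqσM _ hYq hY1 hYM).1 g⁻¹ h2
    have hcM : c ∈ M :=
      hCy (Subgroup.centralizer_le
        (Set.singleton_subset_iff.mpr (Subgroup.mem_zpowers (x ^ (orderOf x / q)))) hc)
    have h3 : g⁻¹ ∈ M := by
      rw [hmc]
      exact M.mul_mem hm hcM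
    have h4 : g ∈ M := by simpa using M.inv_mem h3
    exact cj_eq_self_of_mem h4
  · have hq' : q ∣ orderOf (x ^ (orderOf x / q)) := by rw [hyq]
    obtain ⟨N, hN, hNX⟩ := exists_coatom_normalizer hG hq'
    have hDy := analysis hG h30c hM hN hyσ hy1 hCy hq' hNX
    obtain ⟨s, hs, hsg⟩ := exists_conj_eq hG h30c hM hN hyσ hy1 hCy hq' hNX g hyg
    have hxCy : x ∈ Subgroup.centralizer ({x ^ (orderOf x / q)} : Set G) :=
      mem_centralizer_singleton.mpr ((Commute.refl x).pow_left _).eq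
    have hxN : x ∈ N := hDy.cent_le hxCy
    have hxD : x ∈ M ⊓ N := ⟨sigmaCore_le M hx, hxN⟩
    have hsN : s ∈ N := sigmaCore_le N hs.1
    have h6 : s⁻¹ * x * s ∈ M ⊓ N := by
      refine ⟨?_, N.mul_mem (N.mul_mem (N.inv_mem hsN) hxN) hsN⟩
      have : x ∈ cj s M := by rw [hsg]; exact hxg
      exact mem_cj.mp this
    have h7 : x * s = s * x := commute_of_conj_mem hDy.compl.2.2.1 hxN hxD hs.1 h6
    have hsM : s ∈ M := hxM (mem_centralizer_singleton.mpr h7)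
    have hs1 : s = 1 := by
      have h8 : s ∈ sigmaCore N ⊓ M := ⟨hs.1, hsM⟩
      rw [hDy.disj] at h8
      exact Subgroup.mem_bot.mp h8
    rw [← hsg, hs1, cj_one]

/-- **B & G, Theorem 14.4** (row S1374), relative to `H30c`. -/
theorem s1374_of (hG : IsMinSimpleOddOrder G) (h30c : H30c G)
    (M : Subgroup G) (hM : IsCoatom M) (x : G) (hx : x ∈ Cfsg.sigmaCore M) (hx1 : x ≠ 1) :
    (Nat.card ↥(M ⊓ Subgroup.centralizer ({x} : Set G))).Coprime ((M ⊓ Subgroup.centralizer ({x} : Set G)).relIndex (Subgroup.centralizer ({x} : Set G))) ∧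
      ∃ R : Subgroup G, Subgroup.centralizer ({x} : Set G) ≤ Subgroup.normalizer (R : Set G) ∧ Cfsg.IsComplIn (M ⊓ Subgroup.centralizer ({x} : Set G)) R (Subgroup.centralizer ({x} : Set G)) ∧
        ∀ g : G, x ∈ M.map (MulAut.conj g).toMonoidHom → ∃! r : G, r ∈ R ∧ M.map (MulAut.conj r).toMonoidHom = M.map (MulAut.conj g).toMonoidHom := by
  by_cases hxM : Subgroup.centralizer ({x} : Set G) ≤ M
  · have hrel : (M ⊓ Subgroup.centralizer ({x} : Set G)).relIndex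
        (Subgroup.centralizer ({x} : Set G)) = 1 :=
      Subgroup.relIndex_eq_one.mpr (le_inf hxM le_rfl)
    refine ⟨?_, ⊥, ?_, ?_, ?_⟩
    · rw [hrel]
      exact Nat.coprime_one_right _
    · apply le_normalizer_of_conj_mem
      intro n _ z hz
      rw [Subgroup.mem_bot] at hz ⊢
      rw [hz]
      group
    · refine ⟨inf_le_right, bot_le, inf_bot_eq _, ?_⟩
      intro c hc
      exact ⟨c, ⟨hxM hc, hc⟩, 1, Subgroup.one_mem _, (mul_one c).symm⟩
    · intro g hxg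
      have key : cj g M = M := conj_eq_self_of_centralizer_le hG h30c hM hx hx1 hxM g hxg
      refine ⟨1, ⟨Subgroup.one_mem _, ?_⟩, ?_⟩
      · show cj 1 M = cj g M
        rw [cj_one, key]
      · rintro r ⟨hr, -⟩
        exact Subgroup.mem_bot.mp hr
  · have ho : orderOf x ≠ 1 := fun h => hx1 (orderOf_eq_one_iff.mp h)
    obtain ⟨q, hqp, hq⟩ := Nat.exists_prime_and_dvd ho
    haveI : Fact q.Prime := ⟨hqp⟩
    obtain ⟨N, hN, hNX⟩ := exists_coatom_normalizer hG hq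
    have hD := analysis hG h30c hM hN hx hx1 hxM hq hNX
    have hrel : (M ⊓ Subgroup.centralizer ({x} : Set G)).relIndex
        (Subgroup.centralizer ({x} : Set G)) =
        Nat.card ↥(sigmaCore N ⊓ Subgroup.centralizer ({x} : Set G)) := by
      have h1 := Cfsg.Agent.Lib.Helper12.card_mul_relIndex_eq
        (inf_le_right : M ⊓ Subgroup.centralizer ({x} : Set G) ≤ Subgroup.centralizer ({x} : Set G))
      rw [Cfsg.Agent.Lib.Helper10.IsComplIn.card_eq hD.complC] at h1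
      exact Nat.eq_of_mul_eq_mul_left Nat.card_pos h1
    refine ⟨?_, sigmaCore N ⊓ Subgroup.centralizer ({x} : Set G),
      le_normalizer_inf (hD.cent_le.trans (le_normalizer_sigmaCore N)) Subgroup.le_normalizer,
      hD.complC, ?_⟩
    · rw [hrel]
      apply Nat.coprime_of_dvd
      intro p hp hd1 hd2
      have h1 : p ∣ Nat.card ↥(M ⊓ N) :=
        hd1.trans (Subgroup.card_dvd_of_le (inf_le_inf_left M hD.cent_le))
      have h2 : p ∈ sigma N := mem_sigma_of_dvd_card_sigmaCore hG hN hp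
        (hd2.trans (Subgroup.card_dvd_of_le inf_le_left))
      exact Cfsg.Agent.Lib.Helper19.BGCompl.compl_not_mem_sigma hG hN hD.compl hp h1 h2
    · intro g hxg
      obtain ⟨s, hs, hsg⟩ := exists_conj_eq hG h30c hM hN hx hx1 hxM hq hNX g hxg
      refine ⟨s, ⟨hs, hsg⟩, ?_⟩
      rintro r' ⟨hr', hr'g⟩
      exact conj_unique hG hM hD.disj hr'.1 hs.1 (hr'g.trans hsg.symm)

end Cfsg.Agent.Lib.Helper2.BG14T
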