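import Mathlib
import Cfsg.Prelude
import Cfsg.Agent.Lib.Helper2.BG14T

/-!
# Bender--Glauberman, Section 14: the cosets `x R(x)` (helper2)

Row S1433, relative to the hypothesis `H30c` (third part of row S1430).
-/

set_option autoImplicit false
open Cfsg
open Cfsg.Agent.Lib.Helper10.BG
open Cfsg.Agent.Lib.Helper9.BGExc
open Cfsg.Agent.Lib.Helper11.BG14 (H30c)

namespace Cfsg.Agent.Lib.Helper2.BG14T

variable {G : Type*} [Group G]

theorem supportR_eq_of {M N : Subgroup G} {x : G}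
    (hxM : ¬ Subgroup.centralizer ({x} : Set G) ≤ M) (hN : IsCoatom N)
    (hCN : Subgroup.centralizer ({x} : Set G) ≤ N)
    (huniq : ∀ L : Subgroup G, IsCoatom L → Subgroup.centralizer ({x} : Set G) ≤ L → L = N) :
    supportR M x = fittingHallOf N ⊓ Subgroup.centralizer ({x} : Set G) := by
  have h : ¬ Subgroup.centralizer ({x} : Set G) ≤ M ∧
      ∃! L : Subgroup G, IsCoatom L ∧ Subgroup.centralizer ({x} : Set G) ≤ L :=
    ⟨hxM, N, ⟨hN, hCN⟩, fun L hL => huniq L hL.1 hL.2⟩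
  unfold supportR
  rw [dif_pos h]
  have h2 := Classical.choose_spec h.2.exists
  rw [huniq _ h2.1 h2.2]

theorem supportR_eq_bot {M : Subgroup G} {x : G}
    (hxM : Subgroup.centralizer ({x} : Set G) ≤ M) : supportR M x = ⊥ := by
  unfold supportR
  rw [dif_neg]
  exact fun h => h.1 hxM

theorem commute_of_mem_zpowers {z a b : G} (ha : a ∈ Subgroup.zpowers z)
    (hb : b ∈ Subgroup.zpowers z) : Commute a b := by
  obtain ⟨i, rfl⟩ := Subgroup.mem_zpowers_iff.mp ha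
  obtain ⟨j, rfl⟩ := Subgroup.mem_zpowers_iff.mp hb
  exact (Commute.refl z).zpow_zpow i j

variable [Finite G]

theorem mem_zpowers_pow_of_coprime (a : G) {k : ℕ} (h : (orderOf a).Coprime k) :
    a ∈ Subgroup.zpowers (a ^ k) := by
  have hle : Subgroup.zpowers (a ^ k) ≤ Subgroup.zpowers a :=
    Subgroup.zpowers_le.mpr (Subgroup.pow_mem _ (Subgroup.mem_zpowers a) k)
  have hcard : Nat.card (Subgroup.zpowers a) ≤ Nat.card (Subgroup.zpowers (a ^ k)) := by
    rw [Nat.card_zpowers, Nat.card_zpowers, Nat.Coprime.orderOf_pow h]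
  have h1 := Subgroup.eq_of_le_of_card_ge hle hcard
  rw [h1]
  exact Subgroup.mem_zpowers a

theorem mem_zpowers_mul_of_coprime {a b : G} (hab : Commute a b)
    (hcop : (orderOf a).Coprime (orderOf b)) : a ∈ Subgroup.zpowers (a * b) := by
  have h1 : (a * b) ^ orderOf b = a ^ orderOf b := by
    rw [hab.mul_pow, pow_orderOf_eq_one, mul_one]
  have h2 : a ^ orderOf b ∈ Subgroup.zpowers (a * b) := by
    rw [← h1]
    exact Subgroup.pow_mem _ (Subgroup.mem_zpowers _) _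
  exact (Subgroup.zpowers_le.mpr h2) (mem_zpowers_pow_of_coprime a hcop)

theorem mem_zpowers_mul_of_coprime' {a b : G} (hab : Commute a b)
    (hcop : (orderOf a).Coprime (orderOf b)) : b ∈ Subgroup.zpowers (a * b) := by
  rw [hab.eq]
  exact mem_zpowers_mul_of_coprime hab.symm hcop.symm

/-- the two possibilities for `R(x)`. -/
theorem supportR_cases (hG : IsMinSimpleOddOrder G) (h30c : H30c G) {M : Subgroup G}
    (hM : IsCoatom M) {x : G} (hx : x ∈ sigmaCore M) (hx1 : x ≠ 1) :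
    (Subgroup.centralizer ({x} : Set G) ≤ M ∧ supportR M x = ⊥) ∨
    (¬ Subgroup.centralizer ({x} : Set G) ≤ M ∧ ∃ (N : Subgroup G) (q : ℕ), q.Prime ∧
      q ∣ orderOf x ∧ IsCoatom N ∧
      Subgroup.normalizer (Subgroup.zpowers (x ^ (orderOf x / q)) : Set G) ≤ N ∧ Data M N x q ∧
      supportR M x = sigmaCore N ⊓ Subgroup.centralizer ({x} : Set G)) := by
  by_cases hxM : Subgroup.centralizer ({x} : Set G) ≤ M
  · exact Or.inl ⟨hxM, supportR_eq_bot hxM⟩
  · right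
    have ho : orderOf x ≠ 1 := fun h => hx1 (orderOf_eq_one_iff.mp h)
    obtain ⟨q, hqp, hq⟩ := Nat.exists_prime_and_dvd ho
    haveI : Fact q.Prime := ⟨hqp⟩
    obtain ⟨N, hN, hNX⟩ := exists_coatom_normalizer hG hq
    have hD := analysis hG h30c hM hN hx hx1 hxM hq hNX
    refine ⟨hxM, N, q, hqp, hq, hN, hNX, hD, ?_⟩
    rw [supportR_eq_of hxM hN hD.cent_le hD.uniq,
      Cfsg.Agent.Lib.Helper1.BGFthm.fittingHallOf_eq_of_nilpotent hG hN hD.nil]

/-- elements of `R(x)` commute with `x` and have order coprime to that of `x`. -/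
theorem commute_coprime (hG : IsMinSimpleOddOrder G) (h30c : H30c G) {M : Subgroup G}
    (hM : IsCoatom M) {x r : G} (hx : x ∈ sigmaCore M) (hx1 : x ≠ 1) (hr : r ∈ supportR M x) :
    Commute x r ∧ (orderOf x).Coprime (orderOf r) := by
  rcases supportR_cases hG h30c hM hx hx1 with ⟨-, h⟩ | ⟨-, N, q, hqp, hq, hN, hNX, hD, h⟩
  · rw [h, Subgroup.mem_bot] at hr
    subst hr
    exact ⟨Commute.one_right x, by rw [orderOf_one]; exact Nat.coprime_one_right _⟩
  · rw [h] at hr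
    refine ⟨mem_centralizer_singleton.mp hr.2, ?_⟩
    apply Nat.coprime_of_dvd
    intro p hp hd1 hd2
    have h1 : p ∈ tau2 N := hD.alltau2 p hp hd1
    apply h1.2.1
    apply mem_sigma_of_dvd_card_sigmaCore hG hN hp
    have := orderOf_dvd_natCard (⟨r, hr.1⟩ : ↥(sigmaCore N))
    rw [Subgroup.orderOf_mk] at this
    exact hd2.trans this

theorem mem_sigma_of_dvd_orderOf (hG : IsMinSimpleOddOrder G) {M : Subgroup G}
    (hM : IsCoatom M) {x : G} (hx : x ∈ sigmaCore M) {p : ℕ} (hp : p.Prime)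
    (hd : p ∣ orderOf x) : p ∈ sigma M := by
  apply mem_sigma_of_dvd_card_sigmaCore hG hM hp
  have := orderOf_dvd_natCard (⟨x, hx⟩ : ↥(sigmaCore M))
  rw [Subgroup.orderOf_mk] at this
  exact hd.trans this

/-- a `σ(M)`-element of a conjugate `L` of `M` lies in `L_σ`. -/
theorem mem_sigmaCore_of_conj (hG : IsMinSimpleOddOrder G) {M L : Subgroup G}
    (hM : IsCoatom M) (hL : IsCoatom L) {g : G} (hg : L = cj g M) {x : G}
    (hx : x ∈ sigmaCore M) (hxL : x ∈ L) : x ∈ sigmaCore L := by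
  have hZ : Subgroup.zpowers x ≤ sigmaCore L := by
    apply le_sigmaCore_of_sigma_group hG hL (Subgroup.zpowers_le.mpr hxL)
    intro p hp hpd
    haveI : Fact p.Prime := ⟨hp⟩
    rw [hg]
    apply mem_sigma_cj hM _ g
    rw [Nat.card_zpowers] at hpd
    exact mem_sigma_of_dvd_orderOf hG hM hx hp hpd
  exact hZ (Subgroup.mem_zpowers x)

/-- the cross case: no prime divides both `o(x)` and `o(s)` when `x r = y s`. -/
theorem cross (hG : IsMinSimpleOddOrder G) (h30c : H30c G) {M N : Subgroup G}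
    (hM : IsCoatom M) (hN : IsCoatom N) {x y r s : G} (hx : x ∈ sigmaCore M)
    (hy : y ∈ sigmaCore N) (hx1 : x ≠ 1) (hy1 : y ≠ 1) (hr : r ∈ supportR M x)
    (hs : s ∈ supportR N y) (hz : x * r = y * s) {p : ℕ} (hp : p.Prime)
    (hpx : p ∣ orderOf x) (hps : p ∣ orderOf s) : False := by
  obtain ⟨hxr, hcx⟩ := commute_coprime hG h30c hM hx hx1 hr
  obtain ⟨hys, hcy⟩ := commute_coprime hG h30c hN hy hy1 hs
  have hxz : x ∈ Subgroup.zpowers (x * r) := mem_zpowers_mul_of_coprime hxr hcx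
  have hrz : r ∈ Subgroup.zpowers (x * r) := mem_zpowers_mul_of_coprime' hxr hcx
  have hyz : y ∈ Subgroup.zpowers (x * r) := by
    rw [hz]; exact mem_zpowers_mul_of_coprime hys hcy
  have hsz : s ∈ Subgroup.zpowers (x * r) := by
    rw [hz]; exact mem_zpowers_mul_of_coprime' hys hcy
  have hs1 : s ≠ 1 := by
    intro h
    rw [h, orderOf_one] at hps
    exact hp.one_lt.ne' (Nat.dvd_one.mp hps)
  have hxy : Commute x y := commute_of_mem_zpowers hxz hyz
  rcases supportR_cases hG h30c hN hy hy1 with ⟨-, h⟩ | ⟨-, Ny, qy, hqyp, hqy, hNy, hNXy, hDy, h⟩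
  · rw [h, Subgroup.mem_bot] at hs
    exact hs1 hs
  rw [h] at hs
  have hpM : p ∈ sigma M := mem_sigma_of_dvd_orderOf hG hM hx hp hpx
  have hpNy : p ∈ sigma Ny := mem_sigma_of_dvd_orderOf hG hNy hs.1 hp hps
  obtain ⟨g, hg⟩ := (Cfsg.Agent.S1378.result hG).2 M Ny hM hNy ⟨p, hpM, hpNy⟩
  have hoy : orderOf y ≠ 1 := fun h => hy1 (orderOf_eq_one_iff.mp h)
  obtain ⟨p', hp', hp'y⟩ := Nat.exists_prime_and_dvd hoy
  have hp'N : p' ∈ sigma N := mem_sigma_of_dvd_orderOf hG hN hy hp' hp'y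
  have hdvd : orderOf y ∣ orderOf x * orderOf r :=
    ((orderOf_dvd_of_mem_zpowers hyz).trans hxr.orderOf_mul_dvd_lcm).trans (Nat.lcm_dvd_mul _ _)
  rcases (Nat.Prime.dvd_mul hp').mp (hp'y.trans hdvd) with hd | hd
  · -- `p' ∈ σ(M) ∩ σ(N)`
    have hp'M : p' ∈ sigma M := mem_sigma_of_dvd_orderOf hG hM hx hp' hd
    obtain ⟨h', hh'⟩ := (Cfsg.Agent.S1378.result hG).2 M N hM hN ⟨p', hp'M, hp'N⟩
    apply hDy.nconj (g * h'⁻¹)
    have h1 : M = cj h'⁻¹ N := by
      have h2 : N = cj h' M := hh'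
      rw [h2, cj_inv_cj]
    have h3 : Ny = cj g M := hg
    show Ny = cj (g * h'⁻¹) N
    rw [← cj_cj, ← h1]
    exact h3
  · -- `p' ∣ o(r)`
    have hr1 : r ≠ 1 := by
      intro h
      rw [h, orderOf_one] at hd
      exact hp'.one_lt.ne' (Nat.dvd_one.mp hd)
    rcases supportR_cases hG h30c hM hx hx1 with
      ⟨-, h⟩ | ⟨-, Nx, qx, hqxp, hqx, hNx, hNXx, hDx, h⟩
    · rw [h, Subgroup.mem_bot] at hr
      exact hr1 hr
    rw [h] at hr
    haveI : Fact qx.Prime := ⟨hqxp⟩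
    have hp'Nx : p' ∈ sigma Nx := mem_sigma_of_dvd_orderOf hG hNx hr.1 hp' hd
    obtain ⟨h', hh'⟩ := (Cfsg.Agent.S1378.result hG).2 N Nx hN hNx ⟨p', hp'N, hp'Nx⟩
    have hyNx : y ∈ Nx := hDx.cent_le (mem_centralizer_singleton.mpr hxy.eq)
    have hyσ : y ∈ sigmaCore Nx := mem_sigmaCore_of_conj hG hN hNx hh' hy hyNx
    have hxNy : x ∈ Ny := hDy.cent_le (mem_centralizer_singleton.mpr hxy.symm.eq)
    have hxσ : x ∈ sigmaCore Ny := mem_sigmaCore_of_conj hG hM hNy hg hx hxNy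
    have hCNy : ¬ Subgroup.centralizer ({x} : Set G) ≤ Ny := by
      intro hle
      have h1 : Ny = Nx := hDx.uniq Ny hNy hle
      exact hDx.nconj g (h1 ▸ hg)
    have hD' := analysis hG h30c hNy hNx hxσ hx1 hCNy hqx hNXx
    have hyNy : y ∈ Ny := hDy.cent_le (self_mem_centralizer y)
    have h2 : y ∈ sigmaCore Nx ⊓ Ny := ⟨hyσ, hyNy⟩
    rw [hD'.disj, Subgroup.mem_bot] at h2
    exact hy1 h2

/-- **row S1433**, relative to `H30c`. -/
theorem s1433_of (hG : IsMinSimpleOddOrder G) (h30c : H30c G)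
    (M N : Subgroup G) (hM : IsCoatom M) (hN : IsCoatom N) (x y : G) (hx : x ∈ Cfsg.sigmaCore M) (hy : y ∈ Cfsg.sigmaCore N)
    (hx1 : x ≠ 1) (hy1 : y ≠ 1) (hxy : x ≠ y) :
    ∀ r ∈ Cfsg.supportR M x, ∀ s ∈ Cfsg.supportR N y, x * r ≠ y * s := by
  intro r hr s hs hz
  apply hxy
  obtain ⟨hxr, hcx⟩ := commute_coprime hG h30c hM hx hx1 hr
  obtain ⟨hys, hcy⟩ := commute_coprime hG h30c hN hy hy1 hs
  have hxz : x ∈ Subgroup.zpowers (x * r) := mem_zpowers_mul_of_coprime hxr hcx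
  have hrz : r ∈ Subgroup.zpowers (x * r) := mem_zpowers_mul_of_coprime' hxr hcx
  have hyz : y ∈ Subgroup.zpowers (x * r) := by
    rw [hz]; exact mem_zpowers_mul_of_coprime hys hcy
  have hsz : s ∈ Subgroup.zpowers (x * r) := by
    rw [hz]; exact mem_zpowers_mul_of_coprime' hys hcy
  have hc1 : (orderOf x).Coprime (orderOf s) := by
    apply Nat.coprime_of_dvd
    intro p hp hd1 hd2
    exact cross hG h30c hM hN hx hy hx1 hy1 hr hs hz hp hd1 hd2
  have hc2 : (orderOf y).Coprime (orderOf r) := by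
    apply Nat.coprime_of_dvd
    intro p hp hd1 hd2
    exact cross hG h30c hN hM hy hx hy1 hx1 hs hr hz.symm hp hd1 hd2
  have hxy' : Commute x y := commute_of_mem_zpowers hxz hyz
  have hsr : Commute s r := commute_of_mem_zpowers hsz hrz
  have hyr : Commute y r := commute_of_mem_zpowers hyz hrz
  -- `x y⁻¹ = s r⁻¹`
  have hw : x * y⁻¹ = s * r⁻¹ := by
    have h1 : x = y * s * r⁻¹ := by rw [← hz]; group
    rw [h1]
    have h2 : y * s * r⁻¹ * y⁻¹ = y * (s * r⁻¹) * y⁻¹ := by group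
    rw [h2]
    have h3 : Commute y (s * r⁻¹) := hys.mul_right hyr.inv_right
    rw [h3.eq]
    group
  have hd1 : orderOf (x * y⁻¹) ∣ orderOf x * orderOf y := by
    have := (hxy'.inv_right).orderOf_mul_dvd_lcm
    rw [orderOf_inv] at this
    exact this.trans (Nat.lcm_dvd_mul _ _)
  have hd2 : orderOf (x * y⁻¹) ∣ orderOf s * orderOf r := by
    rw [hw]
    have := (hsr.inv_right).orderOf_mul_dvd_lcm
    rw [orderOf_inv] at this
    exact this.trans (Nat.lcm_dvd_mul _ _)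
  have hcop : (orderOf x * orderOf y).Coprime (orderOf s * orderOf r) :=
    Nat.Coprime.mul_left (Nat.Coprime.mul_right hc1 hcx) (Nat.Coprime.mul_right hcy hc2)
  have h1 : orderOf (x * y⁻¹) = 1 := Nat.eq_one_of_dvd_coprimes hcop hd1 hd2
  exact mul_inv_eq_one.mp (orderOf_eq_one_iff.mp h1)

end Cfsg.Agent.Lib.Helper2.BG14T
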