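import Mathlib
import Cfsg.Prelude
import Cfsg.Agent.Lib.Helper2.BG14V

/-!
# Bender--Glauberman, Section 14: the cardinality of `M̃` (helper2)

Row S1377, relative to the hypothesis `H30c` (third part of row S1430).
-/

set_option autoImplicit false
open Cfsg
open Cfsg.Agent.Lib.Helper10.BG
open Cfsg.Agent.Lib.Helper9.BGExc
open Cfsg.Agent.Lib.Helper11.BG14 (H30c)

namespace Cfsg.Agent.Lib.Helper2.BG14T

/-- double counting over the fibres of two maps to a common finite type. -/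
theorem card_eq_mul_of_fibers {α β γ : Type*} [Finite α] [Finite β] [Fintype γ] (c : α → γ)
    (ρ : β → γ → Prop) (hρ : ∀ t ξ ξ', ρ t ξ → ρ t ξ' → ξ = ξ') (n : ℕ)
    (h : ∀ ξ : γ, Nat.card {p : α // c p = ξ} = n * Nat.card {t : β // ρ t ξ}) :
    Nat.card α = n * Nat.card {t : β // ∃ ξ, ρ t ξ} := by
  have h1 : Nat.card α = ∑ ξ : γ, Nat.card {p : α // c p = ξ} := by
    rw [← Nat.card_sigma]
    exact Nat.card_congr (Equiv.sigmaFiberEquiv c).symm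
  have h2 : Nat.card {t : β // ∃ ξ, ρ t ξ} = ∑ ξ : γ, Nat.card {t : β // ρ t ξ} := by
    rw [← Nat.card_sigma]
    apply Nat.card_congr
    symm
    refine Equiv.ofBijective
      (fun z : (Σ ξ : γ, {t : β // ρ t ξ}) => (⟨z.2.1, z.1, z.2.2⟩ : {t : β // ∃ ξ, ρ t ξ}))
      ⟨?_, ?_⟩
    · rintro ⟨ξ, t, ht⟩ ⟨ξ', t', ht'⟩ heq
      have h3 : t = t' := congrArg Subtype.val heq
      subst h3
      have h4 : ξ = ξ' := hρ t ξ ξ' ht ht'
      subst h4
      rfl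
    · rintro ⟨t, ξ, hξ⟩
      exact ⟨⟨ξ, t, hξ⟩, rfl⟩
  rw [h1, h2, Finset.mul_sum]
  exact Finset.sum_congr rfl (fun ξ _ => h ξ)

variable {G : Type*} [Group G]

theorem centralizer_singleton_conj (g a : G) :
    Subgroup.centralizer ({g * a * g⁻¹} : Set G) = cj g (Subgroup.centralizer ({a} : Set G)) := by
  ext c
  rw [mem_cj, mem_centralizer_singleton, mem_centralizer_singleton]
  constructor
  · intro h
    calc a * (g⁻¹ * c * g) = g⁻¹ * (g * a * g⁻¹ * c) * g := by group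
      _ = g⁻¹ * (c * (g * a * g⁻¹)) * g := by rw [h]
      _ = g⁻¹ * c * g * a := by group
  · intro h
    calc g * a * g⁻¹ * c = g * (a * (g⁻¹ * c * g)) * g⁻¹ := by group
      _ = g * ((g⁻¹ * c * g) * a) * g⁻¹ := by rw [h]
      _ = c * (g * a * g⁻¹) := by group

variable [Finite G]

theorem cj_sigmaCore_le (hG : IsMinSimpleOddOrder G) {N : Subgroup G} (hN : IsCoatom N) (g : G) :
    cj g (sigmaCore N) ≤ sigmaCore (cj g N) := by
  apply le_sigmaCore_of_sigma_group hG (isCoatom_map_conj g hN) (cj_mono g (sigmaCore_le N))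
  intro p hp hpd
  haveI : Fact p.Prime := ⟨hp⟩
  rw [card_cj] at hpd
  exact mem_sigma_cj hN (mem_sigma_of_dvd_card_sigmaCore hG hN hp hpd) g

theorem sigmaCore_cj (hG : IsMinSimpleOddOrder G) {N : Subgroup G} (hN : IsCoatom N) (g : G) :
    sigmaCore (cj g N) = cj g (sigmaCore N) := by
  apply le_antisymm _ (cj_sigmaCore_le hG hN g)
  have h1 := cj_sigmaCore_le hG (isCoatom_map_conj g hN) g⁻¹
  rw [cj_inv_cj, cj_le_iff, inv_inv] at h1
  exact h1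

/-- transport of `R(x)` under conjugation. -/
theorem supportR_conj (hG : IsMinSimpleOddOrder G) (h30c : H30c G) {M : Subgroup G}
    (hM : IsCoatom M) {a : G} (ha : a ∈ sigmaCore M) (ha1 : a ≠ 1) (g : G) :
    supportR (cj g M) (g * a * g⁻¹) = cj g (supportR M a) := by
  have hM' := isCoatom_map_conj g hM
  have ha' : g * a * g⁻¹ ∈ sigmaCore (cj g M) := by
    rw [sigmaCore_cj hG hM g]
    exact conj_mem_cj ha
  have ha'1 : g * a * g⁻¹ ≠ 1 := fun h => ha1 (conj_eq_one_iff.mp h)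
  have hC := centralizer_singleton_conj g a
  rcases supportR_cases hG h30c hM ha ha1 with ⟨hle, h⟩ | ⟨hnle, N, q, hqp, hq, hN, hNX, hD, h⟩
  · rw [h, cj_bot]
    apply supportR_eq_bot
    rw [hC]
    exact cj_mono g hle
  · rw [h]
    have hnle' : ¬ Subgroup.centralizer ({g * a * g⁻¹} : Set G) ≤ cj g M := by
      rw [hC]
      intro hle
      apply hnle
      have h1 := cj_mono g⁻¹ hle
      rwa [cj_inv_cj, cj_inv_cj] at h1
    rcases supportR_cases hG h30c hM' ha' ha'1 with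
      ⟨hle, -⟩ | ⟨-, N', q', hq'p, hq', hN', hNX', hD', h'⟩
    · exact absurd hle hnle'
    · rw [h']
      have hNN : N' = cj g N := by
        have h1 : Subgroup.centralizer ({a} : Set G) ≤ cj g⁻¹ N' := by
          have h2 := hD'.cent_le
          rw [hC, cj_le_iff] at h2
          exact h2
        have h2 := hD.uniq _ (isCoatom_map_conj g⁻¹ hN') h1
        rw [← h2, cj_cj_inv]
      rw [hNN, sigmaCore_cj hG hN g, hC, ← cj_inf]

/-- `R(a)` does not depend on the conjugate of `M` containing `a`. -/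
theorem supportR_indep (hG : IsMinSimpleOddOrder G) (h30c : H30c G) {M : Subgroup G}
    (hM : IsCoatom M) {a : G} (ha : a ∈ sigmaCore M) (ha1 : a ≠ 1) (g : G) (hag : a ∈ cj g M) :
    supportR (cj g M) a = supportR M a := by
  have hM' := isCoatom_map_conj g hM
  have ha' : a ∈ sigmaCore (cj g M) := mem_sigmaCore_of_conj hG hM hM' rfl ha hag
  by_cases hle : Subgroup.centralizer ({a} : Set G) ≤ M
  · rw [conj_eq_self_of_centralizer_le hG h30c hM ha ha1 hle g hag]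
  · have hnle' : ¬ Subgroup.centralizer ({a} : Set G) ≤ cj g M := by
      intro hle'
      apply hle
      have hag' : a ∈ cj g⁻¹ (cj g M) := by
        rw [cj_inv_cj]
        exact sigmaCore_le M ha
      have h1 := conj_eq_self_of_centralizer_le hG h30c hM' ha' ha1 hle' g⁻¹ hag'
      rw [cj_inv_cj] at h1
      rw [h1]
      exact hle'
    rcases supportR_cases hG h30c hM ha ha1 with ⟨h1, -⟩ | ⟨-, N, q, hqp, hq, hN, hNX, hD, h⟩
    · exact absurd h1 hle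
    rcases supportR_cases hG h30c hM' ha' ha1 with
      ⟨h1, -⟩ | ⟨-, N', q', hq'p, hq', hN', hNX', hD', h'⟩
    · exact absurd h1 hnle'
    rw [h, h', hD.uniq N' hN' hD'.cent_le]

/-- **Theorem 14.4 (b)** in terms of `R(a)`. -/
theorem exists_supportR_conj (hG : IsMinSimpleOddOrder G) (h30c : H30c G) {M : Subgroup G}
    (hM : IsCoatom M) {a : G} (ha : a ∈ sigmaCore M) (ha1 : a ≠ 1) (g : G) (hag : a ∈ cj g M) :
    ∃ r ∈ supportR M a, cj r M = cj g M := by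
  rcases supportR_cases hG h30c hM ha ha1 with ⟨hle, h⟩ | ⟨hnle, N, q, hqp, hq, hN, hNX, hD, h⟩
  · refine ⟨1, Subgroup.one_mem _, ?_⟩
    rw [cj_one, conj_eq_self_of_centralizer_le hG h30c hM ha ha1 hle g hag]
  · haveI : Fact q.Prime := ⟨hqp⟩
    obtain ⟨s, hs, hsg⟩ := exists_conj_eq hG h30c hM hN ha ha1 hnle hq hNX g hag
    exact ⟨s, h ▸ hs, hsg⟩

theorem supportR_le_centralizer (hG : IsMinSimpleOddOrder G) (h30c : H30c G) {M : Subgroup G}
    (hM : IsCoatom M) {a : G} (ha : a ∈ sigmaCore M) (ha1 : a ≠ 1) :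
    supportR M a ≤ Subgroup.centralizer ({a} : Set G) := by
  rcases supportR_cases hG h30c hM ha ha1 with ⟨-, h⟩ | ⟨-, N, q, -, -, -, -, -, h⟩
  · rw [h]; exact bot_le
  · rw [h]; exact inf_le_right

theorem supportR_inf (hG : IsMinSimpleOddOrder G) (h30c : H30c G) {M : Subgroup G}
    (hM : IsCoatom M) {a : G} (ha : a ∈ sigmaCore M) (ha1 : a ≠ 1) :
    supportR M a ⊓ M = ⊥ := by
  rcases supportR_cases hG h30c hM ha ha1 with ⟨-, h⟩ | ⟨-, N, q, -, -, -, -, hD, h⟩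
  · rw [h]; exact bot_inf_eq _
  · rw [h, eq_bot_iff, ← hD.disj]
    exact inf_le_inf_right M inf_le_left

theorem conj_mem_supportR (hG : IsMinSimpleOddOrder G) (h30c : H30c G) {M : Subgroup G}
    (hM : IsCoatom M) {a r : G} (ha : a ∈ sigmaCore M) (ha1 : a ≠ 1) (hr : r ∈ supportR M a)
    {g : G} (hga : g * a * g⁻¹ ∈ sigmaCore M) :
    g * r * g⁻¹ ∈ supportR M (g * a * g⁻¹) := by
  have h1 : g * r * g⁻¹ ∈ supportR (cj g M) (g * a * g⁻¹) := by
    rw [supportR_conj hG h30c hM ha ha1 g]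
    exact conj_mem_cj hr
  rwa [supportR_indep hG h30c hM hga (fun h => ha1 (conj_eq_one_iff.mp h)) g
    (conj_mem_cj (sigmaCore_le M ha))] at h1

/-- if `g (a r) g⁻¹ = a' r'` then `g a g⁻¹ = a'`. -/
theorem conj_eq_of_coset_eq (hG : IsMinSimpleOddOrder G) (h30c : H30c G) {M : Subgroup G}
    (hM : IsCoatom M) {a a' r r' : G} (ha : a ∈ sigmaCore M) (ha1 : a ≠ 1)
    (ha' : a' ∈ sigmaCore M) (ha'1 : a' ≠ 1) (hr : r ∈ supportR M a) (hr' : r' ∈ supportR M a')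
    {g : G} (h : g * (a * r) * g⁻¹ = a' * r') : g * a * g⁻¹ = a' := by
  by_contra hne
  have hM' := isCoatom_map_conj g hM
  have hx : g * a * g⁻¹ ∈ sigmaCore (cj g M) := by
    rw [sigmaCore_cj hG hM g]
    exact conj_mem_cj ha
  have hx1 : g * a * g⁻¹ ≠ 1 := fun h => ha1 (conj_eq_one_iff.mp h)
  have hr2 : g * r * g⁻¹ ∈ supportR (cj g M) (g * a * g⁻¹) := by
    rw [supportR_conj hG h30c hM ha ha1 g]
    exact conj_mem_cj hr
  apply s1433_of hG h30c (cj g M) M hM' hM _ _ hx ha' hx1 ha'1 hne _ hr2 _ hr'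
  rw [← h]
  group

/-- the relation "`t ∈ ξ R(ξ)`" between elements of `M̃` and conjugates of elements of `M_σ^#`. -/
def Rel (M : Subgroup G) (t ξ : G) : Prop :=
  ∃ y a r : G, a ∈ (sigmaCore M : Set G) \ {1} ∧ r ∈ supportR M a ∧ ξ = y * a * y⁻¹ ∧
    t = y * (a * r) * y⁻¹

theorem rel_functional (hG : IsMinSimpleOddOrder G) (h30c : H30c G) {M : Subgroup G}
    (hM : IsCoatom M) (t ξ ξ' : G) (h : Rel M t ξ) (h' : Rel M t ξ') : ξ = ξ' := by
  obtain ⟨y, a, r, ha, hr, rfl, ht⟩ := h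
  obtain ⟨y', a', r', ha', hr', rfl, ht'⟩ := h'
  have h1 : (y'⁻¹ * y) * (a * r) * (y'⁻¹ * y)⁻¹ = a' * r' := by
    have h2 : (y'⁻¹ * y) * (a * r) * (y'⁻¹ * y)⁻¹ = y'⁻¹ * (y * (a * r) * y⁻¹) * y' := by group
    rw [h2, ← ht, ht']
    group
  have h3 := conj_eq_of_coset_eq hG h30c hM ha.1 ha.2 ha'.1 ha'.2 hr hr' h1
  rw [← h3]
  group

theorem card_fiber_T (hG : IsMinSimpleOddOrder G) (h30c : H30c G) {M : Subgroup G}
    (hM : IsCoatom M) {a₀ : G} (ha₀ : a₀ ∈ sigmaCore M) (ha₀1 : a₀ ≠ 1) (y₀ : G) :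
    Nat.card {t : G // Rel M t (y₀ * a₀ * y₀⁻¹)} = Nat.card (supportR M a₀) := by
  symm
  apply Nat.card_congr
  refine Equiv.ofBijective (fun r : ↥(supportR M a₀) =>
    (⟨y₀ * (a₀ * r) * y₀⁻¹, y₀, a₀, r, ⟨ha₀, ha₀1⟩, r.2, rfl, rfl⟩ :
      {t : G // Rel M t (y₀ * a₀ * y₀⁻¹)})) ⟨?_, ?_⟩
  · intro r r' h
    have h1 : y₀ * (a₀ * r) * y₀⁻¹ = y₀ * (a₀ * r') * y₀⁻¹ := congrArg Subtype.val h
    apply Subtype.ext
    exact mul_left_cancel (mul_left_cancel (mul_right_cancel h1))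
  · rintro ⟨t, y, a, r', haS, hr', hξ, ht⟩
    have hga : (y₀⁻¹ * y) * a * (y₀⁻¹ * y)⁻¹ = a₀ := by
      have h2 : (y₀⁻¹ * y) * a * (y₀⁻¹ * y)⁻¹ = y₀⁻¹ * (y * a * y⁻¹) * y₀ := by group
      rw [h2, ← hξ]
      group
    have hr : (y₀⁻¹ * y) * r' * (y₀⁻¹ * y)⁻¹ ∈ supportR M a₀ := by
      have h3 := conj_mem_supportR hG h30c hM haS.1 haS.2 hr' (g := y₀⁻¹ * y)
        (by rw [hga]; exact ha₀)
      rwa [hga] at h3
    refine ⟨⟨_, hr⟩, Subtype.ext ?_⟩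
    show y₀ * (a₀ * ((y₀⁻¹ * y) * r' * (y₀⁻¹ * y)⁻¹)) * y₀⁻¹ = t
    rw [ht, ← hga]
    group

theorem card_fiber_P (hG : IsMinSimpleOddOrder G) (h30c : H30c G) {M : Subgroup G}
    (hM : IsCoatom M) {a₀ : G} (ha₀ : a₀ ∈ sigmaCore M) (ha₀1 : a₀ ≠ 1) (y₀ : G) :
    Nat.card {p : G × ↥((sigmaCore M : Set G) \ {1}) //
        p.1 * (p.2 : G) * p.1⁻¹ = y₀ * a₀ * y₀⁻¹} =
      Nat.card (supportR M a₀) * Nat.card M := by
  rw [← Nat.card_prod]
  symm
  apply Nat.card_congr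
  have hRC := supportR_le_centralizer hG h30c hM ha₀ ha₀1
  have hRM := supportR_inf hG h30c hM ha₀ ha₀1
  have hmem : ∀ m : ↥M, (m : G)⁻¹ * a₀ * m ∈ (sigmaCore M : Set G) \ {1} := by
    intro m
    refine ⟨conj_mem_of_mem_normalizer' (le_normalizer_sigmaCore M m.2) ha₀, ?_⟩
    intro h
    have h1 : (m : G)⁻¹ * a₀ * m = 1 := h
    apply ha₀1
    have h2 : a₀ = m * ((m : G)⁻¹ * a₀ * m) * (m : G)⁻¹ := by group
    rw [h2, h1]
    group
  have heq : ∀ (r : ↥(supportR M a₀)) (m : ↥M),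
      (y₀ * r * m) * ((m : G)⁻¹ * a₀ * m) * (y₀ * r * m)⁻¹ = y₀ * a₀ * y₀⁻¹ := by
    intro r m
    have hc : a₀ * r = r * a₀ := mem_centralizer_singleton.mp (hRC r.2)
    calc (y₀ * r * m) * ((m : G)⁻¹ * a₀ * m) * (y₀ * r * m)⁻¹
        = y₀ * (r * a₀) * (r : G)⁻¹ * y₀⁻¹ := by group
      _ = y₀ * (a₀ * r) * (r : G)⁻¹ * y₀⁻¹ := by rw [hc]
      _ = y₀ * a₀ * y₀⁻¹ := by group
  refine Equiv.ofBijective (fun z : ↥(supportR M a₀) × ↥M =>
    (⟨(y₀ * z.1 * z.2, ⟨(z.2 : G)⁻¹ * a₀ * z.2, hmem z.2⟩), heq z.1 z.2⟩ :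
      {p : G × ↥((sigmaCore M : Set G) \ {1}) //
        p.1 * (p.2 : G) * p.1⁻¹ = y₀ * a₀ * y₀⁻¹})) ⟨?_, ?_⟩
  · rintro ⟨r, m⟩ ⟨r', m'⟩ h
    have h1 : y₀ * (r : G) * m = y₀ * r' * m' := congrArg (fun p => p.1.1) h
    have h2 : (r' : G)⁻¹ * r = m' * (m : G)⁻¹ := by
      have h3 : (r : G) * m = r' * m' := by
        have h4 : y₀ * ((r : G) * m) = y₀ * (r' * m') := by rw [← mul_assoc, ← mul_assoc]; exact h1
        exact mul_left_cancel h4
      calc (r' : G)⁻¹ * r = (r' : G)⁻¹ * (r * m) * (m : G)⁻¹ := by group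
        _ = (r' : G)⁻¹ * (r' * m') * (m : G)⁻¹ := by rw [h3]
        _ = m' * (m : G)⁻¹ := by group
    have h5 : (r' : G)⁻¹ * r ∈ supportR M a₀ ⊓ M :=
      ⟨Subgroup.mul_mem _ (Subgroup.inv_mem _ r'.2) r.2,
        h2 ▸ M.mul_mem m'.2 (M.inv_mem m.2)⟩
    rw [hRM, Subgroup.mem_bot] at h5
    have h6 : (r : G) = r' := (inv_mul_eq_one.mp h5).symm
    have h7 : (m : G) = m' := by
      rw [h5] at h2
      exact (mul_inv_eq_one.mp h2.symm).symm
    exact Prod.ext (Subtype.ext h6) (Subtype.ext h7)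
  · rintro ⟨⟨y, a, haS⟩, hp⟩
    have hp' : y * a * y⁻¹ = y₀ * a₀ * y₀⁻¹ := hp
    have hga : (y₀⁻¹ * y) * a * (y₀⁻¹ * y)⁻¹ = a₀ := by
      have h2 : (y₀⁻¹ * y) * a * (y₀⁻¹ * y)⁻¹ = y₀⁻¹ * (y * a * y⁻¹) * y₀ := by group
      rw [h2, hp']
      group
    have hag : a₀ ∈ cj (y₀⁻¹ * y) M := by
      rw [← hga]
      exact conj_mem_cj (sigmaCore_le M haS.1)
    obtain ⟨r, hr, hrg⟩ := exists_supportR_conj hG h30c hM ha₀ ha₀1 _ hag
    have hm : r⁻¹ * (y₀⁻¹ * y) ∈ M := by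
      apply mem_of_map_conj_eq_self hG hM
      show cj (r⁻¹ * (y₀⁻¹ * y)) M = M
      rw [← cj_cj, ← hrg, cj_inv_cj]
    have hc : a₀ * r = r * a₀ := mem_centralizer_singleton.mp (hRC hr)
    refine ⟨(⟨r, hr⟩, ⟨_, hm⟩), Subtype.ext (Prod.ext ?_ (Subtype.ext ?_))⟩
    · show y₀ * r * (r⁻¹ * (y₀⁻¹ * y)) = y
      group
    · show (r⁻¹ * (y₀⁻¹ * y))⁻¹ * a₀ * (r⁻¹ * (y₀⁻¹ * y)) = a
      have h8 : (r⁻¹ * (y₀⁻¹ * y))⁻¹ * a₀ * (r⁻¹ * (y₀⁻¹ * y))
          = (y₀⁻¹ * y)⁻¹ * (r * a₀ * r⁻¹) * (y₀⁻¹ * y) := by group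
      have h9 : r * a₀ * r⁻¹ = a₀ := by rw [← hc]; group
      rw [h8, h9, ← hga]
      group

/-- **row S1377**, relative to `H30c`. -/
theorem s1377_of (hG : IsMinSimpleOddOrder G) (h30c : H30c G)
    (M : Subgroup G) (hM : IsCoatom M) :
    Set.ncard (Cfsg.tildeOf M ((Cfsg.sigmaCore M : Set G) \ {1})) = (Nat.card (Cfsg.sigmaCore M) - 1) * M.index := by
  classical
  haveI : Fintype G := Fintype.ofFinite G
  have hT : Cfsg.tildeOf M ((Cfsg.sigmaCore M : Set G) \ {1}) = {t : G | ∃ ξ, Rel M t ξ} := by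
    ext t
    constructor
    · rintro ⟨a, ha, r, hr, y, ht⟩
      exact ⟨y * a * y⁻¹, y, a, r, ha, hr, rfl, ht⟩
    · rintro ⟨ξ, y, a, r, ha, hr, -, ht⟩
      exact ⟨a, ha, r, hr, y, ht⟩
  have hfib : ∀ ξ : G,
      Nat.card {p : G × ↥((sigmaCore M : Set G) \ {1}) // p.1 * (p.2 : G) * p.1⁻¹ = ξ} =
        Nat.card M * Nat.card {t : G // Rel M t ξ} := by
    intro ξ
    by_cases hξ : ∃ y a : G, a ∈ (sigmaCore M : Set G) \ {1} ∧ ξ = y * a * y⁻¹
    · obtain ⟨y₀, a₀, ha₀, rfl⟩ := hξ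
      rw [card_fiber_P hG h30c hM ha₀.1 ha₀.2 y₀, card_fiber_T hG h30c hM ha₀.1 ha₀.2 y₀,
        mul_comm]
    · haveI : IsEmpty {p : G × ↥((sigmaCore M : Set G) \ {1}) //
          p.1 * (p.2 : G) * p.1⁻¹ = ξ} :=
        ⟨fun p => hξ ⟨p.1.1, p.1.2, p.1.2.2, p.2.symm⟩⟩
      haveI : IsEmpty {t : G // Rel M t ξ} :=
        ⟨fun t => by
          obtain ⟨y, a, r, ha, -, h, -⟩ := t.2
          exact hξ ⟨y, a, ha, h⟩⟩
      have e1 : Nat.card {p : G × ↥((sigmaCore M : Set G) \ {1}) //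
          p.1 * (p.2 : G) * p.1⁻¹ = ξ} = 0 := Nat.card_of_isEmpty
      have e2 : Nat.card {t : G // Rel M t ξ} = 0 := Nat.card_of_isEmpty
      rw [e1, e2, mul_zero]
  have hmain := card_eq_mul_of_fibers
    (fun p : G × ↥((sigmaCore M : Set G) \ {1}) => p.1 * (p.2 : G) * p.1⁻¹) (Rel M)
    (rel_functional hG h30c hM) (Nat.card M) hfib
  have hS : Nat.card ↥((sigmaCore M : Set G) \ {1}) = Nat.card (sigmaCore M) - 1 := by
    rw [Nat.card_coe_set_eq, Set.ncard_sdiff_singleton_of_mem (Subgroup.one_mem _)]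
    have h2 : (sigmaCore M : Set G).ncard = Nat.card (sigmaCore M) :=
      (Nat.card_coe_set_eq (sigmaCore M : Set G)).symm
    rw [h2]
  have hTcard : Set.ncard (Cfsg.tildeOf M ((Cfsg.sigmaCore M : Set G) \ {1})) =
      Nat.card {t : G // ∃ ξ, Rel M t ξ} := by
    rw [hT]
    exact (Nat.card_coe_set_eq {t : G | ∃ ξ, Rel M t ξ}).symm
  rw [hTcard]
  rw [Nat.card_prod, hS, ← Subgroup.card_mul_index M, mul_assoc] at hmain
  have h1 := Nat.eq_of_mul_eq_mul_left Nat.card_pos hmain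
  rw [← h1, mul_comm]

end Cfsg.Agent.Lib.Helper2.BG14T
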