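import Mathlib
import Cfsg.Prelude
import Cfsg.Agent.Lib.Helper2.BG14W
import Cfsg.Agent.Lib.Helper1.BGStubs2

/-!
# Rows S1374, S1375, S1433, S1377 from the frozen row S1430 (helper2)

`p1374_of`, `p1375_of`, `p1433_of`, `p1377_of`: the frozen statements (as the hypothesis-props of
helper1's `BGStubs2`) from `P1430 G`, i.e. from `Cfsg.Agent.S1430.result hG` once that row lands.
-/

set_option autoImplicit false
open Cfsg
open Cfsg.Agent.Lib.Helper11.BG14 (H30c)
open Cfsg.Agent.Lib.Helper1.BGStubs2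

namespace Cfsg.Agent.Lib.Helper2.BG14T

variable {G : Type*} [Group G] [Finite G]

theorem h30c_of_p1430 (h : P1430 G) : H30c G :=
  fun M K hM hK hK1 X hXK hXp => ((h M hM K hK hK1).2.2 X hXK hXp).1

theorem p1374_of (hG : IsMinSimpleOddOrder G) (h : P1430 G) : P1374 G :=
  fun M hM x hx hx1 => s1374_of hG (h30c_of_p1430 h) M hM x hx hx1

theorem p1375_of (hG : IsMinSimpleOddOrder G) (h : P1430 G) : P1375 G :=
  fun M hM x hx hx1 hxM => s1375_of hG (h30c_of_p1430 h) M hM x hx hx1 hxM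

theorem p1433_of (hG : IsMinSimpleOddOrder G) (h : P1430 G) : P1433 G :=
  fun M N hM hN x y hx hy hx1 hy1 hxy => s1433_of hG (h30c_of_p1430 h) M N hM hN x y hx hy hx1 hy1 hxy

theorem p1377_of (hG : IsMinSimpleOddOrder G) (h : P1430 G) : P1377 G :=
  fun M hM => s1377_of hG (h30c_of_p1430 h) M hM

end Cfsg.Agent.Lib.Helper2.BG14T
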