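import Mathlib
import Cfsg.Prelude.Def_Characters
import Cfsg.Agent.Lib.Helper2.Induction

/-!
# Permutation characters (helper2 library)
-/

set_option autoImplicit false

namespace Cfsg.Agent.Lib.Helper2

open Module
open scoped ComplexConjugate MonoidAlgebra

section Fiber

variable {G : Type*} [Group G] {X : Type*} [MulAction G X]

/-- The fiber of the orbit map over `y₀ • x` is a coset of the stabilizer. -/
def fiberEquivStabilizer (x : X) (y₀ : G) :
    {y : G // y • x = y₀ • x} ≃ MulAction.stabilizer G x where
  toFun y := ⟨y₀⁻¹ * y.1, by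
    rw [MulAction.mem_stabilizer_iff, mul_smul, y.2, inv_smul_smul]⟩
  invFun s := ⟨y₀ * s.1, by
    rw [mul_smul, MulAction.mem_stabilizer_iff.mp s.2]⟩
  left_inv y := by simp
  right_inv s := by simp

/-- For a transitive action, summing `f (y • x)` over the group counts each point
`|stabilizer|` times. -/
theorem sum_smul_eq_card_stabilizer_mul_sum [Fintype G] [Fintype X]
    [MulAction.IsPretransitive G X] (x : X) (f : X → ℂ) :
    ∑ y : G, f (y • x) = (Nat.card (MulAction.stabilizer G x) : ℂ) * ∑ z : X, f z := by
  classical
  rw [← Finset.sum_fiberwise Finset.univ (fun y : G => y • x) (fun y => f (y • x)), Finset.mul_sum]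
  apply Finset.sum_congr rfl
  intro z _
  obtain ⟨y₀, rfl⟩ := MulAction.exists_smul_eq G x z
  have : ∀ y ∈ Finset.univ.filter (fun y : G => y • x = y₀ • x), f (y • x) = f (y₀ • x) := by
    intro y hy
    rw [(Finset.mem_filter.mp hy).2]
  rw [Finset.sum_congr rfl this, Finset.sum_const, nsmul_eq_mul]
  congr 2
  rw [← Fintype.card_subtype, ← Nat.card_eq_fintype_card]
  exact Nat.card_congr (fiberEquivStabilizer x y₀)

end Fiber

section PermChar

variable {G : Type*} [Group G] [Fintype G] (X : Type*) [MulAction G X] [Finite X]
  [MulAction.IsPretransitive G X]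

/-- The permutation character of a transitive action is induced from the trivial character of a
point stabilizer. -/
theorem permChar_eq_indFun (x : X) :
    (fun g : G => (Nat.card (MulAction.fixedBy X g) : ℂ))
      = Cfsg.indFun (MulAction.stabilizer G x) (fun _ => 1) := by
  classical
  haveI : Fintype X := Fintype.ofFinite X
  ext g
  rw [indFun_apply]
  have hterm : ∀ y : G, Cfsg.extendByZero (MulAction.stabilizer G x) (fun _ => (1 : ℂ))
      (y⁻¹ * g * y) = if g • (y • x) = y • x then 1 else 0 := by
    intro y
    by_cases h : g • (y • x) = y • x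
    · rw [if_pos h, extendByZero_of_mem]
      rw [MulAction.mem_stabilizer_iff, mul_smul, mul_smul, h, inv_smul_smul]
    · rw [if_neg h, extendByZero_of_not_mem]
      intro hmem
      apply h
      rw [MulAction.mem_stabilizer_iff, mul_smul, mul_smul] at hmem
      have := congrArg (fun z => y • z) hmem
      simpa using this
  simp only [hterm]
  rw [sum_smul_eq_card_stabilizer_mul_sum x (fun z => if g • z = z then (1 : ℂ) else 0)]
  have hne : (Nat.card (MulAction.stabilizer G x) : ℂ) ≠ 0 := card_subgroup_ne_zero _
  rw [← mul_assoc, inv_mul_cancel₀ hne, one_mul, Finset.sum_boole]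
  congr 1
  rw [Nat.card_eq_fintype_card, ← Fintype.card_subtype]
  rfl

end PermChar

end Cfsg.Agent.Lib.Helper2
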