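import Mathlib
import Cfsg.Prelude.Def_GeometricClasses
import Cfsg.Agent.Lib.Helper7.AschDefs
import Cfsg.Agent.Lib.Helper9.HubCorA1
import Cfsg.Agent.Lib.Helper16.SpADefs

/-!
# S5662, block SpI4: piece T6c (`sp_of_skew_elt`) of `Lib/Helper16/SpACliffSkel.lean`

`Z * Z = δ • 1`, `Z` skew-adjoint and not scalar, every `h ∈ H` commutes or anticommutes with `Z`.
`δ` a non-square: `{α + β Z}` is an adjoint-closed field subalgebra of degree 2 normalised by `H`;
`δ = γ ^ 2`: the eigenspaces of `Z` form a pair of totally singular subspaces permuted by `H`.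
-/

set_option autoImplicit false

namespace Cfsg.Agent.Lib.Helper2.S5662SpT6c

open Matrix Cfsg.Geo Cfsg.Agent.Lib.Helper7.Asch Cfsg.Agent.Lib.Helper16.SpA
open scoped Kronecker

variable {F : Type*} [Field F] {n : ℕ}

/-! ### the algebra `{α + β Z}` -/

theorem mul_form (Z : Matrix (Fin n) (Fin n) F) (δ : F) (hZ : Z * Z = δ • 1) (α β α' β' : F) :
    (α • (1 : Matrix (Fin n) (Fin n) F) + β • Z) * (α' • 1 + β' • Z) =
      (α * α' + β * β' * δ) • 1 + (α * β' + β * α') • Z := by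
  simp only [add_mul, mul_add, Matrix.smul_mul, Matrix.mul_smul, Matrix.one_mul, Matrix.mul_one, hZ, smul_smul]
  module

/-- the subalgebra `{α + β Z}` -/
def KZ (Z : Matrix (Fin n) (Fin n) F) (δ : F) (hZ : Z * Z = δ • 1) : Subalgebra F (Matrix (Fin n) (Fin n) F) where
  carrier := {x | ∃ α β : F, x = α • 1 + β • Z}
  mul_mem' := by
    rintro _ _ ⟨α, β, rfl⟩ ⟨α', β', rfl⟩
    exact ⟨_, _, mul_form Z δ hZ α β α' β'⟩
  one_mem' := ⟨1, 0, by simp⟩
  add_mem' := by
    rintro _ _ ⟨α, β, rfl⟩ ⟨α', β', rfl⟩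
    exact ⟨α + α', β + β', by module⟩
  zero_mem' := ⟨0, 0, by simp⟩
  algebraMap_mem' := fun c => ⟨c, 0, by simp [Algebra.algebraMap_eq_smul_one]⟩

theorem mem_KZ (Z : Matrix (Fin n) (Fin n) F) (δ : F) (hZ : Z * Z = δ • 1) (x : Matrix (Fin n) (Fin n) F) :
    x ∈ KZ Z δ hZ ↔ ∃ α β : F, x = α • 1 + β • Z := Iff.rfl

theorem one_ne_zero_of_not_scalar (Z : Matrix (Fin n) (Fin n) F) (hns : ∀ c : F, Z ≠ c • 1) :
    (1 : Matrix (Fin n) (Fin n) F) ≠ 0 := by
  intro h
  apply hns 0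
  rw [zero_smul, ← Matrix.mul_one Z, h, Matrix.mul_zero]

theorem coeff_zero (Z : Matrix (Fin n) (Fin n) F) (hns : ∀ c : F, Z ≠ c • 1) (α β : F)
    (h : α • (1 : Matrix (Fin n) (Fin n) F) + β • Z = 0) : α = 0 ∧ β = 0 := by
  have hβ : β = 0 := by
    by_contra hβ
    apply hns (-(β⁻¹ * α))
    have h1 : β • Z = -(α • (1 : Matrix (Fin n) (Fin n) F)) := by
      rw [eq_neg_iff_add_eq_zero, add_comm]; exact h
    have h2 : Z = β⁻¹ • (β • Z) := by rw [smul_smul, inv_mul_cancel₀ hβ, one_smul]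
    rw [h2, h1, smul_neg, smul_smul, neg_smul]
  refine ⟨?_, hβ⟩
  rw [hβ, zero_smul, add_zero] at h
  by_contra hα
  apply one_ne_zero_of_not_scalar Z hns
  have : (1 : Matrix (Fin n) (Fin n) F) = α⁻¹ • (α • 1) := by rw [smul_smul, inv_mul_cancel₀ hα, one_smul]
  rw [this, h, smul_zero]

theorem isFieldSubalgebra_KZ (Z : Matrix (Fin n) (Fin n) F) (δ : F) (hZ : Z * Z = δ • 1)
    (hns : ∀ c : F, Z ≠ c • 1) (hsq : ¬ ∃ γ : F, γ * γ = δ) : IsFieldSubalgebra 2 (KZ Z δ hZ) := by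
  refine ⟨?_, ?_, ?_⟩
  · rintro _ ⟨α, β, rfl⟩ _ ⟨α', β', rfl⟩
    rw [mul_form Z δ hZ, mul_form Z δ hZ]
    congr 1 <;> congr 1 <;> ring
  · rintro _ ⟨α, β, rfl⟩ hx
    have hN : α * α - β * β * δ ≠ 0 := by
      intro hN
      by_cases hβ : β = 0
      · subst hβ
        have hα : α = 0 := by
          have : α * α = 0 := by simpa using hN
          exact mul_self_eq_zero.mp this
        apply hx
        rw [hα, zero_smul, zero_smul, add_zero]
      · apply hsq
        refine ⟨α / β, ?_⟩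
        field_simp
        linear_combination hN
    refine ⟨((α * α - β * β * δ)⁻¹ * α) • 1 + (-((α * α - β * β * δ)⁻¹ * β)) • Z, ⟨_, _, rfl⟩, ?_⟩
    rw [mul_form Z δ hZ]
    have e1 : α * ((α * α - β * β * δ)⁻¹ * α) + β * -((α * α - β * β * δ)⁻¹ * β) * δ = 1 := by
      have : α * ((α * α - β * β * δ)⁻¹ * α) + β * -((α * α - β * β * δ)⁻¹ * β) * δ =
          (α * α - β * β * δ)⁻¹ * (α * α - β * β * δ) := by ring
      rw [this, inv_mul_cancel₀ hN]
    have e2 : α * -((α * α - β * β * δ)⁻¹ * β) + β * ((α * α - β * β * δ)⁻¹ * α) = 0 := by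
      ring
    rw [e1, e2, one_smul, zero_smul, add_zero]
  · let φ : (F × F) →ₗ[F] KZ Z δ hZ :=
      { toFun := fun p => ⟨p.1 • 1 + p.2 • Z, ⟨p.1, p.2, rfl⟩⟩
        map_add' := fun p q => by
          apply Subtype.ext
          simp only [Prod.fst_add, Prod.snd_add, Subalgebra.coe_add]
          module
        map_smul' := fun c p => by
          apply Subtype.ext
          simp only [Prod.smul_fst, Prod.smul_snd, smul_eq_mul, RingHom.id_apply, Subalgebra.coe_smul]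
          module }
    have hinj : Function.Injective φ := by
      rw [← LinearMap.ker_eq_bot, LinearMap.ker_eq_bot']
      intro p hp
      have h1 : p.1 • (1 : Matrix (Fin n) (Fin n) F) + p.2 • Z = 0 := congrArg Subtype.val hp
      obtain ⟨h2, h3⟩ := coeff_zero Z hns _ _ h1
      exact Prod.ext h2 h3
    have hsurj : Function.Surjective φ := by
      rintro ⟨_, α, β, rfl⟩
      exact ⟨(α, β), rfl⟩
    have e := LinearEquiv.ofBijective φ ⟨hinj, hsurj⟩
    rw [← e.finrank_eq, Module.finrank_prod, Module.finrank_self]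

theorem mulVec_form (Z : Matrix (Fin n) (Fin n) F) (α β : F) (u : Fin n → F) :
    (α • (1 : Matrix (Fin n) (Fin n) F) + β • Z) *ᵥ u = α • u + β • (Z *ᵥ u) := by
  rw [Matrix.add_mulVec, Matrix.smul_mulVec, Matrix.smul_mulVec, Matrix.one_mulVec]

theorem isAdjointClosedFor_KZ {f : (Fin n → F) → (Fin n → F) → F} (hb : IsBilinearForm f)
    (Z : Matrix (Fin n) (Fin n) F) (δ : F) (hZ : Z * Z = δ • 1)
    (hskew : ∀ u v, f (Z *ᵥ u) v = - f u (Z *ᵥ v)) : IsAdjointClosedFor f (KZ Z δ hZ) := by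
  rintro _ ⟨α, β, rfl⟩
  refine ⟨α • 1 + (-β) • Z, ⟨_, _, rfl⟩, fun u v => ?_⟩
  rw [mulVec_form, mulVec_form, hb.add_left, hb.smul_left, hb.smul_left, hb.add_right, hb.smul_right,
    hb.smul_right, hskew]
  ring

/-- conjugation by an element commuting or anticommuting with `Z` -/
theorem conj_form (Z : Matrix (Fin n) (Fin n) F) (g : GL (Fin n) F) (ε : F)
    (hg : (g : Matrix (Fin n) (Fin n) F) * Z = ε • (Z * (g : Matrix (Fin n) (Fin n) F))) (α β : F) :
    (g : Matrix (Fin n) (Fin n) F) * (α • 1 + β • Z) * ((g⁻¹ : GL (Fin n) F) : Matrix (Fin n) (Fin n) F) =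
      α • 1 + (ε * β) • Z := by
  have h1 : (g : Matrix (Fin n) (Fin n) F) * ((g⁻¹ : GL (Fin n) F) : Matrix (Fin n) (Fin n) F) = 1 := by
    rw [← Units.val_mul, mul_inv_cancel, Units.val_one]
  rw [Matrix.mul_add, Matrix.add_mul, Matrix.mul_smul, Matrix.mul_smul, Matrix.mul_one, Matrix.smul_mul,
    Matrix.smul_mul, h1, hg, Matrix.smul_mul, Matrix.mul_assoc, h1, Matrix.mul_one, smul_smul, mul_comm β ε]

theorem comm_cases (Z : Matrix (Fin n) (Fin n) F) (g : GL (Fin n) F)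
    (h : (g : Matrix (Fin n) (Fin n) F) * Z = Z * (g : Matrix (Fin n) (Fin n) F) ∨
      (g : Matrix (Fin n) (Fin n) F) * Z = -(Z * (g : Matrix (Fin n) (Fin n) F))) :
    ∃ ε : F, (ε = 1 ∨ ε = -1) ∧
      (g : Matrix (Fin n) (Fin n) F) * Z = ε • (Z * (g : Matrix (Fin n) (Fin n) F)) := by
  rcases h with h | h
  · exact ⟨1, Or.inl rfl, by rw [one_smul]; exact h⟩
  · exact ⟨-1, Or.inr rfl, by rw [neg_smul, one_smul]; exact h⟩

/-- the relation passes to the inverse -/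
theorem comm_inv (Z : Matrix (Fin n) (Fin n) F) (g : GL (Fin n) F) (ε : F) (hε : ε = 1 ∨ ε = -1)
    (hg : (g : Matrix (Fin n) (Fin n) F) * Z = ε • (Z * (g : Matrix (Fin n) (Fin n) F))) :
    ((g⁻¹ : GL (Fin n) F) : Matrix (Fin n) (Fin n) F) * Z =
      ε • (Z * ((g⁻¹ : GL (Fin n) F) : Matrix (Fin n) (Fin n) F)) := by
  have h1 : (g : Matrix (Fin n) (Fin n) F) * ((g⁻¹ : GL (Fin n) F) : Matrix (Fin n) (Fin n) F) = 1 := by
    rw [← Units.val_mul, mul_inv_cancel, Units.val_one]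
  have h2 : ((g⁻¹ : GL (Fin n) F) : Matrix (Fin n) (Fin n) F) * (g : Matrix (Fin n) (Fin n) F) = 1 := by
    rw [← Units.val_mul, inv_mul_cancel, Units.val_one]
  have hεε : ε * ε = 1 := by rcases hε with rfl | rfl <;> ring
  -- `Z g⁻¹ = ε g⁻¹ Z`
  have h3 : Z * ((g⁻¹ : GL (Fin n) F) : Matrix (Fin n) (Fin n) F) =
      ε • (((g⁻¹ : GL (Fin n) F) : Matrix (Fin n) (Fin n) F) * Z) := by
    have : ((g⁻¹ : GL (Fin n) F) : Matrix (Fin n) (Fin n) F) * ((g : Matrix (Fin n) (Fin n) F) * Z) *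
        ((g⁻¹ : GL (Fin n) F) : Matrix (Fin n) (Fin n) F) =
        ((g⁻¹ : GL (Fin n) F) : Matrix (Fin n) (Fin n) F) * (ε • (Z * (g : Matrix (Fin n) (Fin n) F))) *
        ((g⁻¹ : GL (Fin n) F) : Matrix (Fin n) (Fin n) F) := by rw [hg]
    rw [← Matrix.mul_assoc, h2, Matrix.one_mul, Matrix.mul_smul, Matrix.smul_mul, Matrix.mul_assoc,
      Matrix.mul_assoc, h1, Matrix.mul_one] at this
    rw [this]
  rw [h3, smul_smul, hεε, one_smul]

theorem le_normalizer_KZ (Z : Matrix (Fin n) (Fin n) F) (δ : F) (hZ : Z * Z = δ • 1)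
    (H : Subgroup (GL (Fin n) F))
    (hnorm : ∀ h ∈ H, (h : Matrix (Fin n) (Fin n) F) * Z = Z * (h : Matrix (Fin n) (Fin n) F) ∨
        (h : Matrix (Fin n) (Fin n) F) * Z = -(Z * (h : Matrix (Fin n) (Fin n) F))) :
    H ≤ subalgebraNormalizer (KZ Z δ hZ) := by
  intro h hh k
  obtain ⟨ε, hε, hg⟩ := comm_cases Z h (hnorm h hh)
  constructor
  · rintro ⟨α, β, rfl⟩
    exact ⟨α, ε * β, conj_form Z h ε hg α β⟩
  · rintro ⟨α, β, hk⟩
    have hg' := comm_inv Z h ε hε hg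
    have h2 : ((h⁻¹ : GL (Fin n) F) : Matrix (Fin n) (Fin n) F) * (h : Matrix (Fin n) (Fin n) F) = 1 := by
      rw [← Units.val_mul, inv_mul_cancel, Units.val_one]
    have h3 := conj_form Z h⁻¹ ε hg' α β
    rw [inv_inv, ← hk] at h3
    refine ⟨α, ε * β, ?_⟩
    rw [← h3]
    simp only [Matrix.mul_assoc]
    rw [h2, Matrix.mul_one, ← Matrix.mul_assoc, h2, Matrix.one_mul]

/-! ### eigenspaces -/

/-- the eigenspace of `Z` for the eigenvalue `c` -/
def eig (Z : Matrix (Fin n) (Fin n) F) (c : F) : Submodule F (Fin n → F) where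
  carrier := {v | Z *ᵥ v = c • v}
  add_mem' := by
    intro a b ha hb
    simp only [Set.mem_ofPred_eq] at *
    rw [Matrix.mulVec_add, ha, hb, smul_add]
  zero_mem' := by simp
  smul_mem' := by
    intro r v hv
    simp only [Set.mem_ofPred_eq] at *
    rw [Matrix.mulVec_smul, hv, smul_comm]

theorem mem_eig (Z : Matrix (Fin n) (Fin n) F) (c : F) (v : Fin n → F) : v ∈ eig Z c ↔ Z *ᵥ v = c • v := Iff.rfl

theorem eig_inf (Z : Matrix (Fin n) (Fin n) F) (γ : F) (h2γ : (2 : F) * γ ≠ 0) : eig Z γ ⊓ eig Z (-γ) = ⊥ := by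
  rw [eq_bot_iff]
  rintro v ⟨h1, h2⟩
  have h1 : Z *ᵥ v = γ • v := h1
  have h2 : Z *ᵥ v = (-γ) • v := h2
  rw [Submodule.mem_bot]
  have h3 : (2 * γ) • v = 0 := by
    have : γ • v = (-γ) • v := h1.symm.trans h2
    rw [neg_smul, eq_neg_iff_add_eq_zero, ← add_smul] at this
    rw [two_mul]; exact this
  exact (smul_eq_zero.mp h3).resolve_left h2γ

theorem eig_sup (Z : Matrix (Fin n) (Fin n) F) (γ : F) (hZ : Z * Z = (γ * γ) • 1) (h2γ : (2 : F) * γ ≠ 0) :
    eig Z γ ⊔ eig Z (-γ) = ⊤ := by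
  rw [eq_top_iff]
  intro v _
  have hZZ : Z *ᵥ (Z *ᵥ v) = (γ * γ) • v := by
    rw [Matrix.mulVec_mulVec, hZ, Matrix.smul_mulVec, Matrix.one_mulVec]
  rw [Submodule.mem_sup]
  refine ⟨(2 * γ)⁻¹ • (Z *ᵥ v + γ • v), ?_, (2 * γ)⁻¹ • (γ • v - Z *ᵥ v), ?_, ?_⟩
  · apply Submodule.smul_mem
    rw [mem_eig, Matrix.mulVec_add, hZZ, Matrix.mulVec_smul, smul_add, smul_smul]
    abel
  · apply Submodule.smul_mem
    rw [mem_eig, Matrix.mulVec_sub, hZZ, Matrix.mulVec_smul, smul_sub, smul_smul, neg_mul, neg_smul,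
      neg_smul]
    abel
  · rw [← smul_add]
    have : Z *ᵥ v + γ • v + (γ • v - Z *ᵥ v) = (2 * γ) • v := by
      rw [two_mul, add_smul]; abel
    rw [this, smul_smul, inv_mul_cancel₀ h2γ, one_smul]

theorem eig_totallySingular {f : (Fin n → F) → (Fin n → F) → F} (hb : IsBilinearForm f)
    (Z : Matrix (Fin n) (Fin n) F) (hskew : ∀ u v, f (Z *ᵥ u) v = - f u (Z *ᵥ v)) (c : F) (h2c : (2 : F) * c ≠ 0) :
    IsTotallySingularFor f (eig Z c) := by
  intro u hu v hv
  rw [mem_eig] at hu hv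
  have h1 := hskew u v
  rw [hu, hv, hb.smul_left, hb.smul_right] at h1
  have h3 : (2 * c) * f u v = 0 := by linear_combination h1
  exact (mul_eq_zero.mp h3).resolve_left h2c

theorem map_eig_le (Z : Matrix (Fin n) (Fin n) F) (g : GL (Fin n) F) (ε : F)
    (hg : (g : Matrix (Fin n) (Fin n) F) * Z = ε • (Z * (g : Matrix (Fin n) (Fin n) F))) (hεε : ε * ε = 1) (c : F) :
    (eig Z c).map (Matrix.toLin' (g : Matrix (Fin n) (Fin n) F)) ≤ eig Z (ε * c) := by
  rintro _ ⟨v, hv, rfl⟩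
  rw [Matrix.toLin'_apply, mem_eig]
  have hv' : Z *ᵥ v = c • v := hv
  -- `Z g = ε g Z`
  have h1 : Z * (g : Matrix (Fin n) (Fin n) F) = ε • ((g : Matrix (Fin n) (Fin n) F) * Z) := by
    rw [hg, smul_smul, hεε, one_smul]
  rw [Matrix.mulVec_mulVec, h1, Matrix.smul_mulVec, ← Matrix.mulVec_mulVec, hv', Matrix.mulVec_smul, smul_smul]

theorem finrank_map_gl (g : GL (Fin n) F) (W : Submodule F (Fin n → F)) :
    Module.finrank F (W.map (Matrix.toLin' (g : Matrix (Fin n) (Fin n) F))) = Module.finrank F W := by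
  have hinj : Function.Injective (Matrix.toLin' (g : Matrix (Fin n) (Fin n) F)) := by
    intro a b hab
    have := congrArg (fun w => ((g⁻¹ : GL (Fin n) F) : Matrix (Fin n) (Fin n) F) *ᵥ w) hab
    simp only [Matrix.toLin'_apply, Matrix.mulVec_mulVec, ← Units.val_mul, inv_mul_cancel, Units.val_one,
      Matrix.one_mulVec] at this
    exact this
  exact (Submodule.equivMapOfInjective _ hinj W).finrank_eq.symm

theorem eq_smul_one_of_eig_top (Z : Matrix (Fin n) (Fin n) F) (c : F) (h : eig Z c = ⊤) : Z = c • 1 := by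
  apply Matrix.toLin'.injective
  apply LinearMap.ext
  intro v
  have hv : v ∈ eig Z c := by rw [h]; trivial
  rw [Matrix.toLin'_apply, Matrix.toLin'_apply, Matrix.smul_mulVec, Matrix.one_mulVec]
  exact hv

theorem two_ne_zero_of_odd [Fintype F] (hq : Odd (Fintype.card F)) : (2 : F) ≠ 0 := by
  intro h2
  have hchar : ringChar F = 2 := CharP.ringChar_of_prime_eq_zero Nat.prime_two (by exact_mod_cast h2)
  have := FiniteField.even_card_of_char_two hchar
  rcases hq with ⟨k, hk⟩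
  omega

/-- **T6c** (generic) -/
theorem sp_of_skew_elt [Fintype F] {f : (Fin n → F) → (Fin n → F) → F}
    (hf : IsSymplecticForm f) (hq : Odd (Fintype.card F)) (H : Subgroup (GL (Fin n) F))
    (hHI : H ≤ Iso f) (hirr : Irr H)
    (hKT : ∀ (K : Subalgebra F (Matrix (Fin n) (Fin n) F)), IsFieldSubalgebra 2 K → IsAdjointClosedFor f K →
      H ≤ subalgebraNormalizer K → InSp f H)
    (Z : Matrix (Fin n) (Fin n) F) (δ : F) (hδ : δ ≠ 0) (hZ : Z * Z = δ • 1) (hskew : ∀ u v, f (Z *ᵥ u) v = - f u (Z *ᵥ v))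
    (hns : ∀ c : F, Z ≠ c • 1)
    (hnorm : ∀ h ∈ H, (h : Matrix (Fin n) (Fin n) F) * Z = Z * (h : Matrix (Fin n) (Fin n) F) ∨
        (h : Matrix (Fin n) (Fin n) F) * Z = -(Z * (h : Matrix (Fin n) (Fin n) F))) : InSp f H := by
  have hb := hf.bilinear
  by_cases hsq : ∃ γ : F, γ * γ = δ
  swap
  · exact hKT (KZ Z δ hZ) (isFieldSubalgebra_KZ Z δ hZ hns hsq) (isAdjointClosedFor_KZ hb Z δ hZ hskew)
      (le_normalizer_KZ Z δ hZ H hnorm)
  obtain ⟨γ, hγ⟩ := hsq
  have hγ0 : γ ≠ 0 := by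
    rintro rfl
    exact hδ (by rw [← hγ, mul_zero])
  have h2 : (2 : F) ≠ 0 := two_ne_zero_of_odd hq
  have h2γ : (2 : F) * γ ≠ 0 := mul_ne_zero h2 hγ0
  have h2γ' : (2 : F) * (-γ) ≠ 0 := mul_ne_zero h2 (neg_ne_zero.mpr hγ0)
  have hZ' : Z * Z = (γ * γ) • 1 := by rw [hγ]; exact hZ
  have hinf := eig_inf Z γ h2γ
  have hsup := eig_sup Z γ hZ' h2γ
  have hEp_top : eig Z γ ≠ ⊤ := fun h => hns γ (eq_smul_one_of_eig_top Z γ h)
  have hEm_top : eig Z (-γ) ≠ ⊤ := fun h => hns (-γ) (eq_smul_one_of_eig_top Z (-γ) h)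
  have hEp_bot : eig Z γ ≠ ⊥ := by
    intro h
    rw [h, bot_sup_eq] at hsup
    exact hEm_top hsup
  -- some element anticommutes
  have hanti : ∃ h₀ ∈ H, (h₀ : Matrix (Fin n) (Fin n) F) * Z = -(Z * (h₀ : Matrix (Fin n) (Fin n) F)) := by
    by_contra hno
    push Not at hno
    have hinvar : ∀ s ∈ matrixSet H, (eig Z γ).map (Matrix.toLin' s) ≤ eig Z γ := by
      rintro _ ⟨h, hh, rfl⟩
      have hc : (h : Matrix (Fin n) (Fin n) F) * Z = Z * (h : Matrix (Fin n) (Fin n) F) :=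
        (hnorm h hh).resolve_right (hno h hh)
      have := map_eig_le Z h 1 (by rw [one_smul]; exact hc) (by ring) γ
      rwa [one_mul] at this
    rcases hirr (eig Z γ) hinvar with h | h
    · exact hEp_bot h
    · exact hEp_top h
  obtain ⟨h₀, hh₀, hanti₀⟩ := hanti
  have hanti' : (h₀ : Matrix (Fin n) (Fin n) F) * Z = (-1 : F) • (Z * (h₀ : Matrix (Fin n) (Fin n) F)) := by
    rw [neg_smul, one_smul]; exact hanti₀
  have hle1 : (eig Z γ).map (Matrix.toLin' (h₀ : Matrix (Fin n) (Fin n) F)) ≤ eig Z (-γ) := by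
    have := map_eig_le Z h₀ (-1) hanti' (by ring) γ
    rwa [neg_one_mul] at this
  have hle2 : (eig Z (-γ)).map (Matrix.toLin' (h₀ : Matrix (Fin n) (Fin n) F)) ≤ eig Z γ := by
    have := map_eig_le Z h₀ (-1) hanti' (by ring) (-γ)
    rwa [neg_one_mul, neg_neg] at this
  have hfr : Module.finrank F (eig Z γ) = Module.finrank F (eig Z (-γ)) := by
    apply le_antisymm
    · rw [← finrank_map_gl h₀ (eig Z γ)]
      exact Submodule.finrank_mono hle1
    · rw [← finrank_map_gl h₀ (eig Z (-γ))]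
      exact Submodule.finrank_mono hle2
  set k := Module.finrank F (eig Z γ) with hk
  have hD : IsMDecomposition k ![eig Z γ, eig Z (-γ)] := by
    refine ⟨le_refl 2, ?_, ?_, ?_, ?_⟩
    · rw [Nat.pos_iff_ne_zero]
      intro h0
      exact hEp_bot (Submodule.finrank_eq_zero.mp (hk ▸ h0))
    · intro i
      fin_cases i
      · rfl
      · exact hfr.symm
    · rw [iSupIndep_pair (i := (0 : Fin 2)) (j := 1) (by decide) (by intro k; fin_cases k <;> simp)]
      exact disjoint_iff.mpr hinf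
    · rw [eq_top_iff, ← hsup]
      exact sup_le (le_iSup (![eig Z γ, eig Z (-γ)]) 0) (le_iSup (![eig Z γ, eig Z (-γ)]) 1)
  have hts : ∀ i, IsTotallySingularFor f (![eig Z γ, eig Z (-γ)] i) := by
    intro i
    fin_cases i
    · exact eig_totallySingular hb Z hskew γ h2γ
    · exact eig_totallySingular hb Z hskew (-γ) h2γ'
  have hH : H ≤ decompositionStabilizer ![eig Z γ, eig Z (-γ)] := by
    intro h hh
    rcases hnorm h hh with hc | hc
    · refine ⟨1, fun i => ?_⟩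
      have hc' : (h : Matrix (Fin n) (Fin n) F) * Z = (1 : F) • (Z * (h : Matrix (Fin n) (Fin n) F)) := by
        rw [one_smul]; exact hc
      fin_cases i
      · have hle := map_eig_le Z h 1 hc' (by ring) γ
        rw [one_mul] at hle
        exact Submodule.eq_of_le_of_finrank_eq hle (finrank_map_gl h _)
      · have hle := map_eig_le Z h 1 hc' (by ring) (-γ)
        rw [one_mul] at hle
        exact Submodule.eq_of_le_of_finrank_eq hle (finrank_map_gl h _)
    · refine ⟨Equiv.swap 0 1, fun i => ?_⟩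
      have hc' : (h : Matrix (Fin n) (Fin n) F) * Z = (-1 : F) • (Z * (h : Matrix (Fin n) (Fin n) F)) := by
        rw [neg_smul, one_smul]; exact hc
      fin_cases i
      · have hle := map_eig_le Z h (-1) hc' (by ring) γ
        rw [neg_one_mul] at hle
        exact Submodule.eq_of_le_of_finrank_eq hle ((finrank_map_gl h _).trans hfr)
      · have hle := map_eig_le Z h (-1) hc' (by ring) (-γ)
        rw [neg_one_mul, neg_neg] at hle
        exact Submodule.eq_of_le_of_finrank_eq hle ((finrank_map_gl h _).trans hfr.symm)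
  exact .tsPair k _ hq (Cfsg.Agent.Lib.Helper9.HubCor.mul_eq_of_isMDecomposition _ hD) hD hts hH

end Cfsg.Agent.Lib.Helper2.S5662SpT6c
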