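import Mathlib
import Cfsg.Prelude.Def_GeometricClasses

/-!
# The reducible case of the form hubs (generic block U1 / SpI1 / O1)

`f` is a reflexive non-degenerate form on `F^ι` (linear on the left, additive on the right and
`f v x = 0 → f v (c • x) = 0`), `F` finite, `H` a group of isometries.  If `H` stabilises a proper non-zero
subspace then it stabilises a non-zero totally singular subspace, or a proper non-degenerate subspace of dimension
`< n/2`, or a non-degenerate decomposition into two subspaces of dimension `n/2`.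
-/

set_option autoImplicit false

namespace Cfsg.Agent.Lib.Helper2.FormRed

open Matrix Module Cfsg.Geo

variable {ι : Type} [Fintype ι] [DecidableEq ι] {F : Type*} [Field F]

/-- the hypotheses on the form, bundled -/
structure RForm (f : (ι → F) → (ι → F) → F) : Prop where
  add_left : ∀ x y v, f (x + y) v = f x v + f y v
  smul_left : ∀ (c : F) (x v : ι → F), f (c • x) v = c * f x v
  add_right : ∀ v x y, f v (x + y) = f v x + f v y
  zero_right : ∀ (c : F) (v x : ι → F), f v x = 0 → f v (c • x) = 0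
  refl : ∀ u v, f u v = 0 → f v u = 0
  nondeg : IsNondegenerateForm f

namespace RForm

variable {f : (ι → F) → (ι → F) → F}

theorem right_zero (hf : RForm f) (v : ι → F) : f v 0 = 0 := by
  have h := hf.add_right v 0 0
  rw [add_zero] at h
  exact left_eq_add.mp h

theorem left_zero (hf : RForm f) (v : ι → F) : f 0 v = 0 := by
  have h := hf.smul_left 0 0 v
  rwa [zero_smul, zero_mul] at h

theorem right_neg (hf : RForm f) (v x : ι → F) : f v (-x) = - f v x := by
  have h := hf.add_right v x (-x)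
  rw [add_neg_cancel, hf.right_zero] at h
  exact (neg_eq_of_add_eq_zero_right h.symm).symm

theorem right_sub (hf : RForm f) (v x y : ι → F) : f v (x - y) = f v x - f v y := by
  rw [sub_eq_add_neg, hf.add_right, hf.right_neg, ← sub_eq_add_neg]

theorem left_neg (hf : RForm f) (v x : ι → F) : f (-x) v = - f x v := by
  have h := hf.smul_left (-1) x v
  rwa [neg_one_smul, neg_one_mul] at h

theorem left_sub (hf : RForm f) (v x y : ι → F) : f (x - y) v = f x v - f y v := by
  rw [sub_eq_add_neg, hf.add_left, hf.left_neg, ← sub_eq_add_neg]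

end RForm

/-- a bilinear reflexive non-degenerate form -/
theorem RForm.of_bilinear {f : (ι → F) → (ι → F) → F} (hb : IsBilinearForm f)
    (hrefl : ∀ u v, f u v = 0 → f v u = 0) (hnd : IsNondegenerateForm f) : RForm f where
  add_left := hb.add_left
  smul_left := hb.smul_left
  add_right := hb.add_right
  zero_right := fun c v x h => by rw [hb.smul_right, h, mul_zero]
  refl := hrefl
  nondeg := hnd

theorem RForm.of_symplectic {f : (ι → F) → (ι → F) → F} (hf : IsSymplecticForm f) : RForm f :=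
  RForm.of_bilinear hf.bilinear (fun u v h => by rw [hf.skew, h, neg_zero]) hf.nondegenerate

theorem RForm.of_symmetric {f : (ι → F) → (ι → F) → F} (hf : IsSymmetricForm f) : RForm f :=
  RForm.of_bilinear hf.bilinear (fun u v h => by rw [hf.symm, h]) hf.nondegenerate

theorem RForm.of_polar {Q : (ι → F) → F} (hQ : IsNondegenerateQuadraticForm Q) :
    RForm (QuadraticMap.polar Q) :=
  RForm.of_bilinear hQ.polar_bilinear (fun u v h => by rw [QuadraticMap.polar_comm, h]) hQ.nondegenerate

theorem RForm.of_unitary {σ : F ≃+* F} {f : (ι → F) → (ι → F) → F} (hf : IsUnitaryForm σ f) : RForm f where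
  add_left := hf.add_left
  smul_left := hf.smul_left
  add_right := fun v x y => by rw [hf.herm, hf.add_left, map_add, ← hf.herm, ← hf.herm]
  zero_right := fun c v x h => by
    rw [hf.herm, hf.smul_left, map_mul]
    rw [hf.herm] at h
    rw [h, mul_zero]
  refl := fun u v h => by rw [hf.herm, h, map_zero]
  nondeg := hf.nondegenerate

theorem RForm.of_unitaryPow [Fintype F] {q : ℕ} (hq : Fintype.card F = q ^ 2)
    {f : (ι → F) → (ι → F) → F} (hf : IsUnitaryFormPow q f) : RForm f := by
  have hq0 : q ≠ 0 := by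
    rintro rfl
    have := Fintype.card_pos (α := F)
    omega
  obtain ⟨p, hp⟩ := CharP.exists F
  haveI := hp
  obtain ⟨n, hpp, hn⟩ := FiniteField.card F p
  haveI : Fact p.Prime := ⟨hpp⟩
  -- q is a power of p
  have hqp : ∃ k, q = p ^ k := by
    have hdvd : q ∣ p ^ (n : ℕ) := by
      rw [← hn, hq]
      exact dvd_pow_self q (by norm_num)
    exact (Nat.dvd_prime_pow hpp).mp hdvd |>.imp fun k hk => hk.2
  obtain ⟨k, rfl⟩ := hqp
  have hadd : ∀ a b : F, (a + b) ^ (p ^ k) = a ^ (p ^ k) + b ^ (p ^ k) := fun a b => add_pow_char_pow a b p k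
  refine ⟨hf.add_left, hf.smul_left, ?_, ?_, ?_, hf.nondegenerate⟩
  · intro v x y
    rw [hf.herm, hf.add_left, hadd, ← hf.herm, ← hf.herm]
  · intro c v x h
    rw [hf.herm, hf.smul_left, mul_pow]
    rw [hf.herm] at h
    rw [h, mul_zero]
  · intro u v h
    rw [hf.herm, h, zero_pow (pow_ne_zero _ hpp.ne_zero)]

/-! ### invariance -/

/-- `H` maps `W` into itself -/
def Inv (H : Subgroup (GL ι F)) (W : Submodule F (ι → F)) : Prop :=
  ∀ h ∈ H, ∀ v ∈ W, (h : Matrix ι ι F) *ᵥ v ∈ W

theorem inv_of_le_stab {H : Subgroup (GL ι F)} {W : Submodule F (ι → F)} (h : H ≤ subspaceStabilizer W) :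
    Inv H W := fun g hg v hv => (h hg v).mp hv

theorem inv_mulVec_mulVec (g : GL ι F) (v : ι → F) :
    ((g⁻¹ : GL ι F) : Matrix ι ι F) *ᵥ ((g : Matrix ι ι F) *ᵥ v) = v := by
  rw [Matrix.mulVec_mulVec, ← Units.val_mul, inv_mul_cancel, Units.val_one, Matrix.one_mulVec]

theorem mulVec_inv_mulVec (g : GL ι F) (v : ι → F) :
    (g : Matrix ι ι F) *ᵥ (((g⁻¹ : GL ι F) : Matrix ι ι F) *ᵥ v) = v := by
  rw [Matrix.mulVec_mulVec, ← Units.val_mul, mul_inv_cancel, Units.val_one, Matrix.one_mulVec]

theorem le_stab_of_inv {H : Subgroup (GL ι F)} {W : Submodule F (ι → F)} (h : Inv H W) :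
    H ≤ subspaceStabilizer W := by
  intro g hg v
  constructor
  · exact h g hg v
  · intro hv
    have := h g⁻¹ (H.inv_mem hg) _ hv
    change ((g⁻¹ : GL ι F) : Matrix ι ι F) *ᵥ ((g : Matrix ι ι F) *ᵥ v) ∈ W at this
    rwa [inv_mulVec_mulVec] at this

theorem le_stab_iff {H : Subgroup (GL ι F)} {W : Submodule F (ι → F)} :
    H ≤ subspaceStabilizer W ↔ Inv H W := ⟨inv_of_le_stab, le_stab_of_inv⟩

theorem map_eq_of_inv {H : Subgroup (GL ι F)} {W : Submodule F (ι → F)} (h : Inv H W) (g : GL ι F)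
    (hg : g ∈ H) : W.map (Matrix.toLin' (g : Matrix ι ι F)) = W := by
  apply le_antisymm
  · rintro _ ⟨w, hw, rfl⟩
    rw [Matrix.toLin'_apply]
    exact h g hg w hw
  · intro w hw
    refine ⟨((g⁻¹ : GL ι F) : Matrix ι ι F) *ᵥ w, h g⁻¹ (H.inv_mem hg) w hw, ?_⟩
    rw [Matrix.toLin'_apply, mulVec_inv_mulVec]

theorem Inv.inf {H : Subgroup (GL ι F)} {W W' : Submodule F (ι → F)} (h : Inv H W) (h' : Inv H W') :
    Inv H (W ⊓ W') := fun g hg v hv => ⟨h g hg v hv.1, h' g hg v hv.2⟩

/-! ### the perp -/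

variable {f : (ι → F) → (ι → F) → F}

/-- the (right = left) perp of a subspace -/
def perp (hf : RForm f) (W : Submodule F (ι → F)) : Submodule F (ι → F) where
  carrier := {v | ∀ w ∈ W, f w v = 0}
  add_mem' {a b} ha hb w hw := by rw [hf.add_right, ha w hw, hb w hw, add_zero]
  zero_mem' w _ := hf.right_zero w
  smul_mem' c v hv w hw := hf.zero_right c w v (hv w hw)

theorem mem_perp_iff (hf : RForm f) (W : Submodule F (ι → F)) (v : ι → F) :
    v ∈ perp hf W ↔ ∀ w ∈ W, f w v = 0 := Iff.rfl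

theorem mem_perp_iff' (hf : RForm f) (W : Submodule F (ι → F)) (v : ι → F) :
    v ∈ perp hf W ↔ ∀ w ∈ W, f v w = 0 :=
  ⟨fun h w hw => hf.refl _ _ (h w hw), fun h w hw => hf.refl _ _ (h w hw)⟩

theorem perp_anti (hf : RForm f) {W W' : Submodule F (ι → F)} (h : W ≤ W') : perp hf W' ≤ perp hf W :=
  fun _ hv w hw => hv w (h hw)

theorem le_perp_perp (hf : RForm f) (W : Submodule F (ι → F)) : W ≤ perp hf (perp hf W) :=
  fun w hw v hv => hf.refl _ _ (hv w hw)

theorem Inv.perp (hf : RForm f) {H : Subgroup (GL ι F)} (hH : FixesForm (matrixSet H) f)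
    {W : Submodule F (ι → F)} (h : Inv H W) : Inv H (perp hf W) := by
  intro g hg v hv w hw
  have h1 := hH (g : Matrix ι ι F) ⟨g, hg, rfl⟩ (((g⁻¹ : GL ι F) : Matrix ι ι F) *ᵥ w) v
  rw [mulVec_inv_mulVec] at h1
  rw [h1]
  exact hv _ (h g⁻¹ (H.inv_mem hg) w hw)

theorem totallySingular_inf_perp (hf : RForm f) (W : Submodule F (ι → F)) :
    IsTotallySingularFor f (W ⊓ perp hf W) := fun u hu v hv => hv.2 u hu.1

theorem nondegenerateOn_of_inf_perp (hf : RForm f) {W : Submodule F (ι → F)} (h : W ⊓ perp hf W = ⊥) :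
    IsNondegenerateOn f W := by
  intro w hw hw0
  have hnot : w ∉ perp hf W := fun hp => hw0 ((Submodule.mem_bot F).mp (h ▸ ⟨hw, hp⟩))
  rw [mem_perp_iff] at hnot
  push Not at hnot
  obtain ⟨x, hx, hxw⟩ := hnot
  exact ⟨⟨x, hx, hxw⟩, ⟨x, hx, fun h0 => hxw (hf.refl _ _ h0)⟩⟩

theorem inf_perp_of_nondegenerateOn (hf : RForm f) {W : Submodule F (ι → F)} (h : IsNondegenerateOn f W) :
    W ⊓ perp hf W = ⊥ := by
  rw [eq_bot_iff]
  intro w hw
  rw [Submodule.mem_bot]
  by_contra hw0
  obtain ⟨⟨x, hx, hxw⟩, _⟩ := h w hw.1 hw0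
  exact hxw (hw.2 x hx)

/-- the key (finite-field counting) step: every functional `f(·, v)` on `W` is represented inside `W` -/
theorem exists_repr [Finite F] (hf : RForm f) {W : Submodule F (ι → F)} (h : W ⊓ perp hf W = ⊥)
    (v : ι → F) : ∃ x ∈ W, ∀ w ∈ W, f w x = f w v := by
  classical
  let Φ : (ι → F) → Module.Dual F W := fun x =>
    { toFun := fun w => f (w : ι → F) x
      map_add' := fun a b => by simp only [Submodule.coe_add]; exact hf.add_left _ _ _
      map_smul' := fun c a => by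
        simp only [Submodule.coe_smul, RingHom.id_apply, smul_eq_mul]; exact hf.smul_left _ _ _ }
  have hinj : Function.Injective (fun x : W => Φ (x : ι → F)) := by
    intro x y hxy
    have h1 : ((x : ι → F) - (y : ι → F)) ∈ W ⊓ perp hf W := by
      refine ⟨W.sub_mem x.2 y.2, ?_⟩
      intro w hw
      have := LinearMap.congr_fun hxy ⟨w, hw⟩
      change f w x = f w y at this
      rw [hf.right_sub, this, sub_self]
    rw [h, Submodule.mem_bot, sub_eq_zero] at h1
    exact Subtype.ext h1
  have e : W ≃ₗ[F] Module.Dual F W :=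
    LinearEquiv.ofFinrankEq _ _ (Subspace.dual_finrank_eq).symm
  have hsurj := (Finite.injective_iff_surjective_of_equiv e.toEquiv).mp hinj
  obtain ⟨x, hx⟩ := hsurj (Φ v)
  refine ⟨x, x.2, fun w hw => ?_⟩
  have := LinearMap.congr_fun hx ⟨w, hw⟩
  exact this

theorem sup_perp_eq_top [Finite F] (hf : RForm f) {W : Submodule F (ι → F)} (h : W ⊓ perp hf W = ⊥) :
    W ⊔ perp hf W = ⊤ := by
  rw [eq_top_iff]
  intro v _
  obtain ⟨x, hx, hxv⟩ := exists_repr hf h v
  rw [Submodule.mem_sup]
  refine ⟨x, hx, v - x, ?_, by abel⟩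
  intro w hw
  rw [hf.right_sub, hxv w hw, sub_self]

theorem isCompl_perp [Finite F] (hf : RForm f) {W : Submodule F (ι → F)} (h : W ⊓ perp hf W = ⊥) :
    IsCompl W (perp hf W) :=
  ⟨disjoint_iff.mpr h, codisjoint_iff.mpr (sup_perp_eq_top hf h)⟩

theorem finrank_add_finrank_perp [Finite F] (hf : RForm f) {W : Submodule F (ι → F)}
    (h : W ⊓ perp hf W = ⊥) : finrank F W + finrank F (perp hf W) = Fintype.card ι := by
  rw [Submodule.finrank_add_eq_of_isCompl (isCompl_perp hf h), Module.finrank_fintype_fun_eq_card]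

theorem nondegenerateOn_perp [Finite F] (hf : RForm f) {W : Submodule F (ι → F)}
    (h : W ⊓ perp hf W = ⊥) : IsNondegenerateOn f (perp hf W) := by
  intro u hu hu0
  obtain ⟨⟨y, hy⟩, _⟩ := hf.nondeg u hu0
  have hy' : y ∈ W ⊔ perp hf W := by rw [sup_perp_eq_top hf h]; trivial
  obtain ⟨w, hw, x, hx, rfl⟩ := Submodule.mem_sup.mp hy'
  rw [hf.add_left, hu w hw, zero_add] at hy
  exact ⟨⟨x, hx, hy⟩, ⟨x, hx, fun h0 => hy (hf.refl _ _ h0)⟩⟩

theorem perp_inf_perp_perp [Finite F] (hf : RForm f) {W : Submodule F (ι → F)}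
    (h : W ⊓ perp hf W = ⊥) : perp hf W ⊓ perp hf (perp hf W) = ⊥ :=
  inf_perp_of_nondegenerateOn hf (nondegenerateOn_perp hf h)

theorem perp_perp_eq [Finite F] (hf : RForm f) {W : Submodule F (ι → F)}
    (h : W ⊓ perp hf W = ⊥) : perp hf (perp hf W) = W := by
  have h1 := finrank_add_finrank_perp hf h
  have h2 := finrank_add_finrank_perp hf (perp_inf_perp_perp hf h)
  symm
  apply Submodule.eq_of_le_of_finrank_eq (le_perp_perp hf W)
  omega

/-! ### the trichotomy -/

/-- **The reducible case.** -/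
theorem reducible_cases [Finite F] (hf : RForm f) (H : Subgroup (GL ι F))
    (hH : FixesForm (matrixSet H) f) (W : Submodule F (ι → F)) (hW0 : W ≠ ⊥) (hW1 : W ≠ ⊤)
    (hHW : H ≤ subspaceStabilizer W) :
    (∃ W' : Submodule F (ι → F), W' ≠ ⊥ ∧ IsTotallySingularFor f W' ∧ H ≤ subspaceStabilizer W') ∨
    (∃ W' : Submodule F (ι → F), W' ≠ ⊥ ∧ W' ≠ ⊤ ∧ IsNondegenerateOn f W' ∧
        2 * finrank F W' < Fintype.card ι ∧ H ≤ subspaceStabilizer W') ∨
    (∃ (k : ℕ) (D : Fin 2 → Submodule F (ι → F)), 2 * k = Fintype.card ι ∧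
        IsNondegenerateMDecomposition f k D ∧ H ≤ decompositionStabilizer D) := by
  have hinv : Inv H W := inv_of_le_stab hHW
  have hinvp : Inv H (perp hf W) := hinv.perp hf hH
  by_cases hR : W ⊓ perp hf W = ⊥
  swap
  · exact Or.inl ⟨_, hR, totallySingular_inf_perp hf W, le_stab_of_inv (hinv.inf hinvp)⟩
  right
  have hsum := finrank_add_finrank_perp hf hR
  have hWpos : 0 < finrank F W := by
    rw [Module.finrank_pos_iff_exists_ne_zero]
    obtain ⟨w, hw, hw0⟩ := (Submodule.ne_bot_iff W).mp hW0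
    exact ⟨⟨w, hw⟩, fun h => hw0 (congrArg Subtype.val h)⟩
  have hWlt : finrank F W < Fintype.card ι := by
    rw [← Module.finrank_fintype_fun_eq_card (R := F) (η := ι)]
    exact Submodule.finrank_lt hW1
  have hPpos : 0 < finrank F (perp hf W) := by omega
  have hP0 : perp hf W ≠ ⊥ := by
    intro h
    rw [h, finrank_bot] at hPpos
    exact lt_irrefl _ hPpos
  have hP1 : perp hf W ≠ ⊤ := by
    intro h
    rw [h, finrank_top, Module.finrank_fintype_fun_eq_card] at hsum
    omega
  rcases lt_trichotomy (2 * finrank F W) (Fintype.card ι) with hlt | heq | hgt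
  · exact Or.inl ⟨W, hW0, hW1, nondegenerateOn_of_inf_perp hf hR, hlt, hHW⟩
  · right
    refine ⟨finrank F W, ![W, perp hf W], heq, ?_, ?_⟩
    · refine ⟨⟨le_refl 2, hWpos, ?_, ?_, ?_⟩, ?_, ?_⟩
      · intro i
        fin_cases i
        · rfl
        · change finrank F (perp hf W) = finrank F W
          omega
      · rw [iSupIndep_pair (i := (0 : Fin 2)) (j := 1) (by decide) (by intro k; fin_cases k <;> simp)]
        exact disjoint_iff.mpr hR
      · rw [eq_top_iff, ← sup_perp_eq_top hf hR]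
        exact sup_le (le_iSup (![W, perp hf W]) 0) (le_iSup (![W, perp hf W]) 1)
      · intro i
        fin_cases i
        · exact nondegenerateOn_of_inf_perp hf hR
        · exact nondegenerateOn_perp hf hR
      · intro i j hij
        fin_cases i <;> fin_cases j
        · exact absurd rfl hij
        · intro u hu v hv
          exact hv u hu
        · intro u hu v hv
          exact hf.refl _ _ (hu v hv)
        · exact absurd rfl hij
    · intro g hg
      refine ⟨1, fun i => ?_⟩
      fin_cases i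
      · exact map_eq_of_inv hinv g hg
      · exact map_eq_of_inv hinvp g hg
  · exact Or.inl ⟨perp hf W, hP0, hP1, nondegenerateOn_perp hf hR, by omega, le_stab_of_inv hinvp⟩

/-- a subspace mapped into itself by all matrices of `H` is stabilised by `H` -/
theorem le_stab_of_map_le {H : Subgroup (GL ι F)} {W : Submodule F (ι → F)}
    (h : ∀ s ∈ matrixSet H, W.map (Matrix.toLin' s) ≤ W) : H ≤ subspaceStabilizer W := by
  apply le_stab_of_inv
  intro g hg v hv
  have := h (g : Matrix ι ι F) ⟨g, hg, rfl⟩ ⟨v, hv, rfl⟩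
  rwa [Matrix.toLin'_apply] at this

/-- isometries: membership form of `FixesForm` -/
theorem fixesForm_of_forall {H : Subgroup (GL ι F)}
    (h : ∀ g ∈ H, ∀ u v, f ((g : Matrix ι ι F) *ᵥ u) ((g : Matrix ι ι F) *ᵥ v) = f u v) :
    FixesForm (matrixSet H) f := by
  rintro _ ⟨g, hg, rfl⟩ u v
  exact h g hg u v

/-- **The reducible case**, from `¬ ActsIrreducibly`. -/
theorem reducible_cases' [Finite F] (hf : RForm f) (H : Subgroup (GL ι F))
    (hH : FixesForm (matrixSet H) f) (hred : ¬ ActsIrreducibly (matrixSet H)) :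
    (∃ W' : Submodule F (ι → F), W' ≠ ⊥ ∧ IsTotallySingularFor f W' ∧ H ≤ subspaceStabilizer W') ∨
    (∃ W' : Submodule F (ι → F), W' ≠ ⊥ ∧ W' ≠ ⊤ ∧ IsNondegenerateOn f W' ∧
        2 * finrank F W' < Fintype.card ι ∧ H ≤ subspaceStabilizer W') ∨
    (∃ (k : ℕ) (D : Fin 2 → Submodule F (ι → F)), 2 * k = Fintype.card ι ∧
        IsNondegenerateMDecomposition f k D ∧ H ≤ decompositionStabilizer D) := by
  unfold ActsIrreducibly at hred
  push Not at hred
  obtain ⟨W, hW, hW0, hW1⟩ := hred
  exact reducible_cases hf H hH W hW0 hW1 (le_stab_of_map_le hW)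

/-- totally singular for the polar form gives totally singular for `Q` when `2 ≠ 0` -/
theorem totallySingularQuad_of_polar {Q : (ι → F) → F} (hQ : IsNondegenerateQuadraticForm Q)
    (h2 : (2 : F) ≠ 0) {W : Submodule F (ι → F)} (h : IsTotallySingularFor (QuadraticMap.polar Q) W) :
    IsTotallySingularQuad Q W := by
  intro w hw
  have h1 := h w hw w hw
  have h3 : Q (w + w) = 4 * Q w := by
    rw [← two_smul F w, hQ.smul]
    norm_num
  rw [QuadraticMap.polar, h3] at h1
  have h4 : 2 * Q w = 0 := by linear_combination h1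
  exact (mul_eq_zero.mp h4).resolve_left h2

end Cfsg.Agent.Lib.Helper2.FormRed
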