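import Mathlib
import Cfsg.Agent.Lib.Helper1.OrthSubfDefs

/-!
# S5683 FO-C1 / FO-C2 / FO-IMP: confinement lemmas for the orthogonal subfield groups
-/

set_option autoImplicit false
set_option linter.unusedSectionVars false
set_option linter.unusedVariables false

namespace Cfsg.Agent.Lib.Helper2.S5683C

open Matrix QuadraticMap Cfsg.Agent.Lib.Helper6 Cfsg.Agent.Lib.Helper13 Cfsg.Agent.Lib.Helper1.SubfSL
open Cfsg.Agent.Lib.Helper1.OrthSubf

universe u
variable {F : Type u} [Field F] {n : ℕ}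
variable {Q : QuadraticForm F (Fin n → F)} {K : Subfield F}
  {B₀ : (Fin n → K) →ₗ[K] (Fin n → K) →ₗ[K] K}

theorem rvec_ite (K : Subfield F) (i : Fin n) :
    rvec K (fun j => if i = j then (1 : K) else 0) = fun j => if i = j then (1 : F) else 0 := by
  funext j
  by_cases h : i = j
  · simp [rvec, h]
  · simp [rvec, h]

/-- a vector perpendicular to all rational vectors is zero -/
theorem eq_zero_of_rat_perp (hQ : (polarBilin Q).Nondegenerate) (z : Fin n → F)
    (h : ∀ x : Fin n → K, polar (⇑Q) (rvec K x) z = 0) : z = 0 := by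
  apply hQ.2
  intro x
  have h1 := LinearMap.pi_apply_eq_sum_univ ((polarBilin Q).flip z) x
  rw [LinearMap.flip_apply] at h1
  rw [h1]
  apply Finset.sum_eq_zero
  intro i _
  rw [LinearMap.flip_apply, polarBilin_apply_apply, ← rvec_ite K i, h, smul_zero]

/-- the `K`-linear functional `x ↦ B(x, p)` on rational vectors -/
def polK (Q : QuadraticForm F (Fin n → F)) (K : Subfield F) (p : Fin n → F) :
    (Fin n → K) →ₗ[K] F where
  toFun x := polar (⇑Q) (rvec K x) p
  map_add' x x' := by rw [rvec_add, polar_add_left]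
  map_smul' k x := by
    rw [rvec_smul, polar_smul_left, RingHom.id_apply, Subfield.smul_def]

theorem polK_apply (p : Fin n → F) (x : Fin n → K) :
    polK Q K p x = polar (⇑Q) (rvec K x) p := rfl

/-- a vector perpendicular to all rational vectors perpendicular to `u` is a multiple of `u` -/
theorem exists_smul_of_perp (hB : RatForm K Q B₀) (hQ : (polarBilin Q).Nondegenerate)
    (u f : Fin n → K) (huf : B₀ u f = 1) (z : Fin n → F)
    (h : ∀ x : Fin n → K, B₀ x u = 0 → polar (⇑Q) (rvec K x) z = 0) :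
    ∃ ν : F, z = ν • rvec K u := by
  refine ⟨polar (⇑Q) (rvec K f) z, ?_⟩
  rw [← sub_eq_zero]
  apply eq_zero_of_rat_perp hQ
  intro x
  have h1 : B₀ (x - B₀ x u • f) u = 0 := by
    rw [map_sub, map_smul, LinearMap.sub_apply, LinearMap.smul_apply, hB.isS.symm f u, huf,
      smul_eq_mul, mul_one, sub_self]
  have h2 := h _ h1
  have e : rvec K x = rvec K (x - B₀ x u • f) + ((B₀ x u : K) : F) • rvec K f := by
    rw [← rvec_smul, ← rvec_add, sub_add_cancel]
  have e1 : polar (⇑Q) (rvec K x) z = ((B₀ x u : K) : F) * polar (⇑Q) (rvec K f) z := by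
    rw [e, polar_add_left, h2, zero_add, polar_smul_left, smul_eq_mul]
  have e2 : polar (⇑Q) (rvec K x) (rvec K u) = ((B₀ x u : K) : F) := (hB.eq x u).symm
  rw [polar_sub_right, polar_smul_right, e1, e2, smul_eq_mul]
  ring

/-- a vector whose products with the rational vectors perpendicular to `u` are rational is
rational modulo `u` -/
theorem exists_rep (hB : RatForm K Q B₀) (hQ : (polarBilin Q).Nondegenerate)
    (u : Fin n → K) (hu0 : u ≠ 0) (p : Fin n → F)
    (hK : ∀ x : Fin n → K, B₀ x u = 0 → polar (⇑Q) (rvec K x) p ∈ K) :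
    ∃ (v : Fin n → K) (ν : F), p = rvec K v + ν • rvec K u := by
  classical
  have hS := hB.isS
  obtain ⟨f, hf⟩ : ∃ f, B₀ u f = 1 := by
    obtain ⟨f₀, hf₀⟩ := hS.nd' u hu0
    exact ⟨(B₀ u f₀)⁻¹ • f₀, by rw [map_smul, smul_eq_mul, inv_mul_cancel₀ hf₀]⟩
  have hfu : B₀ f u = 1 := by rw [hS.symm, hf]
  have hT : ∀ x, B₀ (x - B₀ x u • f) u = 0 := by
    intro x
    rw [map_sub, map_smul, LinearMap.sub_apply, LinearMap.smul_apply, hfu, smul_eq_mul, mul_one,
      sub_self]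
  -- the functional `x ↦ B(x - B₀(x,u) f, p)`
  obtain ⟨Λ, hΛ⟩ : ∃ Λ : (Fin n → K) →ₗ[K] F,
      ∀ x, Λ x = polar (⇑Q) (rvec K (x - B₀ x u • f)) p :=
    ⟨(polK Q K p).comp (LinearMap.id - (B₀.flip u).smulRight f), fun x => rfl⟩
  have hΛK : ∀ x, Λ x ∈ K := fun x => by rw [hΛ]; exact hK _ (hT x)
  obtain ⟨v, hv⟩ := hS.exists_riesz (fun i => (⟨Λ (fun j => if i = j then 1 else 0), hΛK _⟩ : K))
  refine ⟨v, ?_⟩
  have key : ∀ x : Fin n → K, B₀ x u = 0 → polar (⇑Q) (rvec K x) (p - rvec K v) = 0 := by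
    intro x hx
    have h1 : polar (⇑Q) (rvec K x) p = Λ x := by
      rw [hΛ, hx, zero_smul, sub_zero]
    rw [polar_sub_right, ← hB.eq x v, hv x, h1, LinearMap.pi_apply_eq_sum_univ Λ x, dotProduct]
    push_cast
    rw [sub_eq_zero]
    apply Finset.sum_congr rfl
    intro i _
    rw [Subfield.smul_def, smul_eq_mul, mul_comm]
  obtain ⟨ν, hν⟩ := exists_smul_of_perp hB hQ u f hf (p - rvec K v) key
  exact ⟨ν, by rw [← hν]; abel⟩

/-- step (1): the products of `p(u)` with rational vectors perpendicular to `u` are rational -/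
theorem minor_mem (hB : RatForm K Q B₀)
    (hspan : ∀ z : Fin n → K, z ≠ 0 → B₀ z z = 0 → ∀ x : Fin n → K, B₀ x z = 0 →
      x ∈ Submodule.span K {c : Fin n → K | B₀ c c = 0 ∧ B₀ c z = 0})
    (w y : Fin n → F)
    (hΔ : ∀ u c : Fin n → K, B₀ u u = 0 → B₀ c c = 0 → B₀ u c = 0 →
      polar (⇑Q) (rvec K u) w * polar (⇑Q) (rvec K c) y -
        polar (⇑Q) (rvec K u) y * polar (⇑Q) (rvec K c) w ∈ K)
    (u : Fin n → K) (hu0 : u ≠ 0) (huu : B₀ u u = 0) (x : Fin n → K) (hx : B₀ x u = 0) :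
    polar (⇑Q) (rvec K x)
      (polar (⇑Q) (rvec K u) w • y - polar (⇑Q) (rvec K u) y • w) ∈ K := by
  have hmem := hspan u hu0 huu x hx
  refine Submodule.span_induction (p := fun v _ => polar (⇑Q) (rvec K v)
    (polar (⇑Q) (rvec K u) w • y - polar (⇑Q) (rvec K u) y • w) ∈ K) ?_ ?_ ?_ ?_ hmem
  · intro c hc
    have := hΔ u c huu hc.1 (by rw [hB.isS.symm]; exact hc.2)
    rw [polar_sub_right, polar_smul_right, polar_smul_right, smul_eq_mul, smul_eq_mul]
    exact this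
  · rw [rvec_zero, polar_zero_left]
    exact K.zero_mem
  · intro a b _ _ ha hb
    rw [rvec_add, polar_add_left]
    exact K.add_mem ha hb
  · intro k v _ hv
    rw [rvec_smul, polar_smul_left, smul_eq_mul]
    exact K.mul_mem k.2 hv

/-- step (3): a nonzero minor on two rational singular vectors -/
theorem exists_minor_ne_zero [Finite K] (hB : RatForm K Q B₀)
    (hQ : (polarBilin Q).Nondegenerate) (hn : 3 ≤ n) (w y : Fin n → F)
    (hind : ∀ a b : F, a • w + b • y = 0 → a = 0 ∧ b = 0) :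
    ∃ u u' : Fin n → K, B₀ u u = 0 ∧ B₀ u' u' = 0 ∧
      polar (⇑Q) (rvec K u) w * polar (⇑Q) (rvec K u') y -
        polar (⇑Q) (rvec K u) y * polar (⇑Q) (rvec K u') w ≠ 0 := by
  have hS := hB.isS
  obtain ⟨e, -, he0, hee⟩ := exists_singular_in B₀ ⊤ (by rw [finrank_top_fun]; exact hn)
  have hsum := fun x => hS.exists_iso_sum e he0 hee x
  have hw0 : w ≠ 0 := by
    rintro rfl
    have := hind 1 0 (by simp)
    exact one_ne_zero this.1
  obtain ⟨u₀, hu₀, hu₀w⟩ : ∃ u₀ : Fin n → K, B₀ u₀ u₀ = 0 ∧ polar (⇑Q) (rvec K u₀) w ≠ 0 := by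
    by_contra hcon
    push Not at hcon
    apply hw0
    apply eq_zero_of_rat_perp hQ
    intro x
    obtain ⟨x₁, x₂, h1, h2, rfl⟩ := hsum x
    rw [rvec_add, polar_add_left, hcon x₁ h1, hcon x₂ h2, add_zero]
  by_contra hcon
  push Not at hcon
  obtain ⟨lam, hlam⟩ : ∃ lam, lam = polar (⇑Q) (rvec K u₀) y / polar (⇑Q) (rvec K u₀) w :=
    ⟨_, rfl⟩
  have hz : y - lam • w = 0 := by
    apply eq_zero_of_rat_perp hQ
    intro x
    obtain ⟨x₁, x₂, h1, h2, rfl⟩ := hsum x
    have hx : ∀ u' : Fin n → K, B₀ u' u' = 0 → polar (⇑Q) (rvec K u') (y - lam • w) = 0 := by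
      intro u' hu'
      have := hcon u₀ u' hu₀ hu'
      rw [polar_sub_right, polar_smul_right, smul_eq_mul, hlam]
      field_simp
      linear_combination this
    rw [rvec_add, polar_add_left, hx x₁ h1, hx x₂ h2, add_zero]
  have := hind (-lam) 1 (by
    rw [neg_smul, one_smul, ← hz]
    abel)
  exact one_ne_zero this.2

/-- **FO-C1** with FO-G1 (`span_singular_perp`) as a hypothesis -/
theorem conf_of_minors_aux [Finite F] (hB : RatForm K Q B₀) (hQ : (polarBilin Q).Nondegenerate)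
    (hn : 6 ≤ n)
    (hspan : ∀ z : Fin n → K, z ≠ 0 → B₀ z z = 0 → ∀ x : Fin n → K, B₀ x z = 0 →
      x ∈ Submodule.span K {c : Fin n → K | B₀ c c = 0 ∧ B₀ c z = 0})
    (w y : Fin n → F) (hind : ∀ a b : F, a • w + b • y = 0 → a = 0 ∧ b = 0)
    (hΔ : ∀ u c : Fin n → K, B₀ u u = 0 → B₀ c c = 0 → B₀ u c = 0 →
      polar (⇑Q) (rvec K u) w * polar (⇑Q) (rvec K c) y -
        polar (⇑Q) (rvec K u) y * polar (⇑Q) (rvec K c) w ∈ K) : Conf K w := by
  haveI : Finite K := Finite.of_injective (fun x : K => (x : F)) Subtype.val_injective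
  obtain ⟨u, u', hu, hu', hD⟩ := exists_minor_ne_zero hB hQ (by omega) w y hind
  have hu0 : u ≠ 0 := by
    rintro rfl
    apply hD
    rw [rvec_zero, polar_zero_left, polar_zero_left]
    ring
  have hu'0 : u' ≠ 0 := by
    rintro rfl
    apply hD
    rw [rvec_zero, polar_zero_left, polar_zero_left]
    ring
  obtain ⟨v, ν, hp⟩ := exists_rep hB hQ u hu0 _ (minor_mem hB hspan w y hΔ u hu0 hu)
  obtain ⟨v', ν', hp'⟩ := exists_rep hB hQ u' hu'0 _ (minor_mem hB hspan w y hΔ u' hu'0 hu')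
  obtain ⟨a, ha⟩ : ∃ a, a = polar (⇑Q) (rvec K u) w := ⟨_, rfl⟩
  obtain ⟨b, hb⟩ : ∃ b, b = polar (⇑Q) (rvec K u) y := ⟨_, rfl⟩
  obtain ⟨a', ha'⟩ : ∃ a', a' = polar (⇑Q) (rvec K u') w := ⟨_, rfl⟩
  obtain ⟨b', hb'⟩ : ∃ b', b' = polar (⇑Q) (rvec K u') y := ⟨_, rfl⟩
  rw [← ha, ← hb] at hp
  rw [← ha', ← hb'] at hp'
  rw [← ha, ← hb, ← ha', ← hb'] at hD
  obtain ⟨D, hDdef⟩ : ∃ D, D = a * b' - b * a' := ⟨_, rfl⟩
  rw [← hDdef] at hD
  have hw : w = D⁻¹ • (a' • (a • y - b • w) - a • (a' • y - b' • w)) := by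
    have h1 : a' • (a • y - b • w) - a • (a' • y - b' • w) = D • w := by
      rw [hDdef]
      module
    rw [h1, smul_smul, inv_mul_cancel₀ hD, one_smul]
  refine ⟨![v, u, v', u'], ![D⁻¹ * a', D⁻¹ * a' * ν, -(D⁻¹ * a), -(D⁻¹ * a * ν')], ?_⟩
  rw [Fin.sum_univ_four]
  simp only [Matrix.cons_val_zero, Matrix.cons_val_one, Matrix.cons_val_two,
    Matrix.cons_val_three, Matrix.head_cons, Matrix.tail_cons]
  conv_lhs => rw [hw, hp, hp']
  module

end Cfsg.Agent.Lib.Helper2.S5683C
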