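import Mathlib
import Cfsg.Agent.Lib.Helper2.S5683FOC1
import Cfsg.Agent.Lib.Helper10.S5683FOG

/-!
# S5683 FO-C1: the confinement lemma (exact skeleton signature)
-/

set_option autoImplicit false
set_option linter.unusedSectionVars false
set_option linter.unusedVariables false

namespace Cfsg.Agent.Lib.Helper2.S5683C

open Matrix QuadraticMap Cfsg.Agent.Lib.Helper6 Cfsg.Agent.Lib.Helper13 Cfsg.Agent.Lib.Helper1.SubfSL
open Cfsg.Agent.Lib.Helper1.OrthSubf

universe u
variable {F : Type u} [Field F] {n : ℕ}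
variable {Q : QuadraticForm F (Fin n → F)} {K : Subfield F}
  {B₀ : (Fin n → K) →ₗ[K] (Fin n → K) →ₗ[K] K}

/-- **FO-C1** -/
theorem conf_of_minors [Finite F] (hB : RatForm K Q B₀) (hQ : (polarBilin Q).Nondegenerate)
    (hn : 6 ≤ n) (w y : Fin n → F) (hind : ∀ a b : F, a • w + b • y = 0 → a = 0 ∧ b = 0)
    (hΔ : ∀ u c : Fin n → K, B₀ u u = 0 → B₀ c c = 0 → B₀ u c = 0 →
      polar (⇑Q) (rvec K u) w * polar (⇑Q) (rvec K c) y -
        polar (⇑Q) (rvec K u) y * polar (⇑Q) (rvec K c) w ∈ K) : Conf K w := by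
  haveI : Finite K := Finite.of_injective (fun x : K => (x : F)) Subtype.val_injective
  exact conf_of_minors_aux hB hQ hn
    (fun z hz0 hzz x hx => Cfsg.Agent.Lib.Helper10.S5683FOG.span_singular_perp hB.isS hn z hz0 hzz x hx)
    w y hind hΔ

end Cfsg.Agent.Lib.Helper2.S5683C
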