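import Mathlib
import Cfsg.Prelude.Def_Characters
import Cfsg.Agent.Lib.Helper2.CenterIndex

/-!
# The degree of an irreducible representation divides the index of a subgroup acting by scalars
(helper2 library)
-/

set_option autoImplicit false

namespace Cfsg.Agent.Lib.Helper2

open Module
open scoped ComplexConjugate

section

variable {G : Type*} [Group G] [Fintype G]
variable {V : Type*} [AddCommGroup V] [Module ℂ V] [FiniteDimensional ℂ V]

/-- The degree of an irreducible representation divides the index of any subgroup acting by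
scalars. -/
theorem finrank_dvd_index_of_scalar (ρ : Representation ℂ G V) [ρ.IsIrreducible] (Z : Subgroup G)
    (hZ : ∀ z ∈ Z, ∃ ω : ℂ, ρ z = ω • (LinearMap.id : V →ₗ[ℂ] V)) :
    finrank ℂ V ∣ Z.index := by
  classical
  have hnt := nontrivial_of_isIrreducible ρ
  have hpos := finrank_pos_of_isIrreducible ρ
  set n := finrank ℂ V with hn
  have hnC : (n : ℂ) ≠ 0 := by exact_mod_cast hpos.ne'
  let χ := ρ.character
  -- the function `a g = χ(g⁻¹) ρ(g)` is constant on cosets of the centre
  have hconst : ∀ (g z : G), z ∈ Z → χ ((g * z)⁻¹) • ρ (g * z) = χ g⁻¹ • ρ g := by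
    intro g z hz
    obtain ⟨ω, hω⟩ := hZ z hz
    obtain ⟨ω', hω'⟩ := hZ z⁻¹ (Z.inv_mem hz)
    have hωω' : ω' * ω = 1 := by
      have h1 : ρ z⁻¹ * ρ z = 1 := by rw [← map_mul, inv_mul_cancel, map_one]
      rw [hω, hω'] at h1
      obtain ⟨v, hv⟩ := exists_ne (0 : V)
      have h2 := LinearMap.congr_fun h1 v
      simp only [Module.End.mul_apply, LinearMap.smul_apply, LinearMap.id_coe, id_eq,
        Module.End.one_apply, smul_smul] at h2
      have h3 : (ω' * ω - 1) • v = 0 := by rw [sub_smul, h2, one_smul, sub_self]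
      rcases smul_eq_zero.mp h3 with h4 | h4
      · exact sub_eq_zero.mp h4
      · exact absurd h4 hv
    have h1 : χ ((g * z)⁻¹) = ω' * χ g⁻¹ := by
      change ρ.character ((g * z)⁻¹) = ω' * ρ.character g⁻¹
      rw [mul_inv_rev, Representation.character, Representation.character, map_mul, hω']
      rw [smul_mul_assoc, map_smul, smul_eq_mul]
      congr 2
    have h2 : ρ (g * z) = ω • ρ g := by
      rw [map_mul, hω, mul_smul_comm]
      congr 1
    rw [h1, h2, smul_smul, mul_right_comm, hωω', one_mul]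
  -- the total sum
  have htotal : repSum ρ (fun g => χ g⁻¹) = ((Nat.card G : ℂ) / n) • LinearMap.id := by
    have hcf : Cfsg.IsClassFunction G (fun g => χ g⁻¹) := by
      intro g h
      change ρ.character ((h * g * h⁻¹)⁻¹) = ρ.character g⁻¹
      have : (h * g * h⁻¹)⁻¹ = h * g⁻¹ * h⁻¹ := by group
      rw [this, Representation.char_conj]
    rw [repSum_irreducible ρ _ hcf]
    congr 1
    have h1 := classInner_irr_self ρ
    rw [classInner_def] at h1
    have hsum : ∑ g : G, χ g⁻¹ * ρ.character g = (Nat.card G : ℂ) := by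
      have hne : (Nat.card G : ℂ) ≠ 0 := card_ne_zero_complex
      have h2 : ∑ g : G, ρ.character g * conj (ρ.character g) = (Nat.card G : ℂ) := by
        field_simp at h1
        rw [h1]
      rw [← h2]
      apply Finset.sum_congr rfl
      intro g _
      change ρ.character g⁻¹ * ρ.character g = _
      rw [char_inv]; ring
    rw [hsum, div_eq_inv_mul]
  -- coset decomposition
  let f : (G ⧸ Z) × Z → G := fun p => p.1.out * p.2
  have hf : Function.Bijective f := by
    constructor
    · rintro ⟨q, z⟩ ⟨q', z'⟩ h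
      have h' : q.out * (z : G) = q'.out * (z' : G) := h
      have hq : q = q' := by
        have h1 : ((q.out * (z : G) : G) : G ⧸ Z) = ((q'.out * (z' : G) : G) : G ⧸ Z) := by
          rw [h']
        have e1 : ((q.out * (z : G) : G) : G ⧸ Z) = q := by
          rw [QuotientGroup.mk_mul_of_mem _ z.2]; exact QuotientGroup.out_eq' q
        have e2 : ((q'.out * (z' : G) : G) : G ⧸ Z) = q' := by
          rw [QuotientGroup.mk_mul_of_mem _ z'.2]; exact QuotientGroup.out_eq' q'
        rw [e1, e2] at h1
        exact h1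
      subst hq
      have hz : (z : G) = z' := mul_left_cancel h'
      exact Prod.ext rfl (Subtype.ext hz)
    · intro g
      have hm : ((g : G ⧸ Z)).out⁻¹ * g ∈ Z := by
        rw [← QuotientGroup.eq]
        exact QuotientGroup.out_eq' _
      refine ⟨((g : G ⧸ Z), ⟨_, hm⟩), ?_⟩
      change ((g : G ⧸ Z)).out * (((g : G ⧸ Z)).out⁻¹ * g) = g
      group
  have hsplit : repSum ρ (fun g => χ g⁻¹)
      = (Nat.card Z : ℂ) • repSum ρ (fun g => if ((g : G ⧸ Z)).out = g then χ g⁻¹ else 0) := by
    rw [repSum, repSum]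
    rw [← Function.Bijective.sum_comp hf (fun g => χ g⁻¹ • ρ g), Fintype.sum_prod_type]
    have h1 : ∀ q : G ⧸ Z, ∑ z : Z, χ (f (q, z))⁻¹ • ρ (f (q, z))
        = (Nat.card Z : ℂ) • (χ (q.out)⁻¹ • ρ q.out) := by
      intro q
      have : ∀ z : Z, χ (f (q, z))⁻¹ • ρ (f (q, z)) = χ (q.out)⁻¹ • ρ q.out :=
        fun z => hconst q.out z z.2
      simp only [this, Finset.sum_const, Finset.card_univ, Nat.card_eq_fintype_card]
      rw [← Nat.cast_smul_eq_nsmul ℂ]
    simp only [h1]
    rw [← Finset.smul_sum]
    congr 1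
    -- sum over representatives
    symm
    rw [← Finset.sum_subset (Finset.subset_univ (Finset.univ.image (fun q : G ⧸ Z => q.out)))]
    · rw [Finset.sum_image]
      · apply Finset.sum_congr rfl
        intro q _
        rw [if_pos]
        rw [QuotientGroup.out_eq']
      · intro q _ q' _ h
        have := congrArg (fun g : G => (g : G ⧸ Z)) h
        simpa [QuotientGroup.out_eq'] using this
    · intro g _ hg
      rw [if_neg, zero_smul]
      intro h
      apply hg
      rw [Finset.mem_image]
      exact ⟨(g : G ⧸ Z), Finset.mem_univ _, h⟩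
  -- integrality
  have hint : IsIntegral (integralClosure ℤ ℂ)
      (repSum ρ (fun g => if ((g : G ⧸ Z)).out = g then χ g⁻¹ else 0)) := by
    apply repSum_isIntegral_of_isIntegral
    intro g
    split_ifs
    · exact char_isIntegral ρ g⁻¹
    · exact isIntegral_zero
  have hZne : (Nat.card Z : ℂ) ≠ 0 := by exact_mod_cast Nat.card_pos.ne'
  have heq : repSum ρ (fun g => if ((g : G ⧸ Z)).out = g then χ g⁻¹ else 0)
      = ((Z.index : ℂ) / n) • (LinearMap.id : V →ₗ[ℂ] V) := by
    have h1 : (Nat.card Z : ℂ) • repSum ρ (fun g => if ((g : G ⧸ Z)).out = g then χ g⁻¹ else 0)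
        = ((Nat.card G : ℂ) / n) • (LinearMap.id : V →ₗ[ℂ] V) := by rw [← hsplit, htotal]
    have h2 : (Nat.card G : ℂ) = (Nat.card Z : ℂ) * (Z.index : ℂ) := by
      rw [← Nat.cast_mul, Subgroup.card_mul_index]
    calc repSum ρ (fun g => if ((g : G ⧸ Z)).out = g then χ g⁻¹ else 0)
        = (Nat.card Z : ℂ)⁻¹ • ((Nat.card Z : ℂ) •
            repSum ρ (fun g => if ((g : G ⧸ Z)).out = g then χ g⁻¹ else 0)) := by
          rw [smul_smul, inv_mul_cancel₀ hZne, one_smul]
      _ = ((Z.index : ℂ) / n) • (LinearMap.id : V →ₗ[ℂ] V) := by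
          rw [h1, smul_smul, h2]
          congr 1
          field_simp
  rw [heq] at hint
  have hint' := isIntegral_of_smul_id_of_integralClosure _ hint
  obtain ⟨m, hm⟩ := exists_int_of_isIntegral_of_rat
    ((Z.index : ℚ) / (n : ℚ)) (by push_cast; rfl) hint'
  have h2 : (Z.index : ℂ) = (m : ℂ) * (n : ℂ) := by
    rw [← hm]; field_simp
  have h3 : (Z.index : ℤ) = m * (n : ℤ) := by exact_mod_cast h2
  have h4 : (n : ℤ) ∣ (Z.index : ℤ) := ⟨m, by rw [h3, mul_comm]⟩
  exact Int.natCast_dvd_natCast.mp h4

end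

end Cfsg.Agent.Lib.Helper2
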