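import Mathlib
import Cfsg.Prelude.Def_Characters
import Cfsg.Agent.Lib.Helper2.ScalarIndex
import Cfsg.Agent.Lib.Helper2.Clifford
import Cfsg.Agent.Lib.Helper11.Clifford2

/-!
# Itô's theorem: the degree of an irreducible character divides the index of an abelian normal
subgroup (helper2 library)
-/

set_option autoImplicit false

namespace Cfsg.Agent.Lib.Helper2

open Module
open scoped ComplexConjugate

universe u

section Inertia

variable {G : Type*} [Group G] (A : Subgroup G) [hA : A.Normal]

/-- The inertia group of a function on a normal subgroup. -/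
def inertia (lam : A → ℂ) : Subgroup G where
  carrier := {g | conjFun A g lam = lam}
  mul_mem' := by
    intro a b ha hb
    have ha' : conjFun A a lam = lam := ha
    have hb' : conjFun A b lam = lam := hb
    change conjFun A (a * b) lam = lam
    rw [conjFun_mul, ha', hb']
  one_mem' := conjFun_one A lam
  inv_mem' := by
    intro a ha
    have ha' : conjFun A a lam = lam := ha
    change conjFun A a⁻¹ lam = lam
    have h := conjFun_mul A a a⁻¹ lam
    rw [mul_inv_cancel, conjFun_one, ha'] at h
    exact h.symm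

theorem mem_inertia {lam : A → ℂ} {g : G} : g ∈ inertia A lam ↔ conjFun A g lam = lam := Iff.rfl

theorem le_inertia {lam : A → ℂ} (hlam : Cfsg.IsClassFunction A lam) : A ≤ inertia A lam :=
  fun _ hg => conjFun_of_mem A hlam hg

end Inertia

section Common

variable {G : Type*} [Group G] [Fintype G]

/-- If `⟨Φ, Ψ⟩ ≠ 0` with `Ψ` a class function, then `Φ` and `Ψ` have a common irreducible
constituent. -/
theorem exists_common_constituent (Φ Ψ : G → ℂ) (hΨ : Cfsg.IsClassFunction G Ψ)
    (h : Cfsg.classInner Φ Ψ ≠ 0) :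
    ∃ ψ : Cfsg.IrrCharacter G, Cfsg.classInner Φ (ψ : G → ℂ) ≠ 0 ∧
      Cfsg.classInner Ψ (ψ : G → ℂ) ≠ 0 := by
  classical
  haveI : Fintype (Cfsg.IrrCharacter G) := Fintype.ofFinite _
  by_contra hcon
  simp only [not_exists, not_and, not_not] at hcon
  apply h
  have hexp := classFunction_expansion Ψ hΨ
  rw [hexp, classInner_sum_right]
  apply Finset.sum_eq_zero
  intro ψ _
  rw [classInner_smul_right]
  by_cases h1 : Cfsg.classInner Φ (ψ : G → ℂ) = 0
  · rw [h1, mul_zero]
  · have h2 := hcon ψ h1
    rw [h2, map_zero, zero_mul]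

/-- Two irreducible characters with nonzero inner product are equal. -/
theorem eq_of_irr_of_classInner_ne_zero' {φ ψ : G → ℂ} (hφ : Cfsg.IsIrrCharacter G φ)
    (hψ : Cfsg.IsIrrCharacter G ψ) (h : Cfsg.classInner φ ψ ≠ 0) : φ = ψ := by
  by_contra hne
  apply h
  exact classInner_irrCharacter_ne (χ := ⟨φ, hφ⟩) (ψ := ⟨ψ, hψ⟩)
    (fun heq => hne (congrArg Subtype.val heq))

end Common

section Ito

/-- Itô's theorem, character form, by induction on the group order. -/
theorem ito_aux : ∀ (n : ℕ) (G : Type u) [Group G] [Finite G], Nat.card G = n →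
    ∀ (χ : G → ℂ), Cfsg.IsIrrCharacter G χ → ∀ (A : Subgroup G) [A.Normal],
      (∀ a ∈ A, ∀ b ∈ A, a * b = b * a) → ∃ d : ℕ, χ 1 = (d : ℂ) ∧ d ∣ A.index := by
  intro n
  induction n using Nat.strong_induction_on with
  | _ n ih =>
  intro G _ _ hcard χ hχ A hAn hcomm
  classical
  haveI : Fintype G := Fintype.ofFinite G
  haveI : Fintype A := Fintype.ofFinite A
  have hχchar := IsIrrCharacter.isCharacter hχ
  have hχcf : Cfsg.IsClassFunction G χ := IsCharacter.isClassFunction hχchar
  -- an irreducible constituent `lam` of the restriction to `A`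
  have hresne : (fun a : A => χ a) ≠ 0 := by
    intro h
    have := congrFun h 1
    exact IsIrrCharacter.apply_one_ne_zero hχ this
  obtain ⟨lamI, Ψ, hΨ, hsum⟩ := exists_irr_add_of_ne_zero (IsCharacter.restrict hχchar A) hresne
  set lam : A → ℂ := (lamI : A → ℂ) with hlamdef
  have hlam : Cfsg.IsIrrCharacter A lam := lamI.2
  have hconst : Cfsg.classInner (fun a : A => χ a) lam ≠ 0 := by
    rw [hsum, classInner_add_left]
    have h1 : Cfsg.classInner (lamI : A → ℂ) lam = 1 := classInner_irrCharacter_self lamI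
    obtain ⟨k, hk⟩ := classInner_isCharacter_nat hΨ (IsIrrCharacter.isCharacter hlam)
    rw [h1, hk]
    have : ((1 + k : ℕ) : ℂ) ≠ 0 := by exact_mod_cast (Nat.succ_ne_zero k ∘ (by omega))
    simpa using this
  have hlam1 : lam 1 = 1 :=
    IsIrrCharacter.apply_one_of_comm
      (fun a b => Subtype.ext (hcomm a a.2 b b.2)) hlam
  have hlamcf : Cfsg.IsClassFunction A lam := IrrCharacter.isClassFunction lamI
  set T := inertia A lam with hTdef
  have hAT : A ≤ T := le_inertia A hlamcf
  by_cases hT : T = ⊤
  · -- `lam` is invariant: `A` acts by scalars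
    have hinv : ∀ g : G, conjFun A g lam = lam := by
      intro g
      have : g ∈ T := by rw [hT]; trivial
      exact this
    have hcl := clifford_restriction A hχ hlam hconst
    have hset : {ψ : A → ℂ | ∃ g : G, ψ = conjFun A g lam} = {lam} := by
      ext ψ
      constructor
      · rintro ⟨g, rfl⟩; exact hinv g
      · intro h; exact ⟨1, by rw [Set.mem_singleton_iff.mp h, conjFun_one]⟩
    rw [hset, finsum_mem_singleton] at hcl
    set e := Cfsg.classInner (fun a : A => χ a) lam with he
    have hval : ∀ a : A, χ a = e * lam a := by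
      intro a
      have := congrFun hcl a
      simpa using this
    obtain ⟨φ, hφ⟩ := exists_monoidHom_of_isIrrCharacter_of_apply_one hlam hlam1
    have hnorm : ∀ a : A, ‖lam a‖ = 1 := by
      intro a
      rw [hφ]
      have hfin : (φ a) ^ (orderOf a) = 1 := by rw [← map_pow, pow_orderOf_eq_one, map_one]
      have hfin' : ((φ a : ℂˣ) : ℂ) ^ (orderOf a) = 1 := by
        rw [← Units.val_pow_eq_pow_val, hfin, Units.val_one]
      exact Complex.norm_eq_one_of_pow_eq_one hfin' (orderOf_pos a).ne'
    obtain ⟨m, ρ, hρ, rfl⟩ := hχ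
    haveI := hρ
    have hscal : ∀ z ∈ A, ∃ ω : ℂ, ρ z = ω • (LinearMap.id : (Fin m → ℂ) →ₗ[ℂ] (Fin m → ℂ)) := by
      intro z hz
      rw [← norm_char_eq_finrank_iff]
      have h1 := hval ⟨z, hz⟩
      have h2 := hval 1
      rw [hlam1, mul_one] at h2
      change ρ.character z = e * lam ⟨z, hz⟩ at h1
      change ρ.character 1 = e at h2
      rw [h1, norm_mul, hnorm, mul_one, ← h2, Representation.char_one, Complex.norm_natCast]
    refine ⟨finrank ℂ (Fin m → ℂ), Representation.char_one ρ, ?_⟩
    exact finrank_dvd_index_of_scalar ρ A hscal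
  · -- `χ` is induced from the proper subgroup `T`
    haveI : Fintype T := Fintype.ofFinite T
    set A' : Subgroup T := A.subgroupOf T with hA'
    haveI : Fintype A' := Fintype.ofFinite A'
    let lam' : A' → ℂ := fun x => lam ⟨(x : T), Subgroup.mem_subgroupOf.mp x.2⟩
    let ΧT : T → ℂ := fun t => χ t
    have hΧTcf : Cfsg.IsClassFunction T ΧT := fun t s => hχcf t s
    -- ⟨Ind lam', χ_T⟩ ≠ 0
    have h1 : Cfsg.classInner (Cfsg.indFun A' lam') ΧT ≠ 0 := by
      rw [frobenius_reciprocity A' lam' ΧT hΧTcf]
      have h2 : Cfsg.classInner lam' (fun x : A' => ΧT x)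
          = Cfsg.classInner lam (fun a : A => χ a) := by
        rw [classInner_def, classInner_def]
        let eqv : A' ≃* A := Subgroup.subgroupOfEquivOfLe hAT
        rw [Nat.card_congr eqv.toEquiv]
        congr 1
        rw [← Equiv.sum_comp eqv.toEquiv (fun a : A => lam a * conj (χ a))]
        rfl
      rw [h2, ← classInner_conj_symm]
      intro h
      apply hconst
      have := congrArg conj h
      simpa using this
    obtain ⟨ψ, hψ1, hψ2⟩ := exists_common_constituent _ ΧT hΧTcf h1
    have hcc := Cfsg.Agent.Lib.Helper11.clifford_correspondence A T lam hlam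
      (fun g => Iff.rfl) hAT ψ ψ ψ.2 ψ.2 hψ1 hψ1
    have hind : Cfsg.indFun T (ψ : T → ℂ) = χ := by
      apply eq_of_irr_of_classInner_ne_zero' hcc.1 hχ
      rw [frobenius_reciprocity T _ χ hχcf, ← classInner_conj_symm]
      intro h
      apply hψ2
      have := congrArg conj h
      simpa using this
    -- induction hypothesis on `T`
    have hTcard : Nat.card T < n := by
      rw [← hcard]
      apply lt_of_le_of_ne (Subgroup.card_le_card_group T)
      intro h
      exact hT ((Subgroup.card_eq_iff_eq_top T).mp h)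
    have hcomm' : ∀ a ∈ A', ∀ b ∈ A', a * b = b * a := by
      intro a ha b hb
      apply Subtype.ext
      exact hcomm a (Subgroup.mem_subgroupOf.mp ha) b (Subgroup.mem_subgroupOf.mp hb)
    haveI : A'.Normal := Subgroup.Normal.subgroupOf hAn T
    obtain ⟨d', hd', hdvd'⟩ := ih (Nat.card T) hTcard T rfl (ψ : T → ℂ) ψ.2 A' hcomm'
    refine ⟨T.index * d', ?_, ?_⟩
    · rw [← hind, indFun_apply_one, hd']; push_cast; ring
    · rw [← Subgroup.relIndex_mul_index hAT, mul_comm]
      exact Nat.mul_dvd_mul hdvd' (dvd_refl _)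

/-- Itô's theorem. -/
theorem finrank_dvd_index_of_abelian_normal {G : Type u} [Group G] [Finite G] {V : Type*}
    [AddCommGroup V] [Module ℂ V] [FiniteDimensional ℂ V] (ρ : Representation ℂ G V)
    [ρ.IsIrreducible] (H : Subgroup G) [H.Normal] (hH : ∀ a ∈ H, ∀ b ∈ H, a * b = b * a) :
    finrank ℂ V ∣ H.index := by
  obtain ⟨d, hd, hdvd⟩ := ito_aux (Nat.card G) G rfl ρ.character (isIrrCharacter_of_rep ρ) H hH
  rw [Representation.char_one] at hd
  have : finrank ℂ V = d := by exact_mod_cast hd
  rw [this]; exact hdvd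

end Ito

end Cfsg.Agent.Lib.Helper2
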