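import Mathlib
import Cfsg.Prelude.Def_Characters
import Cfsg.Agent.Lib.Helper2.NormalInduction
import Cfsg.Agent.Lib.Helper2.Expansion

/-!
# Frobenius groups `G = K ⋊ H` (given by a fixed-point-free action): basic facts and characters
(helper2 library)
-/

set_option autoImplicit false

namespace Cfsg.Agent.Lib.Helper2

open scoped ComplexConjugate

section Basic

variable {G : Type*} [Group G] [Finite G] (K H : Subgroup G) [hK : K.Normal]

include hK in
/-- In a Frobenius group, an element of the coset `K h` (`h ∈ H` nontrivial) is `K`-conjugate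
to `h`. -/
theorem exists_conj_eq_of_fpf
    (hfpf : ∀ h ∈ H, h ≠ 1 → ∀ k ∈ K, h * k = k * h → k = 1) {h : G} (hh : h ∈ H) (hh1 : h ≠ 1)
    {x : G} (hx : x ∈ K) : ∃ u ∈ K, u⁻¹ * h * u = x * h := by
  classical
  have hmem : ∀ u : K, (u : G)⁻¹ * (h * u * h⁻¹) ∈ K :=
    fun u => K.mul_mem (K.inv_mem u.2) (hK.conj_mem u u.2 h)
  let φ : K → K := fun u => ⟨(u : G)⁻¹ * (h * u * h⁻¹), hmem u⟩
  have hφ : Function.Injective φ := by
    intro u v huv
    have h1 : (u : G)⁻¹ * (h * u * h⁻¹) = (v : G)⁻¹ * (h * v * h⁻¹) := congrArg Subtype.val huv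
    have h2 : h * ((v : G) * (u : G)⁻¹) = ((v : G) * (u : G)⁻¹) * h := by
      have h3 : (u : G)⁻¹ * h * u = (v : G)⁻¹ * h * v := by
        have := congrArg (fun t => t * h) h1
        simpa [mul_assoc] using this
      calc h * ((v : G) * (u : G)⁻¹) = v * ((v : G)⁻¹ * h * v) * (u : G)⁻¹ := by group
        _ = v * ((u : G)⁻¹ * h * u) * (u : G)⁻¹ := by rw [h3]
        _ = ((v : G) * (u : G)⁻¹) * h := by group
    have h4 := hfpf h hh hh1 _ (K.mul_mem v.2 (K.inv_mem u.2)) h2
    apply Subtype.ext
    calc (u : G) = ((v : G) * (u : G)⁻¹)⁻¹ * v := by group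
      _ = v := by rw [h4, inv_one, one_mul]
  obtain ⟨u, hu⟩ := (Finite.injective_iff_surjective.mp hφ) ⟨x, hx⟩
  refine ⟨u, u.2, ?_⟩
  have h1 : (u : G)⁻¹ * (h * u * h⁻¹) = x := congrArg Subtype.val hu
  rw [← h1]; group

include hK in
/-- In a Frobenius group with kernel `K`, elements outside `K` centralise no non-identity
element of `K`. -/
theorem eq_one_of_commute_of_not_mem (hKH' : K ⊔ H = ⊤)
    (hfpf : ∀ h ∈ H, h ≠ 1 → ∀ k ∈ K, h * k = k * h → k = 1) {y : G} (hy : y ∉ K)
    {k : G} (hk : k ∈ K) (hyk : y * k = k * y) : k = 1 := by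
  have hy' : y ∈ ((K ⊔ H : Subgroup G) : Set G) := by rw [hKH']; trivial
  rw [Subgroup.normal_mul] at hy'
  obtain ⟨x, hx, h, hh, rfl⟩ := hy'
  have hh1 : h ≠ 1 := by
    rintro rfl
    apply hy
    simpa using hx
  obtain ⟨u, hu, huh⟩ := exists_conj_eq_of_fpf K H hfpf hh hh1 hx
  have hx' : (x : G) * h = u⁻¹ * h * u := huh.symm
  simp only at hyk
  rw [hx'] at hyk
  have h2 : h * (u * k * u⁻¹) = (u * k * u⁻¹) * h := by
    calc h * (u * k * u⁻¹) = u * ((u⁻¹ * h * u) * k) * u⁻¹ := by group
      _ = u * (k * (u⁻¹ * h * u)) * u⁻¹ := by rw [hyk]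
      _ = (u * k * u⁻¹) * h := by group
  have h3 := hfpf h hh hh1 _ (hK.conj_mem k hk u) h2
  calc k = u⁻¹ * (u * k * u⁻¹) * u := by group
    _ = 1 := by rw [h3]; group

end Basic

section Characters

variable {G : Type*} [Group G] [Fintype G] (K H : Subgroup G) [hK : K.Normal]

/-- In a Frobenius group, the inertia group of a non-principal irreducible character of the
kernel is the kernel. -/
theorem conjFun_eq_iff_mem_of_fpf (hKH' : K ⊔ H = ⊤)
    (hfpf : ∀ h ∈ H, h ≠ 1 → ∀ k ∈ K, h * k = k * h → k = 1) {τ : K → ℂ}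
    (hτ : Cfsg.IsIrrCharacter K τ) (hτ1 : τ ≠ fun _ => 1) (g : G) :
    conjFun K g τ = τ ↔ g ∈ K := by
  classical
  haveI : Fintype K := Fintype.ofFinite K
  constructor
  · intro hg
    by_contra hgK
    have hg' : g ∈ ((K ⊔ H : Subgroup G) : Set G) := by rw [hKH']; trivial
    rw [Subgroup.normal_mul] at hg'
    obtain ⟨x, hx, h, hh, hxh⟩ := hg'
    have hxh' : x * h = g := hxh
    have hhK : h ∉ K := by
      intro hhK
      apply hgK
      rw [← hxh']
      exact K.mul_mem hx hhK
    -- `τ` is fixed by `h`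
    have hτh : conjFun K h τ = τ := by
      have h1 : conjFun K (x * h) τ = τ := by rw [hxh']; exact hg
      rw [conjFun_mul,
        conjFun_of_mem K (IrrCharacter.isClassFunction (⟨τ, hτ⟩ : Cfsg.IrrCharacter K)) hx] at h1
      exact h1
    let α : K ≃* K := MulAut.conjNormal (H := K) h
    have hbr := brauer_permutation α
    -- only the trivial class is fixed
    have hsub : Subsingleton {C : ConjClasses K // ConjClasses.map α.toMonoidHom C = C} := by
      have key : ∀ C : ConjClasses K, ConjClasses.map α.toMonoidHom C = C → C = ConjClasses.mk 1 := by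
        intro C hC
        obtain ⟨k, rfl⟩ := ConjClasses.mk_surjective C
        · have hmap : ConjClasses.map α.toMonoidHom (ConjClasses.mk k) = ConjClasses.mk (α k) := rfl
          rw [hmap, ConjClasses.mk_eq_mk_iff_isConj, isConj_iff] at hC
          obtain ⟨c, hc⟩ := hC
          have hc' : (c : G) * (h * k * h⁻¹) * (c : G)⁻¹ = k := by
            have := congrArg Subtype.val hc
            simpa [α, MulAut.conjNormal_apply] using this
          have hcomm : ((c : G) * h) * k = k * ((c : G) * h) := by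
            calc ((c : G) * h) * k = ((c : G) * (h * k * h⁻¹) * (c : G)⁻¹) * ((c : G) * h) := by group
              _ = k * ((c : G) * h) := by rw [hc']
          have hnot : (c : G) * h ∉ K := by
            intro hm
            apply hhK
            have := K.mul_mem (K.inv_mem c.2) hm
            simpa using this
          have := eq_one_of_commute_of_not_mem K H hKH' hfpf hnot k.2 hcomm
          have hk1 : k = 1 := Subtype.ext this
          rw [hk1]
      constructor
      rintro ⟨C, hC⟩ ⟨D, hD⟩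
      apply Subtype.ext
      change C = D
      rw [key C hC, key D hD]
    have hle : Nat.card {χ : Cfsg.IrrCharacter K // (χ : K → ℂ) ∘ α = (χ : K → ℂ)} ≤ 1 := by
      rw [← hbr]
      haveI : Finite (ConjClasses K) := Finite.of_surjective _ ConjClasses.mk_surjective
      exact Finite.card_le_one_iff_subsingleton.mpr hsub
    haveI : Finite (Cfsg.IrrCharacter K) := finite_irrCharacter
    have hsub2 := Finite.card_le_one_iff_subsingleton.mp hle
    have e1 : (⟨⟨τ, hτ⟩, by rw [← conjFun_eq_comp]; exact hτh⟩ :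
        {χ : Cfsg.IrrCharacter K // (χ : K → ℂ) ∘ α = (χ : K → ℂ)})
        = ⟨trivialIrr K, rfl⟩ := Subsingleton.elim _ _
    apply hτ1
    have := congrArg (fun t => (t.1 : K → ℂ)) e1
    exact this
  · intro hg
    exact conjFun_of_mem K (IrrCharacter.isClassFunction (⟨τ, hτ⟩ : Cfsg.IrrCharacter K)) hg

/-- In a Frobenius group, a non-principal irreducible character of the kernel induces
irreducibly. -/
theorem isIrrCharacter_indFun_of_fpf (hKH' : K ⊔ H = ⊤)
    (hfpf : ∀ h ∈ H, h ≠ 1 → ∀ k ∈ K, h * k = k * h → k = 1) {τ : K → ℂ}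
    (hτ : Cfsg.IsIrrCharacter K τ) (hτ1 : τ ≠ fun _ => 1) :
    Cfsg.IsIrrCharacter G (Cfsg.indFun K τ) := by
  classical
  apply isIrrCharacter_of_classInner_self_eq_one
  · exact indFun_isCharacter K τ (IsIrrCharacter.isCharacter hτ)
  · have h1 := card_mul_classInner_indFun_indFun K hτ hτ
    have h2 : Nat.card {g : G // conjFun K g τ = τ} = Nat.card K := by
      apply Nat.card_congr
      exact Equiv.subtypeEquivRight fun g => conjFun_eq_iff_mem_of_fpf K H hKH' hfpf hτ hτ1 g
    rw [h2] at h1
    have hne := card_subgroup_ne_zero K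
    calc Cfsg.classInner (Cfsg.indFun K τ) (Cfsg.indFun K τ)
        = (Nat.card K : ℂ)⁻¹ * ((Nat.card K : ℂ) * Cfsg.classInner (Cfsg.indFun K τ)
            (Cfsg.indFun K τ)) := by
          rw [← mul_assoc, inv_mul_cancel₀ hne, one_mul]
      _ = 1 := by rw [h1, inv_mul_cancel₀ hne]

end Characters

end Cfsg.Agent.Lib.Helper2
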