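/-
helper2: farm-out piece FO-2 (`grow`) for helper14's S2281.
Exact signature of notes/S2281_farmout_sigs_A.lean.txt.
-/
import Mathlib
import Cfsg.Agent.Lib.Helper9.SpGenD

set_option autoImplicit false

namespace Cfsg.Agent.Lib.Helper2.RU

open Matrix Cfsg.Agent.Lib.Helper6 Cfsg.Agent.Lib.Helper9.SpGen

section

variable {m : ℕ} {F : Type*} [Field F]

local notation "ff" => Cfsg.sympForm m F
local notation "VV" => (Fin m ⊕ Fin m → F)

/-- the growth lemma when the second linking vector has a nonzero `W`-part -/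
theorem grow_aux (hF : ∃ a b : F, a ≠ 0 ∧ b ≠ 0 ∧ a ≠ b)
    (X : Set VV)
    (H1 : ∀ u v, u ∈ X → v ∈ X → ff u v ≠ 0 → ∀ l : F, u + l • v ∈ X)
    (H2 : ∀ u, u ∈ X → ∀ l : F, l ≠ 0 → l • u ∈ X)
    (W : Submodule F VV) (hW : ∀ w ∈ W, w ≠ 0 → w ∈ X)
    (hnd : ∀ w ∈ W, w ≠ 0 → ∃ z ∈ W, ff w z ≠ 0)
    (w w' z z' : VV) (hw : w ∈ W) (hw' : w' ∈ W) (hw0 : w ≠ 0) (hw'0 : w' ≠ 0)
    (hz : ∀ u ∈ W, ff z u = 0) (hz' : ∀ u ∈ W, ff z' u = 0)
    (hzz : ff z z' ≠ 0) (hx : w + z ∈ X) (hx' : w' + z' ∈ X) :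
    (∀ v ∈ W ⊔ Submodule.span F {z, z'}, v ≠ 0 → v ∈ X) ∧
    (∀ v ∈ W ⊔ Submodule.span F {z, z'}, v ≠ 0 →
      ∃ y ∈ W ⊔ Submodule.span F {z, z'}, ff v y ≠ 0) := by
  have hWz : ∀ u ∈ W, ff u z = 0 := by
    intro u hu; rw [sympForm_swap, hz u hu, neg_zero]
  have hWz' : ∀ u ∈ W, ff u z' = 0 := by
    intro u hu; rw [sympForm_swap, hz' u hu, neg_zero]
  have hz'z : ff z' z = - ff z z' := sympForm_swap _ _
  -- P1
  have P1gen : ∀ (y : VV) (w₀ : VV), w₀ ∈ W → w₀ ≠ 0 → (∀ u ∈ W, ff y u = 0) → w₀ + y ∈ X →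
      ∀ w₁ ∈ W, w₁ ≠ 0 → ∀ μ : F, μ ≠ 0 → w₁ + μ • y ∈ X := by
    intro y w₀ hw₀ hw₀0 hy hX w₁ h1 h10 μ hμ
    have hm : μ⁻¹ • w₁ ∈ W := W.smul_mem _ h1
    have hm0 : μ⁻¹ • w₁ ≠ 0 := smul_ne_zero (inv_ne_zero hμ) h10
    have h3 := move_in X H1 W hW hnd y hy hw₀ hm hw₀0 hm0 hX
    have h4 := H2 _ h3 μ hμ
    have e0 : μ • (μ⁻¹ • w₁ + y) = w₁ + μ • y := by
      rw [smul_add, smul_smul, mul_inv_cancel₀ hμ, one_smul]
    rw [e0] at h4
    exact h4
  have P1 := P1gen z w hw hw0 hz hx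
  have P1' := P1gen z' w' hw' hw'0 hz' hx'
  -- P3
  have P3 : ∀ μ : F, μ ≠ 0 → z - μ • z' ∈ X := by
    intro μ hμ
    have h1 : w + z ∈ X := hx
    have h2 : w + μ • z' ∈ X := P1' w hw hw0 μ hμ
    have hne : ff (w + z) (w + μ • z') ≠ 0 := by
      rw [sympForm_add_left, sympForm_add_right, sympForm_add_right, sympForm_self,
        sympForm_smul_right, sympForm_smul_right, hWz' w hw, hz w hw]
      simp only [mul_zero, add_zero, zero_add]
      exact mul_ne_zero hμ hzz
    have h3 := H1 _ _ h1 h2 hne (-1)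
    have e0 : w + z + (-1 : F) • (w + μ • z') = z - μ • z' := by
      rw [neg_one_smul]; abel
    rw [e0] at h3
    exact h3
  obtain ⟨a, b, ha, hb, hab⟩ := hF
  have hp1 : z - a • z' ∈ X := P3 a ha
  have hp2 : z - b • z' ∈ X := P3 b hb
  have hp12 : ff (z - a • z') (z - b • z') ≠ 0 := by
    rw [sympForm_sub_left, sympForm_sub_right, sympForm_sub_right, sympForm_self,
      sympForm_smul_right, sympForm_smul_left, sympForm_smul_left, sympForm_smul_right,
      sympForm_self, hz'z]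
    have : (0 - b * ff z z' - (a * -ff z z' - a * (b * 0))) = (a - b) * ff z z' := by ring
    rw [this]
    exact mul_ne_zero (sub_ne_zero.mpr hab) hzz
  -- z' ∈ X and z ∈ X
  have hz'X : z' ∈ X := by
    have h3 := H1 _ _ hp1 hp2 hp12 (-1)
    have e0 : z - a • z' + (-1 : F) • (z - b • z') = (b - a) • z' := by
      rw [neg_one_smul, sub_smul]; abel
    rw [e0] at h3
    have hba : b - a ≠ 0 := sub_ne_zero.mpr (Ne.symm hab)
    have h4 := H2 _ h3 (b - a)⁻¹ (inv_ne_zero hba)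
    rwa [smul_smul, inv_mul_cancel₀ hba, one_smul] at h4
  have hzX : z ∈ X := by
    have h3 := H1 _ _ hp1 hp2 hp12 (-(a / b))
    have e0 : z - a • z' + (-(a / b)) • (z - b • z') = (1 - a / b) • z := by
      rw [smul_sub, smul_smul, neg_mul, div_mul_cancel₀ a hb, sub_smul, one_smul, neg_smul,
        neg_smul]
      abel
    rw [e0] at h3
    have hne : (1 - a / b) ≠ 0 := by
      intro h
      apply hab
      have : a / b = 1 := by
        have := sub_eq_zero.mp h
        exact this.symm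
      rw [div_eq_one_iff_eq hb] at this
      exact this
    have h4 := H2 _ h3 (1 - a / b)⁻¹ (inv_ne_zero hne)
    rwa [smul_smul, inv_mul_cancel₀ hne, one_smul] at h4
  -- P4
  have P4 : ∀ α β : F, (α ≠ 0 ∨ β ≠ 0) → α • z + β • z' ∈ X := by
    intro α β hαβ
    by_cases hα : α = 0
    · have hβ : β ≠ 0 := by
        rcases hαβ with h | h
        · exact absurd hα h
        · exact h
      rw [hα, zero_smul, zero_add]
      exact H2 _ hz'X β hβ
    · have h1 := H2 _ hzX α hα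
      have hne : ff (α • z) z' ≠ 0 := by
        rw [sympForm_smul_left]; exact mul_ne_zero hα hzz
      exact H1 _ _ h1 hz'X hne β
  -- P5
  have P5 : ∀ w₁ ∈ W, w₁ ≠ 0 → ∀ α β : F, (α ≠ 0 ∨ β ≠ 0) → w₁ + (α • z + β • z') ∈ X := by
    intro w₁ h1 h10 α β hαβ
    by_cases hα : α = 0
    · have hβ : β ≠ 0 := by
        rcases hαβ with h | h
        · exact absurd hα h
        · exact h
      rw [hα, zero_smul, zero_add]
      exact P1' w₁ h1 h10 β hβ
    · have h2 := P1 w₁ h1 h10 α hα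
      have hne : ff (w₁ + α • z) z' ≠ 0 := by
        rw [sympForm_add_left, hWz' w₁ h1, zero_add, sympForm_smul_left]
        exact mul_ne_zero hα hzz
      have h3 := H1 _ _ h2 hz'X hne β
      rwa [add_assoc] at h3
  have hzP : z ∈ Submodule.span F {z, z'} := Submodule.subset_span (by simp)
  have hz'P : z' ∈ Submodule.span F {z, z'} := Submodule.subset_span (by simp)
  constructor
  · intro v hv hv0
    obtain ⟨y, hy, p, hp, rfl⟩ := Submodule.mem_sup.mp hv
    obtain ⟨α, β, rfl⟩ := Submodule.mem_span_pair.mp hp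
    by_cases hαβ : α ≠ 0 ∨ β ≠ 0
    · by_cases hy0 : y = 0
      · rw [hy0, zero_add]
        exact P4 α β hαβ
      · exact P5 y hy hy0 α β hαβ
    · push Not at hαβ
      obtain ⟨rfl, rfl⟩ := hαβ
      simp only [zero_smul, add_zero] at hv0 ⊢
      exact hW y hy hv0
  · intro v hv hv0
    obtain ⟨y, hy, p, hp, rfl⟩ := Submodule.mem_sup.mp hv
    obtain ⟨α, β, rfl⟩ := Submodule.mem_span_pair.mp hp
    by_cases hy0 : y = 0
    · subst hy0
      rw [zero_add] at hv0 ⊢
      by_cases hα : α = 0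
      · have hβ : β ≠ 0 := by
          intro hβ
          apply hv0
          rw [hα, hβ, zero_smul, zero_smul, add_zero]
        refine ⟨z, Submodule.mem_sup_right hzP, ?_⟩
        rw [sympForm_add_left, sympForm_smul_left, sympForm_smul_left, sympForm_self, hz'z, hα]
        simp only [mul_zero, zero_add]
        exact mul_ne_zero hβ (neg_ne_zero.mpr hzz)
      · refine ⟨z', Submodule.mem_sup_right hz'P, ?_⟩
        rw [sympForm_add_left, sympForm_smul_left, sympForm_smul_left, sympForm_self]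
        simp only [mul_zero, add_zero]
        exact mul_ne_zero hα hzz
    · obtain ⟨y', hy', hyy'⟩ := hnd y hy hy0
      refine ⟨y', Submodule.mem_sup_left hy', ?_⟩
      rw [sympForm_add_left, sympForm_add_left, sympForm_smul_left, sympForm_smul_left,
        hz y' hy', hz' y' hy']
      simpa using hyy'

/-- FO-2 (abstract growth lemma, needs at least 3 scalars). -/
theorem grow (hF : ∃ a b : F, a ≠ 0 ∧ b ≠ 0 ∧ a ≠ b)
    (X : Set (Fin m ⊕ Fin m → F))
    (H1 : ∀ u v, u ∈ X → v ∈ X → Cfsg.sympForm m F u v ≠ 0 → ∀ l : F, u + l • v ∈ X)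
    (H2 : ∀ u, u ∈ X → ∀ l : F, l ≠ 0 → l • u ∈ X)
    (W : Submodule F (Fin m ⊕ Fin m → F)) (hW : ∀ w ∈ W, w ≠ 0 → w ∈ X)
    (hnd : ∀ w ∈ W, w ≠ 0 → ∃ z ∈ W, Cfsg.sympForm m F w z ≠ 0)
    (w w' z z' : Fin m ⊕ Fin m → F) (hw : w ∈ W) (hw' : w' ∈ W) (hw0 : w ≠ 0)
    (hz : ∀ u ∈ W, Cfsg.sympForm m F z u = 0) (hz' : ∀ u ∈ W, Cfsg.sympForm m F z' u = 0)
    (hzz : Cfsg.sympForm m F z z' ≠ 0) (hx : w + z ∈ X) (hx' : w' + z' ∈ X) :
    (∀ v ∈ W ⊔ Submodule.span F {z, z'}, v ≠ 0 → v ∈ X) ∧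
    (∀ v ∈ W ⊔ Submodule.span F {z, z'}, v ≠ 0 →
      ∃ y ∈ W ⊔ Submodule.span F {z, z'}, Cfsg.sympForm m F v y ≠ 0) := by
  by_cases hw'0 : w' = 0
  · subst hw'0
    rw [zero_add] at hx'
    have hWz' : ∀ u ∈ W, ff u z' = 0 := by
      intro u hu; rw [sympForm_swap, hz' u hu, neg_zero]
    have hne : ff (w + z) z' ≠ 0 := by
      rw [sympForm_add_left, hWz' w hw, zero_add]; exact hzz
    have h3 := H1 _ _ hx hx' hne 1
    rw [one_smul, add_assoc] at h3
    have hz'' : ∀ u ∈ W, ff (z + z') u = 0 := by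
      intro u hu; rw [sympForm_add_left, hz u hu, hz' u hu, add_zero]
    have hzz'' : ff z (z + z') ≠ 0 := by
      rw [sympForm_add_right, sympForm_self, zero_add]; exact hzz
    have key := grow_aux hF X H1 H2 W hW hnd w w z (z + z') hw hw hw0 hw0 hz hz'' hzz'' hx h3
    have hspan : Submodule.span F {z, z + z'} = Submodule.span F {z, z'} := by
      apply le_antisymm
      · rw [Submodule.span_le]
        intro v hv
        rcases hv with rfl | rfl
        · exact Submodule.subset_span (by simp)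
        · exact Submodule.add_mem _ (Submodule.subset_span (by simp))
            (Submodule.subset_span (by simp))
      · rw [Submodule.span_le]
        intro v hv
        rcases hv with h | h
        · rw [h]; exact Submodule.subset_span (by simp)
        · have h1 : z + z' ∈ Submodule.span F {z, z + z'} := Submodule.subset_span (by simp)
          have h2 : z ∈ Submodule.span F {z, z + z'} := Submodule.subset_span (by simp)
          have := Submodule.sub_mem _ h1 h2
          rw [Set.mem_singleton_iff] at h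
          rw [h]
          simpa using this
    rw [hspan] at key
    exact key
  · exact grow_aux hF X H1 H2 W hW hnd w w' z z' hw hw' hw0 hw'0 hz hz' hzz hx hx'

end

end Cfsg.Agent.Lib.Helper2.RU
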