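import Cfsg.Agent.Lib.Helper10.E8CC.Defs
import Cfsg.Agent.Lib.Helper22.StCCBBTE8a

/-!
# S2107 farm (architect helper10), piece [E8-S]: `sl1_E8`

Every commutator formula of `chevE8` is empty or has the single term `(q, ±1, 1, 1)`:
every chain of the table has at most one term (helper22's `slB_E8`) and every coefficient of the
chain table is `±1` (one pass over the table, `decide +kernel`).
-/

set_option autoImplicit false
set_option maxRecDepth 100000

namespace Cfsg.Agent.Lib.Helper10.E8CC

open Cfsg.Lie Cfsg.Agent.Lib.Helper8.Chev Cfsg.Agent.Lib.Helper14.StCC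
open Cfsg.Agent.Lib.Helper14.StCC.B.Helper22

namespace Helper2

/-- every coefficient of the chain table is `±1` -/
def pmB (D : ChevalleyDatum) : Bool :=
  D.chain.toList.all fun rw => rw.toList.all fun e => e.2.toList.all fun q =>
    decide (q.2 = 1) || decide (q.2 = -1)

variable {D : ChevalleyDatum}

theorem row_mem_of_pmB (hpm : pmB D = true) (a : ℕ) (e : ℕ × Array (ℕ × ℤ)) (he : e ∈ row D a)
    (q : ℕ × ℤ) (hq : q ∈ e.2.toList) : q.2 = 1 ∨ q.2 = -1 := by
  unfold pmB at hpm
  rw [List.all_eq_true] at hpm
  unfold row at he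
  by_cases ha : a < D.chain.size
  · have hmem : D.chain.getD a #[] ∈ D.chain.toList := by
      rw [Array.getD_eq_getD_getElem?, Array.getElem?_eq_getElem ha]
      simp
    have h2 := hpm _ hmem
    rw [List.all_eq_true] at h2
    have h3 := h2 e he
    rw [List.all_eq_true] at h3
    have h4 := h3 q hq
    simpa using h4
  · have : D.chain.getD a #[] = #[] := by
      rw [Array.getD_eq_getD_getElem?, Array.getElem?_eq_none (by omega)]
      rfl
    rw [this] at he
    simp at he

/-- the simply laced shape from the two table checks -/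
theorem sl1_of (hsl : slB D = true) (hpm : pmB D = true) (r s : ℕ) : SL1 D r s := by
  have hlen := chainEntry_length_le_one hsl r s
  have hct := commTerms_A (D := D) (r := r) (s := s) (by omega) (chainEntry_length_le_one hsl s r)
  match hL : D.chainEntry r s, hlen with
  | [], _ =>
    left
    rw [hct, hL]
    rfl
  | [(q, M)], _ =>
    right
    refine ⟨q, M, ?_, ?_⟩
    · rw [hct, hL]
      rfl
    · have hne : D.chainEntry r s ≠ [] := by rw [hL]; simp
      obtain ⟨e, he, _, he2⟩ := chainEntry_mem D hne
      have hmem : (q, M) ∈ e.2.toList := by rw [he2, hL]; simp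
      exact row_mem_of_pmB hpm r e he (q, M) hmem

theorem pmB_E8 : pmB chevE8 = true := by decide +kernel

end Helper2

/-- [E8-S] simply laced shape of every commutator formula of `chevE8` (57120 pairs) -/
theorem sl1_E8 {r s : ℕ} (hr : r < chevE8.nroots) (hs : s < chevE8.nroots) (h1 : s ≠ r)
    (h2 : s ≠ chevE8.neg r) : SL1 chevE8 r s :=
  Helper2.sl1_of slB_E8 Helper2.pmB_E8 r s

end Cfsg.Agent.Lib.Helper10.E8CC
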