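import Mathlib
import Cfsg.Agent.Lib.Helper14.StGLDefs

/-!
# S2425 piece Q1: generic facts on the Möbius numbers `muBot`
-/

set_option autoImplicit false

namespace Cfsg.Agent.Lib.Helper2.S2425Q1

open Cfsg Cfsg.Agent.Lib.Helper14.StGL

section Generic

variable {L : Type*} [PartialOrder L] [OrderBot L] [Fintype L]

open Classical in
/-- G1: the defining property of `muBot`. -/
theorem muBot_spec (a : L) :
    ∑ b ∈ Finset.univ.filter (fun b : L => b ≤ a), muBot L b = if a = ⊥ then 1 else 0 := by
  letI : LocallyFiniteOrder L := Fintype.toLocallyFiniteOrder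
  have h := IncidenceAlgebra.sum_Icc_mu_right (𝕜 := ℤ) (⊥ : L) a
  have hI : Finset.Icc (⊥ : L) a = Finset.univ.filter (fun b : L => b ≤ a) := by
    ext b
    simp
  rw [hI] at h
  unfold muBot
  rw [h]
  by_cases ha : a = ⊥
  · rw [if_pos ha, if_pos ha.symm]
  · rw [if_neg ha, if_neg (fun h' => ha h'.symm)]

open Classical in
/-- G2: uniqueness. -/
theorem muBot_unique (T : L → ℤ)
    (hT : ∀ a : L, ∑ b ∈ Finset.univ.filter (fun b : L => b ≤ a), T b = if a = ⊥ then 1 else 0) :
    T = muBot L := by
  funext a
  induction a using WellFoundedLT.induction with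
  | ind a ih =>
    have h1 := hT a
    have h2 := muBot_spec a
    have hsplit : ∀ f : L → ℤ, ∑ b ∈ Finset.univ.filter (fun b : L => b ≤ a), f b =
        f a + ∑ b ∈ Finset.univ.filter (fun b : L => b < a), f b := by
      intro f
      have hins : Finset.univ.filter (fun b : L => b ≤ a) =
          insert a (Finset.univ.filter (fun b : L => b < a)) := by
        ext b
        simp only [Finset.mem_filter, Finset.mem_univ, true_and, Finset.mem_insert]
        rw [le_iff_eq_or_lt]
      rw [hins, Finset.sum_insert]
      simp
    rw [hsplit] at h1 h2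
    have h3 : ∑ b ∈ Finset.univ.filter (fun b : L => b < a), T b =
        ∑ b ∈ Finset.univ.filter (fun b : L => b < a), muBot L b := by
      apply Finset.sum_congr rfl
      intro b hb
      rw [Finset.mem_filter] at hb
      exact ih b hb.2
    rw [h3] at h1
    linarith

/-- G3: invariance under order isomorphisms. -/
theorem muBot_orderIso {L' : Type*} [PartialOrder L'] [OrderBot L'] [Fintype L'] (e : L ≃o L')
    (a : L) : muBot L' (e a) = muBot L a := by
  classical
  have h : (fun a : L => muBot L' (e a)) = muBot L := by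
    apply muBot_unique
    intro a
    have h1 := muBot_spec (e a)
    have h2 : ∑ b ∈ Finset.univ.filter (fun b : L => b ≤ a), muBot L' (e b) =
        ∑ b' ∈ Finset.univ.filter (fun b' : L' => b' ≤ e a), muBot L' b' := by
      apply Finset.sum_bij (fun b _ => e b)
      · intro b hb
        rw [Finset.mem_filter] at hb ⊢
        exact ⟨Finset.mem_univ _, e.le_iff_le.mpr hb.2⟩
      · intro b₁ _ b₂ _ h
        exact e.injective h
      · intro b' hb'
        rw [Finset.mem_filter] at hb'
        refine ⟨e.symm b', ?_, e.apply_symm_apply b'⟩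
        rw [Finset.mem_filter]
        refine ⟨Finset.mem_univ _, ?_⟩
        rw [← e.le_iff_le, e.apply_symm_apply]
        exact hb'.2
      · intro b _
        rfl
    rw [h2, h1]
    by_cases ha : a = ⊥
    · rw [if_pos ha, if_pos (by rw [ha, map_bot])]
    · rw [if_neg ha, if_neg]
      intro h'
      apply ha
      apply e.injective
      rw [h', map_bot]
  exact congrFun h a

/-- G4: products. -/
theorem muBot_prod {L' : Type*} [PartialOrder L'] [OrderBot L'] [Fintype L'] (a : L) (b : L') :
    muBot (L × L') (a, b) = muBot L a * muBot L' b := by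
  classical
  have h : (fun p : L × L' => muBot L p.1 * muBot L' p.2) = muBot (L × L') := by
    apply muBot_unique
    rintro ⟨a, b⟩
    have h1 := muBot_spec a
    have h2 := muBot_spec b
    have hf : ∀ s : Finset (L × L'), (∀ p, p ∈ s ↔ p ≤ (a, b)) →
        ∑ p ∈ s, muBot L p.1 * muBot L' p.2 =
        (∑ x ∈ Finset.univ.filter (fun x : L => x ≤ a), muBot L x) *
          (∑ y ∈ Finset.univ.filter (fun y : L' => y ≤ b), muBot L' y) := by
      intro s hs
      have hs' : s = (Finset.univ.filter (fun x : L => x ≤ a)) ×ˢ
          (Finset.univ.filter (fun y : L' => y ≤ b)) := by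
        ext ⟨x, y⟩
        rw [hs]
        simp only [Finset.mem_filter, Finset.mem_univ, true_and, Finset.mem_product,
          Prod.mk_le_mk]
      rw [hs', Finset.sum_product, Finset.sum_mul_sum]
    rw [hf _ (by intro p; simp), h1, h2]
    by_cases ha : a = ⊥
    · by_cases hb : b = ⊥
      · rw [if_pos ha, if_pos hb, if_pos (by rw [ha, hb]; rfl)]
        norm_num
      · have hab : ¬ ((a, b) : L × L') = ⊥ := fun h' => hb (congrArg Prod.snd h')
        rw [if_pos ha, if_neg hb, if_neg hab]
        norm_num
    · have hab : ¬ ((a, b) : L × L') = ⊥ := fun h' => ha (congrArg Prod.fst h')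
      rw [if_neg ha, if_neg hab]
      norm_num
  exact (congrFun h (a, b)).symm

/-- G5: lower intervals. -/
theorem muBot_Iic (a : L) [Fintype (Set.Iic a)] (b : Set.Iic a) :
    muBot (Set.Iic a) b = muBot L (b : L) := by
  classical
  have h : (fun b : Set.Iic a => muBot L (b : L)) = muBot (Set.Iic a) := by
    apply muBot_unique
    intro b
    have h1 := muBot_spec (b : L)
    have h2 : ∑ b' ∈ Finset.univ.filter (fun b' : Set.Iic a => b' ≤ b), muBot L (b' : L) =
        ∑ x ∈ Finset.univ.filter (fun x : L => x ≤ (b : L)), muBot L x := by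
      apply Finset.sum_bij (fun (b' : Set.Iic a) _ => (b' : L))
      · intro b' hb'
        rw [Finset.mem_filter] at hb' ⊢
        exact ⟨Finset.mem_univ _, hb'.2⟩
      · intro b₁ _ b₂ _ h
        exact Subtype.ext h
      · intro x hx
        rw [Finset.mem_filter] at hx
        refine ⟨⟨x, le_trans hx.2 b.2⟩, ?_, rfl⟩
        rw [Finset.mem_filter]
        exact ⟨Finset.mem_univ _, hx.2⟩
      · intro b' _
        rfl
    rw [h2, h1]
    by_cases hb : b = ⊥
    · rw [if_pos hb, if_pos (by rw [hb]; rfl)]
    · rw [if_neg hb, if_neg]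
      intro h'
      apply hb
      apply Subtype.ext
      rw [h']
      rfl
  exact (congrFun h b).symm

end Generic

end Cfsg.Agent.Lib.Helper2.S2425Q1
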