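import Mathlib
import Cfsg.Prelude.Def_Characters
import Cfsg.Agent.Lib.Helper2.Linear

/-!
# Products of characters; irreducible characters of direct products (helper2 library)
-/

set_option autoImplicit false

namespace Cfsg.Agent.Lib.Helper2

open Module
open scoped ComplexConjugate MonoidAlgebra

section Mul

variable {G : Type*} [Group G]

/-- The product of two characters is a character. -/
theorem isCharacter_mul {φ ψ : G → ℂ} (hφ : Cfsg.IsCharacter G φ) (hψ : Cfsg.IsCharacter G ψ) :
    Cfsg.IsCharacter G (φ * ψ) := by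
  obtain ⟨n, ρ, rfl⟩ := hφ
  obtain ⟨m, σ, rfl⟩ := hψ
  rw [← Representation.char_tensor]
  exact isCharacter_of_rep (ρ.tprod σ)

end Mul

section Prod

variable {G : Type*} [Group G] [Fintype G] {H : Type*} [Group H] [Fintype H]

theorem classInner_prod (φ φ' : G → ℂ) (ψ ψ' : H → ℂ) :
    Cfsg.classInner (fun x : G × H => φ x.1 * ψ x.2) (fun x : G × H => φ' x.1 * ψ' x.2)
      = Cfsg.classInner φ φ' * Cfsg.classInner ψ ψ' := by
  simp only [classInner_def, Nat.card_prod, Nat.cast_mul, map_mul]
  rw [Fintype.sum_prod_type]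
  have : ∀ g : G, ∑ h : H, φ g * ψ h * (conj (φ' g) * conj (ψ' h))
      = (φ g * conj (φ' g)) * ∑ h : H, ψ h * conj (ψ' h) := by
    intro g
    rw [Finset.mul_sum]
    apply Finset.sum_congr rfl
    intro h _
    ring
  simp only [this]
  rw [← Finset.sum_mul, mul_inv]
  ring

/-- The product of irreducible characters of `G` and `H` is an irreducible character of
`G × H`. -/
theorem isIrrCharacter_prod {φ : G → ℂ} {ψ : H → ℂ} (hφ : Cfsg.IsIrrCharacter G φ)
    (hψ : Cfsg.IsIrrCharacter H ψ) :
    Cfsg.IsIrrCharacter (G × H) (fun x : G × H => φ x.1 * ψ x.2) := by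
  apply isIrrCharacter_of_classInner_self_eq_one
  · exact isCharacter_mul
      (IsCharacter.comp (IsIrrCharacter.isCharacter hφ) (MonoidHom.fst G H))
      (IsCharacter.comp (IsIrrCharacter.isCharacter hψ) (MonoidHom.snd G H))
  · rw [classInner_prod]
    have h1 := classInner_irrCharacter_self (⟨φ, hφ⟩ : Cfsg.IrrCharacter G)
    have h2 := classInner_irrCharacter_self (⟨ψ, hψ⟩ : Cfsg.IrrCharacter H)
    simp only at h1 h2
    rw [h1, h2, one_mul]

/-- The product map on irreducible characters. -/
noncomputable def irrProd (p : Cfsg.IrrCharacter G × Cfsg.IrrCharacter H) :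
    Cfsg.IrrCharacter (G × H) :=
  ⟨fun x : G × H => (p.1 : G → ℂ) x.1 * (p.2 : H → ℂ) x.2, isIrrCharacter_prod p.1.2 p.2.2⟩

theorem irrProd_injective : Function.Injective (irrProd (G := G) (H := H)) := by
  classical
  intro p q hpq
  by_contra hne
  have h1 : Cfsg.classInner ((irrProd p : Cfsg.IrrCharacter (G × H)) : G × H → ℂ)
      ((irrProd q : Cfsg.IrrCharacter (G × H)) : G × H → ℂ) = 1 := by
    rw [hpq]; exact classInner_irrCharacter_self _
  simp only [irrProd] at h1
  rw [classInner_prod] at h1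
  have hne' : p.1 ≠ q.1 ∨ p.2 ≠ q.2 := by
    by_contra hcon
    rw [not_or, not_not, not_not] at hcon
    exact hne (Prod.ext hcon.1 hcon.2)
  rcases hne' with h | h
  · rw [classInner_irrCharacter_ne h, zero_mul] at h1
    exact zero_ne_one h1
  · rw [classInner_irrCharacter_ne h, mul_zero] at h1
    exact zero_ne_one h1

/-- Every irreducible character of `G × H` is a product. -/
theorem irrProd_surjective : Function.Surjective (irrProd (G := G) (H := H)) := by
  classical
  haveI : Fintype (Cfsg.IrrCharacter G) := Fintype.ofFinite _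
  haveI : Fintype (Cfsg.IrrCharacter H) := Fintype.ofFinite _
  haveI : Fintype (Cfsg.IrrCharacter (G × H)) := Fintype.ofFinite _
  -- degrees as natural numbers
  have hdeg : ∀ θ : Cfsg.IrrCharacter (G × H), ∃ n : ℕ, 0 < n ∧ (θ : G × H → ℂ) 1 = (n : ℂ) :=
    fun θ => IsIrrCharacter.apply_one θ.2
  choose d hdpos hd using hdeg
  have hall : ∑ θ : Cfsg.IrrCharacter (G × H), (d θ) ^ 2 = Nat.card G * Nat.card H := by
    have h := sum_irr_degree_sq (G := G × H)
    simp only [hd, Nat.card_prod] at h
    exact_mod_cast h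
  have himg : ∑ θ ∈ Finset.univ.image (irrProd (G := G) (H := H)), (d θ) ^ 2
      = Nat.card G * Nat.card H := by
    rw [Finset.sum_image (fun p _ q _ h => irrProd_injective h)]
    have h1 := sum_irr_degree_sq (G := G)
    have h2 := sum_irr_degree_sq (G := H)
    have h3 : ((∑ p : Cfsg.IrrCharacter G × Cfsg.IrrCharacter H, (d (irrProd p)) ^ 2 : ℕ) : ℂ)
        = (Nat.card G : ℂ) * (Nat.card H : ℂ) := by
      push_cast
      rw [← h1, ← h2, Finset.sum_mul_sum, Fintype.sum_prod_type]
      apply Finset.sum_congr rfl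
      intro φ _
      apply Finset.sum_congr rfl
      intro ψ _
      rw [← hd (irrProd (φ, ψ))]
      simp only [irrProd, Prod.fst_one, Prod.snd_one]
      ring
    exact_mod_cast h3
  intro θ
  by_contra hθ
  have hθ' : θ ∉ Finset.univ.image (irrProd (G := G) (H := H)) := by
    intro hmem
    obtain ⟨p, _, hp⟩ := Finset.mem_image.mp hmem
    exact hθ ⟨p, hp⟩
  have hsplit := Finset.sum_sdiff (f := fun θ => (d θ) ^ 2)
    (Finset.subset_univ (Finset.univ.image (irrProd (G := G) (H := H))))
  rw [himg, hall] at hsplit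
  have hzero : ∑ θ ∈ Finset.univ \ Finset.univ.image (irrProd (G := G) (H := H)), (d θ) ^ 2
      = 0 := by omega
  have := (Finset.sum_eq_zero_iff.mp hzero) θ (Finset.mem_sdiff.mpr ⟨Finset.mem_univ θ, hθ'⟩)
  have hpos := hdpos θ
  have : d θ = 0 := by
    rcases Nat.eq_zero_or_pos (d θ) with h | h
    · exact h
    · exact absurd this (pow_pos h 2).ne'
  omega

/-- The irreducible characters of `G × H` are exactly the products of irreducible characters. -/
theorem isIrrCharacter_prod_iff (θ : G × H → ℂ) :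
    Cfsg.IsIrrCharacter (G × H) θ ↔ ∃ (φ : G → ℂ) (ψ : H → ℂ),
      Cfsg.IsIrrCharacter G φ ∧ Cfsg.IsIrrCharacter H ψ ∧ θ = fun x => φ x.1 * ψ x.2 := by
  constructor
  · intro h
    obtain ⟨p, hp⟩ := irrProd_surjective (⟨θ, h⟩ : Cfsg.IrrCharacter (G × H))
    refine ⟨p.1, p.2, p.1.2, p.2.2, ?_⟩
    have := congrArg Subtype.val hp
    exact this.symm
  · rintro ⟨φ, ψ, hφ, hψ, rfl⟩
    exact isIrrCharacter_prod hφ hψ

end Prod

end Cfsg.Agent.Lib.Helper2
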