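import Mathlib
import Cfsg.Prelude.Def_GeometricClasses
import Cfsg.Agent.Lib.Helper7.AschDefs
import Cfsg.Agent.Lib.Helper24.AschUDefs
import Cfsg.Agent.Lib.Helper2.FormRed

/-!
# S5663 block U1 (`inClassU_of_not_irr`): exact signature of `notes/S5663Skel_helper24.lean.txt`;
`hermForm n F q` is an `IsUnitaryFormPow q` form when `card F = q ^ 2`.
-/

set_option autoImplicit false

namespace Cfsg.Agent.Lib.Helper2.FormRedU

open Matrix Cfsg Cfsg.Geo Cfsg.Agent.Lib.Helper7.Asch Cfsg.Agent.Lib.Helper24.AschU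

variable {F : Type*} [Field F] [Fintype F] {n q : ℕ}

theorem pow_card_sq (hF : Fintype.card F = q ^ 2) (x : F) : (x ^ q) ^ q = x := by
  rw [← pow_mul, ← sq, ← hF, FiniteField.pow_card]

/-- `x ↦ x ^ q` is additive when `card F = q ^ 2` -/
theorem add_pow_q (hF : Fintype.card F = q ^ 2) (a b : F) : (a + b) ^ q = a ^ q + b ^ q := by
  have hq0 : q ≠ 0 := by
    rintro rfl
    have := Fintype.card_pos (α := F)
    omega
  obtain ⟨p, hp⟩ := CharP.exists F
  haveI := hp
  obtain ⟨k, hpp, hk⟩ := FiniteField.card F p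
  haveI : Fact p.Prime := ⟨hpp⟩
  have hdvd : q ∣ p ^ (k : ℕ) := by
    rw [← hk, hF]
    exact dvd_pow_self q (by norm_num)
  obtain ⟨j, _, rfl⟩ := (Nat.dvd_prime_pow hpp).mp hdvd
  exact add_pow_char_pow a b p j

theorem sum_pow_q (hF : Fintype.card F = q ^ 2) {α : Type*} (s : Finset α) (g : α → F) :
    (∑ i ∈ s, g i) ^ q = ∑ i ∈ s, g i ^ q := by
  have hq0 : q ≠ 0 := by
    rintro rfl
    have := Fintype.card_pos (α := F)
    omega
  classical
  induction s using Finset.induction_on with
  | empty => simp [zero_pow hq0]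
  | insert a s ha ih => rw [Finset.sum_insert ha, Finset.sum_insert ha, add_pow_q hF, ih]

/-- the frozen hermitian form is a unitary form for `x ↦ x ^ q` -/
theorem isUnitaryFormPow_hermForm (hF : Fintype.card F = q ^ 2) : IsUnitaryFormPow q (hermForm n F q) where
  add_left x y v := by
    simp only [hermForm, Pi.add_apply, add_mul, Finset.sum_add_distrib]
  smul_left c x v := by
    simp only [hermForm, Pi.smul_apply, smul_eq_mul, mul_assoc, Finset.mul_sum]
  herm v w := by
    simp only [hermForm]
    rw [sum_pow_q hF]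
    refine Finset.sum_congr rfl fun i _ => ?_
    rw [mul_pow, pow_card_sq hF, mul_comm]
  nondegenerate v hv := by
    have hq0 : q ≠ 0 := by
      rintro rfl
      have := Fintype.card_pos (α := F)
      omega
    obtain ⟨i, hi⟩ : ∃ i, v i ≠ 0 := by
      by_contra h
      push Not at h
      exact hv (funext h)
    refine ⟨⟨Pi.single i 1, ?_⟩, ⟨Pi.single i 1, ?_⟩⟩
    · simp only [hermForm]
      rw [Finset.sum_eq_single i]
      · rw [Pi.single_eq_same, one_mul]
        exact pow_ne_zero _ hi
      · intro j _ hj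
        rw [Pi.single_eq_of_ne hj, zero_mul]
      · intro h
        exact absurd (Finset.mem_univ i) h
    · simp only [hermForm]
      rw [Finset.sum_eq_single i]
      · rw [Pi.single_eq_same, one_pow, mul_one]
        exact hi
      · intro j _ hj
        rw [Pi.single_eq_of_ne hj, zero_pow hq0, mul_zero]
      · intro h
        exact absurd (Finset.mem_univ i) h

/-- `H ≤ GU` fixes the form -/
theorem fixesForm_of_le_GU (H : Subgroup (GL (Fin n) F)) (hHU : H ≤ GU n F q) :
    FixesForm (matrixSet H) (hermForm n F q) :=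
  Cfsg.Agent.Lib.Helper2.FormRed.fixesForm_of_forall (fun g hg u v => hHU hg u v)

/-- **U1** reducible subgroups of `GU_n(q)`: class 1 (totally singular or non-degenerate subspace) or class 2
(`W ⊕ W^⊥` with `2 dim W = n`) -/
theorem inClassU_of_not_irr (hF : Fintype.card F = q ^ 2) (hn : 3 ≤ n) (H : Subgroup (GL (Fin n) F))
    (hHU : H ≤ GU n F q) (h : ¬ Irr H) : InClassU n q H := by
  rcases Cfsg.Agent.Lib.Helper2.FormRed.reducible_cases'
    (Cfsg.Agent.Lib.Helper2.FormRed.RForm.of_unitaryPow hF (isUnitaryFormPow_hermForm hF))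
    H (fixesForm_of_le_GU H hHU) h with ⟨W, h0, hts, hH⟩ | ⟨W, h0, _, hnd, hdim, hH⟩ | ⟨k, D, _, hD, hH⟩
  · exact InClassU.of_singular H hHU W h0 hts hH
  · rw [Fintype.card_fin] at hdim
    exact InClassU.of_nondegenerate H hHU W h0 hnd hdim hH
  · exact InClassU.of_decomposition H hHU k D hD hH

end Cfsg.Agent.Lib.Helper2.FormRedU
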