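import Mathlib
import Cfsg.Prelude.Def_Characters
import Cfsg.Agent.Lib.Helper2.Linear

/-!
# Representations with equal characters are equivalent (helper2 library)
-/

set_option autoImplicit false

namespace Cfsg.Agent.Lib.Helper2

open Module
open scoped ComplexConjugate MonoidAlgebra

section ProdCongr

variable {G : Type*} [Group G] {k : Type*} [Field k]
variable {V₁ V₂ W₁ W₂ : Type*} [AddCommGroup V₁] [Module k V₁] [AddCommGroup V₂] [Module k V₂]
  [AddCommGroup W₁] [Module k W₁] [AddCommGroup W₂] [Module k W₂]

/-- Product of equivalences of representations. -/
noncomputable def equivProdCongr {ρ₁ : Representation k G V₁} {ρ₂ : Representation k G V₂}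
    {σ₁ : Representation k G W₁} {σ₂ : Representation k G W₂}
    (φ : ρ₁.Equiv σ₁) (ψ : ρ₂.Equiv σ₂) : (ρ₁.prod ρ₂).Equiv (σ₁.prod σ₂) :=
  Representation.Equiv.mk (LinearEquiv.prodCongr φ.toLinearEquiv ψ.toLinearEquiv) (by
    intro g
    refine LinearMap.ext fun ⟨v, w⟩ => Prod.ext ?_ ?_
    · exact LinearMap.congr_fun (φ.toIntertwiningMap.isIntertwining' g) v
    · exact LinearMap.congr_fun (ψ.toIntertwiningMap.isIntertwining' g) w)

/-- An injective intertwining map induces an equivalence onto its range. -/
noncomputable def equivRangeOfInjective {ρ : Representation k G V₁} {σ : Representation k G W₁}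
    (f : Representation.IntertwiningMap ρ σ) (hf : Function.Injective f) :
    ρ.Equiv f.range.toRepresentation :=
  Representation.Equiv.mk (LinearEquiv.ofInjective f.toLinearMap hf) (by
    intro g
    ext v
    exact LinearMap.congr_fun (f.isIntertwining' g) v)

end ProdCongr

section Main

universe u v w

variable {G : Type w} [Group G] [Finite G]

omit [Finite G] in
theorem char_subsingleton {V : Type*} [AddCommGroup V] [Module ℂ V] [Subsingleton V]
    (ρ : Representation ℂ G V) : ρ.character = 0 := by
  ext g
  have : ρ g = 0 := LinearMap.ext fun v => Subsingleton.elim _ _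
  simp [Representation.character, this]

/-- Two finite-dimensional complex representations of a finite group with the same character are
equivalent. -/
theorem nonempty_equiv_of_char_eq :
    ∀ (n : ℕ) (V : Type u) (W : Type v) [AddCommGroup V] [Module ℂ V] [FiniteDimensional ℂ V]
      [AddCommGroup W] [Module ℂ W] [FiniteDimensional ℂ W]
      (ρ : Representation ℂ G V) (σ : Representation ℂ G W),
      finrank ℂ V = n → ρ.character = σ.character → Nonempty (ρ.Equiv σ) := by
  classical
  haveI : Fintype G := Fintype.ofFinite G
  have hNZ : NeZero (Nat.card G : ℂ) := ⟨card_ne_zero_complex⟩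
  intro n
  induction n using Nat.strong_induction_on with
  | _ n ih =>
  intro V W _ _ _ _ _ _ ρ σ hn hchar
  have hdim : finrank ℂ W = finrank ℂ V := by
    have h1 := congrFun hchar 1
    rw [Representation.char_one, Representation.char_one] at h1
    exact_mod_cast h1.symm
  rcases subsingleton_or_nontrivial V with hV | hV
  · have hW : Subsingleton W := by
      rw [← Module.finrank_zero_iff (R := ℂ), hdim, Module.finrank_zero_iff]
      exact hV
    refine ⟨Representation.Equiv.mk
      { toFun := fun _ => 0, invFun := fun _ => 0, map_add' := by simp, map_smul' := by simp,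
        left_inv := fun _ => Subsingleton.elim _ _, right_inv := fun _ => Subsingleton.elim _ _ }
      (fun g => LinearMap.ext fun v => Subsingleton.elim _ _)⟩
  · obtain ⟨S, S', hS, hc⟩ := exists_irreducible_isCompl ρ
    have hρdec : ρ.character = S.toRepresentation.character + S'.toRepresentation.character := by
      rw [← char_prod, Representation.char_iso (prodEquivOfIsCompl S S' hc)]
    -- a nonzero intertwining map from `S` to `σ`
    have hfin : (finrank ℂ (Representation.IntertwiningMap S.toRepresentation σ) : ℂ) ≠ 0 := by
      rw [← classInner_char_char, ← hchar, hρdec, classInner_add_left, classInner_irr_self]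
      obtain ⟨c, hc'⟩ := classInner_isCharacter_nat (isCharacter_of_rep S'.toRepresentation)
        (isCharacter_of_rep S.toRepresentation)
      rw [hc']
      exact_mod_cast (by omega : 1 + c ≠ 0)
    have hpos : 0 < finrank ℂ (Representation.IntertwiningMap S.toRepresentation σ) := by
      rcases Nat.eq_zero_or_pos
        (finrank ℂ (Representation.IntertwiningMap S.toRepresentation σ)) with h | h
      · rw [h] at hfin; simp at hfin
      · exact h
    obtain ⟨f, hf⟩ := (Module.finrank_pos_iff_exists_ne_zero (R := ℂ)).mp hpos
    have hinj : Function.Injective f :=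
      (Representation.IsIrreducible.injective_or_eq_zero f).resolve_right hf
    let T := f.range
    obtain ⟨T', hT'⟩ := exists_isCompl T
    have hcT : IsCompl T.toSubmodule T'.toSubmodule := by
      constructor
      · rw [disjoint_iff, ← Subrepresentation.toSubmodule_inf, hT'.inf_eq_bot]; rfl
      · rw [codisjoint_iff, ← Subrepresentation.toSubmodule_sup, hT'.sup_eq_top]; rfl
    have e1 : S.toRepresentation.Equiv T.toRepresentation := equivRangeOfInjective f hinj
    have hσdec : σ.character = T.toRepresentation.character + T'.toRepresentation.character := by
      rw [← char_prod, Representation.char_iso (prodEquivOfIsCompl T T' hcT)]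
    have hchar' : S'.toRepresentation.character = T'.toRepresentation.character := by
      have h1 : S.toRepresentation.character + S'.toRepresentation.character
          = T.toRepresentation.character + T'.toRepresentation.character := by
        rw [← hρdec, ← hσdec, hchar]
      rw [Representation.char_iso e1] at h1
      exact add_left_cancel h1
    have hSpos : 0 < finrank ℂ S.toSubmodule := finrank_pos_of_isIrreducible S.toRepresentation
    have hdimS : finrank ℂ S.toSubmodule + finrank ℂ S'.toSubmodule = finrank ℂ V :=
      Submodule.finrank_add_eq_of_isCompl hc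
    obtain ⟨e2⟩ := ih (finrank ℂ S'.toSubmodule) (by omega) S'.toSubmodule T'.toSubmodule
      S'.toRepresentation T'.toRepresentation rfl hchar'
    exact ⟨(prodEquivOfIsCompl S S' hc).symm.trans
      ((equivProdCongr e1 e2).trans (prodEquivOfIsCompl T T' hcT))⟩

end Main

end Cfsg.Agent.Lib.Helper2
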