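import Mathlib
import Cfsg.Prelude.Def_Characters
import Cfsg.Agent.Lib.Helper2.EquivOfChar
import Cfsg.Agent.Lib.Helper2.CharBasic
import Cfsg.Agent.Lib.Helper2.Regular
import Cfsg.Agent.Lib.Helper25.Complete
import Cfsg.Agent.Lib.Helper25.Kernel
import Cfsg.Agent.Lib.Helper2.ScalarIndex
import Cfsg.Agent.Lib.Helper2.Clifford
import Cfsg.Agent.Lib.Helper2.BurnsidePQ
import Cfsg.Agent.Lib.Helper7.Gallagher

/-!
# A finite central extension attached to an invariant irreducible representation of a normal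
subgroup (helper2 library)

Let `N ⊴ G` and let `ρ : N → GL(V)` be an irreducible representation whose character is
`G`-invariant.  The group `hatG N ρ` of all pairs `(g, P) ∈ G × GL(V)` with
`P ρ(n) P⁻¹ = ρ(g n g⁻¹)` and `det P ^ |G| = 1` is a finite group mapping onto `G` with central
kernel, and its second projection is a representation extending `ρ` (on the copy `n ↦ (n, ρ n)`
of `N`).
-/

set_option autoImplicit false
set_option linter.style.haveILetI false
set_option linter.unusedSectionVars false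

namespace Cfsg.Agent.Lib.Helper2

namespace CentralExt

open Module

universe u

section Construction

variable {G : Type u} [Group G] (N : Subgroup G) [hN : N.Normal] {d : ℕ}
  (ρ : Representation ℂ N (Fin d → ℂ))

/-- the determinant on the units of the endomorphism ring -/
noncomputable def detU (d : ℕ) : (Module.End ℂ (Fin d → ℂ))ˣ →* ℂˣ :=
  Units.map (LinearMap.det : Module.End ℂ (Fin d → ℂ) →* ℂ)

/-- The central extension. -/
def hatG : Subgroup (G × (Module.End ℂ (Fin d → ℂ))ˣ) where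
  carrier := {x | (∀ n : N, x.2 * ρ.asGroupHom n * x.2⁻¹
      = ρ.asGroupHom (MulAut.conjNormal x.1 n)) ∧ detU d x.2 ^ (Nat.card G) = 1}
  mul_mem' := by
    rintro x y ⟨hx1, hx2⟩ ⟨hy1, hy2⟩
    refine ⟨fun n => ?_, ?_⟩
    · have h : (x * y).2 * ρ.asGroupHom n * (x * y).2⁻¹
          = x.2 * (y.2 * ρ.asGroupHom n * y.2⁻¹) * x.2⁻¹ := by
        simp only [Prod.snd_mul]
        group
      rw [h, hy1, hx1, Prod.fst_mul, map_mul, MulAut.mul_apply]
    · rw [Prod.snd_mul, map_mul, mul_pow, hx2, hy2, one_mul]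
  one_mem' := by
    refine ⟨fun n => ?_, ?_⟩
    · simp
    · simp
  inv_mem' := by
    rintro x ⟨hx1, hx2⟩
    refine ⟨fun n => ?_, ?_⟩
    · have h := hx1 (MulAut.conjNormal x.1⁻¹ n)
      have h2 : MulAut.conjNormal x.1 (MulAut.conjNormal x.1⁻¹ n) = n := by
        rw [← MulAut.mul_apply, ← map_mul, mul_inv_cancel, map_one, MulAut.one_apply]
      rw [h2] at h
      rw [Prod.snd_inv, Prod.fst_inv, ← h]
      group
    · rw [Prod.snd_inv, map_inv, inv_pow, hx2, inv_one]

theorem mem_hatG {x : G × (Module.End ℂ (Fin d → ℂ))ˣ} :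
    x ∈ hatG N ρ ↔ (∀ n : N, x.2 * ρ.asGroupHom n * x.2⁻¹
      = ρ.asGroupHom (MulAut.conjNormal x.1 n)) ∧ detU d x.2 ^ (Nat.card G) = 1 := Iff.rfl

/-- the projection to `G` -/
def proj : hatG N ρ →* G := (MonoidHom.fst G _).comp (hatG N ρ).subtype

/-- the second projection, as a representation -/
def rep : Representation ℂ (hatG N ρ) (Fin d → ℂ) :=
  (Units.coeHom (Module.End ℂ (Fin d → ℂ))).comp ((MonoidHom.snd G _).comp (hatG N ρ).subtype)

theorem proj_apply (x : hatG N ρ) : proj N ρ x = x.1.1 := rfl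

theorem rep_apply (x : hatG N ρ) : rep N ρ x = ((x.1.2 : (Module.End ℂ (Fin d → ℂ))ˣ) :
    Module.End ℂ (Fin d → ℂ)) := rfl


section Finite

variable [Finite G]

omit hN in
theorem pow_card_eq_one_sub (n : N) : n ^ Nat.card G = 1 := by
  apply Subtype.ext
  rw [Subgroup.coe_pow, pow_card_eq_one', Subgroup.coe_one]

theorem conjNormal_coe (n m : N) : MulAut.conjNormal (n : G) m = n * m * n⁻¹ := by
  apply Subtype.ext
  simp [MulAut.conjNormal_apply]

/-- the embedding of `N` -/
def incl : N →* hatG N ρ where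
  toFun n := ⟨((n : G), ρ.asGroupHom n), by
    refine ⟨fun m => ?_, ?_⟩
    · show ρ.asGroupHom n * ρ.asGroupHom m * (ρ.asGroupHom n)⁻¹
        = ρ.asGroupHom (MulAut.conjNormal (n : G) m)
      rw [conjNormal_coe, map_mul, map_mul, map_inv]
    · show detU d (ρ.asGroupHom n) ^ Nat.card G = 1
      rw [← map_pow, ← map_pow, pow_card_eq_one_sub, map_one, map_one]⟩
  map_one' := by
    apply Subtype.ext
    simp
  map_mul' a b := by
    apply Subtype.ext
    simp

theorem proj_incl (n : N) : proj N ρ (incl N ρ n) = n := rfl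

theorem rep_incl (n : N) : rep N ρ (incl N ρ n) = ρ n := by
  rw [rep_apply]
  exact Representation.asGroupHom_apply ρ n

theorem incl_injective : Function.Injective (incl N ρ) := by
  intro a b h
  apply Subtype.ext
  have := congrArg (proj N ρ) h
  rw [proj_incl, proj_incl] at this
  exact this

theorem conj_incl (x : hatG N ρ) (n : N) :
    x * incl N ρ n * x⁻¹ = incl N ρ (MulAut.conjNormal (proj N ρ x) n) := by
  apply Subtype.ext
  apply Prod.ext
  · show x.1.1 * (n : G) * x.1.1⁻¹ = ((MulAut.conjNormal x.1.1 n : N) : G)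
    rw [MulAut.conjNormal_apply]
  · show x.1.2 * ρ.asGroupHom n * x.1.2⁻¹ = ρ.asGroupHom (MulAut.conjNormal x.1.1 n)
    exact x.2.1 n

instance incl_range_normal : (incl N ρ).range.Normal := by
  refine ⟨fun y hy x => ?_⟩
  obtain ⟨n, rfl⟩ := hy
  rw [conj_incl]
  exact ⟨_, rfl⟩

theorem finrank_fin (d : ℕ) : finrank ℂ (Fin d → ℂ) = d := by simp

theorem detU_scalar (c : ℂ) (hc : c ≠ 0) :
    detU d (Units.map (algebraMap ℂ (Module.End ℂ (Fin d → ℂ)) : ℂ →* Module.End ℂ (Fin d → ℂ))
      (Units.mk0 c hc)) = Units.mk0 c hc ^ d := by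
  apply Units.ext
  rw [Units.val_pow_eq_pow_val, Units.val_mk0]
  show LinearMap.det (algebraMap ℂ (Module.End ℂ (Fin d → ℂ)) c) = c ^ d
  rw [Algebra.algebraMap_eq_smul_one, LinearMap.det_smul, finrank_fin, map_one, mul_one]

/-- the projection to `G` is surjective when the character of `ρ` is invariant -/
theorem proj_surjective (hρ : ρ.IsIrreducible)
    (hinv : ∀ (g : G) (n : N), ρ.character (MulAut.conjNormal g n) = ρ.character n) :
    Function.Surjective (proj N ρ) := by
  intro g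
  let c : N →* N := (MulAut.conjNormal g : MulAut N).toMonoidHom
  let ρ' : Representation ℂ N (Fin d → ℂ) := ρ.comp c
  have hchar : ρ'.character = ρ.character := by
    funext n
    exact hinv g n
  obtain ⟨φ⟩ := nonempty_equiv_of_char_eq _ _ _ ρ ρ' rfl hchar.symm
  let T : (Module.End ℂ (Fin d → ℂ))ˣ :=
    LinearMap.GeneralLinearGroup.ofLinearEquiv φ.toLinearEquiv
  have hT : ∀ n : N, T * ρ.asGroupHom n * T⁻¹ = ρ.asGroupHom (MulAut.conjNormal g n) := by
    intro n
    rw [mul_inv_eq_iff_eq_mul]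
    apply Units.ext
    have h1 := φ.isIntertwining' n
    simp only [Units.val_mul, T, Representation.asGroupHom_apply]
    exact h1
  have hd : 0 < d := by
    have := finrank_pos_of_isIrreducible ρ
    rwa [finrank_fin] at this
  have hM : 0 < Nat.card G := Nat.card_pos
  have hdM : 0 < d * Nat.card G := Nat.mul_pos hd hM
  set δ : ℂˣ := detU d T with hδ
  obtain ⟨c₁, hc₁⟩ := IsAlgClosed.exists_pow_nat_eq (((δ⁻¹) ^ Nat.card G : ℂˣ) : ℂ) hdM
  have hc₁ne : c₁ ≠ 0 := by
    rintro rfl
    rw [zero_pow hdM.ne'] at hc₁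
    exact (Units.ne_zero _) hc₁.symm
  let z : (Module.End ℂ (Fin d → ℂ))ˣ :=
    Units.map (algebraMap ℂ (Module.End ℂ (Fin d → ℂ)) : ℂ →* Module.End ℂ (Fin d → ℂ))
      (Units.mk0 c₁ hc₁ne)
  have hzc : ∀ γ : (Module.End ℂ (Fin d → ℂ))ˣ, z * γ = γ * z := by
    intro γ
    apply Units.ext
    simp only [Units.val_mul, z, Units.coe_map, Units.val_mk0, MonoidHom.coe_coe]
    exact Algebra.commutes c₁ (γ : Module.End ℂ (Fin d → ℂ))
  refine ⟨⟨(g, z * T), ?_, ?_⟩, rfl⟩
  · intro n
    show z * T * ρ.asGroupHom n * (z * T)⁻¹ = _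
    rw [← hT n]
    have h2 := hzc (T * ρ.asGroupHom n * T⁻¹)
    calc z * T * ρ.asGroupHom n * (z * T)⁻¹
        = z * (T * ρ.asGroupHom n * T⁻¹) * z⁻¹ := by group
      _ = (T * ρ.asGroupHom n * T⁻¹) * z * z⁻¹ := by rw [h2]
      _ = _ := by group
  · show detU d (z * T) ^ Nat.card G = 1
    rw [map_mul, mul_pow, detU_scalar, ← pow_mul, ← hδ]
    apply Units.ext
    rw [Units.val_mul, Units.val_pow_eq_pow_val, Units.val_mk0, hc₁, ← Units.val_mul, ← mul_pow,
      inv_mul_cancel, one_pow]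

/-- elements over `1` are scalars of finite order -/
theorem ker_scalar (hρ : ρ.IsIrreducible) (x : hatG N ρ) (hx : proj N ρ x = 1) :
    ∃ c : ℂ, c ^ (d * Nat.card G) = 1 ∧
      ((x.1.2 : (Module.End ℂ (Fin d → ℂ))ˣ) : Module.End ℂ (Fin d → ℂ)) = c • 1 := by
  have h1 := x.2.1
  have hcomm : ∀ n : N, ((x.1.2 : (Module.End ℂ (Fin d → ℂ))ˣ) : Module.End ℂ (Fin d → ℂ))
      ∘ₗ ρ n = ρ n ∘ₗ ((x.1.2 : (Module.End ℂ (Fin d → ℂ))ˣ) : Module.End ℂ (Fin d → ℂ)) := by
    intro n
    have h2 := h1 n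
    have hx' : x.1.1 = 1 := hx
    rw [hx', map_one, MulAut.one_apply, mul_inv_eq_iff_eq_mul] at h2
    have h3 := congrArg Units.val h2
    simp only [Units.val_mul, Representation.asGroupHom_apply] at h3
    exact h3
  obtain ⟨c, hc⟩ := Cfsg.Agent.Lib.Helper25.schur_scalar ρ hρ _ hcomm
  refine ⟨c, ?_, hc⟩
  have h4 := x.2.2
  have h5 := congrArg Units.val h4
  rw [Units.val_pow_eq_pow_val, Units.val_one] at h5
  have h6 : ((detU d x.1.2 : ℂˣ) : ℂ) = c ^ d := by
    show LinearMap.det ((x.1.2 : (Module.End ℂ (Fin d → ℂ))ˣ) : Module.End ℂ (Fin d → ℂ)) = c ^ d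
    rw [hc, LinearMap.det_smul, finrank_fin, LinearMap.det_id, mul_one]
  rw [h6, ← pow_mul] at h5
  exact h5

theorem finite_hatG (hρ : ρ.IsIrreducible) : Finite (hatG N ρ) := by
  rw [MonoidHom.finite_iff_finite_ker_range (proj N ρ)]
  refine ⟨?_, inferInstance⟩
  have hd : 0 < d := by
    have := finrank_pos_of_isIrreducible ρ
    rwa [finrank_fin] at this
  have hM : 0 < Nat.card G := Nat.card_pos
  have hdM : 0 < d * Nat.card G := Nat.mul_pos hd hM
  have hk : ∀ x : (proj N ρ).ker, ∃ c : ℂ, c ^ (d * Nat.card G) = 1 ∧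
      ((x.1.1.2 : (Module.End ℂ (Fin d → ℂ))ˣ) : Module.End ℂ (Fin d → ℂ)) = c • 1 :=
    fun x => ker_scalar N ρ hρ x.1 x.2
  choose cf hc1 hc2 using hk
  have hfin : Finite {c : ℂ // c ^ (d * Nat.card G) = 1} := by
    have : {c : ℂ | c ^ (d * Nat.card G) = 1}.Finite := by
      apply Set.Finite.subset (Polynomial.nthRootsFinset (d * Nat.card G) (1 : ℂ)).finite_toSet
      intro c hc
      exact (Polynomial.mem_nthRootsFinset hdM 1).mpr hc
    exact this.to_subtype
  apply Finite.of_injective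
    (fun x => (⟨cf x, hc1 x⟩ : {c : ℂ // c ^ (d * Nat.card G) = 1}))
  intro x y hxy
  have hcxy : cf x = cf y := congrArg Subtype.val hxy
  apply Subtype.ext
  apply Subtype.ext
  apply Prod.ext
  · have hx1 : x.1.1.1 = 1 := x.2
    have hy1 : y.1.1.1 = 1 := y.2
    rw [hx1, hy1]
  · apply Units.ext
    rw [hc2 x, hc2 y, hcxy]

/-- elements over `1` are central -/
theorem ker_le_center (hρ : ρ.IsIrreducible) (x : hatG N ρ) (hx : proj N ρ x = 1) :
    x ∈ Subgroup.center (hatG N ρ) := by
  obtain ⟨c, -, hc⟩ := ker_scalar N ρ hρ x hx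
  rw [Subgroup.mem_center_iff]
  intro w
  apply Subtype.ext
  apply Prod.ext
  · show w.1.1 * x.1.1 = x.1.1 * w.1.1
    have hx' : x.1.1 = 1 := hx
    rw [hx', mul_one, one_mul]
  · show w.1.2 * x.1.2 = x.1.2 * w.1.2
    apply Units.ext
    rw [Units.val_mul, Units.val_mul, hc]
    rw [mul_smul_comm, smul_mul_assoc, mul_one, one_mul]

/-- an element over `N` is the product of an element of the copy of `N` and a central element -/
theorem exists_incl_mul_central (hρ : ρ.IsIrreducible) (x : hatG N ρ) (hx : proj N ρ x ∈ N) :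
    ∃ (n : N) (z : hatG N ρ), z ∈ Subgroup.center (hatG N ρ) ∧ x = incl N ρ n * z := by
  refine ⟨⟨proj N ρ x, hx⟩, (incl N ρ ⟨proj N ρ x, hx⟩)⁻¹ * x, ?_, by group⟩
  apply ker_le_center N ρ hρ
  rw [map_mul, map_inv, proj_incl]
  exact inv_mul_cancel _

end Finite

end Construction


section Invariant

open Cfsg
open scoped ComplexConjugate

variable {G : Type u} [Group G] [Fintype G] (N : Subgroup G) [hN : N.Normal] [Fintype N]

/-- An irreducible constituent `β` of `(1_N)^G` has `N` in its kernel (after helper25). -/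
theorem const_on_of_lies_over_one {β : G → ℂ} (hβ : IsIrrCharacter G β)
    (hne : classInner (indFun N (fun _ : N => (1 : ℂ))) β ≠ 0) : ∀ n ∈ N, β n = β 1 := by
  have h1N : IsIrrCharacter N (fun _ : N => (1 : ℂ)) := isIrrCharacter_one
  have hβcf : IsClassFunction G β := IsCharacter.isClassFunction (IsIrrCharacter.isCharacter hβ)
  rw [frobenius_reciprocity N _ β hβcf] at hne
  have hne' : classInner (fun n : N => β n) (fun _ : N => (1 : ℂ)) ≠ 0 := by
    rw [← classInner_conj_symm]
    intro h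
    apply hne
    have := congrArg (starRingEnd ℂ) h
    simpa using this
  have hcl := clifford_restriction N hβ h1N hne'
  have hset : {ψ : N → ℂ | ∃ g : G, ψ = conjFun N g (fun _ : N => (1 : ℂ))}
      = {fun _ : N => (1 : ℂ)} := by
    ext ψ
    constructor
    · rintro ⟨g, rfl⟩; rfl
    · intro h; exact ⟨1, by rw [h]; rfl⟩
  rw [hset, finsum_mem_singleton] at hcl
  intro n hn
  have h2 := congrFun hcl ⟨n, hn⟩
  have h3 := congrFun hcl 1
  simp only [Pi.smul_apply, smul_eq_mul, mul_one] at h2 h3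
  rw [h2]
  have : β 1 = β ((1 : N) : G) := rfl
  rw [this, h3]

/-- The invariant case of the theorem that `χ(1)/θ(1)` divides `|G : N|`. -/
theorem invariant_case (ψ : G → ℂ) (hψ : IsIrrCharacter G ψ) (θ : N → ℂ)
    (hθ : IsIrrCharacter N θ)
    (hinv : ∀ (g : G) (n : N), θ (MulAut.conjNormal g n) = θ n)
    (hcon : classInner (fun n : N => ψ n) θ ≠ 0) :
    ∃ b d : ℕ, θ 1 = d ∧ ψ 1 = ((b * d : ℕ) : ℂ) ∧ b ∣ N.index := by
  classical
  obtain ⟨d, ρ, hρ, rfl⟩ := hθ
  haveI hfin : Finite (hatG N ρ) := finite_hatG N ρ hρ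
  haveI : Fintype (hatG N ρ) := Fintype.ofFinite _
  have hsurj := proj_surjective N ρ hρ hinv
  haveI : Fintype (incl N ρ).range := Fintype.ofFinite _
  have hθt : IsCharacter (hatG N ρ) (rep N ρ).character := ⟨d, rep N ρ, rfl⟩
  let e : (incl N ρ).range ≃* N := (MonoidHom.ofInjective (incl_injective N ρ)).symm
  have he : ∀ y : (incl N ρ).range, (y : hatG N ρ) = incl N ρ (e y) := by
    intro y
    have := (MonoidHom.ofInjective (incl_injective N ρ)).apply_symm_apply y
    exact (congrArg Subtype.val this).symm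
  have hres : ((fun _ : (incl N ρ).range => (1 : ℂ)) *
      fun y : (incl N ρ).range => (rep N ρ).character y) = ρ.character ∘ e := by
    funext y
    rw [Pi.mul_apply, one_mul, Function.comp_apply]
    show (rep N ρ).character (y : hatG N ρ) = _
    rw [he y]
    show LinearMap.trace ℂ _ (rep N ρ (incl N ρ (e y))) = LinearMap.trace ℂ _ (ρ (e y))
    rw [rep_incl]
  have hprod : IsIrrCharacter (incl N ρ).range ((fun _ : (incl N ρ).range => (1 : ℂ)) *
      fun y : (incl N ρ).range => (rep N ρ).character y) := by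
    rw [hres]
    exact Cfsg.Agent.Lib.Helper11.isIrrCharacter_comp_equiv e ⟨d, ρ, hρ, rfl⟩
  have h1inv : ∀ g : hatG N ρ, Cfsg.Agent.Lib.Helper11.conjFn (incl N ρ).range g
      (fun _ => (1 : ℂ)) = fun _ => 1 := fun g => rfl
  obtain ⟨-, -, h3⟩ := Cfsg.Agent.Lib.Helper7.gallagher_rigidity (incl N ρ).range
    (isIrrCharacter_one) h1inv hθt hprod
  have hψh : IsIrrCharacter (hatG N ρ) (fun x => ψ (proj N ρ x)) :=
    Cfsg.Agent.Lib.Helper25.isIrrCharacter_comp (proj N ρ) hsurj hψ
  have hψhcf : IsClassFunction (hatG N ρ) (fun x => ψ (proj N ρ x)) :=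
    IsCharacter.isClassFunction (IsIrrCharacter.isCharacter hψh)
  have hover : classInner (indFun (incl N ρ).range ((fun _ : (incl N ρ).range => (1 : ℂ)) *
      fun y : (incl N ρ).range => (rep N ρ).character y)) (fun x => ψ (proj N ρ x)) ≠ 0 := by
    rw [frobenius_reciprocity (incl N ρ).range _ _ hψhcf, hres]
    have h2 : classInner (ρ.character ∘ e)
        (fun y : (incl N ρ).range => (fun x => ψ (proj N ρ x)) (y : hatG N ρ))
        = classInner ρ.character (fun n : N => ψ n) := by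
      rw [classInner_def, classInner_def, Nat.card_congr e.toEquiv]
      congr 1
      rw [← Equiv.sum_comp e.toEquiv (fun n : N => ρ.character n * conj (ψ n))]
      apply Finset.sum_congr rfl
      intro y _
      show ρ.character (e y) * conj (ψ (proj N ρ (y : hatG N ρ)))
        = ρ.character (e y) * conj (ψ ((e y : N) : G))
      rw [he y, proj_incl]
    rw [h2, ← classInner_conj_symm]
    intro h
    apply hcon
    have := congrArg (starRingEnd ℂ) h
    simpa using this
  obtain ⟨β, hβ, hβ1, hβψ⟩ := h3 _ hψh hover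
  have hconst := const_on_of_lies_over_one (incl N ρ).range hβ hβ1
  obtain ⟨b, Y, hY, rfl⟩ := hβ
  haveI := hY
  refine ⟨b, d, ?_, ?_, ?_⟩
  · rw [Representation.char_one, finrank_fin]
  · have h4 := congrFun hβψ 1
    rw [Pi.mul_apply, Representation.char_one, Representation.char_one, finrank_fin,
      finrank_fin] at h4
    have hπ1 : ψ (proj N ρ 1) = ψ 1 := by rw [map_one]
    rw [← hπ1]
    push_cast
    exact h4.symm
  · have hscal : ∀ x ∈ N.comap (proj N ρ),
        ∃ ω : ℂ, Y x = ω • (LinearMap.id : (Fin b → ℂ) →ₗ[ℂ] (Fin b → ℂ)) := by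
      intro x hx
      obtain ⟨n, z, hz, rfl⟩ := exists_incl_mul_central N ρ hρ x hx
      obtain ⟨ω, hω⟩ := exists_smul_id_of_mem_center Y hz
      refine ⟨ω, ?_⟩
      have h1 : Y (incl N ρ n) = 1 := by
        rw [Cfsg.Agent.Lib.Helper25.rep_apply_eq_one_iff]
        exact hconst (incl N ρ n) ⟨n, rfl⟩
      rw [map_mul, h1, one_mul, hω]
    have h5 := finrank_dvd_index_of_scalar Y (N.comap (proj N ρ)) hscal
    rw [finrank_fin, Subgroup.index_comap_of_surjective N hsurj] at h5
    exact h5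

end Invariant

end CentralExt

end Cfsg.Agent.Lib.Helper2
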