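import Mathlib
import Cfsg.Prelude.Def_Characters
import Cfsg.Agent.Lib.Helper2.CentralExt
import Cfsg.Agent.Lib.Helper2.Ito
import Cfsg.Agent.Lib.Helper2.Linear

/-!
# `χ(1)/ϑ(1)` divides `|G : N|` (helper2 library)

For `N ⊴ G`, `χ ∈ Irr(G)` and `ϑ ∈ Irr(N)` a constituent of `χ_N`, the ratio `χ(1)/ϑ(1)` is an
integer dividing `|G : N|` (Isaacs 11.29).  Reduction to the invariant case by the Clifford
correspondence; the invariant case is `CentralExt.invariant_case`.
-/

set_option autoImplicit false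
set_option linter.style.haveILetI false
set_option linter.unusedSectionVars false

namespace Cfsg.Agent.Lib.Helper2

namespace DegreeRatio

open Cfsg
open scoped ComplexConjugate

universe u

theorem main {G : Type u} [Group G] [Fintype G] (N : Subgroup G) [hN : N.Normal] [Fintype N]
    (χ : G → ℂ) (hχ : IsIrrCharacter G χ) (ϑ : N → ℂ) (hϑ : IsIrrCharacter N ϑ)
    (hcon : classInner (fun n : N => χ n) ϑ ≠ 0) :
    ∃ b d : ℕ, ϑ 1 = d ∧ χ 1 = ((b * d : ℕ) : ℂ) ∧ b ∣ N.index := by
  classical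
  have hχchar := IsIrrCharacter.isCharacter hχ
  have hχcf : IsClassFunction G χ := IsCharacter.isClassFunction hχchar
  have hϑcf : IsClassFunction N ϑ :=
    IsCharacter.isClassFunction (IsIrrCharacter.isCharacter hϑ)
  set T := inertia N ϑ with hTdef
  have hNT : N ≤ T := le_inertia N hϑcf
  haveI : Fintype T := Fintype.ofFinite T
  set N' : Subgroup T := N.subgroupOf T with hN'
  haveI : Fintype N' := Fintype.ofFinite N'
  let ϑ' : N' → ℂ := fun x => ϑ ⟨(x : T), Subgroup.mem_subgroupOf.mp x.2⟩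
  let ΧT : T → ℂ := fun t => χ t
  have hΧTcf : IsClassFunction T ΧT := fun t s => hχcf t s
  have h1 : classInner (indFun N' ϑ') ΧT ≠ 0 := by
    rw [frobenius_reciprocity N' ϑ' ΧT hΧTcf]
    have h2 : classInner ϑ' (fun x : N' => ΧT x) = classInner ϑ (fun a : N => χ a) := by
      rw [classInner_def, classInner_def]
      let eqv : N' ≃* N := Subgroup.subgroupOfEquivOfLe hNT
      rw [Nat.card_congr eqv.toEquiv]
      congr 1
      rw [← Equiv.sum_comp eqv.toEquiv (fun a : N => ϑ a * conj (χ a))]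
      rfl
    rw [h2, ← classInner_conj_symm]
    intro h
    apply hcon
    have := congrArg (starRingEnd ℂ) h
    simpa using this
  obtain ⟨ψ, hψ1, hψ2⟩ := exists_common_constituent _ ΧT hΧTcf h1
  have hcc := Cfsg.Agent.Lib.Helper11.clifford_correspondence N T ϑ hϑ
    (fun g => Iff.rfl) hNT ψ ψ ψ.2 ψ.2 hψ1 hψ1
  have hind : indFun T (ψ : T → ℂ) = χ := by
    apply eq_of_irr_of_classInner_ne_zero' hcc.1 hχ
    rw [frobenius_reciprocity T _ χ hχcf, ← classInner_conj_symm]
    intro h
    apply hψ2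
    have := congrArg (starRingEnd ℂ) h
    simpa using this
  haveI : N'.Normal := Subgroup.Normal.subgroupOf hN T
  have hϑ' : IsIrrCharacter N' ϑ' := by
    have := Cfsg.Agent.Lib.Helper11.isIrrCharacter_comp_equiv
      (Subgroup.subgroupOfEquivOfLe hNT) hϑ
    convert this using 1
    funext x
    rfl
  have hinv : ∀ (t : T) (n : N'), ϑ' (MulAut.conjNormal t n) = ϑ' n := by
    intro t n
    have ht : conjFun N (t : G) ϑ = ϑ := t.2
    have h3 := congrFun ht ⟨((n : T) : G), Subgroup.mem_subgroupOf.mp n.2⟩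
    rw [conjFun_apply] at h3
    show ϑ ⟨(((MulAut.conjNormal t n : N') : T) : G), _⟩ = ϑ ⟨((n : T) : G), _⟩
    rw [← h3]
    congr 1
  have hcon' : classInner (fun n : N' => (ψ : T → ℂ) n) ϑ' ≠ 0 := by
    rw [frobenius_reciprocity N' ϑ' _ (IrrCharacter.isClassFunction ψ)] at hψ1
    rw [← classInner_conj_symm]
    intro h
    apply hψ1
    have := congrArg (starRingEnd ℂ) h
    simpa using this
  obtain ⟨b, d, hd, hbd, hb⟩ := CentralExt.invariant_case N' (ψ : T → ℂ) ψ.2 ϑ' hϑ' hinv hcon'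
  refine ⟨T.index * b, d, ?_, ?_, ?_⟩
  · exact hd
  · rw [← hind, indFun_apply_one, hbd]
    push_cast
    ring
  · rw [← Subgroup.relIndex_mul_index hNT, mul_comm]
    exact Nat.mul_dvd_mul hb (dvd_refl _)

end DegreeRatio

end Cfsg.Agent.Lib.Helper2
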