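import Mathlib
import Cfsg.Prelude.Def_GeometricClasses
import Cfsg.Agent.Lib.Helper7.AschDefs
import Cfsg.Agent.Lib.Helper11.AschCliffDefs
import Cfsg.Agent.Lib.Helper11.AschCliffAct
import Cfsg.Agent.Lib.Helper11.FormCliffDefs

/-!
# Clifford theory with a form: the pieces FC-PERP (a)-(e) of `notes/FormCliffSkel_helper11.lean.txt`
-/

set_option autoImplicit false

namespace Cfsg.Agent.Lib.Helper2.FCliffPERP

open Matrix Cfsg Cfsg.Geo Cfsg.Agent.Lib.Helper7.Asch Cfsg.Agent.Lib.Helper11.Cliff
  Cfsg.Agent.Lib.Helper11.CliffAct Cfsg.Agent.Lib.Helper11.FCliff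
open scoped MatrixGroups Kronecker

variable {n : ℕ} {F : Type*} [Field F] {σ : F ≃+* F} {f : (Fin n → F) → (Fin n → F) → F}

/-- the additive map `v ↦ f(·, v)|_W` into the dual of `W` -/
noncomputable def toDual (hf : RSForm σ f) (W : Submodule F (Fin n → F)) :
    (Fin n → F) →+ Module.Dual F W where
  toFun v :=
    { toFun := fun w => f (w : Fin n → F) v
      map_add' := fun a b => by simp only [Submodule.coe_add]; exact hf.add_left _ _ _
      map_smul' := fun c a => by
        simp only [Submodule.coe_smul, RingHom.id_apply, smul_eq_mul]; exact hf.smul_left _ _ _ }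
  map_zero' := by
    ext w
    exact hf.zero_right _
  map_add' a b := by
    ext w
    exact hf.add_right _ _ _

theorem toDual_apply (hf : RSForm σ f) (W : Submodule F (Fin n → F)) (v : Fin n → F) (w : W) :
    toDual hf W v w = f (w : Fin n → F) v := rfl

theorem mem_ker_toDual (hf : RSForm σ f) (W : Submodule F (Fin n → F)) (v : Fin n → F) :
    v ∈ (toDual hf W).ker ↔ v ∈ perp hf W := by
  rw [AddMonoidHom.mem_ker, mem_perp]
  constructor
  · intro h w hw
    have := LinearMap.congr_fun h ⟨w, hw⟩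
    exact this
  · intro h
    ext w
    exact h w w.2

/-- every functional on `F^n` is `f(·, v)` for some `v` (finite field: injective ⇒ surjective) -/
theorem exists_repr_top [Finite F] (hf : RSForm σ f) (ψ : Module.Dual F (Fin n → F)) :
    ∃ v : Fin n → F, ∀ x, f x v = ψ x := by
  classical
  let Φ : (Fin n → F) → Module.Dual F (Fin n → F) := fun v =>
    { toFun := fun w => f w v
      map_add' := fun a b => hf.add_left _ _ _
      map_smul' := fun c a => by
        simp only [RingHom.id_apply, smul_eq_mul]; exact hf.smul_left _ _ _ }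
  have hinj : Function.Injective Φ := by
    intro x y hxy
    apply hf.eq_of_forall_left
    intro u
    exact LinearMap.congr_fun hxy u
  have e : (Fin n → F) ≃ₗ[F] Module.Dual F (Fin n → F) :=
    LinearEquiv.ofFinrankEq _ _ (Subspace.dual_finrank_eq).symm
  have hsurj := (Finite.injective_iff_surjective_of_equiv e.toEquiv).mp hinj
  obtain ⟨v, hv⟩ := hsurj ψ
  exact ⟨v, fun x => LinearMap.congr_fun hv x⟩

theorem toDual_surjective [Finite F] (hf : RSForm σ f) (W : Submodule F (Fin n → F)) :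
    Function.Surjective (toDual hf W) := by
  intro φ
  obtain ⟨ψ, hψ⟩ := LinearMap.exists_extend φ
  obtain ⟨v, hv⟩ := exists_repr_top hf ψ
  refine ⟨v, ?_⟩
  ext w
  rw [toDual_apply, hv, ← hψ]
  rfl

/-- **FC-PERP-a** (dimension formula). -/
theorem finrank_perp [Fintype F] (hf : RSForm σ f) (W : Submodule F (Fin n → F)) :
    Module.finrank F (perp hf W) + Module.finrank F W = n := by
  classical
  have h1 := AddSubgroup.card_eq_card_quotient_mul_card_addSubgroup (toDual hf W).ker
  have h2 : Nat.card ((Fin n → F) ⧸ (toDual hf W).ker) = Nat.card (Module.Dual F W) :=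
    Nat.card_congr (QuotientAddGroup.quotientKerEquivOfSurjective (toDual hf W)
      (toDual_surjective hf W)).toEquiv
  have h3 : Nat.card (toDual hf W).ker = Nat.card (perp hf W) := by
    apply Nat.card_congr
    exact
      { toFun := fun v => ⟨v.1, (mem_ker_toDual hf W v.1).mp v.2⟩
        invFun := fun v => ⟨v.1, (mem_ker_toDual hf W v.1).mpr v.2⟩
        left_inv := fun v => rfl
        right_inv := fun v => rfl }
  rw [h2, h3, Module.natCard_eq_pow_finrank (K := F) (V := Fin n → F),
    Module.natCard_eq_pow_finrank (K := F) (V := Module.Dual F W),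
    Module.natCard_eq_pow_finrank (K := F) (V := perp hf W), Subspace.dual_finrank_eq,
    Module.finrank_fintype_fun_eq_card, Fintype.card_fin, ← pow_add] at h1
  have hq : 2 ≤ Nat.card F := by
    rw [Nat.card_eq_fintype_card]
    exact Fintype.one_lt_card
  have := Nat.pow_right_injective hq h1
  omega

theorem le_perp_perp (hf : RSForm σ f) (W : Submodule F (Fin n → F)) : W ≤ perp hf (perp hf W) :=
  fun w hw v hv => hf.refl _ _ (hv w hw)

/-- **FC-PERP-b**. -/
theorem perp_perp [Fintype F] (hf : RSForm σ f) (W : Submodule F (Fin n → F)) :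
    perp hf (perp hf W) = W := by
  have h1 := finrank_perp hf W
  have h2 := finrank_perp hf (perp hf W)
  symm
  apply Submodule.eq_of_le_of_finrank_eq (le_perp_perp hf W)
  omega

/-- **FC-PERP-c**. -/
theorem perp_sup (hf : RSForm σ f) (W W' : Submodule F (Fin n → F)) :
    perp hf (W ⊔ W') = perp hf W ⊓ perp hf W' := by
  apply le_antisymm
  · exact le_inf (perp_anti hf le_sup_left) (perp_anti hf le_sup_right)
  · rintro v ⟨hv, hv'⟩ w hw
    obtain ⟨a, ha, b, hb, rfl⟩ := Submodule.mem_sup.mp hw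
    rw [hf.add_left, hv a ha, hv' b hb, add_zero]

/-- **FC-PERP-d**.  An isometry commutes with `perp`. -/
theorem perp_map (hf : RSForm σ f) (g : GL (Fin n) F)
    (hg : ∀ u v, f ((g : Matrix (Fin n) (Fin n) F) *ᵥ u) ((g : Matrix (Fin n) (Fin n) F) *ᵥ v) = f u v)
    (W : Submodule F (Fin n → F)) :
    perp hf (W.map (Matrix.toLin' (g : Matrix (Fin n) (Fin n) F))) =
      (perp hf W).map (Matrix.toLin' (g : Matrix (Fin n) (Fin n) F)) := by
  have hginv : ∀ v : Fin n → F, (g : Matrix (Fin n) (Fin n) F) *ᵥ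
      (((g⁻¹ : GL (Fin n) F) : Matrix (Fin n) (Fin n) F) *ᵥ v) = v := by
    intro v
    rw [Matrix.mulVec_mulVec, ← Units.val_mul, mul_inv_cancel, Units.val_one, Matrix.one_mulVec]
  ext v
  constructor
  · intro hv
    refine ⟨((g⁻¹ : GL (Fin n) F) : Matrix (Fin n) (Fin n) F) *ᵥ v, ?_, ?_⟩
    · intro w hw
      have h1 := hg w (((g⁻¹ : GL (Fin n) F) : Matrix (Fin n) (Fin n) F) *ᵥ v)
      rw [hginv] at h1
      rw [← h1]
      exact hv _ ⟨w, hw, Matrix.toLin'_apply _ _⟩
    · rw [Matrix.toLin'_apply, hginv]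
  · rintro ⟨u, hu, rfl⟩ w ⟨w', hw', rfl⟩
    rw [Matrix.toLin'_apply, Matrix.toLin'_apply, hg]
    exact hu w' hw'

/-- **FC-PERP-e**.  `W ⊓ perp W = ⊥` means `W` is non-degenerate in the frozen sense. -/
theorem isNondegenerateOn_of_inf_perp (hf : RSForm σ f) (W : Submodule F (Fin n → F))
    (h : W ⊓ perp hf W = ⊥) : IsNondegenerateOn f W := by
  intro w hw hw0
  have hnot : w ∉ perp hf W := fun hp => hw0 ((Submodule.mem_bot F).mp (h ▸ ⟨hw, hp⟩))
  rw [mem_perp] at hnot
  push Not at hnot
  obtain ⟨x, hx, hxw⟩ := hnot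
  exact ⟨⟨x, hx, hxw⟩, ⟨x, hx, fun h0 => hxw (hf.refl _ _ h0)⟩⟩

/-- converse of (e) -/
theorem inf_perp_of_isNondegenerateOn (hf : RSForm σ f) (W : Submodule F (Fin n → F))
    (h : IsNondegenerateOn f W) : W ⊓ perp hf W = ⊥ := by
  rw [eq_bot_iff]
  intro w hw
  rw [Submodule.mem_bot]
  by_contra hw0
  obtain ⟨⟨x, hx, hxw⟩, _⟩ := h w hw.1 hw0
  exact hxw (hw.2 x hx)

/-- `perp` of an infimum (finite field) -/
theorem perp_inf [Fintype F] (hf : RSForm σ f) (W W' : Submodule F (Fin n → F)) :
    perp hf (W ⊓ W') = perp hf W ⊔ perp hf W' := by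
  rw [← perp_perp hf (perp hf W ⊔ perp hf W'), perp_sup, perp_perp, perp_perp]

theorem perp_bot (hf : RSForm σ f) : perp hf (⊥ : Submodule F (Fin n → F)) = ⊤ := by
  rw [eq_top_iff]
  intro v _ w hw
  rw [(Submodule.mem_bot F).mp hw]
  exact hf.zero_left v

theorem perp_top (hf : RSForm σ f) : perp hf (⊤ : Submodule F (Fin n → F)) = ⊥ := by
  rw [eq_bot_iff]
  intro v hv
  rw [Submodule.mem_bot]
  by_contra hv0
  obtain ⟨⟨x, hx⟩, _⟩ := hf.nondeg v hv0
  exact hx (hv x trivial)

end Cfsg.Agent.Lib.Helper2.FCliffPERP
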