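import Mathlib
import Cfsg.Prelude.Def_GeometricClasses
import Cfsg.Agent.Lib.Helper7.AschDefs
import Cfsg.Agent.Lib.Helper11.AschCliffDefs
import Cfsg.Agent.Lib.Helper11.AschCliffAct
import Cfsg.Agent.Lib.Helper11.S5630I4CL2
import Cfsg.Agent.Lib.Helper11.FormCliffDefs
import Cfsg.Agent.Lib.Helper11.FormCliffComps
import Cfsg.Agent.Lib.Helper26.FCliffFI
import Cfsg.Agent.Lib.Helper2.FCliffPERP

/-!
# Clifford theory with a form: the pieces FC-ONE, FC-DEC-0, FC-DEC-A, FC-DEC-B2 of
`notes/FormCliffSkel_helper11.lean.txt`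
-/

set_option autoImplicit false

namespace Cfsg.Agent.Lib.Helper2.FCliffDEC

open Matrix Cfsg Cfsg.Geo Cfsg.Agent.Lib.Helper7.Asch Cfsg.Agent.Lib.Helper11.Cliff
  Cfsg.Agent.Lib.Helper11.CliffAct Cfsg.Agent.Lib.Helper11.FCliff Cfsg.Agent.Lib.Helper11.CliffCL
open scoped MatrixGroups Kronecker

variable {n : ℕ} {F : Type*} [Field F] {σ : F ≃+* F} {f : (Fin n → F) → (Fin n → F) → F}

theorem le_perpM_iff (hf : RSForm σ f) {X : Subgroup (GL (Fin n) F)} (hXf : FixesForm (matrixSet X) f)
    (A B : SubM X) : A ≤ perpM hf hXf B ↔ ∀ v ∈ A, ∀ w ∈ B, f w v = 0 :=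
  ⟨fun h v hv w hw => (mem_perpM hf hXf B v).mp (h hv) w hw,
    fun h v hv => (mem_perpM hf hXf B v).mpr (fun w hw => h v hv w hw)⟩

theorem le_perpM_symm (hf : RSForm σ f) {X : Subgroup (GL (Fin n) F)} (hXf : FixesForm (matrixSet X) f)
    (A B : SubM X) : A ≤ perpM hf hXf B ↔ B ≤ perpM hf hXf A := by
  rw [le_perpM_iff, le_perpM_iff]
  exact ⟨fun h v hv w hw => hf.refl _ _ (h w hw v hv), fun h v hv w hw => hf.refl _ _ (h w hw v hv)⟩

/-- **FC-ONE**, with FC-FI as a hypothesis. -/
theorem exists_partner_of [Fintype F] (hf : RSForm σ f) {H X : Subgroup (GL (Fin n) F)} (hX : NormBy H X)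
    (hss : IsSemisimpleModule (envEnd X) (Fin n → F)) (hXf : FixesForm (matrixSet X) f)
    (hFI : ∀ W : SubM X, W.IsFullyInvariant → (perpM hf hXf W).IsFullyInvariant)
    {t m : ℕ} (D : Fin t → SubM X) (hc : Comps hX m D) :
    ∃ ν : Fin t → Fin t, ∀ i j, D j ≤ perpM hf hXf (D i) ↔ j ≠ ν i := by
  classical
  haveI := hss
  have hmpos : 0 < m := hc.dec.pos
  have hfr : ∀ i, Module.finrank F ((D i).restrictScalars F) = m := hc.dec.finrank_eq
  have hind : iSupIndep (fun i => (D i).restrictScalars F) := hc.dec.indep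
  have htop : (⨆ i, (D i).restrictScalars F) = ⊤ := hc.dec.iSup_eq_top
  -- the perp as an `F`-subspace
  have hP : ∀ i, (perpM hf hXf (D i)).restrictScalars F = perp hf ((D i).restrictScalars F) :=
    fun i => rfl
  have hPfr : ∀ i, Module.finrank F (perp hf ((D i).restrictScalars F)) + m = n := by
    intro i
    have := Cfsg.Agent.Lib.Helper2.FCliffPERP.finrank_perp hf ((D i).restrictScalars F)
    rwa [hfr i] at this
  -- the perp is a sum of components
  have hsum : ∀ i, perp hf ((D i).restrictScalars F) ≤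
      ⨆ l ∈ {l : Fin t | D l ≤ perpM hf hXf (D i)}, (D l).restrictScalars F := by
    intro i
    have hDi : (D i).IsFullyInvariant :=
      Submodule.IsFullyInvariant.of_mem_isotypicComponents (hc.range ▸ Set.mem_range_self i)
    obtain ⟨s, hs, heq⟩ := isFullyInvariant_iff_sSup_isotypicComponents.mp (hFI (D i) hDi)
    have h1 : perpM hf hXf (D i) ≤ ⨆ l ∈ {l : Fin t | D l ≤ perpM hf hXf (D i)}, D l := by
      refine heq.le.trans (sSup_le ?_)
      intro c hcs
      have hcr : c ∈ Set.range D := hc.range ▸ hs hcs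
      obtain ⟨l, rfl⟩ := hcr
      have hl : D l ≤ perpM hf hXf (D i) := heq ▸ le_sSup hcs
      exact le_iSup₂ (f := fun l (_ : l ∈ {l : Fin t | D l ≤ perpM hf hXf (D i)}) => D l) l hl
    intro v hv
    have hv' : v ∈ perpM hf hXf (D i) := hv
    have h2 := h1 hv'
    have h3 : (⨆ l ∈ {l : Fin t | D l ≤ perpM hf hXf (D i)}, (D l).restrictScalars F) =
        (⨆ l ∈ {l : Fin t | D l ≤ perpM hf hXf (D i)}, D l).restrictScalars F := by
      simp only [Submodule.restrictScalars_iSup]
    rw [h3]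
    exact h2
  -- at least one component is not in the perp
  have hex : ∀ i, ∃ j, ¬ D j ≤ perpM hf hXf (D i) := by
    intro i
    by_contra hall
    push Not at hall
    have h1 : (⊤ : Submodule F (Fin n → F)) ≤ perp hf ((D i).restrictScalars F) := by
      rw [← htop]
      apply iSup_le
      intro j v hv
      exact hall j hv
    have h2 : perp hf ((D i).restrictScalars F) = ⊤ := top_unique h1
    have h3 := hPfr i
    rw [h2, finrank_top, Module.finrank_fintype_fun_eq_card, Fintype.card_fin] at h3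
    omega
  -- at most one
  have huniq : ∀ i j k, ¬ D j ≤ perpM hf hXf (D i) → ¬ D k ≤ perpM hf hXf (D i) → j = k := by
    intro i j k hj hk
    by_contra hjk
    have hdisj : Disjoint (⨆ l ∈ ({j, k} : Set (Fin t)), (D l).restrictScalars F)
        (⨆ l ∈ {l : Fin t | D l ≤ perpM hf hXf (D i)}, (D l).restrictScalars F) := by
      apply hind.disjoint_biSup_biSup' _ (Set.toFinite _)
      rw [Set.disjoint_left]
      intro l hl hl'
      rcases hl with rfl | rfl
      · exact hj hl'
      · exact hk hl'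
    have hjk' : Disjoint ((D j).restrictScalars F) ((D k).restrictScalars F) :=
      hind.pairwiseDisjoint hjk
    have hle : (D j).restrictScalars F ⊔ (D k).restrictScalars F ≤
        ⨆ l ∈ ({j, k} : Set (Fin t)), (D l).restrictScalars F := by
      apply sup_le
      · exact le_iSup₂ (f := fun l (_ : l ∈ ({j, k} : Set (Fin t))) => (D l).restrictScalars F) j
          (Set.mem_insert _ _)
      · exact le_iSup₂ (f := fun l (_ : l ∈ ({j, k} : Set (Fin t))) => (D l).restrictScalars F) k
          (Set.mem_insert_of_mem _ rfl)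
    have hd2 : Disjoint ((D j).restrictScalars F ⊔ (D k).restrictScalars F)
        (perp hf ((D i).restrictScalars F)) := hdisj.mono hle (hsum i)
    have h4 := Submodule.finrank_add_finrank_le_of_disjoint hd2
    have h5 := Submodule.finrank_sup_add_finrank_inf_eq ((D j).restrictScalars F)
      ((D k).restrictScalars F)
    rw [disjoint_iff.mp hjk', finrank_bot, hfr j, hfr k] at h5
    have h6 := hPfr i
    rw [Module.finrank_fintype_fun_eq_card, Fintype.card_fin] at h4
    omega
  choose ν hν using hex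
  refine ⟨ν, fun i j => ⟨?_, ?_⟩⟩
  · rintro h rfl
    exact hν i h
  · intro hne
    by_contra h
    exact hne (huniq i j (ν i) h (hν i))

/-- **FC-ONE** (every component has exactly one non-orthogonal partner). -/
theorem exists_partner [Fintype F] (hf : RSForm σ f) {H X : Subgroup (GL (Fin n) F)} (hX : NormBy H X)
    (hss : IsSemisimpleModule (envEnd X) (Fin n → F)) (hXf : FixesForm (matrixSet X) f)
    {t m : ℕ} (D : Fin t → SubM X) (hc : Comps hX m D) :
    ∃ ν : Fin t → Fin t, ∀ i j, D j ≤ perpM hf hXf (D i) ↔ j ≠ ν i :=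
  exists_partner_of hf hX hss hXf
    (fun W hW => Cfsg.Agent.Lib.Helper26.FCliffFI.isFullyInvariant_perpM hf hXf W hW) D hc

/-- **FC-DEC-0**. -/
theorem partner_invol_and_dichotomy (hf : RSForm σ f) {H X : Subgroup (GL (Fin n) F)} (hX : NormBy H X)
    (hHf : FixesForm (matrixSet H) f) (hXf : FixesForm (matrixSet X) f)
    {t m : ℕ} (D : Fin t → SubM X) (hc : Comps hX m D) (ν : Fin t → Fin t)
    (hν : ∀ i j, D j ≤ perpM hf hXf (D i) ↔ j ≠ ν i) :
    (∀ i, ν (ν i) = i) ∧
    (∀ h (hh : h ∈ H) (π : Equiv.Perm (Fin t)), (∀ i, gmap h (nzr_of_normBy hX hh) (D i) = D (π i)) →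
      ∀ i, ν (π i) = π (ν i)) ∧
    ((∀ i, ν i = i) ∨ (∀ i, ν i ≠ i)) := by
  have hinv : ∀ i, ν (ν i) = i := by
    intro i
    by_contra hne
    have h1 : D i ≤ perpM hf hXf (D (ν i)) := (hν (ν i) i).mpr (fun h => hne h.symm)
    have h2 := (le_perpM_symm hf hXf _ _).mp h1
    exact (hν i (ν i)).mp h2 rfl
  have heq : ∀ h (hh : h ∈ H) (π : Equiv.Perm (Fin t)),
      (∀ i, gmap h (nzr_of_normBy hX hh) (D i) = D (π i)) → ∀ i, ν (π i) = π (ν i) := by
    intro h hh π hπ i
    by_contra hne
    -- `D (π (ν i)) ≤ perp (D (π i))`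
    have h1 : D (π (ν i)) ≤ perpM hf hXf (D (π i)) := (hν (π i) (π (ν i))).mpr (fun h => hne h.symm)
    -- transport back
    have h2 : D (ν i) ≤ perpM hf hXf (D i) := by
      rw [le_perpM_iff] at h1 ⊢
      intro v hv w hw
      have hv' : gl h v ∈ D (π (ν i)) := by
        rw [← hπ (ν i)]
        exact (gl_mem_gmap _ _ v).mpr hv
      have hw' : gl h w ∈ D (π i) := by
        rw [← hπ i]
        exact (gl_mem_gmap _ _ w).mpr hw
      have h3 := h1 _ hv' _ hw'
      rw [gl_apply, gl_apply, hHf _ ⟨h, hh, rfl⟩] at h3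
      exact h3
    exact (hν i (ν i)).mp h2 rfl
  refine ⟨hinv, heq, ?_⟩
  by_cases hfix : ∃ i₀, ν i₀ = i₀
  · left
    obtain ⟨i₀, hi₀⟩ := hfix
    intro j
    obtain ⟨h, hh, hj⟩ := hc.trans i₀ j
    obtain ⟨π, hπ⟩ := hc.perm h hh
    have hπj : π i₀ = j := hc.inj ((hπ i₀).symm.trans hj)
    rw [← hπj, heq h hh π hπ i₀, hi₀]
  · right
    push Not at hfix
    exact hfix

/-- `H` permutes the components -/
theorem le_decompositionStabilizer {H X : Subgroup (GL (Fin n) F)} (hX : NormBy H X) {t m : ℕ}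
    (D : Fin t → SubM X) (hc : Comps hX m D) :
    H ≤ decompositionStabilizer (fun i => (D i).restrictScalars F) := by
  intro h hh
  obtain ⟨π, hπ⟩ := hc.perm h hh
  refine ⟨π, fun i => ?_⟩
  rw [map_restrictScalars_eq (nzr_of_normBy hX hh), hπ i]

/-- **FC-DEC-A** (`ν = id`). -/
theorem nondeg_decomposition_of_partner_self (hf : RSForm σ f) {H X : Subgroup (GL (Fin n) F)} (hX : NormBy H X)
    (hXf : FixesForm (matrixSet X) f) {t m : ℕ} (D : Fin t → SubM X) (hc : Comps hX m D)
    (hν : ∀ i j, D j ≤ perpM hf hXf (D i) ↔ j ≠ i) :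
    IsNondegenerateMDecomposition f m (fun i => (D i).restrictScalars F) ∧
      H ≤ decompositionStabilizer (fun i => (D i).restrictScalars F) := by
  refine ⟨⟨hc.dec, ?_, ?_⟩, le_decompositionStabilizer hX D hc⟩
  · intro i
    apply Cfsg.Agent.Lib.Helper2.FCliffPERP.isNondegenerateOn_of_inf_perp hf
    rw [eq_bot_iff]
    intro v hv
    rw [Submodule.mem_bot]
    -- `v` is orthogonal to everything
    have hall : ∀ w ∈ (⨆ j, (D j).restrictScalars F), f w v = 0 := by
      intro w hw
      refine Submodule.iSup_induction (fun j => (D j).restrictScalars F)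
        (motive := fun w => f w v = 0) hw ?_ ?_ ?_
      · intro j w hw
        by_cases hji : j = i
        · subst hji
          exact hv.2 w hw
        · -- `D i ≤ perp (D j)`
          have h1 : D i ≤ perpM hf hXf (D j) := (hν j i).mpr (fun h => hji h.symm)
          exact (le_perpM_iff hf hXf _ _).mp h1 v hv.1 w hw
      · exact hf.zero_left v
      · intro a b ha hb
        rw [hf.add_left, ha, hb, add_zero]
    rw [hc.dec.iSup_eq_top] at hall
    by_contra hv0
    obtain ⟨⟨x, hx⟩, _⟩ := hf.nondeg v hv0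
    exact hx (hall x trivial)
  · intro i j hij u hu v hv
    have h1 : D j ≤ perpM hf hXf (D i) := (hν i j).mpr (fun h => hij h.symm)
    exact (le_perpM_iff hf hXf _ _).mp h1 v hv u hu

/-- **FC-DEC-B2** (`ν` fixed-point-free, `t = 2`): both components are totally singular. -/
theorem singular_pair_of_partner (hf : RSForm σ f) {H X : Subgroup (GL (Fin n) F)} (hX : NormBy H X)
    (hXf : FixesForm (matrixSet X) f) {m : ℕ} (D : Fin 2 → SubM X) (hc : Comps hX m D)
    (ν : Fin 2 → Fin 2) (hν : ∀ i j, D j ≤ perpM hf hXf (D i) ↔ j ≠ ν i) (hfp : ∀ i, ν i ≠ i) :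
    IsMDecomposition m (fun i => (D i).restrictScalars F) ∧
      (∀ i, IsTotallySingularFor f ((D i).restrictScalars F)) ∧
      H ≤ decompositionStabilizer (fun i => (D i).restrictScalars F) := by
  refine ⟨hc.dec, ?_, le_decompositionStabilizer hX D hc⟩
  intro i u hu v hv
  have h1 : D i ≤ perpM hf hXf (D i) := (hν i i).mpr (fun h => hfp i h.symm)
  exact (le_perpM_iff hf hXf _ _).mp h1 v hv u hu

end Cfsg.Agent.Lib.Helper2.FCliffDEC
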