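import Cfsg.Agent.Lib.Helper1.MinDegTv

/-! S2140 front (helper11), piece F6C: case (i) is impossible for `n ≥ 5`, or `n ≥ 4` in odd
characteristic (the symmetric form on `ker ψ`). -/

set_option autoImplicit false

namespace Cfsg.Agent.Lib.Helper11.MinDeg

open Matrix

namespace CaseIC

section lin
variable {F : Type*} [Field F] {n : ℕ}

/-- a functional vanishing on `ker ψ` is a multiple of `ψ`. -/
theorem exists_smul_of_ker {ψ φ : Fin n → F} (hψ : ψ ≠ 0)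
    (h : ∀ u : Fin n → F, ψ ⬝ᵥ u = 0 → φ ⬝ᵥ u = 0) : ∃ κ : F, φ = κ • ψ := by
  classical
  obtain ⟨i, hi⟩ : ∃ i, ψ i ≠ 0 := by
    by_contra hcon
    push Not at hcon
    exact hψ (funext hcon)
  set u0 : Fin n → F := (ψ i)⁻¹ • Pi.single i 1 with hu0
  have h1 : ψ ⬝ᵥ u0 = 1 := by
    rw [hu0, dotProduct_smul, dotProduct_single, smul_eq_mul, mul_one, inv_mul_cancel₀ hi]
  refine ⟨φ ⬝ᵥ u0, ?_⟩
  funext j
  have h2 : ψ ⬝ᵥ (Pi.single j 1 - (ψ j) • u0) = 0 := by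
    rw [dotProduct_sub, dotProduct_smul, h1, dotProduct_single]
    simp
  have h3 := h _ h2
  rw [dotProduct_sub, dotProduct_smul, dotProduct_single, smul_eq_mul, mul_one, sub_eq_zero] at h3
  rw [h3]
  simp [mul_comm]

/-- few vectors: there is a functional killing them all which is not a multiple of `ψ`. -/
theorem exists_perp_not_span {k : ℕ} (s : Fin k → (Fin n → F)) (hk : k + 2 ≤ n) (ψ : Fin n → F) :
    ∃ ξ : Fin n → F, (∀ i, ξ ⬝ᵥ s i = 0) ∧ ∀ κ : F, ξ ≠ κ • ψ := by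
  classical
  set L : (Fin n → F) →ₗ[F] (Fin k → F) := (Matrix.of s).mulVecLin with hL
  have hrank := LinearMap.finrank_range_add_finrank_ker L
  have hr : Module.finrank F (LinearMap.range L) ≤ k := by
    have := Submodule.finrank_le (LinearMap.range L)
    simpa using this
  have hn : Module.finrank F (Fin n → F) = n := by simp
  have hker : 2 ≤ Module.finrank F (LinearMap.ker L) := by omega
  by_contra hcon
  push Not at hcon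
  have hle : LinearMap.ker L ≤ Submodule.span F {ψ} := by
    intro ξ hξ
    rw [LinearMap.mem_ker] at hξ
    have h0 : ∀ i, ξ ⬝ᵥ s i = 0 := by
      intro i
      have := congrFun hξ i
      simp only [hL, Matrix.mulVecLin_apply, Pi.zero_apply] at this
      rw [dotProduct_comm]
      simpa [Matrix.mulVec] using this
    obtain ⟨κ, hκ⟩ := hcon ξ h0
    rw [Submodule.mem_span_singleton]
    exact ⟨κ, hκ.symm⟩
  have h1 := Submodule.finrank_mono hle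
  have h2 : Module.finrank F (Submodule.span F {ψ}) ≤ 1 := by
    have := finrank_span_le_card (R := F) ({ψ} : Set (Fin n → F))
    simpa using this
  omega

end lin

section main
variable {F : Type*} [Field F] {n : ℕ}

/-- the relation `φ = φ_w`: `φ ⊥ v` and `tv v φ * tv w ψ ∈ H`. -/
def Rel (H : Subgroup (SpecialLinearGroup (Fin n) F)) (v ψ w φ : Fin n → F) : Prop :=
  φ ⬝ᵥ v = 0 ∧ tv v φ * tv w ψ ∈ H

variable {H : Subgroup (SpecialLinearGroup (Fin n) F)} {v ψ : Fin n → F}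

theorem uniq (hv : v ≠ 0) (hA : A v ⊓ H = ⊥) {t : SpecialLinearGroup (Fin n) F}
    {φ φ' : Fin n → F} (h1 : φ ⬝ᵥ v = 0) (h1' : φ' ⬝ᵥ v = 0)
    (h2 : tv v φ * t ∈ H) (h2' : tv v φ' * t ∈ H) : φ = φ' := by
  have h3 : (tv v φ * t) * (tv v φ' * t)⁻¹ ∈ H := H.mul_mem h2 (H.inv_mem h2')
  have h4 : (tv v φ * t) * (tv v φ' * t)⁻¹ = tv v (φ - φ') := by
    have hneg : (-φ') ⬝ᵥ v = 0 := by rw [neg_dotProduct, h1', neg_zero]
    rw [_root_.mul_inv_rev, tv_inv h1', ← mul_assoc, mul_assoc (tv v φ), mul_inv_cancel, mul_one,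
      tv_mul_tv h1 hneg, sub_eq_add_neg]
  rw [h4] at h3
  have h5 : (φ - φ') ⬝ᵥ v = 0 := by rw [sub_dotProduct, h1, h1', sub_zero]
  have h6 : tv v (φ - φ') ∈ A v ⊓ H := ⟨tv_mem_A h5, h3⟩
  rw [hA, Subgroup.mem_bot, tv_eq_one_iff hv h5] at h6
  exact sub_eq_zero.1 h6

theorem Rel.unique (hv : v ≠ 0) (hA : A v ⊓ H = ⊥) {w φ φ' : Fin n → F}
    (h : Rel H v ψ w φ) (h' : Rel H v ψ w φ') : φ = φ' :=
  uniq hv hA h.1 h'.1 h.2 h'.2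

theorem exists_rel (hv : v ≠ 0)
    (hfac : ∀ x : SpecialLinearGroup (Fin n) F, ∃ a ∈ A v, a * x ∈ H) (w : Fin n → F) :
    ∃ φ, Rel H v ψ w φ := by
  obtain ⟨a, ha, hax⟩ := hfac (tv w ψ)
  obtain ⟨φ, hφ, rfl⟩ := (mem_A_iff hv a).1 ha
  exact ⟨φ, hφ, hax⟩

/-- additivity: `φ_{w+w'} = φ_w + φ_w' - (φ_w' ⬝ w) ψ`. -/
theorem Rel.add (hψv : ψ ⬝ᵥ v = 0) {w w' φ φ' : Fin n → F} (hw : ψ ⬝ᵥ w = 0)
    (hw' : ψ ⬝ᵥ w' = 0) (h : Rel H v ψ w φ) (h' : Rel H v ψ w' φ') :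
    Rel H v ψ (w + w') (φ + φ' - (φ' ⬝ᵥ w) • ψ) := by
  obtain ⟨h1, h2⟩ := h
  obtain ⟨h1', h2'⟩ := h'
  have hφ1 : (φ' - (φ' ⬝ᵥ w) • ψ) ⬝ᵥ v = 0 := by
    rw [sub_dotProduct, smul_dotProduct, h1', hψv, smul_zero, sub_zero]
  refine ⟨?_, ?_⟩
  · rw [sub_dotProduct, add_dotProduct, smul_dotProduct, h1, h1', hψv, smul_zero, add_zero,
      sub_zero]
  · have hc := tv_conj_tv (y := w) (ξ := ψ) (v := v) (φ := φ') hw h1'
    rw [hψv, zero_smul, add_zero] at hc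
    have hswap : tv w ψ * tv v φ' = tv v (φ' - (φ' ⬝ᵥ w) • ψ) * tv w ψ := by
      rw [← hc]
      group
    have hprod : (tv v φ * tv w ψ) * (tv v φ' * tv w' ψ)
        = tv v (φ + φ' - (φ' ⬝ᵥ w) • ψ) * tv (w + w') ψ := by
      rw [mul_assoc (tv v φ), ← mul_assoc (tv w ψ), hswap, mul_assoc _ (tv w ψ),
        tv_mul_tv' hw hw', ← mul_assoc, tv_mul_tv h1 hφ1, add_sub_assoc]
    rw [← hprod]
    exact H.mul_mem h2 h2'

/-- symmetry of the form `β(w,w') = φ_w ⬝ w'`. -/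
theorem Rel.symm (hv : v ≠ 0) (hA : A v ⊓ H = ⊥) (hψ : ψ ≠ 0) (hψv : ψ ⬝ᵥ v = 0)
    {w w' φ φ' : Fin n → F} (hw : ψ ⬝ᵥ w = 0) (hw' : ψ ⬝ᵥ w' = 0)
    (h : Rel H v ψ w φ) (h' : Rel H v ψ w' φ') : φ ⬝ᵥ w' = φ' ⬝ᵥ w := by
  have h1 := Rel.add hψv hw hw' h h'
  have h2 := Rel.add hψv hw' hw h' h
  rw [add_comm w' w] at h2
  have h3 := Rel.unique hv hA h1 h2
  have h4 : (φ' ⬝ᵥ w) • ψ = (φ ⬝ᵥ w') • ψ := by
    have : φ + φ' - (φ' ⬝ᵥ w) • ψ = φ + φ' - (φ ⬝ᵥ w') • ψ := by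
      rw [h3, add_comm φ' φ]
    exact sub_right_injective this
  by_contra hne
  apply hψ
  have h5 : (φ' ⬝ᵥ w - φ ⬝ᵥ w') • ψ = 0 := by rw [sub_smul, h4, sub_self]
  rcases smul_eq_zero.1 h5 with h6 | h6
  · exact absurd (sub_eq_zero.1 h6).symm hne
  · exact h6

/-- `φ_w` is not a multiple of `ψ` when `w ∉ F v`. -/
theorem Rel.not_smul (hψ : ψ ≠ 0) (hψv : ψ ⬝ᵥ v = 0)
    (hAll : ∀ u : Fin n → F, u ≠ 0 → A u ⊓ H = ⊥)
    {w φ : Fin n → F} (hw : ψ ⬝ᵥ w = 0) (hwv : w ∉ Submodule.span F {v})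
    (h : Rel H v ψ w φ) (κ : F) : φ ≠ κ • ψ := by
  rintro rfl
  obtain ⟨-, h2⟩ := h
  have hκv : ψ ⬝ᵥ (κ • v) = 0 := by rw [dotProduct_smul, hψv, smul_zero]
  rw [← tv_smul_left, tv_mul_tv' hκv hw] at h2
  have hne : κ • v + w ≠ 0 := by
    intro h0
    apply hwv
    rw [Submodule.mem_span_singleton]
    refine ⟨-κ, ?_⟩
    rw [neg_smul]
    exact (eq_neg_of_add_eq_zero_right h0).symm
  have hdot : ψ ⬝ᵥ (κ • v + w) = 0 := by rw [dotProduct_add, hκv, hw, add_zero]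
  have h6 : tv (κ • v + w) ψ ∈ A (κ • v + w) ⊓ H := ⟨tv_mem_A hdot, h2⟩
  rw [hAll _ hne, Subgroup.mem_bot, tv_eq_one_iff hne hdot] at h6
  exact hψ h6

/-- invariance: `β(w, ·)` vanishes on `ker ψ ∩ ker ξ` for `ξ ⊥ v, w`, `ξ ∉ F ψ`. -/
theorem Rel.dot_eq_zero (hv : v ≠ 0) (hA : A v ⊓ H = ⊥) (hψv : ψ ⬝ᵥ v = 0)
    (hfac : ∀ x : SpecialLinearGroup (Fin n) F, ∃ a ∈ A v, a * x ∈ H)
    {w φ y ξ : Fin n → F} (hw : ψ ⬝ᵥ w = 0) (hy : ψ ⬝ᵥ y = 0)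
    (hξv : ξ ⬝ᵥ v = 0) (hξw : ξ ⬝ᵥ w = 0) (hξy : ξ ⬝ᵥ y = 0) (hξψ : ∀ κ : F, ξ ≠ κ • ψ)
    (h : Rel H v ψ w φ) : φ ⬝ᵥ y = 0 := by
  obtain ⟨h1, h2⟩ := h
  obtain ⟨a, ha, hax⟩ := hfac (tv y ξ)
  obtain ⟨α, hα, rfl⟩ := (mem_A_iff hv a).1 ha
  -- conjugate `q_w` by `g = tv v α * tv y ξ ∈ H`
  have hconj : (tv v α * tv y ξ) * (tv v φ * tv w ψ) * (tv v α * tv y ξ)⁻¹ ∈ H :=
    H.mul_mem (H.mul_mem hax h2) (H.inv_mem hax)
  have hx1 := tv_conj_tv (y := y) (ξ := ξ) (v := v) (φ := φ) hξy h1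
  rw [hξv, zero_smul, add_zero] at hx1
  have hx2 := tv_conj_tv (y := y) (ξ := ξ) (v := w) (φ := ψ) hξy hw
  rw [hξw, zero_smul, add_zero, hy, zero_smul, sub_zero] at hx2
  have hφ1 : (φ - (φ ⬝ᵥ y) • ξ) ⬝ᵥ v = 0 := by
    rw [sub_dotProduct, smul_dotProduct, h1, hξv, smul_zero, sub_zero]
  have ha2 := tv_conj_tv (y := v) (ξ := α) (v := w) (φ := ψ) hα hw
  rw [hψv, zero_smul, sub_zero] at ha2
  have hcv : ψ ⬝ᵥ ((α ⬝ᵥ w) • v) = 0 := by rw [dotProduct_smul, hψv, smul_zero]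
  have hsplit : tv (w + (α ⬝ᵥ w) • v) ψ = tv v ((α ⬝ᵥ w) • ψ) * tv w ψ := by
    rw [add_comm, ← tv_mul_tv' hcv hw, tv_smul_left]
  have hcψ : ((α ⬝ᵥ w) • ψ) ⬝ᵥ v = 0 := by rw [smul_dotProduct, hψv, smul_zero]
  have hnegα : (-α) ⬝ᵥ v = 0 := by rw [neg_dotProduct, hα, neg_zero]
  have ha1 : tv v α * tv v (φ - (φ ⬝ᵥ y) • ξ) * (tv v α)⁻¹ = tv v (φ - (φ ⬝ᵥ y) • ξ) := by
    rw [tv_inv hα, tv_mul_tv hα hφ1, tv_mul_tv (by rw [add_dotProduct, hα, hφ1, add_zero]) hnegα]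
    congr 1
    abel
  have hfinal : (tv v α * tv y ξ) * (tv v φ * tv w ψ) * (tv v α * tv y ξ)⁻¹
      = tv v (φ - (φ ⬝ᵥ y) • ξ + (α ⬝ᵥ w) • ψ) * tv w ψ := by
    have e1 : (tv v α * tv y ξ) * (tv v φ * tv w ψ) * (tv v α * tv y ξ)⁻¹
        = (tv v α * (tv y ξ * tv v φ * (tv y ξ)⁻¹) * (tv v α)⁻¹)
          * (tv v α * (tv y ξ * tv w ψ * (tv y ξ)⁻¹) * (tv v α)⁻¹) := by group
    rw [e1, hx1, hx2, ha1, ha2, hsplit, ← mul_assoc, tv_mul_tv hφ1 hcψ]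
  rw [hfinal] at hconj
  have hdot : (φ - (φ ⬝ᵥ y) • ξ + (α ⬝ᵥ w) • ψ) ⬝ᵥ v = 0 := by
    rw [add_dotProduct, hφ1, hcψ, add_zero]
  have heq := uniq hv hA hdot h1 hconj h2
  -- `(φ ⬝ y) ξ = c ψ`
  have h7 : (φ ⬝ᵥ y) • ξ = (α ⬝ᵥ w) • ψ := by
    have : φ - (φ ⬝ᵥ y) • ξ + (α ⬝ᵥ w) • ψ - φ = 0 := by rw [heq, sub_self]
    have h8 : (α ⬝ᵥ w) • ψ - (φ ⬝ᵥ y) • ξ = 0 := by
      rw [← this]
      abel
    exact (sub_eq_zero.1 h8).symm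
  by_contra hne
  apply hξψ ((φ ⬝ᵥ y)⁻¹ * (α ⬝ᵥ w))
  rw [mul_smul, ← h7, smul_smul, inv_mul_cancel₀ hne, one_smul]

end main

end CaseIC

variable {F : Type*} [Field F] [Fintype F] {n : ℕ}

/-- F6C: the symmetric form on `ker ψ / F v`. -/
theorem caseI_C (hn : 4 ≤ n) (hC : 5 ≤ n ∨ ringChar F ≠ 2)
    (H : Subgroup (SpecialLinearGroup (Fin n) F))
    (hfac : ∀ v : Fin n → F, v ≠ 0 → ∀ x : SpecialLinearGroup (Fin n) F, ∃ a ∈ A v, a * x ∈ H)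
    (h : ∀ v : Fin n → F, v ≠ 0 → A v ⊓ H = ⊥) : False := by
  classical
  -- explicit `v = e₀`, `ψ = e₁*`, `w = e₂`
  set i0 : Fin n := ⟨0, by omega⟩ with hi0
  set i1 : Fin n := ⟨1, by omega⟩ with hi1
  set i2 : Fin n := ⟨2, by omega⟩ with hi2
  have h01 : i0 ≠ i1 := by simp [hi0, hi1, Fin.ext_iff]
  have h02 : i0 ≠ i2 := by simp [hi0, hi2, Fin.ext_iff]
  have h12 : i1 ≠ i2 := by simp [hi1, hi2, Fin.ext_iff]
  set v : Fin n → F := Pi.single i0 1 with hvdef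
  set ψ : Fin n → F := Pi.single i1 1 with hψdef
  set w : Fin n → F := Pi.single i2 1 with hwdef
  have hv : v ≠ 0 := Pi.single_ne_zero_iff.2 one_ne_zero
  have hψ : ψ ≠ 0 := Pi.single_ne_zero_iff.2 one_ne_zero
  have hψv : ψ ⬝ᵥ v = 0 := by
    rw [hψdef, hvdef, single_dotProduct, one_mul, Pi.single_eq_of_ne' h01]
  have hψw : ψ ⬝ᵥ w = 0 := by
    rw [hψdef, hwdef, single_dotProduct, one_mul, Pi.single_eq_of_ne h12]
  have hwv : w ∉ Submodule.span F {v} := by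
    rw [Submodule.mem_span_singleton]
    rintro ⟨κ, hκ⟩
    have := congrFun hκ i2
    rw [hvdef, hwdef, Pi.smul_apply, Pi.single_eq_same, Pi.single_eq_of_ne' h02, smul_zero] at this
    exact zero_ne_one this
  have hA := h v hv
  have hfv := hfac v hv
  obtain ⟨φ, hφ⟩ := CaseIC.exists_rel (ψ := ψ) hv hfv w
  -- some `u ∈ ker ψ` with `φ ⬝ u ≠ 0`
  obtain ⟨u, hu, hφu⟩ : ∃ u : Fin n → F, ψ ⬝ᵥ u = 0 ∧ φ ⬝ᵥ u ≠ 0 := by
    by_contra hcon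
    push Not at hcon
    obtain ⟨κ, hκ⟩ := CaseIC.exists_smul_of_ker hψ hcon
    exact CaseIC.Rel.not_smul hψ hψv h hψw hwv hφ κ hκ
  rcases hC with h5 | h2
  · -- `n ≥ 5`: a functional killing `v, w, u`, not a multiple of `ψ`
    obtain ⟨ξ, hξ, hξψ⟩ := CaseIC.exists_perp_not_span (k := 3) ![v, w, u] (by omega) ψ
    have hξv : ξ ⬝ᵥ v = 0 := hξ 0
    have hξw : ξ ⬝ᵥ w = 0 := hξ 1
    have hξu : ξ ⬝ᵥ u = 0 := hξ 2
    exact hφu (CaseIC.Rel.dot_eq_zero hv hA hψv hfv hψw hu hξv hξw hξu hξψ hφ)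
  · -- odd characteristic: the diagonal of the form vanishes
    have hdiag : ∀ w' φ' : Fin n → F, ψ ⬝ᵥ w' = 0 → CaseIC.Rel H v ψ w' φ' → φ' ⬝ᵥ w' = 0 := by
      intro w' φ' hw' hrel
      obtain ⟨ξ, hξ, hξψ⟩ := CaseIC.exists_perp_not_span (k := 2) ![v, w'] (by omega) ψ
      have hξv : ξ ⬝ᵥ v = 0 := hξ 0
      have hξw : ξ ⬝ᵥ w' = 0 := hξ 1
      exact CaseIC.Rel.dot_eq_zero hv hA hψv hfv hw' hw' hξv hξw hξw hξψ hrel
    obtain ⟨φu, hφu'⟩ := CaseIC.exists_rel (ψ := ψ) hv hfv u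
    have hadd := CaseIC.Rel.add hψv hψw hu hφ hφu'
    have hsum : ψ ⬝ᵥ (w + u) = 0 := by rw [dotProduct_add, hψw, hu, add_zero]
    have h0 := hdiag _ _ hsum hadd
    have hww := hdiag _ _ hψw hφ
    have huu := hdiag _ _ hu hφu'
    have hsym := CaseIC.Rel.symm hv hA hψ hψv hψw hu hφ hφu'
    rw [sub_dotProduct, smul_dotProduct, hsum, smul_zero, sub_zero, add_dotProduct,
      dotProduct_add, dotProduct_add, hww, huu, ← hsym, zero_add, add_zero] at h0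
    have h2' : (2 : F) ≠ 0 := Ring.two_ne_zero h2
    apply hφu
    have : (2 : F) * (φ ⬝ᵥ u) = 0 := by rw [two_mul]; exact h0
    rcases mul_eq_zero.1 this with h3 | h3
    · exact absurd h3 h2'
    · exact h3

end Cfsg.Agent.Lib.Helper11.MinDeg
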