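import Mathlib
import Cfsg.Prelude.Def_Characters
import Cfsg.Agent.Lib.Helper2.BurnsidePQ

/-!
# Fixed points of subgroups and Brauer's generation criterion
(helper2 library)
-/

set_option autoImplicit false

namespace Cfsg.Agent.Lib.Helper2

open Module
open scoped ComplexConjugate

section

variable {G : Type*} [Group G]
variable {V : Type*} [AddCommGroup V] [Module ℂ V] [FiniteDimensional ℂ V]

/-- The multiplicity of the principal character in the restriction to `H` is the dimension of the
`H`-fixed points. -/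
theorem classInner_restrict_one_eq_finrank (ρ : Representation ℂ G V) (H : Subgroup G)
    [Fintype H] :
    Cfsg.classInner (fun x : H => ρ.character x) (fun _ => 1)
      = (finrank ℂ (Representation.invariants (ρ.comp H.subtype)) : ℂ) := by
  haveI : Invertible (Nat.card H : ℂ) := invertibleOfNonzero (by exact_mod_cast Nat.card_pos.ne')
  rw [← Representation.card_inv_mul_sum_char_eq_finrank, classInner_def]
  congr 1
  apply Finset.sum_congr rfl
  intro h _
  simp [Representation.character]

omit [FiniteDimensional ℂ V] in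
/-- The fixed points of `H₁` and of `H₂` intersect in the fixed points of `H₁ ⊔ H₂`. -/
theorem invariants_inf_le (ρ : Representation ℂ G V) (H₁ H₂ : Subgroup G) (h : H₁ ⊔ H₂ = ⊤) :
    Representation.invariants (ρ.comp H₁.subtype) ⊓ Representation.invariants (ρ.comp H₂.subtype)
      ≤ Representation.invariants ρ := by
  intro v hv
  rw [Submodule.mem_inf] at hv
  obtain ⟨h1, h2⟩ := hv
  let S : Subgroup G :=
    { carrier := {g | ρ g v = v}
      mul_mem' := by
        intro a b ha hb
        change ρ (a * b) v = v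
        rw [map_mul, Module.End.mul_apply, hb, ha]
      one_mem' := by change ρ 1 v = v; rw [map_one, Module.End.one_apply]
      inv_mem' := by
        intro a ha
        change ρ a⁻¹ v = v
        have ha' : ρ a v = v := ha
        calc ρ a⁻¹ v = ρ a⁻¹ (ρ a v) := by rw [ha']
          _ = v := by rw [← Module.End.mul_apply, ← map_mul, inv_mul_cancel, map_one,
            Module.End.one_apply] }
  have hS1 : H₁ ≤ S := fun g hg => h1 ⟨g, hg⟩
  have hS2 : H₂ ≤ S := fun g hg => h2 ⟨g, hg⟩
  have hS : S = ⊤ := by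
    apply top_le_iff.mp
    rw [← h]
    exact sup_le hS1 hS2
  intro g
  have : g ∈ S := by rw [hS]; trivial
  exact this

end

section Brauer

variable {G : Type*} [Group G] [Fintype G]

/-- Brauer's generation criterion. -/
theorem sup_ne_top_of_classInner_lt (H₁ H₂ : Subgroup G) [Fintype H₁] [Fintype H₂]
    [Fintype ↥(H₁ ⊓ H₂)] (χ : G → ℂ) (hχ : Cfsg.IsIrrCharacter G χ) (hχ1 : χ ≠ fun _ => 1)
    (hlt : (Cfsg.classInner (fun x : ↥(H₁ ⊓ H₂) => χ x) (fun _ => 1)).re
      < (Cfsg.classInner (fun x : H₁ => χ x) (fun _ => 1)).re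
        + (Cfsg.classInner (fun x : H₂ => χ x) (fun _ => 1)).re) : H₁ ⊔ H₂ ≠ ⊤ := by
  classical
  intro htop
  obtain ⟨n, ρ, hρ, rfl⟩ := hχ
  haveI := hρ
  rw [classInner_restrict_one_eq_finrank ρ H₁, classInner_restrict_one_eq_finrank ρ H₂,
    classInner_restrict_one_eq_finrank ρ (H₁ ⊓ H₂)] at hlt
  simp only [Complex.natCast_re] at hlt
  -- the `G`-fixed points vanish
  have h0 : Representation.invariants ρ = ⊥ := by
    have h1 : Cfsg.classInner ρ.character (fun _ => 1) = 0 := by
      have := classInner_irrCharacter_ne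
        (χ := (⟨ρ.character, isIrrCharacter_of_rep ρ⟩ : Cfsg.IrrCharacter G))
        (ψ := trivialIrr G) (fun h => hχ1 (congrArg Subtype.val h))
      exact this
    haveI : Invertible (Nat.card G : ℂ) := invertibleOfNonzero card_ne_zero_complex
    have h2 := Representation.card_inv_mul_sum_char_eq_finrank ρ
    rw [classInner_def] at h1
    have h3 : (finrank ℂ (Representation.invariants ρ) : ℂ) = 0 := by
      rw [← h2, ← h1]
      congr 1
      apply Finset.sum_congr rfl
      intro g _
      simp
    have h4 : finrank ℂ (Representation.invariants ρ) = 0 := by exact_mod_cast h3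
    exact Submodule.finrank_eq_zero.mp h4
  set I₁ := Representation.invariants (ρ.comp H₁.subtype) with hI₁
  set I₂ := Representation.invariants (ρ.comp H₂.subtype) with hI₂
  set I₁₂ := Representation.invariants (ρ.comp (H₁ ⊓ H₂).subtype) with hI₁₂
  have hinf : I₁ ⊓ I₂ = ⊥ := by
    apply le_bot_iff.mp
    rw [← h0]
    exact invariants_inf_le ρ H₁ H₂ htop
  have hle1 : I₁ ≤ I₁₂ := by
    intro v hv g
    exact hv ⟨g, (Subgroup.mem_inf.mp g.2).1⟩
  have hle2 : I₂ ≤ I₁₂ := by
    intro v hv g
    exact hv ⟨g, (Subgroup.mem_inf.mp g.2).2⟩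
  have hsum := Submodule.finrank_sup_add_finrank_inf_eq I₁ I₂
  rw [hinf, finrank_bot, add_zero] at hsum
  have hle : finrank ℂ (I₁ ⊔ I₂ : Submodule ℂ (Fin n → ℂ)) ≤ finrank ℂ I₁₂ :=
    Submodule.finrank_mono (sup_le hle1 hle2)
  have : (finrank ℂ I₁ : ℝ) + (finrank ℂ I₂ : ℝ) ≤ (finrank ℂ I₁₂ : ℝ) := by
    rw [← Nat.cast_add, ← hsum]
    exact_mod_cast hle
  linarith

end Brauer

end Cfsg.Agent.Lib.Helper2
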