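import Mathlib
import Cfsg.Agent.Lib.Helper2.PermChar
import Cfsg.Agent.Lib.Helper2.Regular
import Cfsg.Agent.Lib.Helper2.Integrality
import Cfsg.Agent.Lib.Helper2.BurnsidePQ
import Cfsg.Agent.Lib.Helper2.Orthogonality

/-!
# Subdegrees and the degrees of the constituents of a permutation character (helper2 library)

For a transitive group, a common divisor of the degrees of the non-principal constituents of the
permutation character divides every non-trivial subdegree.
-/

set_option autoImplicit false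
set_option linter.style.haveILetI false
set_option linter.unusedSectionVars false

namespace Cfsg.Agent.Lib.Helper2

namespace Subdeg

open Cfsg
open scoped ComplexConjugate Classical

section Integral

theorem isIntegral_trace_of_aeval {m : ℕ} (T : Matrix (Fin m) (Fin m) ℂ) (q : Polynomial ℤ)
    (hq : q.Monic) (h : Polynomial.aeval T (q.map (Int.castRingHom ℂ)) = 0) :
    IsIntegral ℤ T.trace := by
  rcases isEmpty_or_nonempty (Fin m) with hE | hN
  · have : T.trace = 0 := by
      unfold Matrix.trace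
      exact Finset.sum_of_isEmpty _
    rw [this]
    exact isIntegral_zero
  · rw [Matrix.trace_eq_sum_roots_charpoly T]
    apply IsIntegral.multiset_sum
    intro μ hμ
    have hroot : T.charpoly.IsRoot μ :=
      (Polynomial.mem_roots (Matrix.charpoly_monic T).ne_zero).mp hμ
    have hspec : μ ∈ spectrum ℂ T := Matrix.mem_spectrum_of_isRoot_charpoly hroot
    have h2 := spectrum.subset_polynomial_aeval T (q.map (Int.castRingHom ℂ)) ⟨μ, hspec, rfl⟩
    rw [h, spectrum.zero_eq, Set.mem_singleton_iff] at h2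
    refine ⟨q, hq, ?_⟩
    rw [Polynomial.eval₂_eq_eval_map]
    exact h2

theorem eq_zero_of_idempotent_of_trace_eq_zero {m : ℕ} (E : Matrix (Fin m) (Fin m) ℂ)
    (h : E * E = E) (ht : E.trace = 0) : E = 0 := by
  have hproj : LinearMap.IsProj (LinearMap.range (Matrix.toLin' E)) (Matrix.toLin' E) := by
    refine ⟨fun x => LinearMap.mem_range_self _ x, ?_⟩
    rintro x ⟨y, rfl⟩
    rw [← LinearMap.comp_apply, ← Matrix.toLin'_mul, h]
  have hfr : (Module.finrank ℂ (LinearMap.range (Matrix.toLin' E)) : ℂ)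
      = LinearMap.trace ℂ _ (Matrix.toLin' E) := (hproj.trace).symm
  rw [Matrix.trace_toLin'_eq, ht] at hfr
  have hfr0 : Module.finrank ℂ (LinearMap.range (Matrix.toLin' E)) = 0 := by exact_mod_cast hfr
  have hr : LinearMap.range (Matrix.toLin' E) = ⊥ := Submodule.finrank_eq_zero.mp hfr0
  have h0 : Matrix.toLin' E = 0 := LinearMap.range_eq_bot.mp hr
  have := congrArg LinearMap.toMatrix' h0
  rw [LinearMap.toMatrix'_toLin', map_zero] at this
  exact this

end Integral

section Setting

variable {G : Type*} [Group G] [Fintype G] {Ω : Type*} [Fintype Ω] [MulAction G Ω]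

/-- indicator of the suborbit through `b` -/
noncomputable def dInd (G : Type*) [Group G] {Ω : Type*} [MulAction G Ω] (a b : Ω) (ω : Ω) : ℂ :=
  if ω ∈ MulAction.orbit (MulAction.stabilizer G a) b then 1 else 0

/-- adjacency matrix of the orbital through `(a, b)` -/
noncomputable def Bmat (G : Type*) [Group G] {Ω : Type*} [MulAction G Ω] (a b : Ω) :
    Matrix Ω Ω ℤ :=
  fun ω ω' => if ∃ g : G, g • a = ω ∧ g • b = ω' then 1 else 0

variable {m : ℕ}

/-- `Φ(ω) = |H|⁻¹ ∑_{x a = ω} A x` -/
noncomputable def Phi (A : G → Matrix (Fin m) (Fin m) ℂ) (a : Ω) (ω : Ω) :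
    Matrix (Fin m) (Fin m) ℂ :=
  (Nat.card (MulAction.stabilizer G a) : ℂ)⁻¹ • ∑ x : G, if x • a = ω then A x else 0

/-- the Hecke operator of the suborbit -/
noncomputable def Tmat (A : G → Matrix (Fin m) (Fin m) ℂ) (a b : Ω) :
    Matrix (Fin m) (Fin m) ℂ :=
  (Nat.card (MulAction.stabilizer G a) : ℂ)⁻¹ • ∑ x : G, dInd G a b (x • a) • A x

theorem mem_orbit_stab_iff (a b ω : Ω) :
    ω ∈ MulAction.orbit (MulAction.stabilizer G a) b ↔ ∃ h : G, h • a = a ∧ h • b = ω := by
  constructor
  · rintro ⟨⟨h, hh⟩, rfl⟩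
    exact ⟨h, hh, rfl⟩
  · rintro ⟨h, hh, rfl⟩
    exact ⟨⟨h, hh⟩, rfl⟩

theorem dInd_smul (a b ω : Ω) (h : G) (hh : h • a = a) :
    dInd G a b (h • ω) = dInd G a b ω := by
  unfold dInd
  have : h • ω ∈ MulAction.orbit (MulAction.stabilizer G a) b
      ↔ ω ∈ MulAction.orbit (MulAction.stabilizer G a) b := by
    rw [mem_orbit_stab_iff, mem_orbit_stab_iff]
    constructor
    · rintro ⟨k, hk, hkb⟩
      refine ⟨h⁻¹ * k, ?_, ?_⟩
      · rw [mul_smul, hk, inv_smul_eq_iff, hh]
      · rw [mul_smul, hkb, inv_smul_smul]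
    · rintro ⟨k, hk, hkb⟩
      refine ⟨h * k, ?_, ?_⟩
      · rw [mul_smul, hk, hh]
      · rw [mul_smul, hkb]
  by_cases h' : ω ∈ MulAction.orbit (MulAction.stabilizer G a) b
  · rw [if_pos h', if_pos (this.mpr h')]
  · rw [if_neg h', if_neg (fun h'' => h' (this.mp h''))]

theorem card_stab_ne_zero (a : Ω) : (Nat.card (MulAction.stabilizer G a) : ℂ) ≠ 0 := by
  have : 0 < Nat.card (MulAction.stabilizer G a) := Nat.card_pos
  exact_mod_cast this.ne'

theorem card_stab_eq_sum (a : Ω) :
    (Nat.card (MulAction.stabilizer G a) : ℂ) = ∑ y : G, if y • a = a then (1 : ℂ) else 0 := by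
  rw [Finset.sum_boole, Nat.card_eq_fintype_card, ← Fintype.card_subtype]
  rfl

variable (A : G → Matrix (Fin m) (Fin m) ℂ) (hA : ∀ g h : G, A (g * h) = A g * A h)

include hA

theorem Phi_smul (a ω : Ω) (y : G) : Phi A a (y • ω) = A y * Phi A a ω := by
  unfold Phi
  rw [Matrix.mul_smul, Finset.mul_sum]
  congr 1
  rw [← Equiv.sum_comp (Equiv.mulLeft y) (fun x => if x • a = y • ω then A x else 0)]
  apply Finset.sum_congr rfl
  intro x _
  rw [Equiv.coe_mulLeft, mul_smul, hA]
  by_cases hx : x • a = ω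
  · rw [if_pos hx, if_pos (by rw [hx])]
  · rw [if_neg hx, if_neg (fun h => hx (smul_left_cancel y h)), Matrix.mul_zero]

omit hA in
theorem Tmat_eq_sum (a b : Ω) : Tmat A a b = ∑ ω : Ω, dInd G a b ω • Phi A a ω := by
  unfold Tmat Phi
  have h1 : ∀ ω : Ω, dInd G a b ω • ((Nat.card (MulAction.stabilizer G a) : ℂ)⁻¹ •
      ∑ x : G, if x • a = ω then A x else 0)
      = (Nat.card (MulAction.stabilizer G a) : ℂ)⁻¹ •
        ∑ x : G, if x • a = ω then dInd G a b (x • a) • A x else 0 := by
    intro ω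
    rw [smul_comm, Finset.smul_sum]
    congr 1
    apply Finset.sum_congr rfl
    intro x _
    by_cases hx : x • a = ω
    · rw [if_pos hx, if_pos hx, hx]
    · rw [if_neg hx, if_neg hx, smul_zero]
  rw [Finset.sum_congr rfl (fun ω _ => h1 ω), ← Finset.smul_sum, Finset.sum_comm]
  congr 1
  apply Finset.sum_congr rfl
  intro x _
  rw [Finset.sum_ite_eq]
  simp

/-- left absorption by the averaging idempotent -/
theorem Phi_self_mul (a : Ω) (c : G → ℂ)
    (hc : ∀ y z : G, y • a = a → c (y * z) = c z) :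
    Phi A a a * (∑ z : G, c z • A z) = ∑ z : G, c z • A z := by
  unfold Phi
  rw [Matrix.smul_mul, Finset.sum_mul]
  have h1 : ∀ y : G, (if y • a = a then A y else 0) * (∑ z : G, c z • A z)
      = (if y • a = a then (1 : ℂ) else 0) • ∑ z : G, c z • A z := by
    intro y
    by_cases hy : y • a = a
    · rw [if_pos hy, if_pos hy, one_smul, Finset.mul_sum]
      rw [← Equiv.sum_comp (Equiv.mulLeft y) (fun z => c z • A z)]
      apply Finset.sum_congr rfl
      intro z _
      show A y * (c z • A z) = c (y * z) • A (y * z)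
      rw [hc y z hy, Matrix.mul_smul, ← hA]
    · rw [if_neg hy, if_neg hy, zero_smul, Matrix.zero_mul]
  rw [Finset.sum_congr rfl (fun y _ => h1 y), ← Finset.sum_smul, ← card_stab_eq_sum, smul_smul,
    inv_mul_cancel₀ (card_stab_ne_zero a), one_smul]

/-- right absorption by the averaging idempotent -/
theorem mul_Phi_self (a : Ω) (c : G → ℂ)
    (hc : ∀ y z : G, y • a = a → c (z * y) = c z) :
    (∑ z : G, c z • A z) * Phi A a a = ∑ z : G, c z • A z := by
  unfold Phi
  rw [Matrix.mul_smul, Finset.mul_sum]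
  have h1 : ∀ y : G, (∑ z : G, c z • A z) * (if y • a = a then A y else 0)
      = (if y • a = a then (1 : ℂ) else 0) • ∑ z : G, c z • A z := by
    intro y
    by_cases hy : y • a = a
    · rw [if_pos hy, if_pos hy, one_smul, Finset.sum_mul]
      rw [← Equiv.sum_comp (Equiv.mulRight y) (fun z => c z • A z)]
      apply Finset.sum_congr rfl
      intro z _
      show (c z • A z) * A y = c (z * y) • A (z * y)
      rw [hc y z hy, Matrix.smul_mul, ← hA]
    · rw [if_neg hy, if_neg hy, zero_smul, Matrix.mul_zero]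
  rw [Finset.sum_congr rfl (fun y _ => h1 y), ← Finset.sum_smul, ← card_stab_eq_sum, smul_smul,
    inv_mul_cancel₀ (card_stab_ne_zero a), one_smul]

theorem Phi_self_mul_Tmat (a b : Ω) : Phi A a a * Tmat A a b = Tmat A a b := by
  unfold Tmat
  rw [Matrix.mul_smul, Phi_self_mul A hA a (fun x => dInd G a b (x • a))]
  intro y z hy
  show dInd G a b ((y * z) • a) = dInd G a b (z • a)
  rw [mul_smul]
  exact dInd_smul a b _ y hy

theorem Tmat_mul_Phi_self (a b : Ω) : Tmat A a b * Phi A a a = Tmat A a b := by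
  unfold Tmat
  rw [Matrix.smul_mul, mul_Phi_self A hA a (fun x => dInd G a b (x • a))]
  intro y z hy
  show dInd G a b ((z * y) • a) = dInd G a b (z • a)
  rw [mul_smul, hy]

theorem Phi_self_idem (a : Ω) : Phi A a a * Phi A a a = Phi A a a := by
  have h1 : Phi A a a = ∑ z : G,
      ((Nat.card (MulAction.stabilizer G a) : ℂ)⁻¹ * (if z • a = a then 1 else 0)) • A z := by
    unfold Phi
    rw [Finset.smul_sum]
    apply Finset.sum_congr rfl
    intro z _
    by_cases hz : z • a = a
    · rw [if_pos hz, if_pos hz, mul_one]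
    · rw [if_neg hz, if_neg hz, mul_zero, zero_smul, smul_zero]
  have h2 := Phi_self_mul A hA a
    (fun z => (Nat.card (MulAction.stabilizer G a) : ℂ)⁻¹ * (if z • a = a then 1 else 0)) (by
      intro y z hy
      have : (y * z) • a = a ↔ z • a = a := by
        rw [mul_smul]
        constructor
        · intro h
          exact smul_left_cancel y (h.trans hy.symm)
        · intro h
          rw [h, hy]
      by_cases hz : z • a = a
      · rw [if_pos hz, if_pos (this.mpr hz)]
      · rw [if_neg hz, if_neg (fun h' => hz (this.mp h'))])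
  rw [← h1] at h2
  exact h2

omit hA in
theorem Bmat_smul (a b ω ω' : Ω) (y : G) : Bmat G a b (y • ω) (y • ω') = Bmat G a b ω ω' := by
  unfold Bmat
  have : (∃ g : G, g • a = y • ω ∧ g • b = y • ω') ↔ ∃ g : G, g • a = ω ∧ g • b = ω' := by
    constructor
    · rintro ⟨g, h1, h2⟩
      refine ⟨y⁻¹ * g, ?_, ?_⟩
      · rw [mul_smul, h1, inv_smul_smul]
      · rw [mul_smul, h2, inv_smul_smul]
    · rintro ⟨g, h1, h2⟩
      refine ⟨y * g, ?_, ?_⟩
      · rw [mul_smul, h1]
      · rw [mul_smul, h2]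
  by_cases h : ∃ g : G, g • a = ω ∧ g • b = ω'
  · rw [if_pos h, if_pos (this.mpr h)]
  · rw [if_neg h, if_neg (fun h' => h (this.mp h'))]

omit hA in
theorem Bmat_self (a b ω' : Ω) : ((Bmat G a b a ω' : ℤ) : ℂ) = dInd G a b ω' := by
  unfold Bmat dInd
  by_cases h : ∃ g : G, g • a = a ∧ g • b = ω'
  · rw [if_pos h, if_pos ((mem_orbit_stab_iff a b ω').mpr h)]
    simp
  · rw [if_neg h, if_neg (fun h' => h ((mem_orbit_stab_iff a b ω').mp h'))]
    simp

theorem key_one [MulAction.IsPretransitive G Ω] (a b ω : Ω) :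
    ∑ ω' : Ω, ((Bmat G a b ω ω' : ℤ) : ℂ) • Phi A a ω' = Phi A a ω * Tmat A a b := by
  obtain ⟨y, rfl⟩ := MulAction.exists_smul_eq G a ω
  rw [← Equiv.sum_comp (MulAction.toPerm y) (fun ω' => ((Bmat G a b (y • a) ω' : ℤ) : ℂ) • Phi A a ω')]
  have h1 : ∀ ω'' : Ω, ((Bmat G a b (y • a) ((MulAction.toPerm y) ω'') : ℤ) : ℂ)
      • Phi A a ((MulAction.toPerm y) ω'') = A y * (dInd G a b ω'' • Phi A a ω'') := by
    intro ω''
    rw [MulAction.toPerm_apply, Bmat_smul, Bmat_self, Phi_smul A hA, Matrix.mul_smul]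
  rw [Finset.sum_congr rfl (fun ω'' _ => h1 ω''), ← Finset.mul_sum, ← Tmat_eq_sum,
    Phi_smul A hA, Matrix.mul_assoc, Phi_self_mul_Tmat A hA]

theorem key_pow [MulAction.IsPretransitive G Ω] (a b : Ω) (k : ℕ) (ω : Ω) :
    ∑ ω' : Ω, (((Bmat G a b).map (Int.cast : ℤ → ℂ)) ^ k) ω ω' • Phi A a ω'
      = Phi A a ω * (Tmat A a b) ^ k := by
  induction k generalizing ω with
  | zero =>
    rw [pow_zero, pow_zero, Matrix.mul_one]
    simp only [Matrix.one_apply, ite_smul, one_smul, zero_smul]
    rw [Finset.sum_ite_eq]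
    simp
  | succ k ih =>
    rw [pow_succ', pow_succ', ← Matrix.mul_assoc, ← key_one A hA a b ω, Finset.sum_mul]
    simp only [Matrix.mul_apply, Finset.sum_smul]
    rw [Finset.sum_comm]
    apply Finset.sum_congr rfl
    intro ω'' _
    rw [Matrix.smul_mul, ← ih ω'', Finset.smul_sum]
    apply Finset.sum_congr rfl
    intro ω' _
    rw [smul_smul, Matrix.map_apply]

theorem key_poly [MulAction.IsPretransitive G Ω] (a b : Ω) (p : Polynomial ℂ) (ω : Ω) :
    ∑ ω' : Ω, (Polynomial.aeval ((Bmat G a b).map (Int.cast : ℤ → ℂ)) p) ω ω' • Phi A a ω'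
      = Phi A a ω * Polynomial.aeval (Tmat A a b) p := by
  induction p using Polynomial.induction_on' with
  | add p q hp hq =>
    rw [map_add, map_add, Matrix.mul_add, ← hp, ← hq, ← Finset.sum_add_distrib]
    apply Finset.sum_congr rfl
    intro ω' _
    rw [Matrix.add_apply, add_smul]
  | monomial k c =>
    rw [Polynomial.aeval_monomial, Polynomial.aeval_monomial, ← Algebra.smul_def,
      ← Algebra.smul_def, Matrix.mul_smul, ← key_pow A hA a b k ω, Finset.smul_sum]
    apply Finset.sum_congr rfl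
    intro ω' _
    rw [Matrix.smul_apply, smul_eq_mul, mul_smul]

/-- the trace of the Hecke operator is an algebraic integer -/
theorem isIntegral_trace_Tmat [MulAction.IsPretransitive G Ω] (a b : Ω) :
    IsIntegral ℤ (Tmat A a b).trace := by
  let p : Polynomial ℤ := (Bmat G a b).charpoly
  have hp : p.Monic := Matrix.charpoly_monic _
  have hpc : ((Bmat G a b).map (Int.cast : ℤ → ℂ)).charpoly = p.map (Int.castRingHom ℂ) :=
    Matrix.charpoly_map (Bmat G a b) (Int.castRingHom ℂ)
  have h0 : Polynomial.aeval ((Bmat G a b).map (Int.cast : ℤ → ℂ)) (p.map (Int.castRingHom ℂ))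
      = 0 := by
    rw [← hpc]
    exact Matrix.aeval_self_charpoly _
  have h1 := key_poly A hA a b (p.map (Int.castRingHom ℂ)) a
  rw [h0] at h1
  simp only [Matrix.zero_apply, zero_smul, Finset.sum_const_zero] at h1
  have h2 : Tmat A a b * Polynomial.aeval (Tmat A a b) (p.map (Int.castRingHom ℂ)) = 0 := by
    calc Tmat A a b * Polynomial.aeval (Tmat A a b) (p.map (Int.castRingHom ℂ))
        = (Tmat A a b * Phi A a a) * Polynomial.aeval (Tmat A a b) (p.map (Int.castRingHom ℂ)) := by
          rw [Tmat_mul_Phi_self A hA a b]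
      _ = Tmat A a b * (Phi A a a * Polynomial.aeval (Tmat A a b) (p.map (Int.castRingHom ℂ))) :=
          Matrix.mul_assoc _ _ _
      _ = 0 := by rw [← h1, Matrix.mul_zero]
  apply isIntegral_trace_of_aeval (Tmat A a b) (Polynomial.X * p) (Polynomial.monic_X.mul hp)
  rw [Polynomial.map_mul, Polynomial.map_X, map_mul, Polynomial.aeval_X]
  exact h2

omit hA in
theorem trace_Tmat (a b : Ω) :
    (Tmat A a b).trace = (Nat.card (MulAction.stabilizer G a) : ℂ)⁻¹ *
      ∑ x : G, dInd G a b (x • a) * (A x).trace := by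
  unfold Tmat
  rw [Matrix.trace_smul, Matrix.trace_sum, smul_eq_mul]
  congr 1
  apply Finset.sum_congr rfl
  intro x _
  rw [Matrix.trace_smul, smul_eq_mul]

omit hA in
theorem trace_Phi_self (a : Ω) :
    (Phi A a a).trace = (Nat.card (MulAction.stabilizer G a) : ℂ)⁻¹ *
      ∑ x : G, if x • a = a then (A x).trace else 0 := by
  unfold Phi
  rw [Matrix.trace_smul, Matrix.trace_sum, smul_eq_mul]
  congr 1
  apply Finset.sum_congr rfl
  intro x _
  split_ifs
  · rfl
  · simp

theorem Tmat_eq_zero_of_trace (a b : Ω)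
    (h : ∑ x : G, (if x • a = a then (A x).trace else 0) = 0) : Tmat A a b = 0 := by
  have h1 : (Phi A a a).trace = 0 := by rw [trace_Phi_self, h, mul_zero]
  have h2 := eq_zero_of_idempotent_of_trace_eq_zero _ (Phi_self_idem A hA a) h1
  rw [← Phi_self_mul_Tmat A hA a b, h2, Matrix.zero_mul]

end Setting

section Characters

variable {G : Type*} [Group G] [Fintype G] {Ω : Type*} [Fintype Ω] [MulAction G Ω]
  [MulAction.IsPretransitive G Ω]

/-- the sum of a character over the double coset of the suborbit -/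
noncomputable def Ssum (a b : Ω) (χ : G → ℂ) : ℂ := ∑ x : G, dInd G a b (x • a) * χ x

theorem exists_rep_matrices (χ : IrrCharacter G) :
    ∃ (m : ℕ) (A : G → Matrix (Fin m) (Fin m) ℂ), (∀ g h : G, A (g * h) = A g * A h) ∧
      ∀ g : G, (A g).trace = (χ : G → ℂ) g := by
  obtain ⟨m, ρ, -, hχ⟩ := χ.2
  refine ⟨m, fun g => LinearMap.toMatrix' (ρ g), ?_, ?_⟩
  · intro g h
    show LinearMap.toMatrix' (ρ (g * h)) = LinearMap.toMatrix' (ρ g) * LinearMap.toMatrix' (ρ h)
    rw [map_mul]
    exact LinearMap.toMatrix'_mul _ _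
  · intro g
    show (LinearMap.toMatrix' (ρ g)).trace = _
    rw [← hχ, ← Matrix.trace_toLin'_eq, Matrix.toLin'_toMatrix']
    rfl

theorem Ssum_integral (a b : Ω) (χ : IrrCharacter G) :
    ∃ z : ℂ, IsIntegral ℤ z ∧
      Ssum a b (χ : G → ℂ) = (Nat.card (MulAction.stabilizer G a) : ℂ) * z := by
  obtain ⟨m, A, hA, hAtr⟩ := exists_rep_matrices χ
  refine ⟨(Tmat A a b).trace, isIntegral_trace_Tmat A hA a b, ?_⟩
  rw [trace_Tmat, ← mul_assoc, mul_inv_cancel₀ (card_stab_ne_zero a), one_mul]
  unfold Ssum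
  apply Finset.sum_congr rfl
  intro x _
  rw [hAtr]

theorem sum_stab_eq_zero_of_classInner (a : Ω) (χ : IrrCharacter G)
    (h : Cfsg.classInner (fun g : G => (Nat.card (MulAction.fixedBy Ω g) : ℂ)) (χ : G → ℂ) = 0) :
    ∑ x : G, (if x • a = a then (χ : G → ℂ) x else 0) = 0 := by
  haveI : Fintype (MulAction.stabilizer G a) := Fintype.ofFinite _
  rw [permChar_eq_indFun Ω a,
    frobenius_reciprocity _ _ _ (IrrCharacter.isClassFunction χ), classInner_def] at h
  have h2 : ∑ h : MulAction.stabilizer G a, (1 : ℂ) * conj ((χ : G → ℂ) h) = 0 := by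
    rcases mul_eq_zero.mp h with h3 | h3
    · exact absurd (inv_eq_zero.mp h3) (card_stab_ne_zero a)
    · exact h3
  have h3 : ∑ h : MulAction.stabilizer G a, (χ : G → ℂ) h = 0 := by
    have := congrArg conj h2
    rw [map_sum, map_zero] at this
    rw [← this]
    apply Finset.sum_congr rfl
    intro h _
    rw [one_mul, Complex.conj_conj]
  refine Eq.trans ?_ h3
  rw [← sum_extendByZero (MulAction.stabilizer G a) (fun h => (χ : G → ℂ) h)]
  apply Finset.sum_congr rfl
  intro x _
  by_cases hx : x • a = a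
  · rw [if_pos hx, extendByZero_of_mem _ _ (show x ∈ MulAction.stabilizer G a from hx)]
  · rw [if_neg hx, extendByZero_of_not_mem _ _ (show x ∉ MulAction.stabilizer G a from hx)]

theorem Ssum_eq_zero (a b : Ω) (χ : IrrCharacter G)
    (h : Cfsg.classInner (fun g : G => (Nat.card (MulAction.fixedBy Ω g) : ℂ)) (χ : G → ℂ) = 0) :
    Ssum a b (χ : G → ℂ) = 0 := by
  obtain ⟨m, A, hA, hAtr⟩ := exists_rep_matrices χ
  have h1 : ∑ x : G, (if x • a = a then (A x).trace else 0) = 0 := by
    refine Eq.trans ?_ (sum_stab_eq_zero_of_classInner a χ h)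
    apply Finset.sum_congr rfl
    intro x _
    rw [hAtr]
  have h2 := Tmat_eq_zero_of_trace A hA a b h1
  have h3 := trace_Tmat A a b
  rw [h2, Matrix.trace_zero] at h3
  have h4 : ∑ x : G, dInd G a b (x • a) * (A x).trace = 0 := by
    rcases mul_eq_zero.mp h3.symm with h5 | h5
    · exact absurd (inv_eq_zero.mp h5) (card_stab_ne_zero a)
    · exact h5
  unfold Ssum
  rw [← h4]
  apply Finset.sum_congr rfl
  intro x _
  rw [hAtr]

theorem sum_dInd (a b : Ω) :
    ∑ ω : Ω, dInd G a b ω = (Nat.card (MulAction.orbit (MulAction.stabilizer G a) b) : ℂ) := by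
  unfold dInd
  rw [Finset.sum_boole, Nat.card_eq_fintype_card, ← Fintype.card_subtype]

theorem Ssum_one (a b : Ω) :
    Ssum a b (fun _ : G => (1 : ℂ)) = (Nat.card (MulAction.stabilizer G a) : ℂ) *
      (Nat.card (MulAction.orbit (MulAction.stabilizer G a) b) : ℂ) := by
  unfold Ssum
  simp only [mul_one]
  rw [sum_smul_eq_card_stabilizer_mul_sum a (fun ω => dInd G a b ω), sum_dInd]

theorem sum_degree_Ssum (a b : Ω) (hab : b ≠ a) [Fintype (IrrCharacter G)] :
    ∑ χ : IrrCharacter G, (χ : G → ℂ) 1 * Ssum a b (χ : G → ℂ) = 0 := by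
  unfold Ssum
  simp only [Finset.mul_sum]
  rw [Finset.sum_comm]
  have h1 : ∀ x : G, ∑ χ : IrrCharacter G,
      (χ : G → ℂ) 1 * (dInd G a b (x • a) * (χ : G → ℂ) x)
      = dInd G a b (x • a) * (if x = 1 then (Nat.card G : ℂ) else 0) := by
    intro x
    rw [← sum_irr_degree_mul x, Finset.mul_sum]
    apply Finset.sum_congr rfl
    intro χ _
    ring
  rw [Finset.sum_congr rfl (fun x _ => h1 x)]
  simp only [mul_ite, mul_zero]
  rw [Finset.sum_ite_eq']
  simp only [Finset.mem_univ, if_true, one_smul]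
  have : dInd G a b a = 0 := by
    unfold dInd
    rw [if_neg]
    rw [mem_orbit_stab_iff]
    rintro ⟨h, hh, hb⟩
    apply hab
    rw [← hh] at hb
    exact smul_left_cancel h hb
  rw [this, zero_mul]

/-- **Main theorem**: a common divisor of the degrees of the non-principal constituents divides
every non-trivial subdegree. -/
theorem dvd_subdegree (f : ℕ)
    (hf : ∀ χ : G → ℂ, Cfsg.IsIrrCharacter G χ → χ ≠ (fun _ => 1) →
      Cfsg.classInner (fun g : G => (Nat.card (MulAction.fixedBy Ω g) : ℂ)) χ ≠ 0 →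
      ∃ m : ℕ, χ 1 = (f : ℂ) * m) (a b : Ω) (hab : b ≠ a) :
    f ∣ Nat.card (MulAction.orbit (MulAction.stabilizer G a) b) := by
  haveI : Fintype (IrrCharacter G) := Fintype.ofFinite _
  set n := Nat.card (MulAction.orbit (MulAction.stabilizer G a) b) with hn
  set c : ℂ := (Nat.card (MulAction.stabilizer G a) : ℂ) with hc
  have hc0 : c ≠ 0 := card_stab_ne_zero a
  have hw : ∀ χ : IrrCharacter G, ∃ w : ℂ, IsIntegral ℤ w ∧
      (χ ≠ trivialIrr G → (χ : G → ℂ) 1 * Ssum a b (χ : G → ℂ) = c * ((f : ℂ) * w)) := by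
    intro χ
    by_cases h0 : Cfsg.classInner (fun g : G => (Nat.card (MulAction.fixedBy Ω g) : ℂ))
        (χ : G → ℂ) = 0
    · refine ⟨0, isIntegral_zero, fun _ => ?_⟩
      rw [Ssum_eq_zero a b χ h0]
      ring
    · obtain ⟨z, hz, hS⟩ := Ssum_integral a b χ
      by_cases ht : χ = trivialIrr G
      · exact ⟨0, isIntegral_zero, fun h => absurd ht h⟩
      · have hne : (χ : G → ℂ) ≠ fun _ => 1 := by
          intro h
          apply ht
          apply Subtype.ext
          exact h
        obtain ⟨k, hk⟩ := hf _ χ.2 hne h0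
        refine ⟨(k : ℂ) * z, IsIntegral.mul (isIntegral_natCast k : IsIntegral ℤ ((k : ℕ) : ℂ)) hz, fun _ => ?_⟩
        rw [hk, hS]
        ring
  choose w hwi hwe using hw
  have hsum := sum_degree_Ssum (G := G) a b hab
  rw [← Finset.add_sum_erase Finset.univ _ (Finset.mem_univ (trivialIrr G))] at hsum
  have h1 : ((trivialIrr G : IrrCharacter G) : G → ℂ) 1
      * Ssum a b ((trivialIrr G : IrrCharacter G) : G → ℂ) = c * (n : ℂ) := by
    show (1 : ℂ) * Ssum a b (fun _ : G => (1 : ℂ)) = _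
    rw [one_mul, Ssum_one]
  have h2 : ∑ χ ∈ Finset.univ.erase (trivialIrr G),
      (χ : G → ℂ) 1 * Ssum a b (χ : G → ℂ)
      = c * ((f : ℂ) * ∑ χ ∈ Finset.univ.erase (trivialIrr G), w χ) := by
    rw [Finset.mul_sum, Finset.mul_sum]
    apply Finset.sum_congr rfl
    intro χ hχ
    exact hwe χ (Finset.ne_of_mem_erase hχ)
  rw [h1, h2, ← mul_add] at hsum
  have h3 : (n : ℂ) + (f : ℂ) * ∑ χ ∈ Finset.univ.erase (trivialIrr G), w χ = 0 := by
    rcases mul_eq_zero.mp hsum with h | h
    · exact absurd h hc0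
    · exact h
  set W : ℂ := ∑ χ ∈ Finset.univ.erase (trivialIrr G), w χ with hW
  have hWi : IsIntegral ℤ W := IsIntegral.sum _ (fun χ _ => hwi χ)
  have hnpos : 0 < n :=
    Nat.card_pos_iff.mpr ⟨⟨⟨b, MulAction.mem_orbit_self b⟩⟩, inferInstance⟩
  rcases Nat.eq_zero_or_pos f with hf0 | hfpos
  · exfalso
    rw [hf0, Nat.cast_zero, zero_mul, add_zero] at h3
    have : n = 0 := by exact_mod_cast h3
    omega
  · have hfc : (f : ℂ) ≠ 0 := by exact_mod_cast hfpos.ne'
    have h4 : -W = (((n : ℚ) / (f : ℚ) : ℚ) : ℂ) := by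
      push_cast
      field_simp
      linear_combination -h3
    obtain ⟨z, hz⟩ := exists_int_of_isIntegral_of_rat _ h4 (IsIntegral.neg hWi)
    have h5 : (n : ℂ) = ((f * z : ℤ) : ℂ) := by
      push_cast
      rw [← hz]
      linear_combination h3
    have h6 : (n : ℤ) = f * z := by exact_mod_cast h5
    have h7 : (f : ℤ) ∣ (n : ℤ) := ⟨z, h6⟩
    exact Int.natCast_dvd_natCast.mp h7

end Characters

end Subdeg

end Cfsg.Agent.Lib.Helper2
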