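import Mathlib
import Cfsg.Prelude.Def_Blocks
import Cfsg.Agent.Lib.Helper2.Column
import Cfsg.Agent.Lib.Helper2.Completeness
import Cfsg.Agent.Lib.Helper2.Linear
import Cfsg.Agent.Lib.Helper2.CharBasic
import Cfsg.Agent.Lib.Helper2.PermLemma
import Cfsg.Agent.Lib.Helper2.Subdegree
import Cfsg.Agent.Lib.Helper2.Induction
import Cfsg.Agent.Lib.Helper24.LocalRing
import Cfsg.Agent.Lib.Helper25.EvenDegree

/-!
# Conjugacy of `p`-regular parts and congruences of character values modulo `p`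
(helper2 library)
-/

set_option autoImplicit false
set_option linter.style.haveILetI false
set_option linter.unusedSectionVars false
set_option linter.unusedVariables false

namespace Cfsg.Agent.Lib.Helper2.PSection

open Cfsg Cfsg.Agent.Lib Cfsg.Agent.Lib.Helper2
open scoped ComplexConjugate
open Classical

section Quot

variable (p : ℕ) [hp : Fact p.Prime]

theorem p_nonunit : (p : AlgInt) ∈ nonunits AlgInt := by
  obtain ⟨M, hM⟩ := Helper25.exists_isPModular p hp.out
  rw [mem_nonunits_iff]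
  intro hu
  exact hM.2.1.ne_top (Ideal.eq_top_of_isUnit_mem M hM.2.2 hu)

instance charP_quot :
    CharP (AlgInt ⧸ (Ideal.span ({(p : AlgInt)} : Set AlgInt) : Ideal AlgInt)) p :=
  CharP.quotient AlgInt p (p_nonunit p)

instance expChar_quot :
    ExpChar (AlgInt ⧸ (Ideal.span ({(p : AlgInt)} : Set AlgInt) : Ideal AlgInt)) p :=
  ExpChar.prime hp.out

theorem cong_of_mk_eq {r s : AlgInt}
    (h : Ideal.Quotient.mk (Ideal.span ({(p : AlgInt)} : Set AlgInt)) r
      = Ideal.Quotient.mk (Ideal.span ({(p : AlgInt)} : Set AlgInt)) s) :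
    ∃ γ : AlgInt, (r : ℂ) - (s : ℂ) = (p : ℂ) * (γ : ℂ) := by
  rw [Ideal.Quotient.eq, Ideal.mem_span_singleton'] at h
  obtain ⟨a, ha⟩ := h
  refine ⟨a, ?_⟩
  have := congrArg (fun z : AlgInt => (z : ℂ)) ha
  push_cast at this
  rw [← this]; ring

theorem mk_eq_of_cong {r s : AlgInt} (γ : AlgInt)
    (h : (r : ℂ) - (s : ℂ) = (p : ℂ) * (γ : ℂ)) :
    Ideal.Quotient.mk (Ideal.span ({(p : AlgInt)} : Set AlgInt)) r
      = Ideal.Quotient.mk (Ideal.span ({(p : AlgInt)} : Set AlgInt)) s := by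
  rw [Ideal.Quotient.eq, Ideal.mem_span_singleton']
  refine ⟨γ, ?_⟩
  apply Subtype.ext
  push_cast
  rw [h]; ring

end Quot

section Homs

/-- a character of a finite abelian group is a sum of homomorphisms to `ℂˣ`. -/
theorem exists_hom_multiset {A : Type*} [Group A] [Finite A] (hA : ∀ a b : A, a * b = b * a)
    {φ : A → ℂ} (hφ : IsCharacter A φ) :
    ∃ m : Multiset (A →* ℂˣ), ∀ a : A, φ a = (m.map (fun l => ((l a : ℂˣ) : ℂ))).sum := by
  obtain ⟨m₀, hm₀⟩ := IsCharacter.exists_multiset_irr hφ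
  have key : ∀ m₀ : Multiset (IrrCharacter A), ∃ m : Multiset (A →* ℂˣ),
      ∀ a : A, (m₀.map (fun χ : IrrCharacter A => (χ : A → ℂ))).sum a
        = (m.map (fun l => ((l a : ℂˣ) : ℂ))).sum := by
    intro m₀
    induction m₀ using Multiset.induction_on with
    | empty => exact ⟨0, fun a => by simp⟩
    | cons ψ s ih =>
      obtain ⟨m, hm⟩ := ih
      obtain ⟨l, hl⟩ := exists_monoidHom_of_isIrrCharacter_of_apply_one ψ.2
        (IsIrrCharacter.apply_one_of_comm hA ψ.2)
      refine ⟨l ::ₘ m, fun a => ?_⟩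
      rw [Multiset.map_cons, Multiset.sum_cons, Multiset.map_cons, Multiset.sum_cons,
        Pi.add_apply, hm a]
      congr 1
      exact congrFun hl a
  obtain ⟨m, hm⟩ := key m₀
  exact ⟨m, fun a => by rw [hm₀]; exact hm a⟩

theorem hom_isIntegral {A : Type*} [Group A] [Finite A] (l : A →* ℂˣ) (a : A) :
    IsIntegral ℤ ((l a : ℂˣ) : ℂ) := by
  apply IsIntegral.of_pow (orderOf_pos a)
  rw [← Units.val_pow_eq_pow_val, ← map_pow, pow_orderOf_eq_one, map_one, Units.val_one]
  exact isIntegral_one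

theorem comm_closure_pair {G : Type*} [Group G] {u v : G} (h : Commute u v) :
    ∀ a b : Subgroup.closure ({u, v} : Set G), a * b = b * a := by
  have hk : ∀ x ∈ ({u, v} : Set G), ∀ y ∈ ({u, v} : Set G), x * y = y * x := by
    intro x hx y hy
    simp only [Set.mem_insert_iff, Set.mem_singleton_iff] at hx hy
    rcases hx with rfl | rfl <;> rcases hy with rfl | rfl
    · rfl
    · exact h.eq
    · exact h.eq.symm
    · rfl
  have := Subgroup.isMulCommutative_closure hk
  exact fun a b => this.is_comm.comm a b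

theorem isCharacter_isIntegral {G : Type*} [Group G] [Finite G] {χ : G → ℂ}
    (hχ : IsCharacter G χ) (g : G) : IsIntegral ℤ (χ g) := by
  obtain ⟨n, ρ, rfl⟩ := hχ
  exact char_isIntegral ρ g

end Homs

section Cong

variable (p : ℕ) [hp : Fact p.Prime]

/-- the basic congruence: for commuting `u`, `v` with `u` of order dividing `p ^ n`, the
`p ^ n`-th powers of `χ (u v)` and `χ v` are congruent modulo `p`. -/
theorem pow_cong {G : Type*} [Group G] [Finite G] {χ : G → ℂ} (hχ : IsCharacter G χ) (u v : G)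
    (huv : Commute u v) (n : ℕ) (hu : u ^ (p ^ n) = 1) :
    ∃ γ : AlgInt, χ (u * v) ^ (p ^ n) - χ v ^ (p ^ n) = (p : ℂ) * (γ : ℂ) := by
  obtain ⟨A, hA⟩ : ∃ A : Subgroup G, A = Subgroup.closure ({u, v} : Set G) := ⟨_, rfl⟩
  have hcomm : ∀ a b : A, a * b = b * a := by subst hA; exact comm_closure_pair huv
  have huA : u ∈ A := by rw [hA]; exact Subgroup.subset_closure (Set.mem_insert u _)
  have hvA : v ∈ A := by rw [hA]; exact Subgroup.subset_closure (Set.mem_insert_of_mem u rfl)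
  obtain ⟨m, hm⟩ := exists_hom_multiset hcomm (IsCharacter.restrict hχ A)
  let f₁ : (A →* ℂˣ) → AlgInt := fun l =>
    ⟨((l (⟨u, huA⟩ * ⟨v, hvA⟩) : ℂˣ) : ℂ), hom_isIntegral l _⟩
  let f₂ : (A →* ℂˣ) → AlgInt := fun l => ⟨((l ⟨v, hvA⟩ : ℂˣ) : ℂ), hom_isIntegral l _⟩
  have hpow : ∀ l : A →* ℂˣ, f₁ l ^ (p ^ n) = f₂ l ^ (p ^ n) := by
    intro l
    apply Subtype.ext
    show (((l (⟨u, huA⟩ * ⟨v, hvA⟩) : ℂˣ) : ℂ)) ^ (p ^ n) = (((l ⟨v, hvA⟩ : ℂˣ) : ℂ)) ^ (p ^ n)
    rw [map_mul, Units.val_mul, mul_pow, ← Units.val_pow_eq_pow_val, ← map_pow]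
    have : (⟨u, huA⟩ : A) ^ (p ^ n) = 1 := Subtype.ext hu
    rw [this, map_one, Units.val_one, one_mul]
  have coe_sum : ∀ s : Multiset AlgInt,
      ((s.sum : AlgInt) : ℂ) = (s.map (fun z : AlgInt => (z : ℂ))).sum := by
    intro s
    exact map_multiset_sum (Subalgebra.val AlgInt) s
  have h1 : (((m.map f₁).sum : AlgInt) : ℂ) = χ (u * v) := by
    rw [coe_sum, Multiset.map_map]
    exact (hm (⟨u, huA⟩ * ⟨v, hvA⟩)).symm
  have h2 : (((m.map f₂).sum : AlgInt) : ℂ) = χ v := by
    rw [coe_sum, Multiset.map_map]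
    exact (hm ⟨v, hvA⟩).symm
  have hq : Ideal.Quotient.mk (Ideal.span ({(p : AlgInt)} : Set AlgInt))
        ((m.map f₁).sum ^ (p ^ n))
      = Ideal.Quotient.mk (Ideal.span ({(p : AlgInt)} : Set AlgInt))
        ((m.map f₂).sum ^ (p ^ n)) := by
    rw [map_pow, map_pow, map_multiset_sum, map_multiset_sum, multiset_sum_pow_char_pow,
      multiset_sum_pow_char_pow, Multiset.map_map, Multiset.map_map, Multiset.map_map,
      Multiset.map_map]
    congr 1
    apply Multiset.map_congr rfl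
    intro l _
    show Ideal.Quotient.mk (Ideal.span ({(p : AlgInt)} : Set AlgInt)) (f₁ l) ^ (p ^ n)
      = Ideal.Quotient.mk (Ideal.span ({(p : AlgInt)} : Set AlgInt)) (f₂ l) ^ (p ^ n)
    rw [← map_pow, ← map_pow, hpow l]
  obtain ⟨γ, hγ⟩ := cong_of_mk_eq p hq
  refine ⟨γ, ?_⟩
  rw [← h1, ← h2]
  simp only [Subalgebra.coe_pow] at hγ
  exact hγ

end Cong

section Avg

/-- the average of a character over a coset `w P` of a subgroup centralized by `w` is an algebraic
integer. -/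
theorem avg_isIntegral {G : Type*} [Group G] [Finite G] {χ : G → ℂ} (hχ : IsCharacter G χ)
    (P : Subgroup G) [Fintype P] (w : G) (hw : ∀ s ∈ P, s * w = w * s) :
    IsIntegral ℤ ((Fintype.card P : ℂ)⁻¹ * ∑ s : P, χ (w * (s : G))) := by
  obtain ⟨d, ρ, rfl⟩ := hχ
  have hc0 : (Fintype.card P : ℂ) ≠ 0 := by
    exact_mod_cast Fintype.card_ne_zero
  obtain ⟨e, he⟩ : ∃ e : Module.End ℂ (Fin d → ℂ),
      e = (Fintype.card P : ℂ)⁻¹ • ∑ s : P, ρ (s : G) := ⟨_, rfl⟩
  have h_left : ∀ t : P, ρ (t : G) * e = e := by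
    intro t
    rw [he, mul_smul_comm, Finset.mul_sum]
    congr 1
    rw [← Equiv.sum_comp (Equiv.mulLeft t) (fun s : P => ρ (s : G))]
    apply Finset.sum_congr rfl
    intro s _
    rw [← map_mul]
    rfl
  have h_idem : e * e = e := by
    nth_rewrite 1 [he]
    rw [smul_mul_assoc, Finset.sum_mul]
    simp only [h_left]
    rw [Finset.sum_const, Finset.card_univ, ← Nat.cast_smul_eq_nsmul ℂ, smul_smul,
      inv_mul_cancel₀ hc0, one_smul]
  have h_comm : Commute (ρ w) e := by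
    show ρ w * e = e * ρ w
    rw [he, mul_smul_comm, smul_mul_assoc, Finset.mul_sum, Finset.sum_mul]
    congr 1
    apply Finset.sum_congr rfl
    intro s _
    rw [← map_mul, ← map_mul, hw s s.2]
  obtain ⟨n, hn⟩ : ∃ n, n = orderOf w := ⟨_, rfl⟩
  have hn0 : 0 < n := hn ▸ orderOf_pos w
  have h_epow : ∀ k : ℕ, 0 < k → e ^ k = e := by
    intro k hk
    induction k with
    | zero => omega
    | succ j ih =>
      rcases Nat.eq_zero_or_pos j with h0 | h0
      · rw [h0, zero_add, pow_one]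
      · rw [pow_succ, ih h0, h_idem]
  have hTn : (ρ w * e) ^ n = e := by
    rw [h_comm.mul_pow, h_epow n hn0, ← map_pow, hn, pow_orderOf_eq_one, map_one, one_mul]
  have hT2n : (ρ w * e) ^ (2 * n) = (ρ w * e) ^ n := by
    rw [mul_comm, pow_mul, hTn, pow_two, h_idem]
  have htr : LinearMap.trace ℂ (Fin d → ℂ) (ρ w * e)
      = (Fintype.card P : ℂ)⁻¹ * ∑ s : P, ρ.character (w * (s : G)) := by
    rw [he, mul_smul_comm, Finset.mul_sum, map_smul, map_sum, smul_eq_mul]
    congr 1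
    apply Finset.sum_congr rfl
    intro s _
    rw [← map_mul]
    rfl
  rw [← htr]
  obtain ⟨T, hT⟩ : ∃ T, T = ρ w * e := ⟨_, rfl⟩
  rw [← hT] at hT2n ⊢
  have hmat : LinearMap.trace ℂ (Fin d → ℂ) T = Matrix.trace (LinearMap.toMatrix' T) := by
    rw [LinearMap.trace_eq_matrix_trace ℂ (Pi.basisFun ℂ (Fin d)) T,
      LinearMap.toMatrix_eq_toMatrix']
  rw [hmat]
  apply Subdeg.isIntegral_trace_of_aeval (LinearMap.toMatrix' T)
    (Polynomial.X ^ (2 * n) - Polynomial.X ^ n)
  · apply Polynomial.Monic.sub_of_left (Polynomial.monic_X_pow _)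
    rw [Polynomial.degree_X_pow, Polynomial.degree_X_pow]
    exact_mod_cast (by omega : n < 2 * n)
  · have hq : (Polynomial.X ^ (2 * n) - Polynomial.X ^ n : Polynomial ℤ).map (Int.castRingHom ℂ)
        = Polynomial.X ^ (2 * n) - Polynomial.X ^ n := by
      simp
    rw [hq]
    have hpow : ∀ k : ℕ, LinearMap.toMatrix' T ^ k = LinearMap.toMatrix' (T ^ k) := by
      intro k
      induction k with
      | zero => rw [pow_zero, pow_zero]; exact LinearMap.toMatrix'_one.symm
      | succ k ih => rw [pow_succ, pow_succ, ih]; exact (LinearMap.toMatrix'_mul _ _).symm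
    rw [map_sub, map_pow, map_pow, Polynomial.aeval_X, hpow, hpow, hT2n, sub_self]

end Avg

section Main

variable (p : ℕ) [hp : Fact p.Prime]

theorem orderOf_conj' {G : Type*} [Group G] (c w : G) : orderOf (c * w * c⁻¹) = orderOf w := by
  have := orderOf_injective (MulAut.conj c).toMonoidHom (MulAut.conj c).injective w
  simpa [MulAut.conj_apply] using this

/-- a `p`-element `s` commuting with the `p`-regular `v` such that `v s` is conjugate to a
`p`-regular element is trivial. -/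
theorem eq_one_of_conj_regular {G : Type*} [Group G] [Finite G] {s v w : G} (hsv : Commute s v)
    (k : ℕ) (hs : s ^ (p ^ k) = 1) (hv : ¬ p ∣ orderOf v) (hw : ¬ p ∣ orderOf w)
    (hc : IsConj w (v * s)) : s = 1 := by
  have hp' := hp.out
  have ho : orderOf (v * s) = orderOf w := by
    obtain ⟨c, hc⟩ := isConj_iff.1 hc
    rw [← hc]
    exact orderOf_conj' c w
  obtain ⟨n, hn⟩ : ∃ n, n = orderOf v := ⟨_, rfl⟩
  have h1 : (v * s) ^ n = s ^ n := by
    rw [hsv.symm.mul_pow, hn, pow_orderOf_eq_one, one_mul]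
  have h2 : orderOf (s ^ n) ∣ orderOf w := by
    rw [← ho, ← h1]
    exact orderOf_pow_dvd n
  have h3 : orderOf (s ^ n) ∣ p ^ k := by
    apply orderOf_dvd_of_pow_eq_one
    rw [← pow_mul, mul_comm, pow_mul, hs, one_pow]
  have hcop : Nat.Coprime (p ^ k) (orderOf w) :=
    Nat.Coprime.pow_left k ((Nat.Prime.coprime_iff_not_dvd hp').2 hw)
  have h4 : orderOf (s ^ n) = 1 := by
    have := Nat.dvd_gcd h3 h2
    rw [hcop] at this
    exact Nat.dvd_one.1 this
  have h5 : s ^ n = 1 := orderOf_eq_one_iff.1 h4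
  have h6 : orderOf s ∣ n := orderOf_dvd_of_pow_eq_one h5
  have h7 : orderOf s ∣ p ^ k := orderOf_dvd_of_pow_eq_one hs
  have hcop2 : Nat.Coprime (p ^ k) n := by
    rw [hn]
    exact Nat.Coprime.pow_left k ((Nat.Prime.coprime_iff_not_dvd hp').2 hv)
  have h8 : orderOf s = 1 := by
    have := Nat.dvd_gcd h7 h6
    rw [hcop2] at this
    exact Nat.dvd_one.1 this
  exact orderOf_eq_one_iff.1 h8

theorem exists_sylow_centralizer {G : Type*} [Group G] [Finite G] (v : G) :
    ∃ (P : Subgroup G) (m : ℕ), (∀ s ∈ P, s * v = v * s) ∧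
      (∀ s ∈ P, ∃ k : ℕ, s ^ (p ^ k) = 1) ∧
      Nat.card (Subgroup.centralizer ({v} : Set G)) = Nat.card P * m ∧ ¬ p ∣ m := by
  obtain ⟨C, hC⟩ : ∃ C : Subgroup G, C = Subgroup.centralizer ({v} : Set G) := ⟨_, rfl⟩
  rw [← hC]
  obtain ⟨S⟩ : Nonempty (Sylow p C) := inferInstance
  have hnd : ¬ p ∣ (S : Subgroup C).index := S.not_dvd_index
  have hcard : Nat.card C = Nat.card ((S : Subgroup C).map C.subtype) * (S : Subgroup C).index := by
    rw [← Subgroup.card_mul_index (S : Subgroup C)]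
    congr 1
    exact Nat.card_congr
      (Subgroup.equivMapOfInjective (S : Subgroup C) C.subtype
        (Subgroup.subtype_injective C)).toEquiv
  refine ⟨(S : Subgroup C).map C.subtype, (S : Subgroup C).index, ?_, ?_, hcard, hnd⟩
  · rintro s ⟨c, hc, rfl⟩
    have hc2 : (c : G) ∈ Subgroup.centralizer ({v} : Set G) := hC ▸ c.2
    have := Subgroup.mem_centralizer_iff.1 hc2 v (Set.mem_singleton v)
    exact this.symm
  · rintro s ⟨c, hc, rfl⟩
    obtain ⟨k, hk⟩ := S.isPGroup' ⟨c, hc⟩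
    refine ⟨k, ?_⟩
    have h1 := congrArg (fun z : ↥(S : Subgroup C) => ((z : C) : G)) hk
    simpa using h1

/-- **Main theorem**: the `p`-regular parts of `x` and `y` are conjugate iff
`χ(x)^(p^a) ≡ χ(y)^(p^a)` modulo `p` for all irreducible characters `χ`. -/
theorem psection_main {G : Type*} [Group G] [Finite G] (x y x' y' : G)
    (hx : (∃ k : ℕ, orderOf (x * x'⁻¹) = p ^ k) ∧ Commute (x * x'⁻¹) x' ∧ ¬ p ∣ orderOf x')
    (hy : (∃ k : ℕ, orderOf (y * y'⁻¹) = p ^ k) ∧ Commute (y * y'⁻¹) y' ∧ ¬ p ∣ orderOf y') :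
    IsConj x' y' ↔ ∀ χ : IrrCharacter G, ∃ γ : AlgInt,
      (χ : G → ℂ) x ^ (p ^ (Nat.card G).factorization p)
        - (χ : G → ℂ) y ^ (p ^ (Nat.card G).factorization p) = (p : ℂ) * (γ : ℂ) := by
  have hpp := hp.out
  obtain ⟨a, ha⟩ : ∃ a, a = (Nat.card G).factorization p := ⟨_, rfl⟩
  rw [← ha]
  have key : ∀ z z' : G, (∃ k : ℕ, orderOf (z * z'⁻¹) = p ^ k) → Commute (z * z'⁻¹) z' →
      ∀ χ : IrrCharacter G, ∃ γ : AlgInt,
        (χ : G → ℂ) z ^ (p ^ a) - (χ : G → ℂ) z' ^ (p ^ a) = (p : ℂ) * (γ : ℂ) := by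
    rintro z z' ⟨k, hk⟩ hcomm χ
    have h1 : (z * z'⁻¹) ^ (p ^ a) = 1 := by
      apply orderOf_dvd_iff_pow_eq_one.1
      rw [hk]
      apply pow_dvd_pow
      rw [ha]
      apply (Nat.Prime.pow_dvd_iff_le_factorization hpp Nat.card_pos.ne').1
      rw [← hk]
      exact orderOf_dvd_natCard _
    have := pow_cong p (IsIrrCharacter.isCharacter χ.2) (z * z'⁻¹) z' hcomm a h1
    rwa [inv_mul_cancel_right] at this
  constructor
  · intro hc χ
    obtain ⟨γ₁, h1⟩ := key x x' hx.1 hx.2.1 χ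
    obtain ⟨γ₂, h2⟩ := key y y' hy.1 hy.2.1 χ
    have heq : (χ : G → ℂ) x' = (χ : G → ℂ) y' :=
      IsClassFunction.eq_of_isConj (IrrCharacter.isClassFunction χ) hc
    refine ⟨γ₁ - γ₂, ?_⟩
    push_cast
    rw [heq] at h1
    linear_combination h1 - h2
  · intro H
    by_contra hnc
    haveI : Fintype G := Fintype.ofFinite G
    haveI : Fintype (IrrCharacter G) := Fintype.ofFinite _
    obtain ⟨M, hM⟩ := Helper25.exists_isPModular p hpp
    have hIM : Ideal.span ({(p : AlgInt)} : Set AlgInt) ≤ M :=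
      (Ideal.span_singleton_le_iff_mem M).2 hM.2.2
    haveI hMp : M.IsPrime := hM.2.1.isPrime
    have hint : ∀ (χ : IrrCharacter G) (g : G), IsIntegral ℤ ((χ : G → ℂ) g) :=
      fun χ g => isCharacter_isIntegral (IsIrrCharacter.isCharacter χ.2) g
    have h5a : ∀ χ : IrrCharacter G,
        ((⟨(χ : G → ℂ) x', hint χ x'⟩ : AlgInt) - ⟨(χ : G → ℂ) y', hint χ y'⟩) ∈ M := by
      intro χ
      obtain ⟨γ, hγ⟩ := H χ
      obtain ⟨γ₁, h1⟩ := key x x' hx.1 hx.2.1 χ
      obtain ⟨γ₂, h2⟩ := key y y' hy.1 hy.2.1 χ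
      have hq : Ideal.Quotient.mk (Ideal.span ({(p : AlgInt)} : Set AlgInt))
            ((⟨(χ : G → ℂ) x', hint χ x'⟩ : AlgInt) ^ (p ^ a))
          = Ideal.Quotient.mk (Ideal.span ({(p : AlgInt)} : Set AlgInt))
            ((⟨(χ : G → ℂ) y', hint χ y'⟩ : AlgInt) ^ (p ^ a)) := by
        apply mk_eq_of_cong p (γ - γ₁ + γ₂)
        show ((χ : G → ℂ) x') ^ (p ^ a) - ((χ : G → ℂ) y') ^ (p ^ a)
          = (p : ℂ) * ((γ : ℂ) - (γ₁ : ℂ) + (γ₂ : ℂ))
        linear_combination hγ - h1 + h2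
      apply Ideal.IsPrime.mem_of_pow_mem hMp (p ^ a)
      apply hIM
      rw [← Ideal.Quotient.eq_zero_iff_mem, map_pow, map_sub, sub_pow_char_pow, ← map_pow,
        ← map_pow, hq, sub_self]
    obtain ⟨P, m, hPv, hPp, hcard, hm⟩ := exists_sylow_centralizer p x'
    haveI : Fintype P := Fintype.ofFinite P
    have hcP : (Fintype.card P : ℂ) ≠ 0 := by exact_mod_cast Fintype.card_ne_zero
    have hcoef : ∀ χ : IrrCharacter G, IsIntegral ℤ
        ((Fintype.card P : ℂ)⁻¹ * ∑ s : P, conj ((χ : G → ℂ) (x' * (s : G)))) := by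
      intro χ
      have h1 := avg_isIntegral (IsIrrCharacter.isCharacter χ.2) P x'⁻¹
        (fun s hs => (Commute.inv_right (hPv s hs : Commute s x')).eq)
      have h2 : ∑ s : P, conj ((χ : G → ℂ) (x' * (s : G)))
          = ∑ s : P, (χ : G → ℂ) (x'⁻¹ * (s : G)) := by
        rw [← Equiv.sum_comp (Equiv.inv P) (fun s : P => (χ : G → ℂ) (x'⁻¹ * (s : G)))]
        apply Finset.sum_congr rfl
        intro s _
        rw [← IsCharacter.apply_inv (IsIrrCharacter.isCharacter χ.2), mul_inv_rev]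
        show (χ : G → ℂ) ((s : G)⁻¹ * x'⁻¹) = (χ : G → ℂ) (x'⁻¹ * (s : G)⁻¹)
        rw [← mul_inv_rev, ← mul_inv_rev, hPv s s.2]
      rw [h2]
      exact h1
    have heval : ∀ g : G, ¬ p ∣ orderOf g →
        ∑ χ : IrrCharacter G, ((Fintype.card P : ℂ)⁻¹ *
            ∑ s : P, conj ((χ : G → ℂ) (x' * (s : G)))) * (χ : G → ℂ) g
          = if IsConj g x' then (Fintype.card P : ℂ)⁻¹ *
              (Nat.card (Subgroup.centralizer ({g} : Set G)) : ℂ) else 0 := by
      intro g hg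
      have h1 : ∀ s : P, ∑ χ : IrrCharacter G,
            (χ : G → ℂ) g * conj ((χ : G → ℂ) (x' * (s : G)))
          = if (s : G) = 1 ∧ IsConj g x' then
              (Nat.card (Subgroup.centralizer ({g} : Set G)) : ℂ) else 0 := by
        intro s
        rw [column_orthogonality g (x' * (s : G))]
        by_cases hc : IsConj g (x' * (s : G))
        · have hs1 : (s : G) = 1 := by
            obtain ⟨k, hk⟩ := hPp s s.2
            exact eq_one_of_conj_regular p (hPv s s.2) k hk hx.2.2 hg hc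
          rw [if_pos hc, if_pos ⟨hs1, by rwa [hs1, mul_one] at hc⟩]
        · rw [if_neg hc, if_neg]
          rintro ⟨hs1, hc'⟩
          apply hc
          rw [hs1, mul_one]
          exact hc'
      have h2 : ∑ χ : IrrCharacter G, ((Fintype.card P : ℂ)⁻¹ *
            ∑ s : P, conj ((χ : G → ℂ) (x' * (s : G)))) * (χ : G → ℂ) g
          = (Fintype.card P : ℂ)⁻¹ * ∑ s : P, ∑ χ : IrrCharacter G,
              (χ : G → ℂ) g * conj ((χ : G → ℂ) (x' * (s : G))) := by
        rw [Finset.sum_comm]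
        simp only [Finset.mul_sum, Finset.sum_mul]
        apply Finset.sum_congr rfl
        intro χ _
        apply Finset.sum_congr rfl
        intro s _
        ring
      rw [h2]
      simp only [h1]
      by_cases hc : IsConj g x'
      · rw [if_pos hc]
        congr 1
        rw [Finset.sum_eq_single (1 : P)]
        · rw [if_pos ⟨rfl, hc⟩]
        · intro s _ hs
          rw [if_neg]
          rintro ⟨h, _⟩
          exact hs (Subtype.ext h)
        · intro h
          exact absurd (Finset.mem_univ _) h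
      · rw [if_neg hc, Finset.sum_eq_zero, mul_zero]
        intro s _
        rw [if_neg]
        exact fun h => hc h.2
    have e1 := heval x' hx.2.2
    rw [if_pos (IsConj.refl x')] at e1
    have e2 := heval y' hy.2.2
    rw [if_neg (fun h => hnc h.symm)] at e2
    have hm' : (Fintype.card P : ℂ)⁻¹ *
        (Nat.card (Subgroup.centralizer ({x'} : Set G)) : ℂ) = (m : ℂ) := by
      rw [hcard, Nat.card_eq_fintype_card]
      push_cast
      field_simp
    have hC : ∑ χ : IrrCharacter G, ((Fintype.card P : ℂ)⁻¹ *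
          ∑ s : P, conj ((χ : G → ℂ) (x' * (s : G)))) *
          ((χ : G → ℂ) x' - (χ : G → ℂ) y') = (m : ℂ) := by
      simp only [mul_sub, Finset.sum_sub_distrib]
      rw [e1, e2, hm', sub_zero]
    have hmem : (m : AlgInt) ∈ M := by
      have hsum : (m : AlgInt) = ∑ χ : IrrCharacter G, (⟨_, hcoef χ⟩ : AlgInt) *
          ((⟨(χ : G → ℂ) x', hint χ x'⟩ : AlgInt) - ⟨(χ : G → ℂ) y', hint χ y'⟩) := by
        apply Subtype.ext
        rw [AddSubmonoidClass.coe_finsetSum]
        simp only [Subalgebra.coe_mul, Subalgebra.coe_sub]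
        rw [hC]
        push_cast
        rfl
      rw [hsum]
      apply Ideal.sum_mem
      intro χ _
      exact Ideal.mul_mem_left _ _ (h5a χ)
    exact Helper24.natCast_notMem hM hm hmem

end Main

end Cfsg.Agent.Lib.Helper2.PSection
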