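import Mathlib
import Cfsg.Prelude.Def_Characters
import Cfsg.Prelude.Def_Blocks
import Cfsg.Prelude.Def_Transfer
import Cfsg.Agent.Lib.Helper2.Induction
import Cfsg.Agent.Lib.Helper2.Linear
import Cfsg.Agent.Lib.Helper2.Expansion
import Cfsg.Agent.Lib.Lead.Tate
import Cfsg.Agent.Lib.Lead.PResidual
import Cfsg.Agent.Lib.Helper13.Residual

/-!
# Thompson's theorem on character degrees (helper2 library)

If `p` divides the degree of every nonlinear irreducible character of `G` then `G` has a normal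
`p`-complement (Isaacs 12.2).  Proof: every linear character of a Sylow `p`-subgroup `P` extends
to `G` (count the linear constituents of the induced character modulo `p`), hence
`P ∩ O^p(G) ≤ P'`, and Tate's theorem applies.
-/

set_option autoImplicit false

namespace Cfsg.Agent.Lib.Helper2

namespace ThompsonDeg

variable {G : Type*} [Group G] [Finite G]

omit [Finite G] in
theorem charDegree_eq {χ : G → ℂ} {n : ℕ} (h : χ 1 = n) : Cfsg.charDegree χ = n := by
  unfold Cfsg.charDegree
  rw [h]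
  simp

/-- every linear character of a Sylow `p`-subgroup extends to `G` -/
theorem exists_linear_extension (p : ℕ) [Fact p.Prime]
    (hdeg : ∀ χ : Cfsg.IrrCharacter G, Cfsg.charDegree (χ : G → ℂ) ≠ 1 →
      p ∣ Cfsg.charDegree (χ : G → ℂ))
    (P : Sylow p G) (μ : ↥(P : Subgroup G) →* ℂˣ) :
    ∃ lam : G →* ℂˣ, ∀ x : ↥(P : Subgroup G), lam x = μ x := by
  classical
  haveI : Fintype G := Fintype.ofFinite G
  haveI : Fintype ↥(P : Subgroup G) := Fintype.ofFinite _
  haveI : Fintype (Cfsg.IrrCharacter G) := Fintype.ofFinite _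
  set μ' : ↥(P : Subgroup G) → ℂ := fun x => (μ x : ℂ) with hμ'
  have hμirr : Cfsg.IsIrrCharacter ↥(P : Subgroup G) μ' := isIrrCharacter_of_monoidHom μ
  set Φ := Cfsg.indFun (P : Subgroup G) μ' with hΦ
  have hΦchar : Cfsg.IsCharacter G Φ :=
    indFun_isCharacter _ _ (IsIrrCharacter.isCharacter hμirr)
  have hΦ1 : Φ 1 = ((P : Subgroup G).index : ℂ) := by
    rw [hΦ, indFun_apply_one]
    simp [hμ']
  have hn : ∀ χ : Cfsg.IrrCharacter G, ∃ n : ℕ, Cfsg.classInner Φ (χ : G → ℂ) = n :=
    fun χ => classInner_isCharacter_nat hΦchar (IsIrrCharacter.isCharacter χ.2)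
  choose n hn using hn
  have hd : ∀ χ : Cfsg.IrrCharacter G, ∃ d : ℕ, 0 < d ∧ (χ : G → ℂ) 1 = d :=
    fun χ => IsIrrCharacter.apply_one χ.2
  choose d hd0 hd using hd
  have hsum : (P : Subgroup G).index = ∑ χ : Cfsg.IrrCharacter G, n χ * d χ := by
    have h1 := congrFun (classFunction_expansion Φ (IsCharacter.isClassFunction hΦchar)) 1
    rw [hΦ1] at h1
    simp only [Finset.sum_apply, Pi.smul_apply, smul_eq_mul, hn, hd] at h1
    exact_mod_cast h1
  have hex : ∃ χ : Cfsg.IrrCharacter G, d χ = 1 ∧ n χ ≠ 0 := by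
    by_contra hcon
    push Not at hcon
    apply P.not_dvd_index
    rw [hsum]
    apply Finset.dvd_sum
    intro χ _
    by_cases h1 : d χ = 1
    · rw [hcon χ h1, zero_mul]
      exact dvd_zero p
    · have h3 : Cfsg.charDegree (χ : G → ℂ) = d χ := charDegree_eq (hd χ)
      have h2 := hdeg χ (by rw [h3]; exact h1)
      rw [h3] at h2
      exact Dvd.dvd.mul_left h2 _
  obtain ⟨χ, hχ1, hχn⟩ := hex
  obtain ⟨lam, hlam⟩ := exists_monoidHom_of_isIrrCharacter_of_apply_one χ.2
    (by rw [hd χ, hχ1]; simp)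
  refine ⟨lam, ?_⟩
  have hfr := frobenius_reciprocity (P : Subgroup G) μ' (χ : G → ℂ)
    (IrrCharacter.isClassFunction χ)
  have hres : (fun h : ↥(P : Subgroup G) => (χ : G → ℂ) h) =
      fun h => ((lam.comp (P : Subgroup G).subtype) h : ℂ) := by
    funext h
    rw [hlam]
    rfl
  have hresirr : Cfsg.IsIrrCharacter ↥(P : Subgroup G)
      (fun h : ↥(P : Subgroup G) => (χ : G → ℂ) h) := by
    rw [hres]
    exact isIrrCharacter_of_monoidHom _
  have hne : Cfsg.classInner μ' (fun h : ↥(P : Subgroup G) => (χ : G → ℂ) h) ≠ 0 := by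
    rw [← hfr, hn χ]
    exact_mod_cast hχn
  have heq : μ' = fun h : ↥(P : Subgroup G) => (χ : G → ℂ) h := by
    by_contra hne'
    apply hne
    exact classInner_irrCharacter_ne (χ := ⟨μ', hμirr⟩) (ψ := ⟨_, hresirr⟩)
      (by intro h; exact hne' (congrArg Subtype.val h))
  intro x
  have h1 : μ' x = (χ : G → ℂ) (x : G) := congrFun heq x
  rw [hlam] at h1
  exact Units.ext h1.symm

/-- **Thompson's theorem** -/
theorem exists_normal_pcomplement (p : ℕ) [Fact p.Prime]
    (hdeg : ∀ χ : Cfsg.IrrCharacter G, Cfsg.charDegree (χ : G → ℂ) ≠ 1 →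
      p ∣ Cfsg.charDegree (χ : G → ℂ)) :
    (Cfsg.pResidual p G).Normal ∧ (Nat.card (Cfsg.pResidual p G)).Coprime p ∧
      ∃ k : ℕ, (Cfsg.pResidual p G).index = p ^ k := by
  classical
  have hp : p.Prime := Fact.out
  obtain ⟨P⟩ : Nonempty (Sylow p G) := inferInstance
  have h1 : (Cfsg.pResidual p G).subgroupOf (P : Subgroup G) ≤
      Cfsg.Agent.Lib.Lead.frattiniP p (P : Subgroup G) := by
    intro x hx
    have hxR : (x : G) ∈ Cfsg.pResidual p G := Subgroup.mem_subgroupOf.mp hx
    have hxG' : (x : G) ∈ _root_.commutator G :=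
      Cfsg.Agent.Lib.Lead.isPGroup_inf_pResidual_le_commutator (P : Subgroup G) P.2 ⟨x.2, hxR⟩
    apply (le_sup_left : _root_.commutator (P : Subgroup G) ≤ _)
    by_contra hxc
    have hne : Abelianization.of x ≠ 1 := by
      intro h
      apply hxc
      have : x ∈ (Abelianization.of : (P : Subgroup G) →* _).ker := h
      rwa [Abelianization.ker_of] at this
    obtain ⟨φ, hφ⟩ := CommGroup.exists_apply_ne_one_of_hasEnoughRootsOfUnity
      (Abelianization (P : Subgroup G)) ℂ hne
    obtain ⟨lam, hlam⟩ := exists_linear_extension p hdeg P (φ.comp Abelianization.of)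
    apply hφ
    have h2 : lam ((x : ↥(P : Subgroup G)) : G) = 1 := by
      have : ((x : ↥(P : Subgroup G)) : G) ∈ lam.ker := by
        apply (Abelianization.commutator_subset_ker lam)
        exact hxG'
      exact this
    have h3 := hlam x
    rw [h2] at h3
    exact h3.symm
  have h2 := Cfsg.Agent.Lib.Lead.tate_general (P : Subgroup G) P.not_dvd_index h1
  rw [Cfsg.Agent.Lib.Lead.pResidual_eq_bot_of_isPGroup P.2] at h2
  haveI hN : (Cfsg.pResidual p G).Normal := Cfsg.Agent.Lib.Helper13.pResidual_normal p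
  refine ⟨hN, ?_, ?_⟩
  · -- the Sylow p-subgroup of the normal subgroup is trivial
    rw [Nat.coprime_comm, Nat.Prime.coprime_iff_not_dvd hp]
    intro hdvd
    obtain ⟨y, hy⟩ := exists_prime_orderOf_dvd_card' (G := ↥(Cfsg.pResidual p G)) p hdvd
    -- y is an element of order p in the residual; conjugate into P
    have hyp : IsPGroup p (Subgroup.zpowers (y : G)) := by
      apply IsPGroup.of_card (n := 1)
      rw [Nat.card_zpowers, Subgroup.orderOf_coe, hy, pow_one]
    obtain ⟨Q, hQ⟩ := hyp.exists_le_sylow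
    obtain ⟨g, hg⟩ := MulAction.exists_smul_eq G Q P
    have hyQ : (y : G) ∈ (Q : Subgroup G) := hQ (Subgroup.mem_zpowers _)
    have hgy : g * (y : G) * g⁻¹ ∈ (P : Subgroup G) := by
      have h3 : g * (y : G) * g⁻¹ ∈ ((g • Q : Sylow p G) : Subgroup G) := by
        rw [Sylow.coe_subgroup_smul]
        exact ⟨(y : G), hyQ, by simp [MulAut.smul_def]⟩
      rwa [hg] at h3
    have hgyR : g * (y : G) * g⁻¹ ∈ Cfsg.pResidual p G := hN.conj_mem _ y.2 g
    have h4 : (⟨g * (y : G) * g⁻¹, hgy⟩ : (P : Subgroup G)) ∈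
        (Cfsg.pResidual p G).subgroupOf (P : Subgroup G) := Subgroup.mem_subgroupOf.mpr hgyR
    have h5 := h2 h4
    rw [Subgroup.mem_bot] at h5
    have h6 : g * (y : G) * g⁻¹ = 1 := congrArg Subtype.val h5
    have h7 : (y : G) = 1 := by
      have := congrArg (fun z => g⁻¹ * z * g) h6
      simpa [mul_assoc] using this
    have h8 : orderOf (y : G) = p := by rw [Subgroup.orderOf_coe, hy]
    rw [h7, orderOf_one] at h8
    exact hp.one_lt.ne h8
  · have hq : IsPGroup p (G ⧸ Cfsg.pResidual p G) :=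
      Cfsg.Agent.Lib.Helper13.quotient_pResidual_isPGroup p
    obtain ⟨k, hk⟩ := IsPGroup.iff_card.mp hq
    exact ⟨k, by rw [Subgroup.index_eq_card]; exact hk⟩

end ThompsonDeg

end Cfsg.Agent.Lib.Helper2
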