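import Mathlib
import Cfsg.Agent.Lib.Helper2.ThompsonDegrees
import Cfsg.Agent.Lib.Helper2.Clifford
import Cfsg.Agent.Lib.Helper2.Ito
import Cfsg.Agent.Lib.Helper2.Integrality

/-!
# Groups all of whose character degrees are powers of `p` (helper2 library)
-/

set_option autoImplicit false

universe u

namespace Cfsg.Agent.Lib.Helper2

namespace DegreePower

open scoped ComplexConjugate

variable {G : Type u} [Group G] [Finite G]

/-- every irreducible character of a normal subgroup lies under an irreducible character of `G`,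
and its degree divides the degree of that character -/
theorem exists_over (N : Subgroup G) [N.Normal] (θ : N → ℂ) (hθ : Cfsg.IsIrrCharacter N θ) :
    ∃ (χ : Cfsg.IrrCharacter G) (a b : ℕ), θ 1 = a ∧ (χ : G → ℂ) 1 = b ∧ a ∣ b := by
  classical
  haveI : Fintype G := Fintype.ofFinite G
  haveI : Fintype N := Fintype.ofFinite N
  set Φ := Cfsg.indFun N θ with hΦ
  have hΦchar : Cfsg.IsCharacter G Φ := indFun_isCharacter N θ (IsIrrCharacter.isCharacter hθ)
  have hΦcf := IsCharacter.isClassFunction hΦchar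
  have hΦne : Φ ≠ 0 := by
    intro h
    have h1 := congrFun h 1
    rw [hΦ, indFun_apply_one] at h1
    have h2 : θ 1 ≠ 0 := IsIrrCharacter.apply_one_ne_zero hθ
    have h3 : ((N.index : ℕ) : ℂ) ≠ 0 := by
      exact_mod_cast Subgroup.index_ne_zero_of_finite
    exact (mul_ne_zero h3 h2) h1
  have hΦΦ : Cfsg.classInner Φ Φ ≠ 0 := fun h => hΦne (eq_zero_of_classInner_self_eq_zero Φ h)
  obtain ⟨χ, hχ, _⟩ := exists_common_constituent Φ Φ hΦcf hΦΦ
  have hfr := frobenius_reciprocity N θ (χ : G → ℂ) (IrrCharacter.isClassFunction χ)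
  have hne : Cfsg.classInner (fun n : N => (χ : G → ℂ) n) θ ≠ 0 := by
    rw [← classInner_conj_symm, ← hfr]
    intro h
    apply hχ
    have := congrArg (starRingEnd ℂ) h
    simpa using this
  have hcl := clifford_restriction N χ.2 hθ hne
  obtain ⟨e, he⟩ := classInner_isCharacter_nat
    (IsCharacter.restrict (IsIrrCharacter.isCharacter χ.2) N) (IsIrrCharacter.isCharacter hθ)
  obtain ⟨a, _, ha⟩ := IsIrrCharacter.apply_one hθ
  set S : Set (N → ℂ) := {ψ : N → ℂ | ∃ g : G, ψ = conjFun N g θ} with hS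
  have hfin : S.Finite := finite_conjugates N θ
  have h1 := congrFun hcl 1
  rw [Pi.smul_apply, he, finsum_mem_eq_finite_toFinset_sum _ hfin, Finset.sum_apply] at h1
  have h2 : ∀ ψ ∈ hfin.toFinset, ψ 1 = (a : ℂ) := by
    intro ψ hψ
    rw [Set.Finite.mem_toFinset] at hψ
    obtain ⟨g, rfl⟩ := hψ
    rw [conjFun_apply, ← ha]
    congr 1
    apply Subtype.ext
    simp
  rw [Finset.sum_congr rfl h2, Finset.sum_const, nsmul_eq_mul, smul_eq_mul] at h1
  refine ⟨χ, a, e * (hfin.toFinset.card * a), ha, ?_, ?_⟩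
  · have h3 : (χ : G → ℂ) 1 = (e : ℂ) * ((hfin.toFinset.card : ℂ) * (a : ℂ)) := h1
    rw [h3]
    push_cast
    ring
  · exact ⟨e * hfin.toFinset.card, by ring⟩

/-- **S0855** -/
theorem degree_power_iff (p : ℕ) (hp : p.Prime) :
    (∀ χ : Cfsg.IrrCharacter G, ∃ k : ℕ, (χ : G → ℂ) 1 = (p : ℂ) ^ k) ↔
      ∃ A : Subgroup G, A.Normal ∧ (∀ a ∈ A, ∀ b ∈ A, a * b = b * a) ∧
        Nat.Coprime (Nat.card A) p ∧ ∃ k : ℕ, A.index = p ^ k := by
  haveI : Fact p.Prime := ⟨hp⟩
  constructor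
  · intro h
    have hdeg : ∀ χ : Cfsg.IrrCharacter G, Cfsg.charDegree (χ : G → ℂ) ≠ 1 →
        p ∣ Cfsg.charDegree (χ : G → ℂ) := by
      intro χ hχ
      obtain ⟨k, hk⟩ := h χ
      have h1 : Cfsg.charDegree (χ : G → ℂ) = p ^ k :=
        ThompsonDeg.charDegree_eq (by rw [hk]; push_cast; rfl)
      rw [h1] at hχ ⊢
      have hk0 : k ≠ 0 := by
        rintro rfl
        exact hχ (pow_zero p)
      exact dvd_pow_self p hk0
    obtain ⟨hN, hcop, hidx⟩ := ThompsonDeg.exists_normal_pcomplement p hdeg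
    refine ⟨Cfsg.pResidual p G, hN, ?_, hcop, hidx⟩
    have hcomm : ∀ a b : ↥(Cfsg.pResidual p G), a * b = b * a := by
      rw [comm_iff_forall_irr_degree_one]
      intro θ
      obtain ⟨χ, a, b, ha, hb, hab⟩ := exists_over (Cfsg.pResidual p G) (θ : _ → ℂ) θ.2
      obtain ⟨k, hk⟩ := h χ
      have hbk : b = p ^ k := by
        have : (b : ℂ) = ((p ^ k : ℕ) : ℂ) := by rw [← hb, hk]; push_cast; rfl
        exact_mod_cast this
      -- a divides a power of p and the order of the p'-group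
      obtain ⟨n, ρ, hρ, hρθ⟩ := θ.2
      haveI := hρ
      haveI : Fintype ↥(Cfsg.pResidual p G) := Fintype.ofFinite _
      have h1 := finrank_dvd_card ρ
      have h2 : Module.finrank ℂ (Fin n → ℂ) = a := by
        have : ((Module.finrank ℂ (Fin n → ℂ) : ℕ) : ℂ) = (a : ℂ) := by
          rw [← ha, ← hρθ, Representation.char_one]
        exact_mod_cast this
      rw [h2] at h1
      rw [hbk] at hab
      have h3 : a = 1 := by
        have h4 : Nat.Coprime a (p ^ k) :=
          Nat.Coprime.coprime_dvd_left h1 (Nat.Coprime.pow_right k hcop)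
        exact Nat.Coprime.eq_one_of_dvd h4 hab
      rw [ha, h3]
      simp
    intro a ha b hb
    exact congrArg Subtype.val (hcomm ⟨a, ha⟩ ⟨b, hb⟩)
  · rintro ⟨A, hAn, hAc, _, k, hk⟩ χ
    obtain ⟨d, hd, hdvd⟩ := ito_aux (Nat.card G) G rfl (χ : G → ℂ) χ.2 A hAc
    rw [hk] at hdvd
    obtain ⟨j, _, hj⟩ := (Nat.dvd_prime_pow hp).mp hdvd
    exact ⟨j, by rw [hd, hj]; push_cast; rfl⟩

end DegreePower

end Cfsg.Agent.Lib.Helper2
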