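import Mathlib
import Cfsg.Prelude.Def_Blocks
import Cfsg.Agent.Lib.Helper2.Linear
import Cfsg.Agent.Lib.Helper2.Induction
import Cfsg.Agent.Lib.Helper2.Expansion
import Cfsg.Agent.Lib.Helper2.Regular
import Cfsg.Agent.Lib.Helper2.ThompsonDegrees
import Cfsg.Agent.Lib.Helper2.DegreePower
import Cfsg.Agent.Lib.Helper11.Clifford5
import Cfsg.Agent.Lib.Helper11.Clifford2
import Cfsg.Agent.Lib.Helper7.LinearExt
import Cfsg.Agent.Lib.Helper25.MinNormal
import Cfsg.Agent.Lib.Helper2.Clifford
import Cfsg.Agent.Lib.Helper25.Gagola2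

/-!
# Groups with two character degrees `cd(G) = {1, m}` (Isaacs 12.5, 12.6): basic tools
-/

set_option autoImplicit false
set_option linter.style.haveILetI false
set_option linter.unusedSectionVars false

namespace Cfsg.Agent.Lib.Helper2

namespace TwoDeg

open Cfsg
open scoped ComplexConjugate commutatorElement

variable {G : Type*} [Group G] [Finite G]

/-- the degree of an irreducible character as a natural number -/
theorem apply_one_eq_charDegree (χ : Cfsg.IrrCharacter G) :
    (χ : G → ℂ) 1 = (Cfsg.charDegree (χ : G → ℂ) : ℂ) := by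
  obtain ⟨d, _, hd⟩ := IsIrrCharacter.apply_one χ.2
  rw [ThompsonDeg.charDegree_eq hd, hd]

/-- a linear irreducible character is trivial on the commutator subgroup -/
theorem linear_apply_commutator (χ : Cfsg.IrrCharacter G) (h1 : (χ : G → ℂ) 1 = 1) (g : G)
    (hg : g ∈ commutator G) : (χ : G → ℂ) g = 1 := by
  obtain ⟨φ, hφ⟩ := exists_monoidHom_of_isIrrCharacter_of_apply_one χ.2 h1
  have hk := Abelianization.commutator_subset_ker φ hg
  rw [MonoidHom.mem_ker] at hk
  rw [hφ]
  simp [hk]

/-- **Permutation character trick**: if all irreducible degrees are `1` or `m ≠ 1`, every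
subgroup of index `m` contains the commutator subgroup. -/
theorem commutator_le_of_index (m : ℕ)
    (hcd : ∀ χ : Cfsg.IrrCharacter G, Cfsg.charDegree (χ : G → ℂ) = 1 ∨
      Cfsg.charDegree (χ : G → ℂ) = m)
    (T : Subgroup G) (hT : T.index = m) : commutator G ≤ T := by
  classical
  haveI : Fintype G := Fintype.ofFinite G
  haveI : Fintype T := Fintype.ofFinite T
  haveI : Fintype (Cfsg.IrrCharacter G) := Fintype.ofFinite _
  set one : T → ℂ := fun _ => 1 with hone
  have honeirr : Cfsg.IsIrrCharacter T one := by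
    have := isIrrCharacter_of_monoidHom (1 : T →* ℂˣ)
    convert this using 1
    funext x
    simp [hone]
  set Φ := Cfsg.indFun T one with hΦ
  have hΦchar : Cfsg.IsCharacter G Φ :=
    indFun_isCharacter _ _ (IsIrrCharacter.isCharacter honeirr)
  have hΦ1 : Φ 1 = (m : ℂ) := by
    rw [hΦ, indFun_apply_one, hT]
    simp [hone]
  have hn : ∀ χ : Cfsg.IrrCharacter G, ∃ n : ℕ, Cfsg.classInner Φ (χ : G → ℂ) = n :=
    fun χ => classInner_isCharacter_nat hΦchar (IsIrrCharacter.isCharacter χ.2)
  choose n hn using hn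
  have hexp := classFunction_expansion Φ (IsCharacter.isClassFunction hΦchar)
  simp only [hn] at hexp
  -- the trivial character
  have htrivirr : Cfsg.IsIrrCharacter G (fun _ : G => (1 : ℂ)) := by
    have := isIrrCharacter_of_monoidHom (1 : G →* ℂˣ)
    convert this using 1
    funext x
    simp
  set χ₀ : Cfsg.IrrCharacter G := ⟨fun _ => 1, htrivirr⟩ with hχ₀
  have hn0 : n χ₀ = 1 := by
    have h1 := hn χ₀
    rw [hΦ, frobenius_reciprocity T one _ (IsCharacter.isClassFunction
      (IsIrrCharacter.isCharacter htrivirr))] at h1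
    have h2 : Cfsg.classInner one (fun h : T => (χ₀ : G → ℂ) h) = 1 := by
      have := classInner_irrCharacter_self (⟨one, honeirr⟩ : Cfsg.IrrCharacter T)
      exact this
    rw [h2] at h1
    exact_mod_cast h1.symm
  -- degrees sum
  have hsum : m = ∑ χ : Cfsg.IrrCharacter G, n χ * Cfsg.charDegree (χ : G → ℂ) := by
    have h1 := congrFun hexp 1
    rw [hΦ1, Finset.sum_apply] at h1
    have h2 : ∀ χ : Cfsg.IrrCharacter G, ((n χ : ℂ) • (χ : G → ℂ)) 1 =
        ((n χ * Cfsg.charDegree (χ : G → ℂ) : ℕ) : ℂ) := by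
      intro χ
      rw [Pi.smul_apply, smul_eq_mul, apply_one_eq_charDegree]
      push_cast
      ring
    rw [Finset.sum_congr rfl (fun χ _ => h2 χ)] at h1
    exact_mod_cast h1
  -- every constituent is linear
  have hlin : ∀ χ : Cfsg.IrrCharacter G, n χ ≠ 0 → Cfsg.charDegree (χ : G → ℂ) = 1 := by
    intro χ hχ
    by_contra hne
    have hdm : Cfsg.charDegree (χ : G → ℂ) = m := (hcd χ).resolve_left hne
    have hχne : χ₀ ≠ χ := by
      intro h
      apply hne
      rw [← h]
      apply ThompsonDeg.charDegree_eq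
      simp [hχ₀]
    have h1 : ∑ x ∈ ({χ₀, χ} : Finset (Cfsg.IrrCharacter G)),
        n x * Cfsg.charDegree (x : G → ℂ) ≤
        ∑ x : Cfsg.IrrCharacter G, n x * Cfsg.charDegree (x : G → ℂ) :=
      Finset.sum_le_sum_of_subset (Finset.subset_univ _)
    rw [Finset.sum_pair hχne, ← hsum, hn0, hdm] at h1
    have hd0 : Cfsg.charDegree (χ₀ : G → ℂ) = 1 := by
      apply ThompsonDeg.charDegree_eq
      simp [hχ₀]
    rw [hd0] at h1
    have : 1 ≤ n χ := Nat.one_le_iff_ne_zero.mpr hχ
    nlinarith
  intro g hg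
  -- `Φ g = Φ 1`
  have hΦg : Φ g = (m : ℂ) := by
    rw [← hΦ1]
    have h1 := congrFun hexp g
    have h2 := congrFun hexp 1
    rw [h1, h2, Finset.sum_apply, Finset.sum_apply]
    apply Finset.sum_congr rfl
    intro χ _
    rw [Pi.smul_apply, Pi.smul_apply]
    by_cases h0 : n χ = 0
    · rw [h0]; simp
    · have hd := hlin χ h0
      have h3 : (χ : G → ℂ) 1 = 1 := by
        rw [apply_one_eq_charDegree, hd]; simp
      rw [linear_apply_commutator χ h3 g hg, h3]
  -- count
  rw [hΦ, indFun_apply] at hΦg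
  have hTne : (Nat.card T : ℂ) ≠ 0 := by
    exact_mod_cast (Nat.card_pos (α := T)).ne'
  have h4 : ∑ x : G, Cfsg.extendByZero T one (x⁻¹ * g * x) = (Nat.card G : ℂ) := by
    have : (Nat.card G : ℂ) = (Nat.card T : ℂ) * (m : ℂ) := by
      rw [← hT, ← T.card_mul_index]; push_cast; ring
    rw [this, ← hΦg, ← mul_assoc, mul_inv_cancel₀ hTne, one_mul]
  have h5 : ∀ x : G, Cfsg.extendByZero T one (x⁻¹ * g * x) =
      if x⁻¹ * g * x ∈ T then (1 : ℂ) else 0 := by
    intro x
    by_cases hx : x⁻¹ * g * x ∈ T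
    · rw [extendByZero_of_mem T _ hx, if_pos hx]
    · rw [extendByZero_of_not_mem T _ hx, if_neg hx]
  rw [Finset.sum_congr rfl (fun x _ => h5 x), Finset.sum_boole, Nat.card_eq_fintype_card] at h4
  have h6 : (Finset.univ.filter (fun x : G => x⁻¹ * g * x ∈ T)).card = Fintype.card G := by
    exact_mod_cast h4
  have h7 : Finset.univ.filter (fun x : G => x⁻¹ * g * x ∈ T) = Finset.univ := by
    apply Finset.eq_univ_of_card
    exact h6
  have h8 : (1 : G) ∈ Finset.univ.filter (fun x : G => x⁻¹ * g * x ∈ T) := by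
    rw [h7]; exact Finset.mem_univ _
  rw [Finset.mem_filter] at h8
  simpa using h8.2

/-- a normal subgroup of order prime to `m` is abelian -/
theorem comm_of_coprime (m : ℕ)
    (hcd : ∀ χ : Cfsg.IrrCharacter G, Cfsg.charDegree (χ : G → ℂ) = 1 ∨
      Cfsg.charDegree (χ : G → ℂ) = m)
    (N : Subgroup G) [N.Normal] (hN : (Nat.card N).Coprime m) :
    ∀ a ∈ N, ∀ b ∈ N, a * b = b * a := by
  haveI : Fintype N := Fintype.ofFinite N
  have h : ∀ a b : N, a * b = b * a := by
    rw [comm_iff_forall_irr_degree_one]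
    intro θ
    obtain ⟨χ, a, b, ha, hb, hab⟩ := DegreePower.exists_over N (θ : N → ℂ) θ.2
    obtain ⟨d, hd, hdN⟩ := Cfsg.Agent.Lib.Helper11.IsIrrCharacter.exists_degree_dvd_card θ.2
    have had : a = d := by
      have : (a : ℂ) = (d : ℂ) := by rw [← ha, ← hd]
      exact_mod_cast this
    have hbdeg : b = Cfsg.charDegree (χ : G → ℂ) := (ThompsonDeg.charDegree_eq hb).symm
    have ha1 : a = 1 := by
      rcases hcd χ with h1 | h1
      · rw [hbdeg, h1] at hab
        exact Nat.dvd_one.mp hab
      · rw [hbdeg, h1] at hab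
        rw [had] at hab
        have := Nat.Coprime.eq_one_of_dvd (Nat.Coprime.coprime_dvd_left hdN hN) hab
        rw [had]; exact this
    rw [ha, ha1]
    simp
  intro a ha b hb
  have := h ⟨a, ha⟩ ⟨b, hb⟩
  exact congrArg Subtype.val this

section Dual

variable (N : Subgroup G) [hN : N.Normal]

/-- the conjugate `lam^g : n ↦ lam (g n g⁻¹)` of a linear character of the normal subgroup `N` -/
def act (g : G) (lam : N →* ℂˣ) : N →* ℂˣ :=
  lam.comp (MulAut.conjNormal g : N ≃* N).toMonoidHom

omit [Finite G] in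
theorem act_apply (g : G) (lam : N →* ℂˣ) (n : N) :
    act N g lam n = lam ⟨g * n * g⁻¹, hN.conj_mem n n.2 g⟩ := by
  unfold act
  rw [MonoidHom.comp_apply]
  congr 1

omit [Finite G] in
theorem act_one (lam : N →* ℂˣ) : act N 1 lam = lam := by
  ext n
  rw [act_apply]
  congr 3
  simp

omit [Finite G] in
theorem act_mul (g h : G) (lam : N →* ℂˣ) : act N (g * h) lam = act N h (act N g lam) := by
  ext n
  rw [act_apply, act_apply, act_apply]
  congr 3
  simp only
  group

omit [Finite G] in
theorem act_mul_hom (g : G) (lam mu : N →* ℂˣ) :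
    act N g (lam * mu) = act N g lam * act N g mu := by
  ext n
  rw [MonoidHom.mul_apply, act_apply, act_apply, act_apply, MonoidHom.mul_apply]

omit [Finite G] in
theorem act_one_hom (g : G) : act N g (1 : N →* ℂˣ) = 1 := by
  ext n
  rw [act_apply]
  simp

omit [Finite G] in
theorem act_inv_hom (g : G) (lam : N →* ℂˣ) : act N g lam⁻¹ = (act N g lam)⁻¹ := by
  ext n
  rw [MonoidHom.inv_apply, act_apply, act_apply, MonoidHom.inv_apply]

omit [Finite G] in
theorem act_pow_hom (g : G) (lam : N →* ℂˣ) (k : ℕ) : act N g (lam ^ k) = (act N g lam) ^ k := by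
  ext n
  rw [MonoidHom.pow_apply, act_apply, act_apply, MonoidHom.pow_apply]

omit [Finite G] in
theorem act_prod_hom (g : G) {ι : Type*} (s : Finset ι) (f : ι → (N →* ℂˣ)) :
    act N g (∏ i ∈ s, f i) = ∏ i ∈ s, act N g (f i) := by
  classical
  induction s using Finset.induction_on with
  | empty => simp [act_one_hom]
  | insert a s ha ih => rw [Finset.prod_insert ha, Finset.prod_insert ha, act_mul_hom, ih]

/-- the stabilizer (inertia group) of a linear character of `N` -/
def stab (lam : N →* ℂˣ) : Subgroup G where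
  carrier := {g | act N g lam = lam}
  one_mem' := act_one N lam
  mul_mem' := by
    intro a b ha hb
    show act N (a * b) lam = lam
    rw [act_mul, show act N a lam = lam from ha, show act N b lam = lam from hb]
  inv_mem' := by
    intro a ha
    show act N a⁻¹ lam = lam
    have h1 : act N (a * a⁻¹) lam = lam := by rw [mul_inv_cancel, act_one]
    rw [act_mul, show act N a lam = lam from ha] at h1
    exact h1

omit [Finite G] in
theorem mem_stab (lam : N →* ℂˣ) (g : G) : g ∈ stab N lam ↔ act N g lam = lam := Iff.rfl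

omit [Finite G] in
theorem centralizer_le_stab (lam : N →* ℂˣ) :
    Subgroup.centralizer (N : Set G) ≤ stab N lam := by
  intro g hg
  rw [mem_stab]
  ext n
  rw [act_apply]
  congr 3
  have := hg n n.2
  rw [← this]
  group

omit [Finite G] in
theorem le_stab (hcomm : ∀ a ∈ N, ∀ b ∈ N, a * b = b * a) (lam : N →* ℂˣ) : N ≤ stab N lam := by
  intro g hg
  apply centralizer_le_stab N lam
  intro n hn
  exact hcomm n hn g hg

end Dual

section Over

variable (N : Subgroup G) [hN : N.Normal]

/-- Clifford correspondence for a linear character `lam` of `N`: an irreducible character `ψ` of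
the stabilizer `T` lying over `lam` induces irreducibly. -/
theorem exists_irr_of_over (lam : N →* ℂˣ) (T : Subgroup G)
    (hT : ∀ g : G, g ∈ T ↔ act N g lam = lam) (hNT : N ≤ T)
    (ψ : Cfsg.IrrCharacter T)
    (hψ : ∀ x : N.subgroupOf T, (ψ : T → ℂ) x =
      (ψ : T → ℂ) 1 * (lam ⟨(x : T), Subgroup.mem_subgroupOf.mp x.2⟩ : ℂ)) :
    ∃ χ : Cfsg.IrrCharacter G, (χ : G → ℂ) 1 = (T.index : ℂ) * (ψ : T → ℂ) 1 := by
  classical
  haveI : Fintype G := Fintype.ofFinite G
  haveI : Fintype T := Fintype.ofFinite _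
  haveI : Fintype (N.subgroupOf T) := Fintype.ofFinite _
  set θ : N → ℂ := fun n => (lam n : ℂ) with hθ
  have hθirr : Cfsg.IsIrrCharacter N θ := isIrrCharacter_of_monoidHom lam
  have hTiff : ∀ g : G, g ∈ T ↔ Cfsg.Agent.Lib.Helper11.conjFn N g θ = θ := by
    intro g
    rw [hT]
    constructor
    · intro h
      funext n
      rw [Cfsg.Agent.Lib.Helper11.conjFn_apply]
      simp only [hθ]
      rw [← act_apply, h]
    · intro h
      ext n
      have := congrFun h n
      rw [Cfsg.Agent.Lib.Helper11.conjFn_apply] at this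
      simp only [hθ] at this
      rw [act_apply]
      exact this
  set θ' : N.subgroupOf T → ℂ := fun x => θ ⟨(x : T), Subgroup.mem_subgroupOf.mp x.2⟩ with hθ'
  have hθ'irr : Cfsg.IsIrrCharacter (N.subgroupOf T) θ' := by
    have := Cfsg.Agent.Lib.Helper11.isIrrCharacter_comp_equiv
      (Subgroup.subgroupOfEquivOfLe hNT) hθirr
    convert this using 1
    funext x
    rfl
  have hc : Cfsg.classInner (Cfsg.indFun (N.subgroupOf T) θ') (ψ : T → ℂ) ≠ 0 := by
    rw [frobenius_reciprocity (N.subgroupOf T) θ' _ (IrrCharacter.isClassFunction ψ)]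
    have h1 : (fun h : N.subgroupOf T => (ψ : T → ℂ) h) = (ψ : T → ℂ) 1 • θ' := by
      funext x
      rw [hψ x]
      rfl
    rw [h1, classInner_smul_right]
    have h2 := classInner_irrCharacter_self (⟨θ', hθ'irr⟩ : Cfsg.IrrCharacter (N.subgroupOf T))
    simp only at h2
    rw [h2, mul_one]
    intro h0
    rw [map_eq_zero] at h0
    exact IsIrrCharacter.apply_one_ne_zero ψ.2 h0
  have hirr := (Cfsg.Agent.Lib.Helper11.clifford_correspondence N T θ hθirr hTiff hNT
    (ψ : T → ℂ) (ψ : T → ℂ) ψ.2 ψ.2 hc hc).1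
  refine ⟨⟨_, hirr⟩, ?_⟩
  show Cfsg.indFun T (ψ : T → ℂ) 1 = _
  rw [indFun_apply_one]

/-- every linear character of `N` extends to its stabilizer (coprime case) -/
theorem exists_extension_stab (hcop : (Nat.card N).Coprime N.index) (lam : N →* ℂˣ)
    (T : Subgroup G) (hT : ∀ g : G, g ∈ T → act N g lam = lam) (hNT : N ≤ T) :
    ∃ μ : T →* ℂˣ, ∀ x : N.subgroupOf T,
      μ x = lam ⟨(x : T), Subgroup.mem_subgroupOf.mp x.2⟩ := by
  set e : N.subgroupOf T ≃* N := Subgroup.subgroupOfEquivOfLe hNT with he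
  set φ : N.subgroupOf T →* ℂˣ := lam.comp e.toMonoidHom with hφ
  have hφapp : ∀ x : N.subgroupOf T, φ x = lam ⟨(x : T), Subgroup.mem_subgroupOf.mp x.2⟩ :=
    fun x => rfl
  haveI : (N.subgroupOf T).Normal := inferInstance
  have hinv : ∀ (g : T) (n : N.subgroupOf T),
      φ ⟨g * n * g⁻¹, (inferInstance : (N.subgroupOf T).Normal).conj_mem (n : T) n.2 g⟩ = φ n := by
    intro g n
    rw [hφapp, hφapp]
    have hg : act N (g : G) lam = lam := hT g g.2
    have := DFunLike.congr_fun hg ⟨((n : T) : G), Subgroup.mem_subgroupOf.mp n.2⟩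
    rw [act_apply] at this
    exact this
  have hcop' : Nat.Coprime (N.subgroupOf T).index (orderOf φ) := by
    have h1 : (N.subgroupOf T).index ∣ N.index := Subgroup.relIndex_dvd_index_of_normal N T
    have h2 : orderOf φ ∣ Nat.card N := by
      have := Cfsg.Agent.Lib.Helper7.orderOf_hom_dvd_card φ
      rwa [Nat.card_congr e.toEquiv] at this
    exact (Nat.Coprime.coprime_dvd_left h2 (Nat.Coprime.coprime_dvd_right h1 hcop)).symm
  obtain ⟨μ, hμ, -, -⟩ :=
    Cfsg.Agent.Lib.Helper7.exists_unique_extension_of_coprime (N.subgroupOf T) φ hinv hcop'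
  exact ⟨μ, fun x => by rw [hμ x, hφapp]⟩

end Over

section Main

variable (N : Subgroup G) [hN : N.Normal] (m : ℕ)

/-- linear characters of a finite abelian group separate points -/
theorem exists_hom_ne_one (hcomm : ∀ a ∈ N, ∀ b ∈ N, a * b = b * a) (x : N) (hx : x ≠ 1) :
    ∃ lam : N →* ℂˣ, lam x ≠ 1 := by
  let inst : CommGroup N := { (inferInstance : Group N) with
    mul_comm := fun a b => Subtype.ext (hcomm a a.2 b b.2) }
  have hne : NeZero ((Monoid.exponent N : ℕ) : ℂ) :=
    ⟨by exact_mod_cast Monoid.exponent_ne_zero_of_finite⟩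
  exact @CommGroup.exists_apply_ne_one_of_hasEnoughRootsOfUnity N ℂ inst _ _ inferInstance x hx

theorem pow_eq_one_coprime (κ : N →* ℂˣ) (k : ℕ) (hk : (Nat.card N).Coprime k)
    (h : κ ^ k = 1) : κ = 1 := by
  have h1 : orderOf κ ∣ k := orderOf_dvd_of_pow_eq_one h
  have h2 : orderOf κ ∣ Nat.card N := Cfsg.Agent.Lib.Helper7.orderOf_hom_dvd_card κ
  have h3 : orderOf κ = 1 := Nat.Coprime.eq_one_of_dvd (Nat.Coprime.coprime_dvd_left h2 hk) h1
  exact orderOf_eq_one_iff.mp h3

theorem eq_of_pow_eq_coprime (a b : N →* ℂˣ) (k : ℕ) (hk : (Nat.card N).Coprime k)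
    (h : a ^ k = b ^ k) : a = b := by
  have h1 : (a * b⁻¹) ^ k = 1 := by
    ext n
    have h2 := DFunLike.congr_fun h n
    simp only [MonoidHom.pow_apply] at h2
    simp only [MonoidHom.pow_apply, MonoidHom.mul_apply, MonoidHom.inv_apply, MonoidHom.one_apply,
      mul_pow, inv_pow, h2, mul_inv_cancel]
  have := pow_eq_one_coprime N _ k hk h1
  exact mul_inv_eq_one.mp this

variable {m}

/-- the stabilizer of a linear character of `N` has index `1` or `m` -/
theorem index_stab
    (hcd : ∀ χ : Cfsg.IrrCharacter G, Cfsg.charDegree (χ : G → ℂ) = 1 ∨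
      Cfsg.charDegree (χ : G → ℂ) = m)
    (hcomm : ∀ a ∈ N, ∀ b ∈ N, a * b = b * a) (hcop : (Nat.card N).Coprime N.index)
    (lam : N →* ℂˣ) : (stab N lam).index = 1 ∨ (stab N lam).index = m := by
  have hNT := le_stab N hcomm lam
  obtain ⟨μ, hμ⟩ := exists_extension_stab N hcop lam (stab N lam) (fun g hg => hg) hNT
  set ψ : Cfsg.IrrCharacter (stab N lam) := ⟨fun t => (μ t : ℂ), isIrrCharacter_of_monoidHom μ⟩
    with hψ
  have hψ1 : (ψ : stab N lam → ℂ) 1 = 1 := by simp [hψ]
  obtain ⟨χ, hχ⟩ := exists_irr_of_over N lam (stab N lam) (fun g => Iff.rfl) hNT ψ (by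
    intro x
    rw [hψ1, one_mul]
    show (μ x : ℂ) = _
    rw [hμ x])
  rw [hψ1, mul_one] at hχ
  have := ThompsonDeg.charDegree_eq hχ
  rcases hcd χ with h | h
  · left; rw [← this, h]
  · right; rw [← this, h]

/-- an irreducible character of a proper stabilizer lying over `lam` is linear -/
theorem linear_of_over
    (hcd : ∀ χ : Cfsg.IrrCharacter G, Cfsg.charDegree (χ : G → ℂ) = 1 ∨
      Cfsg.charDegree (χ : G → ℂ) = m) (hm : 2 ≤ m)
    (hcomm : ∀ a ∈ N, ∀ b ∈ N, a * b = b * a)
    (lam : N →* ℂˣ) (T : Subgroup G) (hT : ∀ g : G, g ∈ T ↔ act N g lam = lam)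
    (hidx : T.index = m) (ψ : Cfsg.IrrCharacter T)
    (hψ : ∀ x : N.subgroupOf T, (ψ : T → ℂ) x =
      (ψ : T → ℂ) 1 * (lam ⟨(x : T), Subgroup.mem_subgroupOf.mp x.2⟩ : ℂ)) :
    (ψ : T → ℂ) 1 = 1 := by
  have hNT : N ≤ T := by
    intro g hg
    rw [hT]
    exact le_stab N hcomm lam hg
  obtain ⟨χ, hχ⟩ := exists_irr_of_over N lam T hT hNT ψ hψ
  rw [hidx, apply_one_eq_charDegree ψ] at hχ
  have h1 : (χ : G → ℂ) 1 = ((m * Cfsg.charDegree (ψ : T → ℂ) : ℕ) : ℂ) := by
    rw [hχ]; push_cast; ring
  have h2 := ThompsonDeg.charDegree_eq h1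
  rw [apply_one_eq_charDegree ψ]
  have hd : Cfsg.charDegree (ψ : T → ℂ) = 1 := by
    rcases hcd χ with h | h
    · rw [h2] at h
      have : m = 1 := Nat.eq_one_of_mul_eq_one_right h
      omega
    · rw [h2] at h
      have hmpos : 0 < m := by omega
      exact Nat.eq_of_mul_eq_mul_left hmpos (by rw [h, mul_one])
  rw [hd]
  simp

/-- the commutator subgroup fixes every linear character of `N` -/
theorem commutator_le_stab
    (hcd : ∀ χ : Cfsg.IrrCharacter G, Cfsg.charDegree (χ : G → ℂ) = 1 ∨
      Cfsg.charDegree (χ : G → ℂ) = m)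
    (hcomm : ∀ a ∈ N, ∀ b ∈ N, a * b = b * a) (hcop : (Nat.card N).Coprime N.index)
    (lam : N →* ℂˣ) : commutator G ≤ stab N lam := by
  rcases index_stab N hcd hcomm hcop lam with h | h
  · rw [Subgroup.index_eq_one] at h
    rw [h]
    exact le_top
  · exact commutator_le_of_index m hcd _ h

omit [Finite G] in
/-- an element fixing all linear characters of the abelian normal subgroup `N` centralizes it -/
theorem mem_centralizer_of_forall_stab [Finite G] (hcomm : ∀ a ∈ N, ∀ b ∈ N, a * b = b * a)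
    (g : G) (h : ∀ lam : N →* ℂˣ, g ∈ stab N lam) : g ∈ Subgroup.centralizer (N : Set G) := by
  intro n hn
  by_contra hne
  set c : N := ⟨g * n * g⁻¹, hN.conj_mem n hn g⟩ * ⟨n, hn⟩⁻¹ with hc
  have hc1 : c ≠ 1 := by
    intro h1
    apply hne
    have := congrArg Subtype.val h1
    simp only [hc, Subgroup.coe_mul, Subgroup.coe_inv, Subgroup.coe_one] at this
    have h2 : g * n * g⁻¹ = n := mul_inv_eq_one.mp this
    calc n * g = (g * n * g⁻¹) * g := by rw [h2]
      _ = g * n := by group
  obtain ⟨lam, hlam⟩ := exists_hom_ne_one N hcomm c hc1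
  apply hlam
  have h3 := DFunLike.congr_fun (h lam) ⟨n, hn⟩
  rw [act_apply] at h3
  rw [hc, map_mul, map_inv, h3, mul_inv_cancel]

theorem commutator_le_centralizer
    (hcd : ∀ χ : Cfsg.IrrCharacter G, Cfsg.charDegree (χ : G → ℂ) = 1 ∨
      Cfsg.charDegree (χ : G → ℂ) = m)
    (hcomm : ∀ a ∈ N, ∀ b ∈ N, a * b = b * a) (hcop : (Nat.card N).Coprime N.index) :
    commutator G ≤ Subgroup.centralizer (N : Set G) := by
  intro g hg
  apply mem_centralizer_of_forall_stab N hcomm
  intro lam
  exact commutator_le_stab N hcd hcomm hcop lam hg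

/-- the actions of any two elements on the dual of `N` commute -/
theorem act_comm
    (hcd : ∀ χ : Cfsg.IrrCharacter G, Cfsg.charDegree (χ : G → ℂ) = 1 ∨
      Cfsg.charDegree (χ : G → ℂ) = m)
    (hcomm : ∀ a ∈ N, ∀ b ∈ N, a * b = b * a) (hcop : (Nat.card N).Coprime N.index)
    (g h : G) (lam : N →* ℂˣ) : act N g (act N h lam) = act N h (act N g lam) := by
  have hc : (h * g)⁻¹ * (g * h) ∈ commutator G := by
    have : (h * g)⁻¹ * (g * h) = ⁅g⁻¹, h⁻¹⁆ := by
      rw [commutatorElement_def]; group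
    rw [this]
    exact Subgroup.commutator_mem_commutator (Subgroup.mem_top _) (Subgroup.mem_top _)
  have h1 : g * h = (h * g) * ((h * g)⁻¹ * (g * h)) := by group
  have h2 : act N (g * h) lam = act N (h * g) lam := by
    rw [h1, act_mul]
    exact commutator_le_stab N hcd hcomm hcop _ hc
  rw [← act_mul, ← act_mul, h2]

end Main

section Norm

variable (N : Subgroup G) [hN : N.Normal] {m : ℕ}

/-- **Key step**: a proper stabilizer is contained in `C_G(N)`. -/
theorem stab_le_centralizer
    (hcd : ∀ χ : Cfsg.IrrCharacter G, Cfsg.charDegree (χ : G → ℂ) = 1 ∨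
      Cfsg.charDegree (χ : G → ℂ) = m) (hm : 2 ≤ m)
    (hcomm : ∀ a ∈ N, ∀ b ∈ N, a * b = b * a) (hcop : (Nat.card N).Coprime N.index)
    (lam₀ : N →* ℂˣ) (h0 : stab N lam₀ ≠ ⊤) :
    stab N lam₀ ≤ Subgroup.centralizer (N : Set G) := by
  classical
  intro x hx
  by_contra hxA
  -- some `mu` is moved by `x`
  have hex : ∃ mu : N →* ℂˣ, act N x mu ≠ mu := by
    by_contra hall
    push Not at hall
    exact hxA (mem_centralizer_of_forall_stab N hcomm x hall)
  obtain ⟨mu, hmu⟩ := hex
  set k := N.index with hk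
  have hxk : x ^ k ∈ N := N.pow_index_mem x
  have hactk : ∀ κ : N →* ℂˣ, act N (x ^ k) κ = κ := fun κ => le_stab N hcomm κ hxk
  -- the norm map
  set ν : (N →* ℂˣ) → (N →* ℂˣ) := fun κ => ∏ i ∈ Finset.range k, act N (x ^ i) κ with hν
  have hνmul : ∀ a b, ν (a * b) = ν a * ν b := by
    intro a b
    simp only [hν, act_mul_hom, Finset.prod_mul_distrib]
  have hνinv : ∀ a, ν a⁻¹ = (ν a)⁻¹ := by
    intro a
    have h1 : ν a⁻¹ * ν a = 1 := by
      rw [← hνmul]
      have : a⁻¹ * a = 1 := inv_mul_cancel a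
      rw [this]
      simp only [hν, act_one_hom, Finset.prod_const_one]
    exact @eq_inv_of_mul_eq_one_left (N →* ℂˣ) _ _ _ h1
  have hνpow : ∀ (a : N →* ℂˣ) (j : ℕ), ν (a ^ j) = (ν a) ^ j := by
    intro a j
    simp only [hν, act_pow_hom, Finset.prod_pow]
  have hνfix : ∀ a, act N x (ν a) = ν a := by
    intro a
    simp only [hν]
    rw [act_prod_hom]
    have h1 : ∀ i ∈ Finset.range k, act N x (act N (x ^ i) a) = act N (x ^ (i + 1)) a := by
      intro i _
      rw [pow_succ, act_mul]
    rw [Finset.prod_congr rfl h1]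
    have h2 := Finset.prod_range_succ' (fun i => act N (x ^ i) a) k
    have h3 := Finset.prod_range_succ (fun i => act N (x ^ i) a) k
    simp only [pow_zero, act_one] at h2
    rw [hactk] at h3
    rw [h3] at h2
    exact (mul_right_cancel h2).symm
  have hνof_fix : ∀ a, act N x a = a → ν a = a ^ k := by
    intro a ha
    have h1 : ∀ i : ℕ, act N (x ^ i) a = a := by
      intro i
      induction i with
      | zero => rw [pow_zero, act_one]
      | succ i ih => rw [pow_succ, act_mul, ih, ha]
    simp only [hν]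
    rw [Finset.prod_congr rfl (fun i _ => h1 i), Finset.prod_const, Finset.card_range]
  have hνequiv : ∀ (g : G) a, act N g (ν a) = ν (act N g a) := by
    intro g a
    simp only [hν]
    rw [act_prod_hom]
    apply Finset.prod_congr rfl
    intro i _
    exact act_comm N hcd hcomm hcop g (x ^ i) a
  -- the element `mu'`
  set mu' : N →* ℂˣ := mu ^ k * (ν mu)⁻¹ with hmu'
  have hνmu' : ν mu' = 1 := by
    rw [hmu', hνmul, hνinv, hνpow, hνof_fix (ν mu) (hνfix mu)]
    exact @mul_inv_cancel (N →* ℂˣ) _ _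
  have hmu'x : act N x mu' ≠ mu' := by
    intro h
    apply hmu
    rw [hmu', act_mul_hom, act_inv_hom, hνfix, act_pow_hom] at h
    have h1 : (act N x mu) ^ k = mu ^ k := mul_right_cancel h
    exact eq_of_pow_eq_coprime N _ _ k hcop h1
  -- the stabilizer of `rho = lam₀ * mu'`
  set rho : N →* ℂˣ := lam₀ * mu' with hrho
  have hx0 : act N x lam₀ = lam₀ := hx
  have hνrho : ν rho = lam₀ ^ k := by
    rw [hrho, hνmul, hνmu', hνof_fix lam₀ hx0]
    exact @mul_one (N →* ℂˣ) _ _
  have hle : stab N rho ≤ stab N lam₀ := by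
    intro g hg
    rw [mem_stab] at hg ⊢
    have h1 : act N g (ν rho) = ν rho := by rw [hνequiv, hg]
    rw [hνrho, act_pow_hom] at h1
    exact eq_of_pow_eq_coprime N _ _ k hcop h1
  have hxrho : x ∉ stab N rho := by
    intro h
    rw [mem_stab, hrho, act_mul_hom, hx0] at h
    exact hmu'x (mul_left_cancel h)
  have hne_top : stab N rho ≠ ⊤ := by
    intro h
    apply hxrho
    rw [h]
    exact Subgroup.mem_top x
  have hidx0 : (stab N lam₀).index = m := by
    rcases index_stab N hcd hcomm hcop lam₀ with h | h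
    · exact absurd (Subgroup.index_eq_one.mp h) h0
    · exact h
  have hidx1 : (stab N rho).index = m := by
    rcases index_stab N hcd hcomm hcop rho with h | h
    · exact absurd (Subgroup.index_eq_one.mp h) hne_top
    · exact h
  have heq : stab N rho = stab N lam₀ := by
    apply Subgroup.eq_of_le_of_card_ge hle
    have h1 := (stab N rho).card_mul_index
    have h2 := (stab N lam₀).card_mul_index
    rw [hidx1] at h1
    rw [hidx0] at h2
    have hmpos : 0 < m := by omega
    have : Nat.card (stab N rho) * m = Nat.card (stab N lam₀) * m := by rw [h1, h2]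
    exact le_of_eq (Nat.eq_of_mul_eq_mul_right hmpos this).symm
  apply hxrho
  rw [heq]
  exact hx

end Norm

section Conclusion

variable (N : Subgroup G) [hN : N.Normal] {m : ℕ}

/-- **Main structural step**: if the abelian normal Hall subgroup `N` is not central, then
`C_G(N)` is an abelian normal subgroup of index `m`. -/
theorem exists_abelian_normal
    (hcd : ∀ χ : Cfsg.IrrCharacter G, Cfsg.charDegree (χ : G → ℂ) = 1 ∨
      Cfsg.charDegree (χ : G → ℂ) = m) (hm : 2 ≤ m)
    (hcomm : ∀ a ∈ N, ∀ b ∈ N, a * b = b * a) (hcop : (Nat.card N).Coprime N.index)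
    (hnc : Subgroup.centralizer (N : Set G) ≠ ⊤) :
    ∃ A : Subgroup G, A.Normal ∧ (∀ a ∈ A, ∀ b ∈ A, a * b = b * a) ∧ A.index = m := by
  classical
  set A : Subgroup G := Subgroup.centralizer (N : Set G) with hA
  have hAn : A.Normal := Subgroup.normal_centralizer
  have hNA : N ≤ A := by
    intro g hg n hn
    exact hcomm n hn g hg
  -- a character with proper stabilizer
  have hex : ∃ lam₀ : N →* ℂˣ, stab N lam₀ ≠ ⊤ := by
    by_contra hall
    push Not at hall
    apply hnc
    rw [eq_top_iff]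
    intro g _
    apply mem_centralizer_of_forall_stab N hcomm
    intro lam
    rw [hall lam]
    exact Subgroup.mem_top g
  obtain ⟨lam₀, hlam₀⟩ := hex
  have hstab : stab N lam₀ = A :=
    le_antisymm (stab_le_centralizer N hcd hm hcomm hcop lam₀ hlam₀) (centralizer_le_stab N lam₀)
  have hidx : A.index = m := by
    rw [← hstab]
    rcases index_stab N hcd hcomm hcop lam₀ with h | h
    · exact absurd (Subgroup.index_eq_one.mp h) hlam₀
    · exact h
  have hAiff : ∀ g : G, g ∈ A ↔ act N g lam₀ = lam₀ := by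
    intro g
    rw [← hstab, mem_stab]
  refine ⟨A, hAn, ?_, hidx⟩
  -- `A` is abelian: all its irreducible characters are linear
  haveI : Fintype A := Fintype.ofFinite A
  haveI : Fintype (N.subgroupOf A) := Fintype.ofFinite _
  have hlinear : ∀ a b : A, a * b = b * a := by
    rw [comm_iff_forall_irr_degree_one]
    intro β
    -- the restriction to `N' = N.subgroupOf A`
    set r : N.subgroupOf A → ℂ := fun x => (β : A → ℂ) x with hr
    have hrchar : Cfsg.IsCharacter (N.subgroupOf A) r :=
      IsCharacter.restrict (IsIrrCharacter.isCharacter β.2) _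
    have hr0 : r ≠ 0 := by
      intro h
      have := congrFun h 1
      simp only [hr, Pi.zero_apply] at this
      exact IsIrrCharacter.apply_one_ne_zero β.2 this
    obtain ⟨μ', Ψ, hΨ, hrμ⟩ := exists_irr_add_of_ne_zero hrchar hr0
    have hne : Cfsg.classInner r (μ' : N.subgroupOf A → ℂ) ≠ 0 := by
      obtain ⟨n, hn⟩ := classInner_isCharacter_nat hΨ (IsIrrCharacter.isCharacter μ'.2)
      rw [hrμ, classInner_add_left, classInner_irrCharacter_self, hn]
      have : ((1 + n : ℕ) : ℂ) ≠ 0 := by
        have : 1 + n ≠ 0 := by omega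
        exact_mod_cast this
      push_cast at this
      exact this
    have hcl := clifford_restriction (N.subgroupOf A) β.2 μ'.2 hne
    have hset : {ψ : N.subgroupOf A → ℂ | ∃ g : A, ψ = conjFun (N.subgroupOf A) g
        (μ' : N.subgroupOf A → ℂ)} = {(μ' : N.subgroupOf A → ℂ)} := by
      ext ψ
      simp only [Set.mem_ofPred_eq, Set.mem_singleton_iff]
      have hconj : ∀ g : A, conjFun (N.subgroupOf A) g (μ' : N.subgroupOf A → ℂ) =
          (μ' : N.subgroupOf A → ℂ) := by
        intro g
        funext x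
        rw [conjFun_apply]
        have hx : ((x : A) : G) ∈ N := Subgroup.mem_subgroupOf.mp x.2
        have h1 := g.2 _ hx
        have h2 : (⟨g * (x : A) * g⁻¹, (inferInstance : (N.subgroupOf A).Normal).conj_mem (x : A)
            x.2 g⟩ : N.subgroupOf A) = x := by
          apply Subtype.ext
          apply Subtype.ext
          push_cast
          rw [← h1]
          group
        rw [h2]
      constructor
      · rintro ⟨g, rfl⟩
        exact hconj g
      · rintro rfl
        exact ⟨1, (hconj 1).symm⟩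
    rw [hset, finsum_mem_singleton] at hcl
    -- `μ'` is linear
    have hN'comm : ∀ a b : N.subgroupOf A, a * b = b * a := by
      intro a b
      apply Subtype.ext
      apply Subtype.ext
      exact hcomm _ (Subgroup.mem_subgroupOf.mp a.2) _ (Subgroup.mem_subgroupOf.mp b.2)
    have hμ'1 : (μ' : N.subgroupOf A → ℂ) 1 = 1 :=
      IsIrrCharacter.apply_one_of_comm hN'comm μ'.2
    obtain ⟨μ₁, hμ₁⟩ := exists_monoidHom_of_isIrrCharacter_of_apply_one μ'.2 hμ'1
    have hc : Cfsg.classInner r (μ' : N.subgroupOf A → ℂ) = (β : A → ℂ) 1 := by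
      have := congrFun hcl 1
      simp only [Pi.smul_apply, smul_eq_mul, hμ'1, mul_one] at this
      rw [← this]
      rfl
    have hβN : ∀ x : N.subgroupOf A, (β : A → ℂ) x = (β : A → ℂ) 1 * (μ₁ x : ℂ) := by
      intro x
      have := congrFun hcl x
      simp only [Pi.smul_apply, smul_eq_mul] at this
      rw [this, ← hc, hμ₁]
    -- transport `μ₁` to `N` and extend to `A`
    set e : N.subgroupOf A ≃* N := Subgroup.subgroupOfEquivOfLe hNA with he
    set μ : N →* ℂˣ := μ₁.comp e.symm.toMonoidHom with hμ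
    have hμapp : ∀ x : N.subgroupOf A, μ ⟨(x : A), Subgroup.mem_subgroupOf.mp x.2⟩ = μ₁ x := by
      intro x
      rw [hμ, MonoidHom.comp_apply]
      congr 1
    obtain ⟨μhat, hμhat⟩ := exists_extension_stab N hcop μ A
      (fun g hg => centralizer_le_stab N μ hg) hNA
    obtain ⟨lhat, hlhat⟩ := exists_extension_stab N hcop lam₀ A
      (fun g hg => (hAiff g).mp hg) hNA
    set tw : A →* ℂˣ := lhat * μhat⁻¹ with htw
    have htwchar : Cfsg.IsCharacter A (fun a => (tw a : ℂ)) :=
      IsIrrCharacter.isCharacter (isIrrCharacter_of_monoidHom tw)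
    have hβ'irr : Cfsg.IsIrrCharacter A ((fun a => (tw a : ℂ)) * (β : A → ℂ)) :=
      Cfsg.Agent.Lib.Helper25.isIrrCharacter_linear_mul htwchar (by simp) β.2
    set β' : Cfsg.IrrCharacter A := ⟨_, hβ'irr⟩ with hβ'
    have hβ'1 : (β' : A → ℂ) 1 = (β : A → ℂ) 1 := by
      simp [hβ']
    have hβ'N : ∀ x : N.subgroupOf A, (β' : A → ℂ) x = (β' : A → ℂ) 1 *
        (lam₀ ⟨(x : A), Subgroup.mem_subgroupOf.mp x.2⟩ : ℂ) := by
      intro x
      rw [hβ'1]
      show (tw x : ℂ) * (β : A → ℂ) x = _
      rw [hβN x, htw, MonoidHom.mul_apply, MonoidHom.inv_apply, hlhat x, hμhat x, hμapp x]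
      push_cast
      have hne0 : ((μ₁ x : ℂˣ) : ℂ) ≠ 0 := Units.ne_zero _
      field_simp
    have h1 := linear_of_over N hcd hm hcomm lam₀ A hAiff hidx β' hβ'N
    rw [hβ'1] at h1
    exact h1
  intro a ha b hb
  exact congrArg Subtype.val (hlinear ⟨a, ha⟩ ⟨b, hb⟩)

end Conclusion

section Assemble

omit [Finite G] in
/-- the index of a finite intersection of normal subgroups divides the product of the indices -/
theorem index_iInf_dvd {ι : Type*} (s : Finset ι) (f : ι → Subgroup G)
    (hf : ∀ i ∈ s, (f i).Normal) : (⨅ i ∈ s, f i).index ∣ ∏ i ∈ s, (f i).index := by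
  classical
  induction s using Finset.induction_on with
  | empty => simp
  | insert a s ha ih =>
    rw [Finset.iInf_insert, Finset.prod_insert ha]
    have hfa : (f a).Normal := hf a (Finset.mem_insert_self a s)
    have ih' := ih (fun i hi => hf i (Finset.mem_insert_of_mem hi))
    set K := ⨅ i ∈ s, f i with hK
    have h1 : (f a ⊓ K).index = (f a).relIndex K * K.index := by
      rw [← Subgroup.inf_relIndex_right, Subgroup.relIndex_mul_index inf_le_right]
    rw [h1]
    exact Nat.mul_dvd_mul (Subgroup.relIndex_dvd_index_of_normal (f a) K) ih'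

/-- quotients of `G` by normal subgroups of `p`-power index are abelian when `m` is not a power
of `p` -/
theorem commutator_le_of_index_prime_pow {m : ℕ}
    (hcd : ∀ χ : Cfsg.IrrCharacter G, Cfsg.charDegree (χ : G → ℂ) = 1 ∨
      Cfsg.charDegree (χ : G → ℂ) = m)
    (p : ℕ) (hp : p.Prime) (hnp : ∀ e : ℕ, m ≠ p ^ e)
    (M : Subgroup G) [M.Normal] (k : ℕ) (hM : M.index = p ^ k) : commutator G ≤ M := by
  haveI : Fintype (G ⧸ M) := Fintype.ofFinite _
  have hcomm : ∀ a b : G ⧸ M, a * b = b * a := by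
    rw [comm_iff_forall_irr_degree_one]
    intro ψ
    obtain ⟨d, hd, hdiv⟩ := Cfsg.Agent.Lib.Helper11.IsIrrCharacter.exists_degree_dvd_card ψ.2
    have h1 : (Cfsg.Agent.Lib.Helper25.inflIrr M ψ : G → ℂ) 1 = (d : ℂ) := by
      rw [Cfsg.Agent.Lib.Helper25.inflIrr_apply, QuotientGroup.mk_one, hd]
    have h2 := ThompsonDeg.charDegree_eq h1
    rw [← Subgroup.index_eq_card, hM] at hdiv
    rcases hcd (Cfsg.Agent.Lib.Helper25.inflIrr M ψ) with h | h
    · rw [hd, ← h2, h]; simp
    · exfalso
      rw [h2] at h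
      rw [h] at hdiv
      obtain ⟨j, -, hj⟩ := (Nat.dvd_prime_pow hp).mp hdiv
      exact hnp j hj
  letI : CommGroup (G ⧸ M) := { (inferInstance : Group (G ⧸ M)) with mul_comm := hcomm }
  have h7 := Abelianization.commutator_subset_ker (QuotientGroup.mk' M)
  rw [QuotientGroup.ker_mk'] at h7
  exact h7

/-- **Isaacs 12.5**: `cd(G) = {1, m}` implies an abelian normal subgroup of index `m`, or
`m` is a prime power and `G` is the direct product of a `p`-group and an abelian group. -/
theorem main (m : ℕ)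
    (hcd : ∀ χ : Cfsg.IrrCharacter G, Cfsg.charDegree (χ : G → ℂ) = 1 ∨
      Cfsg.charDegree (χ : G → ℂ) = m)
    (hm : ∃ χ : Cfsg.IrrCharacter G, Cfsg.charDegree (χ : G → ℂ) = m) (hm1 : m ≠ 1) :
    (∃ A : Subgroup G, A.Normal ∧ (∀ a ∈ A, ∀ b ∈ A, a * b = b * a) ∧ A.index = m) ∨
    ∃ p e : ℕ, p.Prime ∧ m = p ^ e ∧ ∃ P A : Subgroup G, P.Normal ∧ A.Normal ∧ IsPGroup p P ∧
      (∀ a ∈ A, ∀ b ∈ A, a * b = b * a) ∧ P ⊓ A = ⊥ ∧ P ⊔ A = ⊤ := by
  classical
  have hm2 : 2 ≤ m := by
    obtain ⟨χ, hχ⟩ := hm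
    obtain ⟨d, hd0, hd⟩ := IsIrrCharacter.apply_one χ.2
    have := ThompsonDeg.charDegree_eq hd
    omega
  -- Thompson's theorem for each prime divisor of `m`
  have hthom : ∀ p ∈ m.primeFactors, (Cfsg.pResidual p G).Normal ∧
      (Nat.card (Cfsg.pResidual p G)).Coprime p ∧ ∃ k : ℕ, (Cfsg.pResidual p G).index = p ^ k := by
    intro p hp
    haveI : Fact p.Prime := ⟨Nat.prime_of_mem_primeFactors hp⟩
    apply ThompsonDeg.exists_normal_pcomplement p
    intro χ hχ
    rw [(hcd χ).resolve_left hχ]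
    exact Nat.dvd_of_mem_primeFactors hp
  set N : Subgroup G := ⨅ p ∈ m.primeFactors, Cfsg.pResidual p G with hN
  haveI hNn : N.Normal := by
    rw [hN]
    apply Subgroup.normal_iInf_normal
    intro p
    by_cases hp : p ∈ m.primeFactors
    · simp only [hp, iInf_pos]
      exact (hthom p hp).1
    · simp only [hp, iInf_neg, not_false_eq_true]
      exact Subgroup.normal_top
  have hNle : ∀ p ∈ m.primeFactors, N ≤ Cfsg.pResidual p G := by
    intro p hp
    rw [hN]
    exact iInf₂_le p hp
  have hNm : (Nat.card N).Coprime m := by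
    apply Nat.Coprime.symm
    apply Nat.coprime_of_dvd
    intro p hp hpm hpN
    have hmem : p ∈ m.primeFactors := Nat.mem_primeFactors.mpr ⟨hp, hpm, by omega⟩
    have h1 : Nat.card N ∣ Nat.card (Cfsg.pResidual p G) := Subgroup.card_dvd_of_le (hNle p hmem)
    have h2 := (hthom p hmem).2.1
    have h3 : p ∣ Nat.card (Cfsg.pResidual p G) := dvd_trans hpN h1
    have := Nat.Coprime.eq_one_of_dvd h2.symm h3
    exact hp.one_lt.ne' this
  have hidxdvd : N.index ∣ ∏ p ∈ m.primeFactors, (Cfsg.pResidual p G).index :=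
    index_iInf_dvd m.primeFactors _ (fun p hp => (hthom p hp).1)
  have hNcop : (Nat.card N).Coprime N.index := by
    apply Nat.Coprime.symm
    apply Nat.coprime_of_dvd
    intro r hr hrI hrN
    have h1 : r ∣ ∏ p ∈ m.primeFactors, (Cfsg.pResidual p G).index := dvd_trans hrI hidxdvd
    rw [Prime.dvd_finsetProd_iff hr.prime] at h1
    obtain ⟨p, hp, hrp⟩ := h1
    obtain ⟨k, hk⟩ := (hthom p hp).2.2
    rw [hk] at hrp
    have hrp' : r = p := (Nat.prime_dvd_prime_iff_eq hr (Nat.prime_of_mem_primeFactors hp)).mp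
      (hr.dvd_of_dvd_pow hrp)
    have hpm : p ∣ m := Nat.dvd_of_mem_primeFactors hp
    have h2 : r ∣ m := hrp' ▸ hpm
    have h3 := Nat.Coprime.eq_one_of_dvd (Nat.Coprime.coprime_dvd_right h2 hNm).symm hrN
    exact hr.one_lt.ne' h3
  have hNcomm := comm_of_coprime m hcd N hNm
  by_cases hnc : Subgroup.centralizer (N : Set G) = ⊤
  swap
  · left
    exact exists_abelian_normal N hcd hm2 hNcomm hNcop hnc
  -- `N` is central
  have hNcentral : ∀ n ∈ N, ∀ g : G, g * n = n * g := by
    intro n hn g
    have : g ∈ Subgroup.centralizer (N : Set G) := by rw [hnc]; exact Subgroup.mem_top g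
    exact (this n hn).symm
  by_cases hpp : ∃ p e : ℕ, p.Prime ∧ m = p ^ e
  · right
    obtain ⟨p, e, hp, hme⟩ := hpp
    have he0 : e ≠ 0 := by
      rintro rfl
      rw [pow_zero] at hme
      exact hm1 hme
    haveI : Fact p.Prime := ⟨hp⟩
    have hpf : m.primeFactors = {p} := by
      rw [hme, Nat.primeFactors_prime_pow he0 hp]
    have hNeq : N = Cfsg.pResidual p G := by
      rw [hN, hpf, Finset.iInf_singleton]
    have hpmem : p ∈ m.primeFactors := by rw [hpf]; exact Finset.mem_singleton_self p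
    obtain ⟨-, hNp, k, hk⟩ := hthom p hpmem
    rw [← hNeq] at hNp hk
    obtain ⟨P⟩ : Nonempty (Sylow p G) := inferInstance
    have hinf : (P : Subgroup G) ⊓ N = ⊥ := by
      rw [← disjoint_iff]
      apply Subgroup.disjoint_of_coprime_natCard
      obtain ⟨a, ha⟩ := IsPGroup.iff_card.mp P.2
      rw [ha]
      exact Nat.Coprime.pow_left a hNp.symm
    have hsup : (P : Subgroup G) ⊔ N = ⊤ := by
      rw [← Subgroup.index_eq_one]
      have h1 : ((P : Subgroup G) ⊔ N).index ∣ N.index := Subgroup.index_dvd_of_le le_sup_right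
      have h2 : ((P : Subgroup G) ⊔ N).index ∣ (P : Subgroup G).index :=
        Subgroup.index_dvd_of_le le_sup_left
      rw [hk] at h1
      have h3 : Nat.Coprime (p ^ k) (P : Subgroup G).index := by
        apply Nat.Coprime.pow_left
        exact (Nat.Prime.coprime_iff_not_dvd hp).mpr P.not_dvd_index
      exact Nat.eq_one_of_dvd_coprimes h3 h1 h2
    have hPn : (P : Subgroup G).Normal := by
      rw [← Subgroup.normalizer_eq_top_iff, eq_top_iff, ← hsup]
      apply sup_le Subgroup.le_normalizer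
      intro n hn
      rw [Subgroup.mem_normalizer_iff]
      intro h
      have : n * h * n⁻¹ = h := by
        rw [← hNcentral n hn h]
        group
      rw [this]
    exact ⟨p, e, hp, hme, (P : Subgroup G), N, hPn, hNn, P.2, hNcomm, hinf, hsup⟩
  · -- `m` is not a prime power: contradiction
    exfalso
    push Not at hpp
    have hG'N : commutator G ≤ N := by
      rw [hN]
      apply le_iInf₂
      intro p hp
      obtain ⟨hn, -, k, hk⟩ := hthom p hp
      haveI := hn
      exact commutator_le_of_index_prime_pow hcd p (Nat.prime_of_mem_primeFactors hp)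
        (fun e => hpp p e (Nat.prime_of_mem_primeFactors hp)) _ k hk
    have hcommG : ∀ x y : G, x * y = y * x := by
      intro x y
      set c : G := ⁅x, y⁆ with hc
      have hcN : c ∈ N := hG'N (Subgroup.commutator_mem_commutator (Subgroup.mem_top x)
        (Subgroup.mem_top y))
      set k := N.index with hk
      have hxk : x ^ k ∈ N := N.pow_index_mem x
      -- conjugation by `y` sends `x` to `c⁻¹ * x`
      have h1 : y * x * y⁻¹ = c⁻¹ * x := by
        rw [hc, commutatorElement_def]; group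
      have h2 : y * x ^ k * y⁻¹ = (c⁻¹ * x) ^ k := by
        rw [← h1]
        exact (conj_pow (a := y) (b := x) (i := k)).symm
      have hcx : Commute c⁻¹ x := by
        have := hNcentral c hcN x
        have h' : Commute x c := this
        exact h'.symm.inv_left
      rw [hcx.mul_pow] at h2
      have h3 : y * x ^ k * y⁻¹ = x ^ k := by
        rw [hNcentral _ hxk y]; group
      rw [h3] at h2
      have h4 : (c⁻¹) ^ k = 1 := by
        have := mul_right_cancel (h2.symm.trans (one_mul _).symm)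
        exact this
      have h5 : c ^ k = 1 := by
        rw [inv_pow, inv_eq_one] at h4
        exact h4
      have h6 : orderOf c ∣ k := orderOf_dvd_of_pow_eq_one h5
      have h7 : orderOf c ∣ Nat.card N := by
        have := orderOf_dvd_natCard (⟨c, hcN⟩ : N)
        rwa [Subgroup.orderOf_mk] at this
      have h8 : orderOf c = 1 := Nat.Coprime.eq_one_of_dvd (Nat.Coprime.coprime_dvd_left h7 hNcop) h6
      have h9 : c = 1 := orderOf_eq_one_iff.mp h8
      rw [hc, commutatorElement_eq_one_iff_mul_comm] at h9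
      exact h9
    rw [comm_iff_forall_irr_degree_one] at hcommG
    obtain ⟨χ, hχ⟩ := hm
    have := hcommG χ
    rw [apply_one_eq_charDegree, hχ] at this
    apply hm1
    exact_mod_cast this

end Assemble

end TwoDeg

end Cfsg.Agent.Lib.Helper2
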