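import Mathlib
import Cfsg.Prelude.Def_Characters
import Cfsg.Agent.Lib.Helper2.PermChar
import Cfsg.Agent.Lib.Helper2.Linear
import Cfsg.Agent.Lib.Helper2.BurnsidePQ

/-!
# The permutation character of a 2-transitive action
(helper2 library)
-/

set_option autoImplicit false

namespace Cfsg.Agent.Lib.Helper2

open scoped ComplexConjugate

section

variable {G : Type*} [Group G] [Fintype G]

/-- Burnside's lemma, with complex coefficients. -/
theorem sum_card_fixedBy_complex (Y : Type*) [MulAction G Y] [Finite Y] :
    ∑ g : G, (Nat.card (MulAction.fixedBy Y g) : ℂ)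
      = (Nat.card (MulAction.orbitRel.Quotient G Y) : ℂ) * Nat.card G := by
  classical
  haveI : Fintype Y := Fintype.ofFinite Y
  haveI : ∀ g : G, Fintype (MulAction.fixedBy Y g) := fun g => Fintype.ofFinite _
  haveI : Fintype (Quotient (MulAction.orbitRel G Y)) := Fintype.ofFinite _
  have h := MulAction.sum_card_fixedBy_eq_card_orbits_mul_card_group G Y
  simp only [Nat.card_eq_fintype_card]
  have h2 : Fintype.card (MulAction.orbitRel.Quotient G Y)
      = Fintype.card (Quotient (MulAction.orbitRel G Y)) := by
    apply Fintype.card_congr; exact Equiv.refl _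
  rw [h2]
  exact_mod_cast h

omit [Fintype G] in
/-- The pairs of distinct points fixed by `g`. -/
theorem card_fixedBy_embedding (X : Type*) [MulAction G X] [Finite X] (g : G) :
    Nat.card (MulAction.fixedBy (Fin 2 ↪ X) g)
      = Nat.card (MulAction.fixedBy X g) * (Nat.card (MulAction.fixedBy X g) - 1) := by
  classical
  haveI : Fintype X := Fintype.ofFinite X
  haveI : Fintype (MulAction.fixedBy X g) := Fintype.ofFinite _
  let e : MulAction.fixedBy (Fin 2 ↪ X) g ≃ (Fin 2 ↪ MulAction.fixedBy X g) :=
    { toFun := fun f => ⟨fun i => ⟨f.1 i, by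
          have := f.2
          rw [MulAction.mem_fixedBy] at this ⊢
          exact DFunLike.congr_fun this i⟩, by
        intro i j hij
        apply f.1.injective
        exact congrArg Subtype.val hij⟩
      invFun := fun e => ⟨e.trans (Function.Embedding.subtype _), by
        rw [MulAction.mem_fixedBy]
        ext i
        exact (e i).2⟩
      left_inv := fun f => by ext i; rfl
      right_inv := fun e => by ext i; rfl }
  rw [Nat.card_congr e, Nat.card_eq_fintype_card, Fintype.card_embedding_eq,
    Nat.card_eq_fintype_card, Fintype.card_fin]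
  simp [Nat.descFactorial_succ, mul_comm]

/-- For a transitive action on at least two points: `π - 1` is irreducible iff the action is
2-transitive. -/
theorem isIrrCharacter_fixedPoints_sub_one_iff (X : Type*) [MulAction G X] [Finite X]
    [MulAction.IsPretransitive G X] (hX : 2 ≤ Nat.card X) :
    Cfsg.IsIrrCharacter G (fun g => (Nat.card (MulAction.fixedBy X g) : ℂ) - 1)
      ↔ MulAction.IsMultiplyPretransitive G X 2 := by
  classical
  haveI : Fintype X := Fintype.ofFinite X
  have hXne : Nonempty X := by
    have : 0 < Nat.card X := by omega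
    exact (Nat.card_pos_iff.mp this).1
  obtain ⟨x₀⟩ := hXne
  haveI : Nonempty X := ⟨x₀⟩
  set π : G → ℂ := fun g => (Nat.card (MulAction.fixedBy X g) : ℂ) with hπ
  have hπchar : Cfsg.IsCharacter G π := by
    rw [hπ, permChar_eq_indFun X x₀]
    exact indFun_isCharacter _ _ (IsIrrCharacter.isCharacter isIrrCharacter_one)
  have hGne : (Nat.card G : ℂ) ≠ 0 := card_ne_zero_complex
  -- one orbit on `X`
  have horb1 : Nat.card (MulAction.orbitRel.Quotient G X) = 1 := by
    obtain ⟨u⟩ := (MulAction.pretransitive_iff_unique_quotient_of_nonempty G X).mp inferInstance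
    exact Nat.card_unique
  have hsum1 : ∑ g : G, π g = (Nat.card G : ℂ) := by
    rw [hπ, sum_card_fixedBy_complex X, horb1, Nat.cast_one, one_mul]
  set o₂ := Nat.card (MulAction.orbitRel.Quotient G (Fin 2 ↪ X)) with ho₂
  have hsum2 : ∑ g : G, π g * (π g - 1) = (o₂ : ℂ) * Nat.card G := by
    rw [ho₂, ← sum_card_fixedBy_complex (Fin 2 ↪ X)]
    apply Finset.sum_congr rfl
    intro g _
    have hcast : ∀ n : ℕ, ((n * (n - 1) : ℕ) : ℂ) = (n : ℂ) * ((n : ℂ) - 1) := by
      intro n
      rcases Nat.eq_zero_or_pos n with h0 | hpos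
      · rw [h0]; simp
      · rw [Nat.cast_mul, Nat.cast_sub hpos, Nat.cast_one]
    rw [card_fixedBy_embedding X g, hcast]
  set ψ : G → ℂ := fun g => π g - 1 with hψ
  have hinner : Cfsg.classInner ψ ψ = (o₂ : ℂ) := by
    rw [classInner_def]
    have h1 : ∀ g : G, ψ g * conj (ψ g) = π g * (π g - 1) - π g + 1 := by
      intro g
      have : conj (ψ g) = ψ g := by
        rw [hψ, hπ]
        simp
      rw [this, hψ]
      ring
    simp only [h1]
    rw [Finset.sum_add_distrib, Finset.sum_sub_distrib, hsum1, hsum2]
    simp only [Finset.sum_const, Finset.card_univ, nsmul_eq_mul, mul_one]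
    rw [← Nat.card_eq_fintype_card]
    field_simp
    ring
  have hψchar : Cfsg.IsCharacter G ψ := by
    have hne : Cfsg.classInner π ((trivialIrr G : Cfsg.IrrCharacter G) : G → ℂ) ≠ 0 := by
      rw [classInner_def]
      have : ∀ g : G, π g * conj (((trivialIrr G : Cfsg.IrrCharacter G) : G → ℂ) g) = π g := by
        intro g
        change π g * conj (1 : ℂ) = π g
        rw [map_one, mul_one]
      simp only [this]
      rw [hsum1, inv_mul_cancel₀ hGne]
      exact one_ne_zero
    obtain ⟨Ψ, hΨ, hsum⟩ := exists_add_of_classInner_ne_zero hπchar (trivialIrr G) hne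
    have : ψ = Ψ := by
      ext g
      have := congrFun hsum g
      change π g = 1 + Ψ g at this
      rw [hψ]
      change π g - 1 = Ψ g
      rw [this]; ring
    rw [this]; exact hΨ
  have hemb : Nonempty (Fin 2 ↪ X) := by
    apply Function.Embedding.nonempty_of_card_le
    rw [Fintype.card_fin, ← Nat.card_eq_fintype_card]
    exact hX
  change Cfsg.IsIrrCharacter G ψ ↔ MulAction.IsPretransitive G (Fin 2 ↪ X)
  constructor
  · intro hirr
    have h1 := classInner_irrCharacter_self (⟨ψ, hirr⟩ : Cfsg.IrrCharacter G)
    change Cfsg.classInner ψ ψ = 1 at h1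
    rw [hinner] at h1
    have h2 : o₂ = 1 := by exact_mod_cast h1
    rw [MulAction.pretransitive_iff_subsingleton_quotient]
    haveI : Finite (MulAction.orbitRel.Quotient G (Fin 2 ↪ X)) := Quotient.finite _
    exact (Finite.card_le_one_iff_subsingleton.mp (le_of_eq h2))
  · intro htr
    apply isIrrCharacter_of_classInner_self_eq_one hψchar
    rw [hinner]
    obtain ⟨u⟩ := (MulAction.pretransitive_iff_unique_quotient_of_nonempty G (Fin 2 ↪ X)).mp htr
    have : o₂ = 1 := Nat.card_unique
    rw [this, Nat.cast_one]

end

end Cfsg.Agent.Lib.Helper2
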