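import Mathlib
import Cfsg.Agent.Lib.Helper2.Subdegree
import Cfsg.Agent.Lib.Helper2.TwoTransitive
import Cfsg.Agent.Lib.Helper2.Expansion
import Cfsg.Agent.Lib.Helper2.TwoDegrees

/-!
# Permutation characters whose non-principal constituents have equal degrees; rank at most 5
(helper2 library)
-/

set_option autoImplicit false
set_option linter.style.haveILetI false
set_option linter.unusedSectionVars false

namespace Cfsg.Agent.Lib.Helper2

namespace RankFive

open Cfsg
open scoped ComplexConjugate Classical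

variable {G : Type*} [Group G] [Fintype G] {Ω : Type*} [Fintype Ω] [MulAction G Ω]

/-- the permutation character -/
noncomputable abbrev pc (G : Type*) [Group G] (Ω : Type*) [MulAction G Ω] : G → ℂ :=
  fun g => (Nat.card (MulAction.fixedBy Ω g) : ℂ)

theorem pc_isCharacter [MulAction.IsPretransitive G Ω] (a : Ω) : IsCharacter G (pc G Ω) := by
  have h := permChar_eq_indFun (G := G) (X := Ω) a
  show IsCharacter G (fun g : G => (Nat.card (MulAction.fixedBy Ω g) : ℂ))
  rw [h]
  apply indFun_isCharacter
  obtain ⟨n, ρ, _, hρ⟩ := isIrrCharacter_one (G := MulAction.stabilizer G a)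
  exact ⟨n, ρ, hρ⟩

theorem pc_isClassFunction [MulAction.IsPretransitive G Ω] (a : Ω) :
    IsClassFunction G (pc G Ω) := by
  have h := permChar_eq_indFun (G := G) (X := Ω) a
  show IsClassFunction G (fun g : G => (Nat.card (MulAction.fixedBy Ω g) : ℂ))
  rw [h]
  exact indFun_isClassFunction _ _

/-- the multiplicity of an irreducible character in the permutation character -/
noncomputable def mult (Ω : Type*) [MulAction G Ω] (χ : IrrCharacter G) : ℕ :=
  ⌊(classInner (pc G Ω) (χ : G → ℂ)).re⌋₊

theorem mult_spec [MulAction.IsPretransitive G Ω] (a : Ω) (χ : IrrCharacter G) :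
    classInner (pc G Ω) (χ : G → ℂ) = (mult Ω χ : ℂ) := by
  obtain ⟨n, ρ, _, hρ⟩ := χ.2
  obtain ⟨k, hk⟩ := classInner_isCharacter_nat (pc_isCharacter (G := G) a) ⟨n, ρ, hρ⟩
  unfold mult
  rw [hk]
  simp

theorem pc_one : pc G Ω 1 = (Nat.card Ω : ℂ) := by
  show ((Nat.card (MulAction.fixedBy Ω (1 : G)) : ℕ) : ℂ) = _
  rw [MulAction.fixedBy_one_eq_univ, Nat.card_coe_set_eq, Set.ncard_univ]

theorem card_eq_sum [MulAction.IsPretransitive G Ω] (a : Ω) [Fintype (IrrCharacter G)] :
    Nat.card Ω = ∑ χ : IrrCharacter G, mult Ω χ * charDegree (χ : G → ℂ) := by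
  have hexp := classFunction_expansion (pc G Ω) (pc_isClassFunction a)
  have h3 : ∀ χ : IrrCharacter G, (classInner (pc G Ω) (χ : G → ℂ) • (χ : G → ℂ)) 1
      = ((mult Ω χ * charDegree (χ : G → ℂ) : ℕ) : ℂ) := by
    intro χ
    rw [Pi.smul_apply, smul_eq_mul, mult_spec a χ, TwoDeg.apply_one_eq_charDegree χ]
    push_cast
    rfl
  have h1 : (Nat.card Ω : ℂ)
      = ((∑ χ : IrrCharacter G, mult Ω χ * charDegree (χ : G → ℂ) : ℕ) : ℂ) := by
    calc (Nat.card Ω : ℂ) = pc G Ω 1 := pc_one.symm
      _ = (∑ χ : IrrCharacter G, classInner (pc G Ω) (χ : G → ℂ) • (χ : G → ℂ)) 1 :=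
          congrFun hexp 1
      _ = ∑ χ : IrrCharacter G, (classInner (pc G Ω) (χ : G → ℂ) • (χ : G → ℂ)) 1 :=
          Finset.sum_apply _ _ _
      _ = ∑ χ : IrrCharacter G, ((mult Ω χ * charDegree (χ : G → ℂ) : ℕ) : ℂ) :=
          Finset.sum_congr rfl (fun χ _ => h3 χ)
      _ = _ := by push_cast; rfl
  exact_mod_cast h1

theorem inner_self_eq_sum_sq [MulAction.IsPretransitive G Ω] (a : Ω) [Fintype (IrrCharacter G)] :
    classInner (pc G Ω) (pc G Ω) = ((∑ χ : IrrCharacter G, mult Ω χ ^ 2 : ℕ) : ℂ) := by
  have hexp := classFunction_expansion (pc G Ω) (pc_isClassFunction a)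
  have h1 : classInner (pc G Ω) (pc G Ω) = classInner (pc G Ω)
      (∑ χ : IrrCharacter G, classInner (pc G Ω) (χ : G → ℂ) • (χ : G → ℂ)) :=
    congrArg (classInner (pc G Ω)) hexp
  rw [h1, classInner_sum_right]
  push_cast
  apply Finset.sum_congr rfl
  intro χ _
  rw [classInner_smul_right, mult_spec a χ, Complex.conj_natCast]
  ring

theorem inner_self_eq_rank [MulAction.IsPretransitive G Ω] (a : Ω) :
    classInner (pc G Ω) (pc G Ω)
      = (Nat.card (MulAction.orbitRel.Quotient (MulAction.stabilizer G a) Ω) : ℂ) := by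
  have h := permChar_eq_indFun (G := G) (X := Ω) a
  have h1 : classInner (pc G Ω) (pc G Ω)
      = classInner (indFun (MulAction.stabilizer G a) (fun _ => 1)) (pc G Ω) :=
    congrArg (fun φ => classInner φ (pc G Ω)) h
  rw [h1, frobenius_reciprocity _ _ _ (pc_isClassFunction a), classInner_def]
  have h2 : ∀ h : MulAction.stabilizer G a,
      (fun _ : MulAction.stabilizer G a => (1 : ℂ)) h
        * conj ((fun h : MulAction.stabilizer G a => pc G Ω (h : G)) h)
        = (Nat.card (MulAction.fixedBy Ω h) : ℂ) := by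
    intro h
    show (1 : ℂ) * conj ((Nat.card (MulAction.fixedBy Ω (h : G)) : ℕ) : ℂ) = _
    rw [one_mul, Complex.conj_natCast]
    rfl
  rw [Finset.sum_congr rfl (fun h _ => h2 h), sum_card_fixedBy_complex]
  have hne : (Nat.card (MulAction.stabilizer G a) : ℂ) ≠ 0 := Subdeg.card_stab_ne_zero a
  field_simp

theorem mult_trivial [MulAction.IsPretransitive G Ω] (a : Ω) : mult Ω (trivialIrr G) = 1 := by
  have h := permChar_eq_indFun (G := G) (X := Ω) a
  have h1 : classInner (pc G Ω) ((trivialIrr G : IrrCharacter G) : G → ℂ) = 1 := by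
    have h2 : classInner (pc G Ω) ((trivialIrr G : IrrCharacter G) : G → ℂ)
        = classInner (indFun (MulAction.stabilizer G a) (fun _ => 1))
          ((trivialIrr G : IrrCharacter G) : G → ℂ) :=
      congrArg (fun φ => classInner φ ((trivialIrr G : IrrCharacter G) : G → ℂ)) h
    rw [h2, frobenius_reciprocity _ _ _ (IrrCharacter.isClassFunction _)]
    exact classInner_irrCharacter_self (trivialIrr (MulAction.stabilizer G a))
  rw [mult_spec a] at h1
  exact_mod_cast h1

omit [Fintype Ω] in
theorem card_eq_sum_orbits (H : Type*) [Group H] [MulAction H Ω] [Finite Ω]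
    [Fintype (MulAction.orbitRel.Quotient H Ω)] :
    Nat.card Ω = ∑ q : MulAction.orbitRel.Quotient H Ω, Nat.card q.orbit := by
  rw [Nat.card_congr (MulAction.selfEquivSigmaOrbits' H Ω), Nat.card_sigma]

omit [Fintype G] [Fintype Ω] in
theorem orbit_stab_self (a : Ω) : MulAction.orbit (MulAction.stabilizer G a) a = {a} := by
  ext x
  constructor
  · rintro ⟨h, rfl⟩
    exact h.2
  · rintro rfl
    exact MulAction.mem_orbit_self _

omit [Fintype G] [Fintype Ω] in
theorem mk_ne_of_ne (a b : Ω) (hb : b ≠ a) :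
    (Quotient.mk'' b : MulAction.orbitRel.Quotient (MulAction.stabilizer G a) Ω)
      ≠ Quotient.mk'' a := by
  intro h
  have h1 : b ∈ MulAction.orbit (MulAction.stabilizer G a) a := by
    have := Quotient.eq''.mp h
    exact this
  rw [orbit_stab_self] at h1
  exact hb h1

theorem sq_eq_self_le_one {n : ℕ} (h : n = n ^ 2) : n ≤ 1 := by
  by_contra hc
  push Not at hc
  nlinarith

/-- If all non-principal constituents of the permutation character have degree `f`, then the
permutation character is multiplicity free and all non-trivial subdegrees are `f`. -/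
theorem part_one [MulAction.IsPretransitive G Ω] (a : Ω) (f : ℕ)
    (hf : ∀ χ : G → ℂ, IsIrrCharacter G χ → χ ≠ (fun _ => 1) →
      classInner (pc G Ω) χ ≠ 0 → χ 1 = f) :
    (∀ χ : IrrCharacter G, mult Ω χ ≤ 1) ∧
      ∀ b : Ω, b ≠ a → Nat.card (MulAction.orbit (MulAction.stabilizer G a) b) = f := by
  haveI : Fintype (IrrCharacter G) := Fintype.ofFinite _
  haveI : Fintype (MulAction.orbitRel.Quotient (MulAction.stabilizer G a) Ω) := Fintype.ofFinite _
  have hdvd : ∀ b : Ω, b ≠ a → f ∣ Nat.card (MulAction.orbit (MulAction.stabilizer G a) b) :=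
    fun b hb => Subdeg.dvd_subdegree f
      (fun χ hχ hne h0 => ⟨1, by rw [hf χ hχ hne h0]; simp⟩) a b hb
  have hC := mult_trivial (G := G) a
  -- degrees of the non-principal constituents
  have hdeg : ∀ χ : IrrCharacter G, χ ≠ trivialIrr G →
      mult Ω χ * charDegree (χ : G → ℂ) = f * mult Ω χ := by
    intro χ hχ
    by_cases h0 : mult Ω χ = 0
    · rw [h0]; simp
    · have h1 : (χ : G → ℂ) 1 = f := by
        apply hf _ χ.2
        · intro h
          apply hχ
          apply Subtype.ext
          exact h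
        · rw [mult_spec a χ]
          exact_mod_cast h0
      rw [ThompsonDeg.charDegree_eq h1, mul_comm]
  by_cases hf0 : f = 0
  · subst hf0
    constructor
    · intro χ
      by_cases hχ : χ = trivialIrr G
      · rw [hχ, hC]
      · by_contra hc
        have h0 : mult Ω χ ≠ 0 := by omega
        have h1 : (χ : G → ℂ) 1 = ((0 : ℕ) : ℂ) := by
          apply hf _ χ.2
          · intro h
            apply hχ
            apply Subtype.ext
            exact h
          · rw [mult_spec a χ]
            exact_mod_cast h0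
        exact IsIrrCharacter.apply_one_ne_zero χ.2 (by rw [h1]; simp)
    · intro b hb
      exact Nat.eq_zero_of_zero_dvd (hdvd b hb)
  · have hfpos : 0 < f := Nat.pos_of_ne_zero hf0
    set qa : MulAction.orbitRel.Quotient (MulAction.stabilizer G a) Ω := Quotient.mk'' a with hqa
    have hk : ∀ q : MulAction.orbitRel.Quotient (MulAction.stabilizer G a) Ω,
        ∃ k : ℕ, q ≠ qa → (Nat.card q.orbit = f * k ∧ 1 ≤ k) := by
      intro q
      induction q using Quotient.inductionOn' with
      | h b =>
        by_cases hb : b = a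
        · subst hb
          exact ⟨0, fun h => absurd rfl h⟩
        · obtain ⟨k, hk⟩ := hdvd b hb
          refine ⟨k, fun _ => ⟨?_, ?_⟩⟩
          · rw [MulAction.orbitRel.Quotient.orbit_mk]
            exact hk
          · have hpos : 0 < Nat.card (MulAction.orbit (MulAction.stabilizer G a) b) :=
              Nat.card_pos_iff.mpr ⟨⟨⟨b, MulAction.mem_orbit_self _⟩⟩, inferInstance⟩
            rw [hk] at hpos
            rcases Nat.eq_zero_or_pos k with h | h
            · rw [h] at hpos; simp at hpos
            · exact h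
    choose k hk using hk
    have hA := card_eq_sum (G := G) a
    have hB : (Nat.card (MulAction.orbitRel.Quotient (MulAction.stabilizer G a) Ω))
        = ∑ χ : IrrCharacter G, mult Ω χ ^ 2 := by
      have := (inner_self_eq_rank (G := G) a).symm.trans (inner_self_eq_sum_sq a)
      exact_mod_cast this
    have hE := card_eq_sum_orbits (Ω := Ω) (MulAction.stabilizer G a)
    rw [← Finset.add_sum_erase Finset.univ _ (Finset.mem_univ (trivialIrr G))] at hA hB
    rw [← Finset.add_sum_erase Finset.univ _ (Finset.mem_univ qa)] at hE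
    have hdt : charDegree ((trivialIrr G : IrrCharacter G) : G → ℂ) = 1 := by
      apply ThompsonDeg.charDegree_eq
      simp [trivialIrr]
    rw [hC, hdt] at hA
    rw [hC] at hB
    have hA2 : ∑ χ ∈ Finset.univ.erase (trivialIrr G), mult Ω χ * charDegree (χ : G → ℂ)
        = f * ∑ χ ∈ Finset.univ.erase (trivialIrr G), mult Ω χ := by
      rw [Finset.mul_sum]
      apply Finset.sum_congr rfl
      intro χ hχ
      exact hdeg χ (Finset.ne_of_mem_erase hχ)
    have hE1 : Nat.card qa.orbit = 1 := by
      rw [hqa, MulAction.orbitRel.Quotient.orbit_mk, orbit_stab_self]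
      simp
    have hE2 : ∑ q ∈ Finset.univ.erase qa, Nat.card q.orbit
        = f * ∑ q ∈ Finset.univ.erase qa, k q := by
      rw [Finset.mul_sum]
      apply Finset.sum_congr rfl
      intro q hq
      exact (hk q (Finset.ne_of_mem_erase hq)).1
    rw [hA2] at hA
    rw [hE1, hE2] at hE
    have hS : ∑ χ ∈ Finset.univ.erase (trivialIrr G), mult Ω χ
        = ∑ q ∈ Finset.univ.erase qa, k q := by
      have : f * ∑ χ ∈ Finset.univ.erase (trivialIrr G), mult Ω χ
          = f * ∑ q ∈ Finset.univ.erase qa, k q := by omega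
      exact Nat.eq_of_mul_eq_mul_left hfpos this
    have h12 : ∑ χ ∈ Finset.univ.erase (trivialIrr G), mult Ω χ
        ≤ ∑ χ ∈ Finset.univ.erase (trivialIrr G), mult Ω χ ^ 2 := by
      apply Finset.sum_le_sum
      intro χ _
      exact Nat.le_self_pow two_ne_zero _
    have hcardQ : (Finset.univ.erase qa).card + 1
        = Nat.card (MulAction.orbitRel.Quotient (MulAction.stabilizer G a) Ω) := by
      rw [Finset.card_erase_add_one (Finset.mem_univ qa), Finset.card_univ,
        Nat.card_eq_fintype_card]
    have h2K : (Finset.univ.erase qa).card ≤ ∑ q ∈ Finset.univ.erase qa, k q := by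
      rw [Finset.card_eq_sum_ones]
      apply Finset.sum_le_sum
      intro q hq
      exact (hk q (Finset.ne_of_mem_erase hq)).2
    have e1 : ∑ χ ∈ Finset.univ.erase (trivialIrr G), mult Ω χ
        = ∑ χ ∈ Finset.univ.erase (trivialIrr G), mult Ω χ ^ 2 := by omega
    have e2 : ∑ q ∈ Finset.univ.erase qa, 1 = ∑ q ∈ Finset.univ.erase qa, k q := by
      rw [← Finset.card_eq_sum_ones]
      omega
    have e1' := (Finset.sum_eq_sum_iff_of_le (fun χ _ => Nat.le_self_pow two_ne_zero _)).mp e1
    have e2' := (Finset.sum_eq_sum_iff_of_le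
      (fun q hq => (hk q (Finset.ne_of_mem_erase hq)).2)).mp e2
    constructor
    · intro χ
      by_cases hχ : χ = trivialIrr G
      · rw [hχ, hC]
      · exact sq_eq_self_le_one (e1' χ (Finset.mem_erase.mpr ⟨hχ, Finset.mem_univ _⟩))
    · intro b hb
      have hq := mk_ne_of_ne (G := G) a b hb
      have h1 := (hk _ hq).1
      rw [MulAction.orbitRel.Quotient.orbit_mk,
        ← e2' _ (Finset.mem_erase.mpr ⟨hq, Finset.mem_univ _⟩), mul_one] at h1
      exact h1

/-- A transitive group of rank at most 5 has a multiplicity-free permutation character. -/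
theorem part_two [MulAction.IsPretransitive G Ω] (a : Ω)
    (hr : Nat.card (MulAction.orbitRel.Quotient (MulAction.stabilizer G a) Ω) ≤ 5) :
    ∀ χ : IrrCharacter G, mult Ω χ ≤ 1 := by
  haveI : Fintype (IrrCharacter G) := Fintype.ofFinite _
  by_contra hcon
  push Not at hcon
  obtain ⟨ψ, hψ⟩ := hcon
  have hC := mult_trivial (G := G) a
  have hψt : ψ ≠ trivialIrr G := by
    rintro rfl
    omega
  have hB : (Nat.card (MulAction.orbitRel.Quotient (MulAction.stabilizer G a) Ω))
      = ∑ χ : IrrCharacter G, mult Ω χ ^ 2 := by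
    have := (inner_self_eq_rank (G := G) a).symm.trans (inner_self_eq_sum_sq a)
    exact_mod_cast this
  rw [← Finset.add_sum_erase Finset.univ _ (Finset.mem_univ (trivialIrr G)), hC] at hB
  have hoth : ∀ χ : IrrCharacter G, χ ≠ trivialIrr G → χ ≠ ψ → mult Ω χ = 0 := by
    intro χ h1 h2
    have h3 : mult Ω χ ^ 2 + mult Ω ψ ^ 2
        ≤ ∑ χ ∈ Finset.univ.erase (trivialIrr G), mult Ω χ ^ 2 := by
      calc mult Ω χ ^ 2 + mult Ω ψ ^ 2 = ∑ x ∈ {χ, ψ}, mult Ω x ^ 2 := (Finset.sum_pair (f := fun x : IrrCharacter G => mult Ω x ^ 2) h2).symm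
        _ ≤ _ := by
          apply Finset.sum_le_sum_of_subset
          intro x hx
          simp only [Finset.mem_insert, Finset.mem_singleton] at hx
          rcases hx with rfl | rfl
          · exact Finset.mem_erase.mpr ⟨h1, Finset.mem_univ _⟩
          · exact Finset.mem_erase.mpr ⟨hψt, Finset.mem_univ _⟩
    have h4 : 4 ≤ mult Ω ψ ^ 2 := by nlinarith
    have h5 : mult Ω χ ^ 2 = 0 := by omega
    exact pow_eq_zero_iff (two_ne_zero) |>.mp h5
  have key := (part_one (G := G) a (charDegree (ψ : G → ℂ)) ?_).1 ψ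
  · omega
  · intro χ hχ hne h0
    by_cases h : (⟨χ, hχ⟩ : IrrCharacter G) = ψ
    · rw [← h]
      exact TwoDeg.apply_one_eq_charDegree ⟨χ, hχ⟩
    · exfalso
      apply h0
      have h6 := hoth ⟨χ, hχ⟩ (by
        intro h'
        apply hne
        exact congrArg Subtype.val h') h
      have h7 := mult_spec a (⟨χ, hχ⟩ : IrrCharacter G)
      rw [h6] at h7
      simpa using h7

end RankFive

end Cfsg.Agent.Lib.Helper2
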