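import Mathlib
import Cfsg.Prelude.Def_Characters
import Cfsg.Agent.Lib.Helper2.FrobeniusSchur
import Cfsg.Agent.Lib.Helper25.RepToChar

/-!
# The alternating square of a character is a character
(helper2 library; S4707 FO-ALT)
-/

set_option autoImplicit false

namespace Cfsg.Agent.Lib.Helper2.AltSq

open Module Cfsg
open Cfsg.Agent.Lib.Helper2

variable {n : ℕ}

/-- the skew-symmetric matrices -/
def skewSub (n : ℕ) : Submodule ℂ (Matrix (Fin n) (Fin n) ℂ) :=
  LinearMap.ker (LinearMap.id + transposeLin)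

theorem mem_skewSub (X : Matrix (Fin n) (Fin n) ℂ) : X ∈ skewSub n ↔ X.transpose = -X := by
  unfold skewSub
  rw [LinearMap.mem_ker, LinearMap.add_apply, LinearMap.id_apply, transposeLin_apply,
    add_comm, add_eq_zero_iff_eq_neg]

/-- the projection onto the skew-symmetric matrices -/
noncomputable def skewPr (n : ℕ) : Matrix (Fin n) (Fin n) ℂ →ₗ[ℂ] Matrix (Fin n) (Fin n) ℂ :=
  (1 / 2 : ℂ) • (LinearMap.id - transposeLin)

theorem skewPr_apply (X : Matrix (Fin n) (Fin n) ℂ) :
    skewPr n X = (1 / 2 : ℂ) • (X - X.transpose) := rfl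

theorem skewPr_mem (X : Matrix (Fin n) (Fin n) ℂ) : skewPr n X ∈ skewSub n := by
  rw [mem_skewSub, skewPr_apply, Matrix.transpose_smul, Matrix.transpose_sub,
    Matrix.transpose_transpose, ← smul_neg, neg_sub]

theorem skewPr_of_mem {X : Matrix (Fin n) (Fin n) ℂ} (hX : X ∈ skewSub n) : skewPr n X = X := by
  rw [skewPr_apply, (mem_skewSub X).mp hX, sub_neg_eq_add, ← two_smul ℂ X, smul_smul]
  norm_num

theorem sandwich_mem (A : Matrix (Fin n) (Fin n) ℂ) {X : Matrix (Fin n) (Fin n) ℂ}
    (hX : X ∈ skewSub n) : sandwich A A.transpose X ∈ skewSub n := by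
  rw [mem_skewSub, sandwich_apply, Matrix.transpose_mul, Matrix.transpose_mul,
    Matrix.transpose_transpose, (mem_skewSub X).mp hX]
  simp [Matrix.mul_assoc]

/-- the trace of `X ↦ A X Aᵀ` on the skew-symmetric matrices -/
theorem trace_restrict_sandwich (A : Matrix (Fin n) (Fin n) ℂ) :
    LinearMap.trace ℂ (skewSub n)
      ((sandwich A A.transpose).restrict (fun X hX => sandwich_mem A hX)) =
      (A.trace ^ 2 - (A * A).trace) / 2 := by
  have h1 : ∀ X, (sandwich A A.transpose ∘ₗ skewPr n) X ∈ skewSub n := fun X =>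
    sandwich_mem A (skewPr_mem X)
  have h2 := LinearMap.trace_restrict_eq_of_forall_mem (skewSub n)
    (sandwich A A.transpose ∘ₗ skewPr n) h1
  have h3 : (sandwich A A.transpose ∘ₗ skewPr n).restrict (fun X _ => h1 X) =
      (sandwich A A.transpose).restrict (fun X hX => sandwich_mem A hX) := by
    apply LinearMap.ext
    intro X
    apply Subtype.ext
    change sandwich A A.transpose (skewPr n X) = sandwich A A.transpose X
    rw [skewPr_of_mem X.2]
  rw [h3] at h2
  rw [h2]
  have h4 : sandwich A A.transpose ∘ₗ skewPr n =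
      (1 / 2 : ℂ) • (sandwich A A.transpose - sandwich A A.transpose ∘ₗ transposeLin) := by
    unfold skewPr
    rw [LinearMap.comp_smul, LinearMap.comp_sub, LinearMap.comp_id]
  rw [h4, map_smul, map_sub, trace_sandwich, LinearMap.trace_comp_comm', trace_transpose_sandwich,
    Matrix.trace_transpose, Matrix.transpose_transpose, smul_eq_mul]
  ring

variable {G : Type*} [Group G]

/-- the representation on the skew-symmetric matrices -/
noncomputable def altRep (ρ : Representation ℂ G (Fin n → ℂ)) :
    Representation ℂ G (skewSub n) where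
  toFun g := (sandwich (LinearMap.toMatrix' (ρ g)) (LinearMap.toMatrix' (ρ g)).transpose).restrict
    (fun X hX => sandwich_mem _ hX)
  map_one' := by
    apply LinearMap.ext
    intro X
    apply Subtype.ext
    change sandwich (LinearMap.toMatrix' (ρ 1)) (LinearMap.toMatrix' (ρ 1)).transpose X = X
    rw [map_one, sandwich_apply]
    rw [Module.End.one_eq_id, LinearMap.toMatrix'_id, Matrix.transpose_one, Matrix.one_mul,
      Matrix.mul_one]
  map_mul' g h := by
    apply LinearMap.ext
    intro X
    apply Subtype.ext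
    change sandwich (LinearMap.toMatrix' (ρ (g * h))) (LinearMap.toMatrix' (ρ (g * h))).transpose X =
      sandwich (LinearMap.toMatrix' (ρ g)) (LinearMap.toMatrix' (ρ g)).transpose
        (sandwich (LinearMap.toMatrix' (ρ h)) (LinearMap.toMatrix' (ρ h)).transpose X)
    rw [map_mul]
    change sandwich (LinearMap.toMatrix' (ρ g ∘ₗ ρ h)) (LinearMap.toMatrix' (ρ g ∘ₗ ρ h)).transpose X = _
    rw [LinearMap.toMatrix'_comp, sandwich_apply, sandwich_apply, sandwich_apply,
      Matrix.transpose_mul]
    simp only [Matrix.mul_assoc]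

theorem altRep_character (ρ : Representation ℂ G (Fin n → ℂ)) (g : G) :
    (altRep ρ).character g = (ρ.character g ^ 2 - ρ.character (g ^ 2)) / 2 := by
  have htr : ∀ f : (Fin n → ℂ) →ₗ[ℂ] (Fin n → ℂ),
      (LinearMap.toMatrix' f).trace = LinearMap.trace ℂ _ f := by
    intro f
    rw [LinearMap.trace_eq_matrix_trace ℂ (Pi.basisFun ℂ (Fin n)) f,
      LinearMap.toMatrix_eq_toMatrix']
  change LinearMap.trace ℂ (skewSub n) ((sandwich (LinearMap.toMatrix' (ρ g))
    (LinearMap.toMatrix' (ρ g)).transpose).restrict (fun X hX => sandwich_mem _ hX)) = _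
  rw [trace_restrict_sandwich, ← LinearMap.toMatrix'_comp, htr, htr]
  have : ρ g ∘ₗ ρ g = ρ (g ^ 2) := by
    rw [pow_two, map_mul]
    rfl
  rw [this]
  rfl

/-- **FO-ALT**: the alternating square of a character is a character. -/
theorem isCharacter_altSq {χ : G → ℂ} (hχ : IsCharacter G χ) :
    IsCharacter G (fun g => (χ g ^ 2 - χ (g ^ 2)) / 2) := by
  obtain ⟨n, ρ, rfl⟩ := hχ
  have h := Cfsg.Agent.Lib.Helper25.isCharacter_of_rep (altRep ρ)
  have e : (altRep ρ).character = fun g => (ρ.character g ^ 2 - ρ.character (g ^ 2)) / 2 :=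
    funext (altRep_character ρ)
  rwa [e] at h

end Cfsg.Agent.Lib.Helper2.AltSq
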