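import Mathlib
import Cfsg.Agent.Lib.Helper24.Heis3

/-!
# S5663 K1 (helper24's farm-out): `GU_3(2)` normalises the Heisenberg group `3^(1+2)` over a field with 4 elements

`gu32_normalizes` : if `Aᵀ * A^(2) = a • 1` (`a ≠ 0`) over a field with four elements then `A` conjugates every
Heisenberg matrix `hm (chi3 ω) c j k` (`c ≠ 0`) to a Heisenberg matrix.

Proof: the columns of `A` are orthonormal for `∑ uᵢ vᵢ²`, so every column has one or three non-zero entries
and the two kinds are never orthogonal.  A matrix with a column of the first kind is monomial, its permutation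
is affine on `ℤ/3` and it normalises (`norm_mono`, with the "product one ⇒ geometric progression" lemma
`exists_geom`).  Otherwise `C = Ψ * D * A` (`D` the inverse of the first column, `Ψ = Φ⁻¹` the inverse Fourier
matrix) is unitary with first column `e₀`, hence monomial, and `A = D⁻¹ * Φ * C`.
-/

set_option autoImplicit false

namespace Cfsg.Agent.Lib.Helper2.S5663K1

open Matrix Cfsg.Agent.Lib.Helper24.Heis

variable {F : Type*} [Field F] [Fintype F]

/-! ## the field with four elements -/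

theorem two_eq_zero (hF : Fintype.card F = 4) : (2 : F) = 0 := by
  have h4 : ((Fintype.card F : ℕ) : F) = 0 := FiniteField.cast_card_eq_zero F
  rw [hF] at h4
  have h22 : (2 : F) * 2 = 0 := by
    have : ((4 : ℕ) : F) = 2 * 2 := by norm_num
    rw [← this]; exact h4
  exact mul_self_eq_zero.mp h22

theorem add_self (hF : Fintype.card F = 4) (x : F) : x + x = 0 := by
  rw [← two_mul, two_eq_zero hF, zero_mul]

theorem cube_eq_one (hF : Fintype.card F = 4) {x : F} (hx : x ≠ 0) : x ^ 3 = 1 := by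
  have := FiniteField.pow_card_sub_one_eq_one x hx
  rwa [hF] at this

theorem pow_four (hF : Fintype.card F = 4) (x : F) : x ^ 4 = x := by
  have := FiniteField.pow_card x
  rwa [hF] at this

theorem omega_cube {ω : F} (hω : ω ^ 2 + ω + 1 = 0) : ω ^ 3 = 1 := by
  have : ω ^ 3 - 1 = (ω - 1) * (ω ^ 2 + ω + 1) := by ring
  rw [hω, mul_zero] at this
  exact sub_eq_zero.mp this

theorem omega_ne_one (hF : Fintype.card F = 4) {ω : F} (hω : ω ^ 2 + ω + 1 = 0) : ω ≠ 1 := by
  rintro rfl
  have h2 := two_eq_zero hF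
  have : (1 : F) = 0 := by
    have h3 : (1 : F) ^ 2 + 1 + 1 = 2 + 1 := by ring
    rw [hω, h2, zero_add] at h3
    exact h3.symm
  exact one_ne_zero this

theorem exists_pow_of_cube {ω : F} (hω : ω ^ 2 + ω + 1 = 0) {r : F} (hr : r ^ 3 = 1) :
    ∃ s : Fin 3, r = ω ^ (s : ℕ) := by
  have hω3 := omega_cube hω
  have h : (r - 1) * (r - ω) * (r - ω ^ 2) = 0 := by
    have : (r - 1) * (r - ω) * (r - ω ^ 2) =
        r ^ 3 - (ω ^ 2 + ω + 1) * r ^ 2 + (ω ^ 2 + ω + 1) * r + (ω ^ 3 - 1) * r - ω ^ 3 := by ring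
    rw [this, hω, hω3, hr]
    ring
  rcases mul_eq_zero.mp h with h | h
  · rcases mul_eq_zero.mp h with h | h
    · exact ⟨0, by rw [sub_eq_zero.mp h]; simp⟩
    · exact ⟨1, by rw [sub_eq_zero.mp h]; simp⟩
  · exact ⟨2, by rw [sub_eq_zero.mp h]; simp⟩

/-- a product-one triple of non-zero elements is a geometric progression `c ω^(s y)` -/
theorem exists_geom (hF : Fintype.card F = 4) {ω : F} (hω : ω ^ 2 + ω + 1 = 0) (g : Fin 3 → F)
    (hg : ∀ y, g y ≠ 0) (hprod : g 0 * g 1 * g 2 = 1) :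
    ∃ (c : F) (s : Fin 3), c ≠ 0 ∧ ∀ y, g y = c * chi3 ω s y := by
  have hω3 := omega_cube hω
  have h0 := hg 0
  have h1 := hg 1
  have c0 := cube_eq_one hF h0
  have c1 := cube_eq_one hF h1
  have hr : (g 1 * (g 0)⁻¹) ^ 3 = 1 := by
    rw [mul_pow, inv_pow, c0, c1, inv_one, mul_one]
  obtain ⟨s, hs⟩ := exists_pow_of_cube hω hr
  refine ⟨g 0, s, h0, ?_⟩
  intro y
  fin_cases y
  · simp [chi3]
  · have : chi3 ω s 1 = ω ^ (s : ℕ) := by unfold chi3; rw [mul_one]
    show g 1 = g 0 * chi3 ω s 1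
    rw [this, ← hs]
    field_simp
  · have : chi3 ω s 2 = ω ^ (s : ℕ) * ω ^ (s : ℕ) := by
      unfold chi3
      have h22 : ∀ t : Fin 3, t * 2 = t + t := by decide
      rw [h22 s, pow_fin3_add hω3]
    show g 2 = g 0 * chi3 ω s 2
    rw [this, ← hs]
    have h2 : g 2 = (g 0 * g 1)⁻¹ := eq_inv_of_mul_eq_one_right hprod
    rw [h2]
    field_simp
    exact c1.symm

/-! ## normalising matrices -/

/-- `A` conjugates Heisenberg matrices to Heisenberg matrices -/
def Norm (ω : F) (A : Matrix (Fin 3) (Fin 3) F) : Prop :=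
  ∀ (c : F), c ≠ 0 → ∀ j k : Fin 3, ∃ (c' : F) (j' k' : Fin 3), c' ≠ 0 ∧
    A * hm (chi3 ω) c j k = hm (chi3 ω) c' j' k' * A

omit [Fintype F] in
theorem Norm.mul {ω : F} {A B : Matrix (Fin 3) (Fin 3) F} (hA : Norm ω A) (hB : Norm ω B) :
    Norm ω (A * B) := by
  intro c hc j k
  obtain ⟨c1, j1, k1, hc1, h1⟩ := hB c hc j k
  obtain ⟨c2, j2, k2, hc2, h2⟩ := hA c1 hc1 j1 k1
  exact ⟨c2, j2, k2, hc2, by rw [Matrix.mul_assoc, h1, ← Matrix.mul_assoc, h2, Matrix.mul_assoc]⟩

theorem fin3_a : ∀ x k : Fin 3, x = x - k + k := by decide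
theorem fin3_b : ∀ x z k : Fin 3, x = z + k → z = x - k := by decide
theorem fin3_c : ∀ u y k v : Fin 3, u * (y + k) + v - u * k = u * y + v := by decide
theorem fin3_d : ∀ x u y k v : Fin 3, x - u * k = u * y + v → x = u * (y + k) + v := by decide
theorem fin3_e : ∀ s u y : Fin 3, u * u = 1 → s * u * (u * y) = s * y := by decide
theorem fin3_f : (0 : Fin 3) + 1 + 2 = 0 := by decide

omit [Fintype F] in
theorem mul_hm_apply (χ : Fin 3 → Fin 3 → F) (B : Matrix (Fin 3) (Fin 3) F) (c : F) (j k x y : Fin 3) :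
    (B * hm χ c j k) x y = B x (y + k) * (c * χ j y) := by
  rw [Matrix.mul_apply, Finset.sum_eq_single (y + k)]
  · rw [hm_apply, if_pos rfl]
  · intro z _ hz
    rw [hm_apply, if_neg hz, mul_zero]
  · intro h
    exact absurd (Finset.mem_univ _) h

omit [Fintype F] in
theorem hm_mul_apply (χ : Fin 3 → Fin 3 → F) (B : Matrix (Fin 3) (Fin 3) F) (c : F) (j k x y : Fin 3) :
    (hm χ c j k * B) x y = c * χ j (x - k) * B (x - k) y := by
  rw [Matrix.mul_apply, Finset.sum_eq_single (x - k)]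
  · rw [hm_apply, if_pos (fin3_a x k)]
  · intro z _ hz
    rw [hm_apply, if_neg (fun h => hz (fin3_b x z k h)), zero_mul]
  · intro h
    exact absurd (Finset.mem_univ _) h

/-- a monomial matrix with affine permutation normalises -/
theorem norm_mono (hF : Fintype.card F = 4) {ω : F} (hω : ω ^ 2 + ω + 1 = 0) (u v : Fin 3)
    (hu : u * u = 1) (d : Fin 3 → F) (hd : ∀ y, d y ≠ 0) (B : Matrix (Fin 3) (Fin 3) F)
    (hB : ∀ x y, B x y = if x = u * y + v then d y else 0) : Norm ω B := by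
  intro c hc j k
  have hω3 := omega_cube hω
  have hχ := isBichar_chi3 hω3
  have hg0 : ∀ y, d (y + k) * c * chi3 ω j y * (d y)⁻¹ ≠ 0 := fun y =>
    mul_ne_zero (mul_ne_zero (mul_ne_zero (hd _) hc) (hχ.ne_zero _ _)) (inv_ne_zero (hd _))
  have hprod : (d (0 + k) * c * chi3 ω j 0 * (d 0)⁻¹) * (d (1 + k) * c * chi3 ω j 1 * (d 1)⁻¹) *
      (d (2 + k) * c * chi3 ω j 2 * (d 2)⁻¹) = 1 := by
    have h1 : d (0 + k) * d (1 + k) * d (2 + k) = d 0 * d 1 * d 2 := by
      fin_cases k
      · simp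
      · have e1 : (0 : Fin 3) + 1 = 1 := rfl
        have e2 : (1 : Fin 3) + 1 = 2 := rfl
        have e3 : (2 : Fin 3) + 1 = 0 := rfl
        show d (0 + 1) * d (1 + 1) * d (2 + 1) = _
        rw [e1, e2, e3]; ring
      · have e1 : (0 : Fin 3) + 2 = 2 := rfl
        have e2 : (1 : Fin 3) + 2 = 0 := rfl
        have e3 : (2 : Fin 3) + 2 = 1 := rfl
        show d (0 + 2) * d (1 + 2) * d (2 + 2) = _
        rw [e1, e2, e3]; ring
    have h2 : chi3 ω j 0 * chi3 ω j 1 * chi3 ω j 2 = 1 := by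
      rw [← hχ.add_right, ← hχ.add_right, fin3_f, hχ.zero_right]
    have h3 := cube_eq_one hF hc
    have d0 := hd 0
    have d1 := hd 1
    have d2 := hd 2
    have : (d (0 + k) * c * chi3 ω j 0 * (d 0)⁻¹) * (d (1 + k) * c * chi3 ω j 1 * (d 1)⁻¹) *
      (d (2 + k) * c * chi3 ω j 2 * (d 2)⁻¹) = (d (0 + k) * d (1 + k) * d (2 + k)) * c ^ 3 *
      (chi3 ω j 0 * chi3 ω j 1 * chi3 ω j 2) * (d 0 * d 1 * d 2)⁻¹ := by
      field_simp
    rw [this, h1, h2, h3]
    field_simp
  obtain ⟨c'', s, hc'', hg⟩ := exists_geom hF hω (fun y => d (y + k) * c * chi3 ω j y * (d y)⁻¹) hg0 hprod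
  have hg' : ∀ y, d (y + k) * (c * chi3 ω j y) = c'' * chi3 ω s y * d y := by
    intro y
    have := hg y
    have dy := hd y
    field_simp at this
    linear_combination this
  refine ⟨c'' * (chi3 ω (s * u) v)⁻¹, s * u, u * k, mul_ne_zero hc'' (inv_ne_zero (hχ.ne_zero _ _)), ?_⟩
  ext x y
  rw [mul_hm_apply, hm_mul_apply, hB, hB]
  by_cases hx : x = u * (y + k) + v
  · have hx' : x - u * k = u * y + v := by rw [hx]; exact fin3_c u y k v
    rw [if_pos hx, if_pos hx', hx', hg' y, hχ.add_right]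
    have e : chi3 ω (s * u) (u * y) = chi3 ω s y := by
      unfold chi3
      rw [fin3_e s u y hu]
    rw [e]
    have := hχ.ne_zero (s * u) v
    field_simp
  · have hx' : ¬ x - u * k = u * y + v := fun h => hx (fin3_d x u y k v h)
    rw [if_neg hx, if_neg hx', zero_mul, mul_zero]

omit [Fintype F] in
/-- the Fourier matrix normalises -/
theorem norm_phi {ω : F} (hω3 : ω ^ 3 = 1) (Φ : Matrix (Fin 3) (Fin 3) F)
    (hΦ : ∀ x y, Φ x y = chi3 ω x y) : Norm ω Φ := by
  intro c hc j k
  have hχ := isBichar_chi3 hω3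
  refine ⟨c * (chi3 ω k j)⁻¹, k, -j, mul_ne_zero hc (inv_ne_zero (hχ.ne_zero _ _)), ?_⟩
  ext x y
  rw [mul_hm_apply, hm_mul_apply, hΦ, hΦ, sub_neg_eq_add, hχ.add_right, hχ.add_right, hχ.add_left,
    chi3_symm ω x k]
  have := hχ.ne_zero k j
  field_simp

/-! ## unitary matrices -/

/-- unitary: the columns are orthonormal for `∑ uᵢ vᵢ²` -/
def U (A : Matrix (Fin 3) (Fin 3) F) : Prop := Aᵀ * A.map (fun x => x ^ 2) = 1

omit [Fintype F] in
theorem U.apply {A : Matrix (Fin 3) (Fin 3) F} (h : U A) (u v : Fin 3) :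
    ∑ i, A i u * (A i v) ^ 2 = if u = v then 1 else 0 := by
  have := congrFun (congrFun h u) v
  rw [Matrix.mul_apply, Matrix.one_apply] at this
  simpa [Matrix.transpose_apply, Matrix.map_apply] using this

theorem map_sq_mul (hF : Fintype.card F = 4) (A B : Matrix (Fin 3) (Fin 3) F) :
    (A * B).map (fun x => x ^ 2) = A.map (fun x => x ^ 2) * B.map (fun x => x ^ 2) := by
  ext i j
  simp only [Matrix.map_apply, Matrix.mul_apply, Fin.sum_univ_three]
  have h2 := two_eq_zero hF
  linear_combination (A i 0 * B 0 j * (A i 1 * B 1 j) + A i 0 * B 0 j * (A i 2 * B 2 j) +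
    A i 1 * B 1 j * (A i 2 * B 2 j)) * h2

theorem U.mul (hF : Fintype.card F = 4) {A B : Matrix (Fin 3) (Fin 3) F} (hA : U A) (hB : U B) :
    U (A * B) := by
  unfold U at *
  rw [Matrix.transpose_mul, map_sq_mul hF, Matrix.mul_assoc, ← Matrix.mul_assoc Aᵀ, hA, Matrix.one_mul, hB]

/-- a column of a unitary matrix has three or exactly one non-zero entries -/
theorem col_cases (hF : Fintype.card F = 4) {A : Matrix (Fin 3) (Fin 3) F} (hA : U A) (y : Fin 3) :
    (∀ i, A i y ≠ 0) ∨ (∃ i, A i y ≠ 0 ∧ ∀ l, l ≠ i → A l y = 0) := by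
  have h := hA.apply y y
  rw [if_pos rfl, Fin.sum_univ_three] at h
  have h2 := two_eq_zero hF
  have hc : ∀ i, A i y ≠ 0 → A i y * A i y ^ 2 = 1 := by
    intro i hi
    rw [← pow_succ']
    exact cube_eq_one hF hi
  have h10 : (1 : F) ≠ 0 := one_ne_zero
  by_cases h0 : A 0 y = 0 <;> by_cases h1 : A 1 y = 0 <;> by_cases h2' : A 2 y = 0
  · rw [h0, h1, h2'] at h
    norm_num at h
  · right
    refine ⟨2, h2', ?_⟩
    intro l hl
    fin_cases l
    · exact h0
    · exact h1
    · exact absurd rfl hl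
  · right
    refine ⟨1, h1, ?_⟩
    intro l hl
    fin_cases l
    · exact h0
    · exact absurd rfl hl
    · exact h2'
  · exfalso
    rw [h0, hc 1 h1, hc 2 h2'] at h
    apply h10
    linear_combination h2 - h
  · right
    refine ⟨0, h0, ?_⟩
    intro l hl
    fin_cases l
    · exact absurd rfl hl
    · exact h1
    · exact h2'
  · exfalso
    rw [h1, hc 0 h0, hc 2 h2'] at h
    apply h10
    linear_combination h2 - h
  · exfalso
    rw [h2', hc 0 h0, hc 1 h1] at h
    apply h10
    linear_combination h2 - h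
  · left
    intro i
    fin_cases i
    · exact h0
    · exact h1
    · exact h2'

omit [Fintype F] in
/-- a column with a single non-zero entry in row `i` is not orthogonal to a column that is non-zero in row `i` -/
theorem not_mixed {A : Matrix (Fin 3) (Fin 3) F} (hA : U A) (y y' : Fin 3) (hy : y ≠ y') (i : Fin 3)
    (hi : A i y ≠ 0) (hi0 : ∀ l, l ≠ i → A l y = 0) (hfull : A i y' ≠ 0) : False := by
  have h := hA.apply y y'
  rw [if_neg hy, Finset.sum_eq_single i] at h
  · exact mul_ne_zero hi (pow_ne_zero 2 hfull) h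
  · intro l _ hl
    rw [hi0 l hl, zero_mul]
  · intro h
    exact absurd (Finset.mem_univ _) h

theorem fin3_affine : ∀ a b c : Fin 3, a ≠ b → a ≠ c → b ≠ c →
    ∃ u v : Fin 3, u * u = 1 ∧ a = u * 0 + v ∧ b = u * 1 + v ∧ c = u * 2 + v := by decide

theorem affine_of_injective (π : Fin 3 → Fin 3) (h : Function.Injective π) :
    ∃ u v : Fin 3, u * u = 1 ∧ ∀ y, π y = u * y + v := by
  obtain ⟨u, v, hu, h0, h1, h2⟩ := fin3_affine (π 0) (π 1) (π 2)
    (fun e => absurd (h e) (by decide)) (fun e => absurd (h e) (by decide))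
    (fun e => absurd (h e) (by decide))
  refine ⟨u, v, hu, ?_⟩
  intro y
  fin_cases y
  · exact h0
  · exact h1
  · exact h2

/-- a unitary matrix with a column with a single non-zero entry is monomial and normalises -/
theorem norm_of_single (hF : Fintype.card F = 4) {ω : F} (hω : ω ^ 2 + ω + 1 = 0)
    {B : Matrix (Fin 3) (Fin 3) F} (hB : U B) (y0 i0 : Fin 3) (h1 : B i0 y0 ≠ 0)
    (h0 : ∀ l, l ≠ i0 → B l y0 = 0) : Norm ω B := by
  have hall : ∀ y, ∃ i, B i y ≠ 0 ∧ ∀ l, l ≠ i → B l y = 0 := by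
    intro y
    rcases col_cases hF hB y with hfull | hs
    · by_cases hy : y0 = y
      · subst hy
        exact ⟨i0, h1, h0⟩
      · exact (not_mixed hB y0 y hy i0 h1 h0 (hfull i0)).elim
    · exact hs
  choose π hπ1 hπ0 using hall
  have hinj : Function.Injective π := by
    intro y y' h
    by_contra hne
    exact not_mixed hB y y' hne (π y) (hπ1 y) (hπ0 y) (by rw [h]; exact hπ1 y')
  obtain ⟨u, v, hu, hπ⟩ := affine_of_injective π hinj
  apply norm_mono hF hω u v hu (fun y => B (π y) y) hπ1 B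
  intro x y
  by_cases hx : x = u * y + v
  · rw [if_pos hx, hx, ← hπ y]
  · rw [if_neg hx]
    exact hπ0 y x (by rw [hπ y]; exact hx)

theorem fin3_g : ∀ x y : Fin 3, x + (y + y) = x - y := by decide
theorem fin3_h : ∀ x : Fin 3, x + x = 0 ↔ x = 0 := by decide
theorem fin3_i : ∀ y : Fin 3, 1 * y + 0 = y := by decide

theorem three_eq_one (hF : Fintype.card F = 4) : ((Fintype.card (Fin 3) : ℕ) : F) = 1 := by
  rw [Fintype.card_fin]
  have h2 := two_eq_zero hF
  push_cast
  linear_combination h2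

/-- every unitary matrix normalises the Heisenberg group -/
theorem norm_of_unitary (hF : Fintype.card F = 4) {ω : F} (hω : ω ^ 2 + ω + 1 = 0)
    {A : Matrix (Fin 3) (Fin 3) F} (hA : U A) : Norm ω A := by
  have hω3 := omega_cube hω
  have hχ := isBichar_chi3 hω3
  have hnd := nondegR_chi3 hω3 (omega_ne_one hF hω)
  rcases col_cases hF hA 0 with hfull | ⟨i, hi, hi0⟩
  · let D : Matrix (Fin 3) (Fin 3) F := Matrix.diagonal (fun i => (A i 0)⁻¹)
    let D' : Matrix (Fin 3) (Fin 3) F := Matrix.diagonal (fun i => A i 0)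
    let Φ : Matrix (Fin 3) (Fin 3) F := Matrix.of (fun x y => chi3 ω x y)
    let Ψ : Matrix (Fin 3) (Fin 3) F := Matrix.of (fun x y => chi3 ω x y ^ 2)
    have hsq : ∀ x y : Fin 3, chi3 ω x y ^ 2 = chi3 ω x (y + y) := by
      intro x y
      rw [hχ.add_right, sq]
    have hΦΨ : Φ * Ψ = 1 := by
      ext x y
      rw [Matrix.mul_apply, Matrix.one_apply]
      have : ∀ z, Φ x z * Ψ z y = chi3 ω z (x - y) := by
        intro z
        show chi3 ω x z * chi3 ω z y ^ 2 = _
        rw [hsq, chi3_symm ω x z, ← hχ.add_right, fin3_g]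
      rw [Finset.sum_congr rfl (fun z _ => this z), sum_char hχ hnd, three_eq_one hF]
      by_cases hxy : x = y
      · rw [if_pos hxy, if_pos (sub_eq_zero.mpr hxy)]
      · rw [if_neg hxy, if_neg (fun h => hxy (sub_eq_zero.mp h))]
    have hΨΦ : Ψ * Φ = 1 := mul_eq_one_comm.mp hΦΨ
    have hUΨ : U Ψ := by
      unfold U
      have h1 : Ψᵀ = Ψ := by
        ext x y
        show chi3 ω y x ^ 2 = chi3 ω x y ^ 2
        rw [chi3_symm]
      have h2 : Ψ.map (fun x => x ^ 2) = Φ := by
        ext x y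
        show (chi3 ω x y ^ 2) ^ 2 = chi3 ω x y
        rw [← pow_mul]
        exact pow_four hF _
      rw [h1, h2, hΨΦ]
    have hUD : U D := by
      unfold U
      have h1 : D.map (fun x => x ^ 2) = Matrix.diagonal (fun i => ((A i 0)⁻¹) ^ 2) := by
        ext x y
        show (Matrix.diagonal (fun i => (A i 0)⁻¹) x y) ^ 2 = _
        rw [Matrix.diagonal_apply, Matrix.diagonal_apply]
        split_ifs
        · rfl
        · exact zero_pow two_ne_zero
      rw [h1, Matrix.diagonal_transpose, Matrix.diagonal_mul_diagonal, ← Matrix.diagonal_one]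
      congr 1
      funext i
      rw [← pow_succ']
      exact cube_eq_one hF (inv_ne_zero (hfull i))
    have hUC : U (Ψ * (D * A)) := hUΨ.mul hF (hUD.mul hF hA)
    have hDA : ∀ z, (D * A) z 0 = 1 := by
      intro z
      rw [Matrix.diagonal_mul]
      exact inv_mul_cancel₀ (hfull z)
    have hC0 : ∀ x, (Ψ * (D * A)) x 0 = if x = 0 then 1 else 0 := by
      intro x
      rw [Matrix.mul_apply]
      have : ∀ z, Ψ x z * (D * A) z 0 = chi3 ω z (x + x) := by
        intro z
        rw [hDA, mul_one]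
        show chi3 ω x z ^ 2 = _
        rw [chi3_symm ω x z, hsq]
      rw [Finset.sum_congr rfl (fun z _ => this z), sum_char hχ hnd, three_eq_one hF]
      by_cases hx : x = 0
      · rw [if_pos hx, if_pos ((fin3_h x).mpr hx)]
      · rw [if_neg hx, if_neg (fun h => hx ((fin3_h x).mp h))]
    have hNC : Norm ω (Ψ * (D * A)) := by
      apply norm_of_single hF hω hUC 0 0
      · rw [hC0, if_pos rfl]
        exact one_ne_zero
      · intro l hl
        rw [hC0, if_neg hl]
    have hD'D : D' * D = 1 := by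
      rw [Matrix.diagonal_mul_diagonal, ← Matrix.diagonal_one]
      congr 1
      funext i
      exact mul_inv_cancel₀ (hfull i)
    have hAeq : A = D' * (Φ * (Ψ * (D * A))) := by
      rw [← Matrix.mul_assoc Φ, hΦΨ, Matrix.one_mul, ← Matrix.mul_assoc, hD'D, Matrix.one_mul]
    have hND' : Norm ω D' := by
      apply norm_mono hF hω 1 0 (by decide) (fun i => A i 0) hfull
      intro x y
      show Matrix.diagonal (fun i => A i 0) x y = _
      rw [Matrix.diagonal_apply, fin3_i]
      by_cases hxy : x = y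
      · rw [if_pos hxy, if_pos hxy, hxy]
      · rw [if_neg hxy, if_neg hxy]
    have hNΦ : Norm ω Φ := norm_phi hω3 Φ (fun x y => rfl)
    rw [hAeq]
    exact hND'.mul (hNΦ.mul hNC)
  · exact norm_of_single hF hω hA 0 i hi hi0

/-- **S5663 K1**: `GU_3(2)` normalises the Heisenberg group `3^(1+2)` (exact farm-out signature of helper24) -/
theorem gu32_normalizes {F : Type*} [Field F] [Fintype F] (hF : Fintype.card F = 4) (ω : F)
    (hω : ω ^ 2 + ω + 1 = 0) (A : Matrix (Fin 3) (Fin 3) F) (a : F) (ha : a ≠ 0)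
    (hA : Aᵀ * A.map (fun x => x ^ 2) = a • (1 : Matrix (Fin 3) (Fin 3) F)) (c : F) (hc : c ≠ 0)
    (j k : Fin 3) : ∃ (c' : F) (j' k' : Fin 3), c' ≠ 0 ∧
      A * hm (chi3 ω) c j k = hm (chi3 ω) c' j' k' * A := by
  have h2 := two_eq_zero hF
  have h00 := congrFun (congrFun hA 0) 0
  rw [Matrix.mul_apply, Matrix.smul_apply, Matrix.one_apply, if_pos rfl, smul_eq_mul, mul_one,
    Fin.sum_univ_three] at h00
  simp only [Matrix.transpose_apply, Matrix.map_apply] at h00
  have hidem : ∀ x : F, (x * x ^ 2) * (x * x ^ 2) = x * x ^ 2 := by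
    intro x
    by_cases hx : x = 0
    · rw [hx]; ring
    · have : x * x ^ 2 = 1 := by rw [← pow_succ']; exact cube_eq_one hF hx
      rw [this, one_mul]
  have ha1 : a = 1 := by
    have haa : a * a = a := by
      have e0 := hidem (A 0 0)
      have e1 := hidem (A 1 0)
      have e2 := hidem (A 2 0)
      rw [← h00]
      linear_combination e0 + e1 + e2 + (A 0 0 * A 0 0 ^ 2 * (A 1 0 * A 1 0 ^ 2) +
        A 0 0 * A 0 0 ^ 2 * (A 2 0 * A 2 0 ^ 2) + A 1 0 * A 1 0 ^ 2 * (A 2 0 * A 2 0 ^ 2)) * h2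
    have : a * (a - 1) = 0 := by linear_combination haa
    rcases mul_eq_zero.mp this with h | h
    · exact absurd h ha
    · exact sub_eq_zero.mp h
  have hU : U A := by
    unfold U
    rw [hA, ha1, one_smul]
  exact norm_of_unitary hF hω hU c hc j k

end Cfsg.Agent.Lib.Helper2.S5663K1
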