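import Mathlib
import Cfsg.Agent.Lib.Helper28.OTDefs

/-!
# S5681 / S5709 (O ⊗ O), EXIT T3 step (iii), U-level (helper2, for helper12 / helper28)

For a non-degenerate symmetric form `bf J` on `F^a`, `2 ≠ 0`, `a ≥ 3`: the products `K * D` of two skew-adjoint matrices
span the whole matrix algebra.  Raw-matrix vocabulary: `Helper3.SpT.bf / E / adj`, `Helper13.TensSO.OrthG`.
-/

set_option autoImplicit false
set_option linter.unusedSectionVars false

namespace Cfsg.Agent.Lib.Helper2.OTSkewProd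

open Matrix Module
open Cfsg.Agent.Lib.Helper3.SpT (bf E adj bf_add_left bf_add_right bf_smul_left bf_smul_right E_mulVec E_mul_E
  mat_ext_mulVec)
open Cfsg.Agent.Lib.Helper13.TensSO (OrthG)

variable {F : Type*} [Field F] {κ : Type} [Fintype κ] [DecidableEq κ] {J : Matrix κ κ F}

theorem isUnit_det (hJ : OrthG J) : IsUnit J.det := by
  rw [← Matrix.isUnit_iff_isUnit_det, ← Matrix.mulVec_injective_iff_isUnit]
  intro x y hxy
  have h : ∀ z, bf J (x - y) z = 0 := by
    intro z
    rw [hJ.symm]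
    unfold bf
    rw [Matrix.mulVec_sub, hxy, sub_self, dotProduct_zero]
  exact sub_eq_zero.mp (hJ.nondeg _ h)

theorem bf_mulVec_left (C : Matrix κ κ F) (x y : κ → F) : bf J (C *ᵥ x) y = x ⬝ᵥ (Cᵀ * J) *ᵥ y := by
  unfold bf
  rw [← Matrix.mulVec_mulVec, Matrix.dotProduct_mulVec x Cᵀ, Matrix.vecMul_transpose]

theorem bf_mulVec_right (D : Matrix κ κ F) (x y : κ → F) : bf J x (D *ᵥ y) = x ⬝ᵥ (J * D) *ᵥ y := by
  unfold bf
  rw [Matrix.mulVec_mulVec]

theorem eq_of_dot_mulVec {A B : Matrix κ κ F} (h : ∀ x y : κ → F, x ⬝ᵥ A *ᵥ y = x ⬝ᵥ B *ᵥ y) : A = B := by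
  ext i j
  have := h (Pi.single i 1) (Pi.single j 1)
  rwa [single_one_dotProduct, mulVec_single_one, single_one_dotProduct, mulVec_single_one] at this

/-- `f(Cx, y) = f(x, C^* y)` -/
theorem bf_adj (hJ : OrthG J) (C : Matrix κ κ F) (x y : κ → F) :
    bf J (C *ᵥ x) y = bf J x (adj J C *ᵥ y) := by
  rw [bf_mulVec_left, bf_mulVec_right, adj, ← mul_assoc, ← mul_assoc, Matrix.mul_nonsing_inv _ (isUnit_det hJ),
    one_mul]

/-- the adjoint is characterised by `f(Cx, y) = f(x, D y)` -/
theorem adj_unique (hJ : OrthG J) (C D : Matrix κ κ F)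
    (h : ∀ x y, bf J (C *ᵥ x) y = bf J x (D *ᵥ y)) : adj J C = D := by
  have h1 : J * adj J C = J * D := by
    apply eq_of_dot_mulVec
    intro x y
    rw [← bf_mulVec_right, ← bf_mulVec_right, ← bf_adj hJ, h]
  have h2 := congrArg (fun X => J⁻¹ * X) h1
  simp only [← mul_assoc, Matrix.nonsing_inv_mul _ (isUnit_det hJ), one_mul] at h2
  exact h2

/-- `E_{u,u'}^* = E_{u',u}` for a symmetric form -/
theorem adj_E (hJ : OrthG J) (u u' : κ → F) : adj J (E J u u') = E J u' u := by
  apply adj_unique hJ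
  intro x y
  rw [E_mulVec, E_mulVec, bf_smul_left, bf_smul_right, hJ.symm u y]
  ring

/-- `x ∧ y = E_{x,y} - E_{y,x}` -/
def wedge (J : Matrix κ κ F) (x y : κ → F) : Matrix κ κ F := E J x y - E J y x

theorem adj_sub (C D : Matrix κ κ F) : adj J (C - D) = adj J C - adj J D := by
  unfold adj
  rw [Matrix.transpose_sub, mul_sub, sub_mul]

theorem adj_wedge (hJ : OrthG J) (x y : κ → F) : adj J (wedge J x y) = - wedge J x y := by
  unfold wedge
  rw [adj_sub, adj_E hJ, adj_E hJ, neg_sub]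

theorem wedge_mul_wedge (x y z w : κ → F) :
    wedge J x y * wedge J z w =
      bf J z y • E J x w - bf J w y • E J x z - bf J z x • E J y w + bf J w x • E J y z := by
  unfold wedge
  rw [sub_mul, mul_sub, mul_sub, E_mul_E, E_mul_E, E_mul_E, E_mul_E]
  abel

/-- an orthogonal basis of anisotropic vectors -/
theorem exists_orth_basis (hJ : OrthG J) (h2 : (2 : F) ≠ 0) :
    ∃ v : Basis (Fin (finrank F (κ → F))) F (κ → F),
      (∀ i j, i ≠ j → bf J (v i) (v j) = 0) ∧ ∀ i, bf J (v i) (v i) ≠ 0 := by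
  haveI : Invertible (2 : F) := invertibleOfNonzero h2
  have hB : LinearMap.IsSymm (Matrix.toBilin' J) := ⟨fun x y => by
    rw [RingHom.id_apply, Matrix.toBilin'_apply', Matrix.toBilin'_apply']
    exact hJ.symm x y⟩
  obtain ⟨v, hv⟩ := LinearMap.BilinForm.exists_orthogonal_basis (B := Matrix.toBilin' J) hB
  have hortho : ∀ i j, i ≠ j → bf J (v i) (v j) = 0 := by
    intro i j hij
    have := hv hij
    change Matrix.toBilin' J (v i) (v j) = 0 at this
    rw [Matrix.toBilin'_apply'] at this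
    exact this
  refine ⟨v, hortho, ?_⟩
  intro i hi
  apply v.ne_zero i
  apply hJ.nondeg
  intro y
  rw [← v.sum_repr y]
  have : bf J (v i) (∑ j, v.repr y j • v j) = ∑ j, v.repr y j * bf J (v i) (v j) := by
    unfold bf
    rw [Matrix.mulVec_sum, dotProduct_sum]
    refine Finset.sum_congr rfl (fun j _ => ?_)
    rw [Matrix.mulVec_smul, dotProduct_smul, smul_eq_mul]
  rw [this]
  refine Finset.sum_eq_zero (fun j _ => ?_)
  by_cases hij : i = j
  · subst hij
    rw [hi, mul_zero]
  · rw [hortho i j hij, mul_zero]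

theorem bf_sum_left {ι : Type*} (s : Finset ι) (c : ι → F) (w : ι → κ → F) (y : κ → F) :
    bf J (∑ j ∈ s, c j • w j) y = ∑ j ∈ s, c j * bf J (w j) y := by
  unfold bf
  rw [sum_dotProduct]
  refine Finset.sum_congr rfl (fun j _ => ?_)
  rw [smul_dotProduct, smul_eq_mul]

/-- expansion in an orthogonal basis -/
theorem orth_expand {n : ℕ} (v : Basis (Fin n) F (κ → F))
    (hortho : ∀ i j, i ≠ j → bf J (v i) (v j) = 0) (hne : ∀ i, bf J (v i) (v i) ≠ 0) (x : κ → F) :
    x = ∑ i, (bf J x (v i) / bf J (v i) (v i)) • v i := by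
  conv_lhs => rw [← v.sum_repr x]
  refine Finset.sum_congr rfl (fun i _ => ?_)
  congr 1
  have : bf J x (v i) = v.repr x i * bf J (v i) (v i) := by
    conv_lhs => rw [← v.sum_repr x]
    rw [bf_sum_left]
    rw [Finset.sum_eq_single i]
    · intro j _ hji
      rw [hortho j i hji, mul_zero]
    · intro h
      exact absurd (Finset.mem_univ i) h
  rw [this, mul_div_assoc, div_self (hne i), mul_one]

/-- the rank-one operators of an orthogonal basis span the matrix algebra -/
theorem mem_span_E {n : ℕ} (v : Basis (Fin n) F (κ → F))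
    (hortho : ∀ i j, i ≠ j → bf J (v i) (v j) = 0) (hne : ∀ i, bf J (v i) (v i) ≠ 0)
    (S : Submodule F (Matrix κ κ F)) (hS : ∀ i k, E J (v i) (v k) ∈ S) (C : Matrix κ κ F) : C ∈ S := by
  have hC : C = ∑ k, ∑ i, ((bf J (C *ᵥ v k) (v i) / bf J (v i) (v i)) / bf J (v k) (v k)) • E J (v i) (v k) := by
    apply mat_ext_mulVec
    intro x
    rw [Matrix.sum_mulVec]
    conv_lhs => rw [orth_expand v hortho hne x, Matrix.mulVec_sum]
    refine Finset.sum_congr rfl (fun k _ => ?_)
    rw [Matrix.mulVec_smul, Matrix.sum_mulVec]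
    conv_lhs => rw [orth_expand v hortho hne (C *ᵥ v k), Finset.smul_sum]
    refine Finset.sum_congr rfl (fun i _ => ?_)
    rw [Matrix.smul_mulVec, E_mulVec, smul_smul, smul_smul]
    congr 1
    field_simp
  rw [hC]
  exact Submodule.sum_mem _ (fun k _ => Submodule.sum_mem _ (fun i _ => Submodule.smul_mem _ _ (hS i k)))

theorem exists_third {n : ℕ} (hn : 3 ≤ n) (i k : Fin n) : ∃ j : Fin n, j ≠ i ∧ j ≠ k := by
  by_contra hcon
  push Not at hcon
  have h0 := hcon ⟨0, by omega⟩
  have h1 := hcon ⟨1, by omega⟩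
  have h2 := hcon ⟨2, by omega⟩
  by_cases e0 : (⟨0, by omega⟩ : Fin n) = i
  · by_cases e1 : (⟨1, by omega⟩ : Fin n) = i
    · rw [← e0] at e1
      simp [Fin.ext_iff] at e1
    · have e1k := h1 e1
      by_cases e2 : (⟨2, by omega⟩ : Fin n) = i
      · rw [← e0] at e2
        simp [Fin.ext_iff] at e2
      · have e2k := h2 e2
        rw [← e1k] at e2k
        simp [Fin.ext_iff] at e2k
  · have e0k := h0 e0
    by_cases e1 : (⟨1, by omega⟩ : Fin n) = i
    · by_cases e2 : (⟨2, by omega⟩ : Fin n) = i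
      · rw [← e1] at e2
        simp [Fin.ext_iff] at e2
      · have e2k := h2 e2
        rw [← e0k] at e2k
        simp [Fin.ext_iff] at e2k
    · have e1k := h1 e1
      rw [← e0k] at e1k
      simp [Fin.ext_iff] at e1k

/-- **(iii)**: a subspace of the matrix algebra containing all products of two skew-adjoint matrices is everything -/
theorem mem_of_skew_mul_skew (hJ : OrthG J) (h2 : (2 : F) ≠ 0) (ha : 3 ≤ Fintype.card κ)
    (S : Submodule F (Matrix κ κ F))
    (hS : ∀ K D : Matrix κ κ F, adj J K = -K → adj J D = -D → K * D ∈ S) (C : Matrix κ κ F) : C ∈ S := by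
  obtain ⟨v, hortho, hne⟩ := exists_orth_basis hJ h2
  have hn : 3 ≤ finrank F (κ → F) := by rw [Module.finrank_fintype_fun_eq_card]; exact ha
  have hww : ∀ x y z w : κ → F, wedge J x y * wedge J z w ∈ S :=
    fun x y z w => hS _ _ (adj_wedge hJ x y) (adj_wedge hJ z w)
  -- the diagonal combinations
  have hP : ∀ i j, i ≠ j →
      bf J (v j) (v j) • E J (v i) (v i) + bf J (v i) (v i) • E J (v j) (v j) ∈ S := by
    intro i j hij
    have := hww (v i) (v j) (v j) (v i)
    rw [wedge_mul_wedge, hortho i j hij, hortho j i (Ne.symm hij), zero_smul, zero_smul, sub_zero, sub_zero] at this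
    exact this
  apply mem_span_E v hortho hne S
  intro i k
  by_cases hik : i = k
  · subst hik
    obtain ⟨j, hji, -⟩ := exists_third hn i i
    obtain ⟨l, hli, hlj⟩ := exists_third hn i j
    have h1 := hP i j (Ne.symm hji)
    have h2' := hP i l (Ne.symm hli)
    have h3 := hP j l (Ne.symm hlj)
    have hcomb : E J (v i) (v i) =
        (2 * bf J (v j) (v j) * bf J (v l) (v l))⁻¹ •
          (bf J (v l) (v l) • (bf J (v j) (v j) • E J (v i) (v i) + bf J (v i) (v i) • E J (v j) (v j)) +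
            bf J (v j) (v j) • (bf J (v l) (v l) • E J (v i) (v i) + bf J (v i) (v i) • E J (v l) (v l)) -
            bf J (v i) (v i) • (bf J (v l) (v l) • E J (v j) (v j) + bf J (v j) (v j) • E J (v l) (v l))) := by
      have hc : (2 * bf J (v j) (v j) * bf J (v l) (v l)) ≠ 0 := mul_ne_zero (mul_ne_zero h2 (hne j)) (hne l)
      rw [eq_comm, inv_smul_eq_iff₀ hc]
      simp only [smul_add, smul_smul]
      module
    rw [hcomb]
    exact S.smul_mem _ (S.sub_mem (S.add_mem (S.smul_mem _ h1) (S.smul_mem _ h2')) (S.smul_mem _ h3))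
  · obtain ⟨j, hji, hjk⟩ := exists_third hn i k
    have := hww (v i) (v j) (v j) (v k)
    rw [wedge_mul_wedge, hortho k j (Ne.symm hjk), hortho j i hji, hortho k i (Ne.symm hik), zero_smul, zero_smul,
      zero_smul, sub_zero, sub_zero, add_zero] at this
    have h' := S.smul_mem (bf J (v j) (v j))⁻¹ this
    rwa [smul_smul, inv_mul_cancel₀ (hne j), one_smul] at h'

/-- **(iii)**, span form -/
theorem span_skew_mul_skew (hJ : OrthG J) (h2 : (2 : F) ≠ 0) (ha : 3 ≤ Fintype.card κ) :
    Submodule.span F {X : Matrix κ κ F | ∃ K D : Matrix κ κ F, adj J K = -K ∧ adj J D = -D ∧ X = K * D} = ⊤ := by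
  rw [eq_top_iff]
  intro C _
  refine mem_of_skew_mul_skew hJ h2 ha _ (fun K D hK hD => Submodule.subset_span ?_) C
  exact ⟨K, D, hK, hD, rfl⟩

/-- `Fin a` forms (the shapes announced for step (iii)) -/
theorem span_skew_mul_fin {a : ℕ} {J : Matrix (Fin a) (Fin a) F} (hJ : OrthG J) (h2 : (2 : F) ≠ 0) (ha : 3 ≤ a) :
    Submodule.span F {X : Matrix (Fin a) (Fin a) F | ∃ K D : Matrix (Fin a) (Fin a) F,
      adj J K = -K ∧ adj J D = -D ∧ X = K * D} = ⊤ :=
  span_skew_mul_skew hJ h2 (by rw [Fintype.card_fin]; exact ha)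

theorem eq_top_of_skew_mul_fin {a : ℕ} {J : Matrix (Fin a) (Fin a) F} (hJ : OrthG J) (h2 : (2 : F) ≠ 0) (ha : 3 ≤ a)
    (S : Submodule F (Matrix (Fin a) (Fin a) F))
    (h : ∀ K D : Matrix (Fin a) (Fin a) F, adj J K = -K → adj J D = -D → K * D ∈ S) : S = ⊤ := by
  rw [eq_top_iff]
  intro C _
  exact mem_of_skew_mul_skew hJ h2 (by rw [Fintype.card_fin]; exact ha) S h C

end Cfsg.Agent.Lib.Helper2.OTSkewProd
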