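import Mathlib
import Cfsg.Agent.Lib.Helper28.OTDefs
import Cfsg.Agent.Lib.Helper28.OTExitDefs
import Cfsg.Agent.Lib.Helper16.OTRootC
import Cfsg.Agent.Lib.Helper8.OTRel
import Cfsg.Agent.Lib.Helper9.OTX1
import Cfsg.Agent.Lib.Helper18.OTT2bB
import Cfsg.Agent.Lib.Helper20.OTTorus
import Cfsg.Agent.Lib.Helper2.OTSkewProd

/-!
# S5681 / S5709 (O ⊗ O), EXIT T3 piece GLUE-B (helper2, for helper12)

`inZM_R2`, `inZM_R3` of `notes/S5681T3Skel_helper12.lean.txt`: the relations (R2), (R3) of helper8 transported into the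
fixed `Z_L` by ONE Siegel element `1 ⊗ ρ_{l,x}` of `W` and rescaled.  The rescaling (`inZM_smul`, from TORUS) enters as the
explicit hypothesis `hsm`.
-/

set_option autoImplicit false
set_option linter.unusedSectionVars false
set_option linter.unusedVariables false

namespace Cfsg.Agent.Lib.Helper2.OTGlueB

open Matrix Module
open Cfsg.Agent.Lib.Helper16.Tens Cfsg.Agent.Lib.Helper10.TensFund
open Cfsg.Agent.Lib.Helper3.SpT (bf E adj uni Over bf_add_left bf_add_right bf_smul_left bf_smul_right bf_sub_left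
  bf_sub_right E_smul_left E_smul_right)
open Cfsg.Agent.Lib.Helper13.TensSO (OrthG IsoG)
open Cfsg.Agent.Lib.Helper28.OT Cfsg.Agent.Lib.Helper28.OTX
open Cfsg.Agent.Lib.Helper16.OTRootC (oneK oneK_val)
open Cfsg.Agent.Lib.Helper8.OTRel
open Cfsg.Agent.Lib.Helper18.OTT2bB (Frame exists_frame P0 P0_k1 P0_k2 P0_l1 P0_l2 bf_P0_right)
open scoped Kronecker

variable {F : Type*} [Field F] [Fintype F] {a b : ℕ}
variable {J1 : Matrix (Fin a) (Fin a) F} {J2 : Matrix (Fin b) (Fin b) F}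
variable {Q : QuadraticForm F (Fin a × Fin b → F)}
variable {M : Subgroup (GL (Fin a × Fin b) F)}
variable {k1 k2 : Fin b → F}

/-! ## adjoint facts -/

theorem adj_adj (hJ : OrthG J1) (C : Matrix (Fin a) (Fin a) F) : adj J1 (adj J1 C) = C := by
  apply OTSkewProd.adj_unique hJ
  intro x y
  rw [hJ.symm, ← OTSkewProd.bf_adj hJ, hJ.symm]

theorem adj_zero' : adj J1 (0 : Matrix (Fin a) (Fin a) F) = 0 := by
  unfold adj
  simp

theorem adj_zero_neg : adj J1 (0 : Matrix (Fin a) (Fin a) F) = -0 := by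
  rw [adj_zero', neg_zero]

theorem skew_R2 (hJ : OrthG J1) (C D : Matrix (Fin a) (Fin a) F) :
    adj J1 (D * adj J1 C - C * adj J1 D) = -(D * adj J1 C - C * adj J1 D) := by
  rw [adj_sub', adj_mul' J1 hJ, adj_mul' J1 hJ, adj_adj hJ, adj_adj hJ, neg_sub]

theorem skew_R3 (hJ : OrthG J1) (K D : Matrix (Fin a) (Fin a) F) (hK : adj J1 K = -K) :
    adj J1 (-(adj J1 D * K * D)) = -(-(adj J1 D * K * D)) := by
  rw [adj_neg', adj_mul' J1 hJ, adj_mul' J1 hJ, adj_adj hJ, hK, neg_neg]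
  simp [mul_assoc]

/-! ## bridging `gZ` with `gTO` / `gK` -/

theorem TO_zero (k k' : Fin b → F) : TO J1 J2 (0 : Matrix (Fin a) (Fin a) F) k k' = 0 := by
  unfold TO
  rw [adj_zero', Matrix.zero_kronecker, Matrix.zero_kronecker, sub_zero]

theorem gZ_C (hJ2 : OrthG J2) (C : Matrix (Fin a) (Fin a) F) (k1 k2 : Fin b → F) (h11 : bf J2 k1 k1 = 0)
    (h12 : bf J2 k1 k2 = 0) (h22 : bf J2 k2 k2 = 0) :
    gZ J1 J2 hJ2 0 C 0 k1 k2 h11 h12 h22 = gTO J1 J2 hJ2 C k1 k2 h11 h12 h22 := by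
  apply Units.ext
  rw [gZ_val, gTO_val]
  unfold zL
  rw [Matrix.zero_kronecker, Matrix.zero_kronecker, zero_add, add_zero]

theorem gZ_K1 (hJ2 : OrthG J2) (K' : Matrix (Fin a) (Fin a) F) (k1 k2 : Fin b → F) (h11 : bf J2 k1 k1 = 0)
    (h12 : bf J2 k1 k2 = 0) (h22 : bf J2 k2 k2 = 0) :
    gZ J1 J2 hJ2 K' 0 0 k1 k2 h11 h12 h22 = gK J2 K' k1 h11 := by
  apply Units.ext
  rw [gZ_val, gK_val]
  unfold zL
  rw [TO_zero, Matrix.zero_kronecker, add_zero, add_zero]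

theorem gZ_K2 (hJ2 : OrthG J2) (K' : Matrix (Fin a) (Fin a) F) (k1 k2 : Fin b → F) (h11 : bf J2 k1 k1 = 0)
    (h12 : bf J2 k1 k2 = 0) (h22 : bf J2 k2 k2 = 0) :
    gZ J1 J2 hJ2 0 0 K' k1 k2 h11 h12 h22 = gK J2 K' k2 h22 := by
  apply Units.ext
  rw [gZ_val, gK_val]
  unfold zL
  rw [TO_zero, Matrix.zero_kronecker, add_zero, zero_add]

/-- `g(D; k, c k') = z(0, c D, 0; k, k')` -/
theorem gTO_smul_right (hJ2 : OrthG J2) (D : Matrix (Fin a) (Fin a) F) (c : F) (k k' : Fin b → F)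
    (h11 : bf J2 k k = 0) (h12 : bf J2 k k' = 0) (h22 : bf J2 k' k' = 0)
    (h12' : bf J2 k (c • k') = 0) (h22' : bf J2 (c • k') (c • k') = 0) :
    gTO J1 J2 hJ2 D k (c • k') h11 h12' h22' = gZ J1 J2 hJ2 0 (c • D) 0 k k' h11 h12 h22 := by
  rw [gZ_C]
  apply Units.ext
  rw [gTO_val, gTO_val, TO_smul]
  unfold TO
  rw [E_smul_left, E_smul_right, Matrix.kronecker_smul, Matrix.kronecker_smul, smul_sub]

/-- `g(D; c k, k') = z(0, c D, 0; k, k')` -/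
theorem gTO_smul_left (hJ2 : OrthG J2) (D : Matrix (Fin a) (Fin a) F) (c : F) (k k' : Fin b → F)
    (h11 : bf J2 k k = 0) (h12 : bf J2 k k' = 0) (h22 : bf J2 k' k' = 0)
    (h11' : bf J2 (c • k) (c • k) = 0) (h12' : bf J2 (c • k) k' = 0) :
    gTO J1 J2 hJ2 D (c • k) k' h11' h12' h22 = gZ J1 J2 hJ2 0 (c • D) 0 k k' h11 h12 h22 := by
  rw [gZ_C]
  apply Units.ext
  rw [gTO_val, gTO_val, TO_smul]
  unfold TO
  rw [E_smul_left, E_smul_right, Matrix.kronecker_smul, Matrix.kronecker_smul, smul_sub]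

/-! ## transport by `1 ⊗ β` -/

theorem transport (hS : SetupO J1 J2 Q) (hM : Over Q M) (β : GL (Fin b) F) (hβ : β ∈ IsoG J2)
    (hβΩ : oneK (a := a) β ∈ Cfsg.Geo.omegaGL (⇑Q)) (K1 C K2 : Matrix (Fin a) (Fin a) F) (k1 k2 k1' k2' : Fin b → F)
    (h11 : bf J2 k1 k1 = 0) (h12 : bf J2 k1 k2 = 0) (h22 : bf J2 k2 k2 = 0)
    (h11' : bf J2 k1' k1' = 0) (h12' : bf J2 k1' k2' = 0) (h22' : bf J2 k2' k2' = 0)
    (h1 : (β : Matrix (Fin b) (Fin b) F) *ᵥ k1 = k1') (h2 : (β : Matrix (Fin b) (Fin b) F) *ᵥ k2 = k2')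
    (hg : gZ J1 J2 hS.h2 K1 C K2 k1 k2 h11 h12 h22 ∈ M) :
    gZ J1 J2 hS.h2 K1 C K2 k1' k2' h11' h12' h22' ∈ M := by
  have hn : oneK (a := a) β ∈ M := hM.kron_mem _ (Cfsg.Agent.Lib.Helper9.OTX1.oneK_mem_kron β) hβΩ
  have := R1_GL J1 J2 hS.h2 K1 C K2 β hβ (oneK (a := a) β) (oneK_val β) k1 k2 k1' k2' h11 h12 h22 h11' h12' h22' h1 h2
  rw [← this]
  exact M.mul_mem (M.mul_mem hn hg) (M.inv_mem hn)

/-! ## an anisotropic vector orthogonal to a hyperbolic frame -/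

theorem P0_add (k1 k2 l1 l2 x y : Fin b → F) :
    P0 J2 k1 k2 l1 l2 (x + y) = P0 J2 k1 k2 l1 l2 x + P0 J2 k1 k2 l1 l2 y := by
  unfold P0
  simp only [bf_add_left, add_smul]
  abel

theorem exists_aniso_perp (hJ2 : OrthG J2) (h2 : (2 : F) ≠ 0) (hb : 5 ≤ b) {k1 k2 l1 l2 : Fin b → F}
    (hf : Frame J2 k1 k2 l1 l2) :
    ∃ x : Fin b → F, bf J2 x k1 = 0 ∧ bf J2 x k2 = 0 ∧ bf J2 x l1 = 0 ∧ bf J2 x l2 = 0 ∧ bf J2 x x ≠ 0 := by
  classical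
  by_contra hcon
  push Not at hcon
  have hnull : ∀ y, bf J2 (P0 J2 k1 k2 l1 l2 y) (P0 J2 k1 k2 l1 l2 y) = 0 := fun y =>
    hcon _ (P0_k1 hf y) (P0_k2 hf y) (P0_l1 hf y) (P0_l2 hf y)
  have hpol : ∀ x y, bf J2 (P0 J2 k1 k2 l1 l2 x) (P0 J2 k1 k2 l1 l2 y) = 0 := by
    intro x y
    have h := hnull (x + y)
    rw [P0_add, bf_add_left, bf_add_right, bf_add_right, hnull x, hnull y,
      hJ2.symm (P0 J2 k1 k2 l1 l2 y) (P0 J2 k1 k2 l1 l2 x)] at h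
    have h' : 2 * bf J2 (P0 J2 k1 k2 l1 l2 x) (P0 J2 k1 k2 l1 l2 y) = 0 := by linear_combination h
    exact (mul_eq_zero.mp h').resolve_left h2
  have hzero : ∀ x, P0 J2 k1 k2 l1 l2 x = 0 := by
    intro x
    apply hJ2.nondeg
    intro y
    rw [← bf_P0_right hf _ y (P0_k1 hf x) (P0_k2 hf x) (P0_l1 hf x) (P0_l2 hf x)]
    exact hpol x y
  have htop : (⊤ : Submodule F (Fin b → F)) ≤ Submodule.span F (({k1, k2, l1, l2} : Finset (Fin b → F)) : Set (Fin b → F)) := by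
    intro x _
    have hx := hzero x
    unfold P0 at hx
    have hx' : x = bf J2 x l1 • k1 + bf J2 x l2 • k2 + bf J2 x k1 • l1 + bf J2 x k2 • l2 := by
      rw [sub_sub, sub_sub, sub_sub, sub_eq_zero] at hx
      refine hx.trans ?_
      abel
    rw [hx']
    have m1 : k1 ∈ Submodule.span F (({k1, k2, l1, l2} : Finset (Fin b → F)) : Set (Fin b → F)) :=
      Submodule.subset_span (by simp)
    have m2 : k2 ∈ Submodule.span F (({k1, k2, l1, l2} : Finset (Fin b → F)) : Set (Fin b → F)) :=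
      Submodule.subset_span (by simp)
    have m3 : l1 ∈ Submodule.span F (({k1, k2, l1, l2} : Finset (Fin b → F)) : Set (Fin b → F)) :=
      Submodule.subset_span (by simp)
    have m4 : l2 ∈ Submodule.span F (({k1, k2, l1, l2} : Finset (Fin b → F)) : Set (Fin b → F)) :=
      Submodule.subset_span (by simp)
    exact Submodule.add_mem _ (Submodule.add_mem _ (Submodule.add_mem _ (Submodule.smul_mem _ _ m1)
      (Submodule.smul_mem _ _ m2)) (Submodule.smul_mem _ _ m3)) (Submodule.smul_mem _ _ m4)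
  have hfr : finrank F (Fin b → F) ≤ 4 := by
    calc finrank F (Fin b → F) = finrank F (⊤ : Submodule F (Fin b → F)) := (finrank_top F (Fin b → F)).symm
      _ ≤ finrank F (Submodule.span F (({k1, k2, l1, l2} : Finset (Fin b → F)) : Set (Fin b → F))) :=
          Submodule.finrank_mono htop
      _ ≤ ({k1, k2, l1, l2} : Finset (Fin b → F)).card := finrank_span_finset_le_card _
      _ ≤ 4 := Finset.card_le_four
  rw [Module.finrank_fintype_fun_eq_card, Fintype.card_fin] at hfr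
  omega

/-! ## (R2) and (R3) inside the fixed `Z_L` -/

section main
variable (hS : SetupO J1 J2 Q) (hb : 5 ≤ b) (hM : Over Q M) (h : Ts2 J2 k1 k2)

/-- the rescaling hypothesis (`inZM_smul`, from TORUS) -/
def SmulHyp (hS : SetupO J1 J2 Q) (M : Subgroup (GL (Fin a × Fin b) F)) {k1 k2 : Fin b → F} (h : Ts2 J2 k1 k2) : Prop :=
  ∀ (c : F) (K1 C K2 : Matrix (Fin a) (Fin a) F), gZ J1 J2 hS.h2 K1 C K2 k1 k2 h.h11 h.h12 h.h22 ∈ M →
    gZ J1 J2 hS.h2 (c • K1) (c • C) (c • K2) k1 k2 h.h11 h.h12 h.h22 ∈ M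

include hb hM in
/-- **(R2)** in `Z_L`, modulo rescaling -/
theorem R2_core (hsm : SmulHyp hS M h) {C D : Matrix (Fin a) (Fin a) F}
    (hC : gZ J1 J2 hS.h2 0 C 0 k1 k2 h.h11 h.h12 h.h22 ∈ M)
    (hD : gZ J1 J2 hS.h2 0 D 0 k1 k2 h.h11 h.h12 h.h22 ∈ M) :
    gZ J1 J2 hS.h2 (D * adj J1 C - C * adj J1 D) 0 0 k1 k2 h.h11 h.h12 h.h22 ∈ M := by
  obtain ⟨l1, l2, hf⟩ := exists_frame hS.h2 hS.two h
  obtain ⟨x, hx1, hx2, hx3, hx4, hxx⟩ := exists_aniso_perp hS.h2 hS.two hb hf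
  have hl2x : bf J2 l2 x = 0 := by rw [hS.h2.symm, hx4]
  have hk1x : bf J2 k1 x = 0 := by rw [hS.h2.symm, hx1]
  have hk2x : bf J2 k2 x = 0 := by rw [hS.h2.symm, hx2]
  obtain ⟨β, hβdef⟩ : ∃ β : GL (Fin b) F, β = rhoW hS.h2 hS.two l2 x hf.l22 hl2x := ⟨_, rfl⟩
  have hβI : β ∈ IsoG J2 := by
    rw [hβdef]
    exact Cfsg.Agent.Lib.Helper9.OTX1.rhoW_mem_IsoG hS.h2 hS.two l2 x hf.l22 hl2x
  have hβΩ : oneK (a := a) β ∈ Cfsg.Geo.omegaGL (⇑Q) := by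
    rw [hβdef]
    exact Cfsg.Agent.Lib.Helper9.OTX1.oneK_rhoW_mem_Om hS hb l2 x hf.l22 hl2x
  have e1 : (β : Matrix (Fin b) (Fin b) F) *ᵥ k1 = k1 := by
    rw [hβdef, rhoW_val, Matrix.add_mulVec, Matrix.one_mulVec, SgN_mulVec, hk1x, hf.k1l2]
    simp
  obtain ⟨k3, hk3⟩ : ∃ k3 : Fin b → F, k3 = k2 - x - (bf J2 x x / 2) • l2 := ⟨_, rfl⟩
  have e2 : (β : Matrix (Fin b) (Fin b) F) *ᵥ k2 = k3 := by
    rw [hβdef, rhoW_val, Matrix.add_mulVec, Matrix.one_mulVec, SgN_mulVec, hk2x, hf.k2l2, hk3]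
    simp only [zero_smul, one_smul, mul_one]
    abel
  obtain ⟨c, hc⟩ : ∃ c : F, c = -(bf J2 x x / 2) := ⟨_, rfl⟩
  have hc0 : c ≠ 0 := by
    rw [hc]
    exact neg_ne_zero.mpr (div_ne_zero hxx hS.two)
  have h23 : bf J2 k2 k3 = c := by
    rw [hk3, hc]
    simp only [bf_sub_right, bf_smul_right, h.h22, hk2x, hf.k2l2]
    ring
  have h33 : bf J2 k3 k3 = 0 := by
    rw [← e2, hβI k2 k2, h.h22]
  have h13 : bf J2 k1 k3 = 0 := by
    have := hβI k1 k2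
    rw [e1, e2] at this
    rw [this, h.h12]
  have hD' : gZ J1 J2 hS.h2 0 (c⁻¹ • D) 0 k1 k2 h.h11 h.h12 h.h22 ∈ M := by
    have := hsm c⁻¹ 0 D 0 hD
    simpa only [smul_zero] using this
  have hD3 := transport hS hM β hβI hβΩ 0 (c⁻¹ • D) 0 k1 k2 k1 k3 h.h11 h.h12 h.h22 h.h11 h13 h33 e1 e2 hD'
  have h13' : bf J2 k1 (c⁻¹ • k3) = 0 := by rw [bf_smul_right, h13, mul_zero]
  have h33' : bf J2 (c⁻¹ • k3) (c⁻¹ • k3) = 0 := by rw [bf_smul_left, bf_smul_right, h33, mul_zero, mul_zero]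
  have h23' : bf J2 k2 (c⁻¹ • k3) = 1 := by rw [bf_smul_right, h23, inv_mul_cancel₀ hc0]
  have hD4 : gTO J1 J2 hS.h2 D k1 (c⁻¹ • k3) h.h11 h13' h33' ∈ M := by
    rw [gTO_smul_right hS.h2 D c⁻¹ k1 k3 h.h11 h13 h33]
    exact hD3
  have hC' : gTO J1 J2 hS.h2 C k1 k2 h.h11 h.h12 h.h22 ∈ M := by
    rw [← gZ_C]
    exact hC
  have hR := R2_GL J1 J2 hS.h2 C D h.h11 h.h12 h13' h.h22 h33' h23'
  rw [gZ_K1, ← hR]
  exact M.mul_mem (M.mul_mem (M.mul_mem hC' hD4) (M.inv_mem hC')) (M.inv_mem hD4)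

include hb hM in
/-- **(R3)** in `Z_L`, modulo rescaling -/
theorem R3_core (hsm : SmulHyp hS M h) {K' D : Matrix (Fin a) (Fin a) F} (hK'sk : adj J1 K' = -K')
    (hK : gZ J1 J2 hS.h2 K' 0 0 k1 k2 h.h11 h.h12 h.h22 ∈ M)
    (hD : gZ J1 J2 hS.h2 0 D 0 k1 k2 h.h11 h.h12 h.h22 ∈ M) :
    gZ J1 J2 hS.h2 0 (K' * D) (-(adj J1 D * K' * D)) k1 k2 h.h11 h.h12 h.h22 ∈ M := by
  obtain ⟨l1, l2, hf⟩ := exists_frame hS.h2 hS.two h
  obtain ⟨x, hx1, hx2, hx3, hx4, hxx⟩ := exists_aniso_perp hS.h2 hS.two hb hf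
  have hl1x : bf J2 l1 x = 0 := by rw [hS.h2.symm, hx3]
  have hk1x : bf J2 k1 x = 0 := by rw [hS.h2.symm, hx1]
  have hk2x : bf J2 k2 x = 0 := by rw [hS.h2.symm, hx2]
  obtain ⟨β, hβdef⟩ : ∃ β : GL (Fin b) F, β = rhoW hS.h2 hS.two l1 x hf.l11 hl1x := ⟨_, rfl⟩
  have hβI : β ∈ IsoG J2 := by
    rw [hβdef]
    exact Cfsg.Agent.Lib.Helper9.OTX1.rhoW_mem_IsoG hS.h2 hS.two l1 x hf.l11 hl1x
  have hβΩ : oneK (a := a) β ∈ Cfsg.Geo.omegaGL (⇑Q) := by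
    rw [hβdef]
    exact Cfsg.Agent.Lib.Helper9.OTX1.oneK_rhoW_mem_Om hS hb l1 x hf.l11 hl1x
  have e2 : (β : Matrix (Fin b) (Fin b) F) *ᵥ k2 = k2 := by
    rw [hβdef, rhoW_val, Matrix.add_mulVec, Matrix.one_mulVec, SgN_mulVec, hk2x, hf.k2l1]
    simp
  obtain ⟨m1, hm1⟩ : ∃ m1 : Fin b → F, m1 = k1 - x - (bf J2 x x / 2) • l1 := ⟨_, rfl⟩
  have e1 : (β : Matrix (Fin b) (Fin b) F) *ᵥ k1 = m1 := by
    rw [hβdef, rhoW_val, Matrix.add_mulVec, Matrix.one_mulVec, SgN_mulVec, hk1x, hf.k1l1, hm1]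
    simp only [zero_smul, one_smul, mul_one]
    abel
  obtain ⟨c, hc⟩ : ∃ c : F, c = -(bf J2 x x / 2) := ⟨_, rfl⟩
  have hc0 : c ≠ 0 := by
    rw [hc]
    exact neg_ne_zero.mpr (div_ne_zero hxx hS.two)
  have h1m : bf J2 k1 m1 = c := by
    rw [hm1, hc]
    simp only [bf_sub_right, bf_smul_right, h.h11, hk1x, hf.k1l1]
    ring
  have hmm : bf J2 m1 m1 = 0 := by
    rw [← e1, hβI k1 k1, h.h11]
  have hm2 : bf J2 m1 k2 = 0 := by
    have := hβI k1 k2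
    rw [e1, e2] at this
    rw [this, h.h12]
  have hD' : gZ J1 J2 hS.h2 0 (c⁻¹ • D) 0 k1 k2 h.h11 h.h12 h.h22 ∈ M := by
    have := hsm c⁻¹ 0 D 0 hD
    simpa only [smul_zero] using this
  have hD3 := transport hS hM β hβI hβΩ 0 (c⁻¹ • D) 0 k1 k2 m1 k2 h.h11 h.h12 h.h22 hmm hm2 h.h22 e1 e2 hD'
  have hll' : bf J2 (c⁻¹ • m1) (c⁻¹ • m1) = 0 := by rw [bf_smul_left, bf_smul_right, hmm, mul_zero, mul_zero]
  have hl2' : bf J2 (c⁻¹ • m1) k2 = 0 := by rw [bf_smul_left, hm2, mul_zero]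
  have h1l' : bf J2 k1 (c⁻¹ • m1) = 1 := by rw [bf_smul_right, h1m, inv_mul_cancel₀ hc0]
  have hD4 : gTO J1 J2 hS.h2 D (c⁻¹ • m1) k2 hll' hl2' h.h22 ∈ M := by
    rw [gTO_smul_left hS.h2 D c⁻¹ m1 k2 hmm hm2 h.h22]
    exact hD3
  have hK' : gK J2 K' k1 h.h11 ∈ M := by
    rw [← gZ_K1 (J1 := J1) hS.h2 K' k1 k2 h.h11 h.h12 h.h22]
    exact hK
  have hR := R3_GL J1 J2 hS.h1 hS.h2 K' D hK'sk h.h11 hll' h.h22 h1l' h.h12 hl2'
  have hmem : gTO J1 J2 hS.h2 (K' * D) k1 k2 h.h11 h.h12 h.h22 * (gK J2 (adj J1 D * K' * D) k2 h.h22)⁻¹ ∈ M := by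
    rw [← hR]
    exact M.mul_mem (M.mul_mem (M.mul_mem hK' hD4) (M.inv_mem hK')) (M.inv_mem hD4)
  have hinv : (gK J2 (adj J1 D * K' * D) k2 h.h22)⁻¹ =
      gZ J1 J2 hS.h2 0 0 (-(adj J1 D * K' * D)) k1 k2 h.h11 h.h12 h.h22 := by
    rw [inv_eq_iff_eq_inv, eq_comm, inv_eq_iff_mul_eq_one, ← gZ_K2 (J1 := J1) hS.h2 _ k1 k2 h.h11 h.h12 h.h22, gZ_mul]
    apply Units.ext
    rw [gZ_val, Units.val_one]
    unfold zL
    rw [neg_add_cancel, add_zero, TO_zero, Matrix.zero_kronecker, Matrix.zero_kronecker, add_zero, add_zero, add_zero]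
  rw [hinv, ← gZ_C, gZ_mul] at hmem
  simpa only [add_zero, zero_add] using hmem

end main

/-- local copy of helper12's `InZM` (same body) -/
def InZM (J1 : Matrix (Fin a) (Fin a) F) {J2 : Matrix (Fin b) (Fin b) F} (hJ2 : OrthG J2)
    (M : Subgroup (GL (Fin a × Fin b) F)) {k1 k2 : Fin b → F} (h : Ts2 J2 k1 k2)
    (K1 C K2 : Matrix (Fin a) (Fin a) F) : Prop :=
  adj J1 K1 = -K1 ∧ adj J1 K2 = -K2 ∧ gZ J1 J2 hJ2 K1 C K2 k1 k2 h.h11 h.h12 h.h22 ∈ M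

/-- GLUE-B (R2), with the rescaling as a hypothesis -/
theorem inZM_R2_of_smul (hS : SetupO J1 J2 Q) (hb : 5 ≤ b) (hM : Over Q M) (h : Ts2 J2 k1 k2) (hsm : SmulHyp hS M h)
    {C D : Matrix (Fin a) (Fin a) F} (hC : InZM J1 hS.h2 M h 0 C 0) (hD : InZM J1 hS.h2 M h 0 D 0) :
    InZM J1 hS.h2 M h (D * adj J1 C - C * adj J1 D) 0 0 :=
  ⟨skew_R2 hS.h1 C D, adj_zero_neg, R2_core hS hb hM h hsm hC.2.2 hD.2.2⟩

/-- GLUE-B (R3), with the rescaling as a hypothesis -/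
theorem inZM_R3_of_smul (hS : SetupO J1 J2 Q) (hb : 5 ≤ b) (hM : Over Q M) (h : Ts2 J2 k1 k2) (hsm : SmulHyp hS M h)
    {K' D : Matrix (Fin a) (Fin a) F} (hK : InZM J1 hS.h2 M h K' 0 0) (hD : InZM J1 hS.h2 M h 0 D 0) :
    InZM J1 hS.h2 M h 0 (K' * D) (-(adj J1 D * K' * D)) :=
  ⟨adj_zero_neg, skew_R3 hS.h1 K' D hK.1, R3_core hS hb hM h hsm hK.1 hK.2.2 hD.2.2⟩

theorem smulHyp (hS : SetupO J1 J2 Q) (hM : Over Q M) (h : Ts2 J2 k1 k2) : SmulHyp hS M h :=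
  fun c K1 C K2 hg => Cfsg.Agent.Lib.Helper20.OTTorus.gZ_smul_mem hS hM h K1 C K2 c hg

/-- **GLUE-B (R2)**, exact statement of helper12's T3 skeleton (v2: leading arguments `hS hb hM h`) -/
theorem inZM_R2 (hS : SetupO J1 J2 Q) (hb : 5 ≤ b) (hM : Over Q M) (h : Ts2 J2 k1 k2)
    {C D : Matrix (Fin a) (Fin a) F} (hC : InZM J1 hS.h2 M h 0 C 0) (hD : InZM J1 hS.h2 M h 0 D 0) :
    InZM J1 hS.h2 M h (D * adj J1 C - C * adj J1 D) 0 0 :=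
  inZM_R2_of_smul hS hb hM h (smulHyp hS hM h) hC hD

/-- **GLUE-B (R3)**, exact statement of helper12's T3 skeleton (v2: leading arguments `hS hb hM h`) -/
theorem inZM_R3 (hS : SetupO J1 J2 Q) (hb : 5 ≤ b) (hM : Over Q M) (h : Ts2 J2 k1 k2)
    {K' D : Matrix (Fin a) (Fin a) F} (hK : InZM J1 hS.h2 M h K' 0 0) (hD : InZM J1 hS.h2 M h 0 D 0) :
    InZM J1 hS.h2 M h 0 (K' * D) (-(adj J1 D * K' * D)) :=
  inZM_R3_of_smul hS hb hM h (smulHyp hS hM h) hK hD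

end Cfsg.Agent.Lib.Helper2.OTGlueB
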