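import Mathlib

/-!
# Counting linear characters of finite abelian groups (helper2 library)

For a finite commutative group `A`: the number of homomorphisms `A →* ℂˣ` trivial on a subgroup `U`
is the index of `U`; consequently a small family of large subgroups can be avoided simultaneously
by a single linear character.
-/

set_option autoImplicit false

namespace Cfsg.Agent.Lib.Helper2

namespace DualCount

section Comm

variable {A : Type*} [CommGroup A] [Finite A]

/-- the number of linear characters of a finite abelian group -/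
theorem card_hom : Nat.card (A →* ℂˣ) = Nat.card A := by
  have hne : NeZero ((Monoid.exponent A : ℕ) : ℂ) :=
    ⟨by exact_mod_cast Monoid.exponent_ne_zero_of_finite⟩
  exact CommGroup.card_monoidHom_of_hasEnoughRootsOfUnity A ℂ

/-- linear characters separate points -/
theorem exists_ne_one (a : A) (ha : a ≠ 1) : ∃ lam : A →* ℂˣ, lam a ≠ 1 := by
  have hne : NeZero ((Monoid.exponent A : ℕ) : ℂ) :=
    ⟨by exact_mod_cast Monoid.exponent_ne_zero_of_finite⟩
  exact CommGroup.exists_apply_ne_one_of_hasEnoughRootsOfUnity A ℂ ha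

/-- characters trivial on `U` correspond to characters of the quotient -/
noncomputable def annEquiv (U : Subgroup A) :
    {lam : A →* ℂˣ // U ≤ lam.ker} ≃ (A ⧸ U →* ℂˣ) where
  toFun lam := QuotientGroup.lift U lam.1 lam.2
  invFun μ := ⟨μ.comp (QuotientGroup.mk' U), by
    intro u hu
    rw [MonoidHom.mem_ker, MonoidHom.comp_apply, QuotientGroup.mk'_apply,
      (QuotientGroup.eq_one_iff u).mpr hu, map_one]⟩
  left_inv lam := by
    apply Subtype.ext
    ext a
    simp
  right_inv μ := by
    ext q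
    simp

/-- the number of linear characters trivial on `U` -/
theorem card_ann (U : Subgroup A) : Nat.card {lam : A →* ℂˣ // U ≤ lam.ker} = U.index := by
  rw [Nat.card_congr (annEquiv U), card_hom, Subgroup.index_eq_card]

/-- fewer than `q` subgroups of order at least `q` are simultaneously avoided by some character -/
theorem exists_hom_avoid {ι : Type*} (J : Finset ι) (U : ι → Subgroup A) (q : ℕ)
    (hU : ∀ j ∈ J, q ≤ Nat.card (U j)) (hJ : J.card < q) :
    ∃ lam : A →* ℂˣ, ∀ j ∈ J, ¬ U j ≤ lam.ker := by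
  classical
  by_contra hcon
  push Not at hcon
  haveI : Finite (A →* ℂˣ) :=
    Nat.finite_of_card_ne_zero (by rw [card_hom]; exact Nat.card_pos.ne')
  haveI : Fintype (A →* ℂˣ) := Fintype.ofFinite _
  have hcov : (Finset.univ : Finset (A →* ℂˣ)) ⊆
      J.biUnion (fun j => Finset.univ.filter (fun lam : A →* ℂˣ => U j ≤ lam.ker)) := by
    intro lam _
    obtain ⟨j, hj, hle⟩ := hcon lam
    exact Finset.mem_biUnion.mpr ⟨j, hj, Finset.mem_filter.mpr ⟨Finset.mem_univ _, hle⟩⟩
  have h1 := Finset.card_le_card hcov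
  have h2 := Finset.card_biUnion_le (s := J)
    (t := fun j => Finset.univ.filter (fun lam : A →* ℂˣ => U j ≤ lam.ker))
  have h3 : ∀ j, (Finset.univ.filter (fun lam : A →* ℂˣ => U j ≤ lam.ker)).card
      = (U j).index := by
    intro j
    rw [← card_ann (U j), Nat.card_eq_fintype_card, Fintype.card_subtype]
  have h4 : (Finset.univ : Finset (A →* ℂˣ)).card = Nat.card A := by
    rw [Finset.card_univ, ← Nat.card_eq_fintype_card, card_hom]
  rw [h4] at h1
  have h5 : Nat.card A ≤ ∑ j ∈ J, (U j).index := by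
    refine h1.trans (h2.trans ?_)
    apply le_of_eq
    exact Finset.sum_congr rfl (fun j _ => h3 j)
  have h6 : q * Nat.card A ≤ J.card * Nat.card A := by
    calc q * Nat.card A ≤ q * ∑ j ∈ J, (U j).index := Nat.mul_le_mul_left _ h5
      _ = ∑ j ∈ J, q * (U j).index := Finset.mul_sum _ _ _
      _ ≤ ∑ j ∈ J, Nat.card A := by
          apply Finset.sum_le_sum
          intro j hj
          rw [← (U j).card_mul_index]
          exact Nat.mul_le_mul_right _ (hU j hj)
      _ = J.card * Nat.card A := by rw [Finset.sum_const, smul_eq_mul]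
  have hpos : 0 < Nat.card A := Nat.card_pos
  have := Nat.le_of_mul_le_mul_right h6 hpos
  omega

/-- a character trivial on `S` and nontrivial at two given elements outside `S` -/
theorem exists_hom_two (S : Subgroup A) (c w : A) (hc : c ∉ S) (hw : w ∉ S) :
    ∃ lam : A →* ℂˣ, (∀ s ∈ S, lam s = 1) ∧ lam c ≠ 1 ∧ lam w ≠ 1 := by
  have hc' : (QuotientGroup.mk c : A ⧸ S) ≠ 1 := fun h => hc ((QuotientGroup.eq_one_iff c).mp h)
  have hw' : (QuotientGroup.mk w : A ⧸ S) ≠ 1 := fun h => hw ((QuotientGroup.eq_one_iff w).mp h)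
  obtain ⟨l1, hl1⟩ := exists_ne_one (QuotientGroup.mk c : A ⧸ S) hc'
  obtain ⟨l2, hl2⟩ := exists_ne_one (QuotientGroup.mk w : A ⧸ S) hw'
  have key : ∃ l : A ⧸ S →* ℂˣ, l (QuotientGroup.mk c) ≠ 1 ∧ l (QuotientGroup.mk w) ≠ 1 := by
    by_cases h1 : l1 (QuotientGroup.mk w) = 1
    · by_cases h2 : l2 (QuotientGroup.mk c) = 1
      · refine ⟨l1 * l2, ?_, ?_⟩
        · rw [MonoidHom.mul_apply, h2, mul_one]; exact hl1
        · rw [MonoidHom.mul_apply, h1, one_mul]; exact hl2
      · exact ⟨l2, h2, hl2⟩
    · exact ⟨l1, hl1, h1⟩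
  obtain ⟨l, hlc, hlw⟩ := key
  refine ⟨l.comp (QuotientGroup.mk' S), ?_, hlc, hlw⟩
  intro s hs
  rw [MonoidHom.comp_apply, QuotientGroup.mk'_apply, (QuotientGroup.eq_one_iff s).mpr hs, map_one]

omit [Finite A] in
/-- a subgroup generated by two elements of order dividing `p` has order at most `p ^ 2` -/
theorem card_closure_pair_le (u v : A) (p : ℕ) (hp : 0 < p) (hu : u ^ p = 1) (hv : v ^ p = 1) :
    Nat.card (Subgroup.closure ({u, v} : Set A)) ≤ p ^ 2 := by
  classical
  have hsub : ((Subgroup.closure ({u, v} : Set A) : Subgroup A) : Set A) ⊆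
      ((Finset.range p ×ˢ Finset.range p).image (fun ij : ℕ × ℕ => u ^ ij.1 * v ^ ij.2) :
        Finset A) := by
    intro x hx
    rw [SetLike.mem_coe, Subgroup.mem_closure_pair] at hx
    obtain ⟨m, n, rfl⟩ := hx
    have hu' : u ^ (p : ℤ) = 1 := by rw [zpow_natCast, hu]
    have hv' : v ^ (p : ℤ) = 1 := by rw [zpow_natCast, hv]
    have hpz : (p : ℤ) ≠ 0 := by exact_mod_cast hp.ne'
    have hm0 : 0 ≤ m % (p : ℤ) := Int.emod_nonneg m hpz
    have hn0 : 0 ≤ n % (p : ℤ) := Int.emod_nonneg n hpz
    have hm1 : m % (p : ℤ) < p := Int.emod_lt_of_pos m (by exact_mod_cast hp)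
    have hn1 : n % (p : ℤ) < p := Int.emod_lt_of_pos n (by exact_mod_cast hp)
    rw [Finset.mem_coe, Finset.mem_image]
    refine ⟨((m % (p : ℤ)).toNat, (n % (p : ℤ)).toNat), ?_, ?_⟩
    · rw [Finset.mem_product, Finset.mem_range, Finset.mem_range]
      constructor <;> omega
    · show u ^ (m % (p : ℤ)).toNat * v ^ (n % (p : ℤ)).toNat = u ^ m * v ^ n
      rw [zpow_eq_zpow_emod m hu', zpow_eq_zpow_emod n hv', ← zpow_natCast, ← zpow_natCast,
        Int.toNat_of_nonneg hm0, Int.toNat_of_nonneg hn0]
  have h1 : Nat.card (Subgroup.closure ({u, v} : Set A))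
      = ((Subgroup.closure ({u, v} : Set A) : Subgroup A) : Set A).ncard := rfl
  rw [h1]
  refine (Set.ncard_le_ncard hsub (Finset.finite_toSet _)).trans ?_
  rw [Set.ncard_coe_finset]
  refine Finset.card_image_le.trans ?_
  rw [Finset.card_product, Finset.card_range, sq]

end Comm

end DualCount

end Cfsg.Agent.Lib.Helper2
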