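import Mathlib
import Cfsg.Agent.Lib.Helper2.TwoDegrees
import Cfsg.Agent.Lib.Helper2.DualCount
import Cfsg.Agent.Lib.Helper1.Nilpotent
import Cfsg.Agent.Lib.Helper1.Extraspecial

/-!
# `p`-groups with character degrees `1` and `p`: the group-theoretic analysis (helper2 library)

`A` is a self-centralizing abelian normal subgroup of the `p`-group `H` such that the stabilizer of
every linear character of `A` has index at most `p`, and such that a linear character with proper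
stabilizer kills the commutators of its stabilizer (it extends).  We show: if `|H : A| ≥ p ^ 2` then
`|A : Z(H)| = p`; if `|H : A| = p ^ 2` then `|H : Z(H)| = p ^ 3`; if `|H : A| ≥ p ^ 3` then there
is an abelian normal subgroup of larger order than `A`.
-/

set_option autoImplicit false
set_option linter.unusedSectionVars false
set_option linter.style.haveILetI false

namespace Cfsg.Agent.Lib.Helper2

namespace DegP

open TwoDeg

variable {H : Type*} [Group H] [Finite H]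

section Generic

/-- a subgroup of index `p` in a `p`-group is normal with quotient of order `p` -/
theorem index_p_props (p : ℕ) (hp : p.Prime) (hH : IsPGroup p H) (T : Subgroup H)
    (hT : T.index = p) :
    T.Normal ∧ (∀ s t : H, s * t * s⁻¹ * t⁻¹ ∈ T) ∧ ∀ s : H, s ^ p ∈ T := by
  haveI : Fact p.Prime := ⟨hp⟩
  obtain ⟨n, hn⟩ := IsPGroup.iff_card.mp hH
  have hn0 : n ≠ 0 := by
    rintro rfl
    rw [pow_zero] at hn
    have h1 : T.index ∣ Nat.card H := Subgroup.index_dvd_card T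
    rw [hn, hT] at h1
    exact hp.one_lt.ne' (Nat.dvd_one.mp h1)
  have hTn : T.Normal := by
    apply Subgroup.normal_of_index_eq_minFac_card
    rw [hT, hn, hp.pow_minFac hn0]
  refine ⟨hTn, ?_, ?_⟩
  · intro s t
    haveI := hTn
    have hcard : Nat.card (H ⧸ T) = p := by rw [← Subgroup.index_eq_card, hT]
    haveI : IsCyclic (H ⧸ T) := isCyclic_of_prime_card hcard
    rw [← QuotientGroup.eq_one_iff]
    have hcomm : ∀ a b : H ⧸ T, a * b = b * a :=
      fun a b => (IsCyclic.commGroup (α := H ⧸ T)).mul_comm a b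
    rw [QuotientGroup.mk_mul, QuotientGroup.mk_mul, QuotientGroup.mk_mul, QuotientGroup.mk_inv,
      QuotientGroup.mk_inv, hcomm (↑s) (↑t)]
    group
  · intro s
    haveI := hTn
    rw [← hT]
    exact T.pow_index_mem s

/-- modulo a normal subgroup `T` of index `p`, every element is a power of a given `x ∉ T` -/
theorem exists_mul_pow_mem (p : ℕ) (hp : p.Prime) (T : Subgroup H) [hTn : T.Normal]
    (hT : T.index = p) (x : H) (hx : x ∉ T) (y : H) : ∃ i : ℕ, i < p ∧ y * x ^ i ∈ T := by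
  haveI : Fact p.Prime := ⟨hp⟩
  have hcard : Nat.card (H ⧸ T) = p := by rw [← Subgroup.index_eq_card, hT]
  have hx1 : (QuotientGroup.mk x : H ⧸ T) ≠ 1 := fun h => hx ((QuotientGroup.eq_one_iff x).mp h)
  have htop : Subgroup.zpowers (QuotientGroup.mk x : H ⧸ T) = ⊤ :=
    zpowers_eq_top_of_prime_card hcard hx1
  have hmem : (QuotientGroup.mk y : H ⧸ T)⁻¹ ∈ Subgroup.zpowers (QuotientGroup.mk x : H ⧸ T) := by
    rw [htop]; trivial
  rw [← mem_powers_iff_mem_zpowers, Submonoid.mem_powers_iff] at hmem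
  obtain ⟨i, hi⟩ := hmem
  have hxp : x ^ p ∈ T := by rw [← hT]; exact T.pow_index_mem x
  have hyi : y * x ^ i ∈ T := by
    rw [← QuotientGroup.eq_one_iff, QuotientGroup.mk_mul, QuotientGroup.mk_pow, hi, mul_inv_cancel]
  refine ⟨i % p, Nat.mod_lt _ hp.pos, ?_⟩
  have h1 : x ^ i = x ^ (i % p) * (x ^ p) ^ (i / p) := by
    rw [← pow_mul, ← pow_add, Nat.mod_add_div]
  have h2 : y * x ^ (i % p) = y * x ^ i * ((x ^ p) ^ (i / p))⁻¹ := by
    rw [h1]; group
  rw [h2]
  exact T.mul_mem hyi (T.inv_mem (T.pow_mem hxp _))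

/-- a proper inclusion of subgroups of a `p`-group multiplies the order by at least `p` -/
theorem card_mul_le_of_lt (p : ℕ) (hp : p.Prime) (hH : IsPGroup p H) {K L : Subgroup H}
    (hKL : K < L) : p * Nat.card K ≤ Nat.card L := by
  haveI : Fact p.Prime := ⟨hp⟩
  have h1 : K.relIndex L * Nat.card K = Nat.card L := by
    have := Subgroup.relIndex_mul_relIndex (⊥ : Subgroup H) K L bot_le hKL.le
    rw [Subgroup.relIndex_bot_left, Subgroup.relIndex_bot_left] at this
    rw [← this]; ring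
  obtain ⟨n, hn⟩ := (hH.to_subgroup L).index (K.subgroupOf L)
  have hn' : K.relIndex L = p ^ n := hn
  have hn0 : n ≠ 0 := by
    rintro rfl
    rw [pow_zero, Subgroup.relIndex_eq_one] at hn'
    exact hKL.not_ge hn'
  have hdvd : p ∣ K.relIndex L := by rw [hn']; exact dvd_pow_self p hn0
  have hle : p ≤ K.relIndex L :=
    Nat.le_of_dvd (Nat.pos_of_ne_zero (by rw [hn']; exact pow_ne_zero _ hp.pos.ne')) hdvd
  rw [← h1]
  exact Nat.mul_le_mul_right _ hle

/-- two modified elements commute -/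
theorem commute_aux {M : Type*} [Group M] (x y P₁ P₂ w₁ w₂ : M)
    (hw₁ : ∀ g : M, g * w₁ = w₁ * g) (hw₂ : ∀ g : M, g * w₂ = w₂ * g)
    (ex : x * P₂ * x⁻¹ = w₁⁻¹ * P₂) (ey : y * P₁ * y⁻¹ = w₂ * P₁)
    (hc : x * y * x⁻¹ * y⁻¹ = w₁ * w₂) (hP : P₁ * P₂ = P₂ * P₁) :
    (x * P₁) * (y * P₂) = (y * P₂) * (x * P₁) := by
  have e1 : P₁ * y = w₂⁻¹ * (y * P₁) := by
    have h1 : y * P₁ = w₂ * P₁ * y := by
      calc y * P₁ = (y * P₁ * y⁻¹) * y := by group
        _ = w₂ * P₁ * y := by rw [ey]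
    rw [h1]; group
  have e2 : P₂ * x = w₁ * (x * P₂) := by
    have h1 : x * P₂ = w₁⁻¹ * P₂ * x := by
      calc x * P₂ = (x * P₂ * x⁻¹) * x := by group
        _ = w₁⁻¹ * P₂ * x := by rw [ex]
    rw [h1]; group
  have e3 : x * y = w₁ * w₂ * (y * x) := by rw [← hc]; group
  have c1 : x * w₂⁻¹ = w₂⁻¹ * x := by
    have := hw₂ x
    calc x * w₂⁻¹ = w₂⁻¹ * (w₂ * x) * w₂⁻¹ := by group
      _ = w₂⁻¹ * (x * w₂) * w₂⁻¹ := by rw [this]
      _ = w₂⁻¹ * x := by group
  have c2 : w₂⁻¹ * w₁ = w₁ * w₂⁻¹ := hw₁ w₂⁻¹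
  have c3 : y * w₁ = w₁ * y := hw₁ y
  calc x * P₁ * (y * P₂) = x * (P₁ * y) * P₂ := by group
    _ = x * (w₂⁻¹ * (y * P₁)) * P₂ := by rw [e1]
    _ = (x * w₂⁻¹) * y * (P₁ * P₂) := by group
    _ = w₂⁻¹ * x * y * (P₂ * P₁) := by rw [c1, hP]
    _ = w₂⁻¹ * (x * y) * (P₂ * P₁) := by group
    _ = w₂⁻¹ * (w₁ * w₂ * (y * x)) * (P₂ * P₁) := by rw [e3]
    _ = (w₂⁻¹ * w₁) * w₂ * (y * x) * (P₂ * P₁) := by group
    _ = w₁ * w₂⁻¹ * w₂ * (y * x) * (P₂ * P₁) := by rw [c2]
    _ = (w₁ * y) * x * P₂ * P₁ := by group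
    _ = (y * w₁) * x * P₂ * P₁ := by rw [c3]
    _ = y * (w₁ * (x * P₂)) * P₁ := by group
    _ = y * (P₂ * x) * P₁ := by rw [e2]
    _ = y * P₂ * (x * P₁) := by group

end Generic

section Kap

variable (A : Subgroup H) [hA : A.Normal] (hc : ∀ a ∈ A, ∀ b ∈ A, a * b = b * a)

/-- the commutative group structure on an abelian subgroup -/
@[reducible] def commInst : CommGroup A :=
  { (inferInstance : Group A) with mul_comm := fun a b => Subtype.ext (hc a a.2 b b.2) }

include hc in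
theorem sub_exists_hom_two (S : Subgroup A) (c w : A) (hcS : c ∉ S) (hwS : w ∉ S) :
    ∃ lam : A →* ℂˣ, (∀ s ∈ S, lam s = 1) ∧ lam c ≠ 1 ∧ lam w ≠ 1 :=
  @DualCount.exists_hom_two A (commInst A hc) _ S c w hcS hwS

include hc in
theorem sub_exists_hom_avoid {ι : Type*} (J : Finset ι) (U : ι → Subgroup A) (q : ℕ)
    (hU : ∀ j ∈ J, q ≤ Nat.card (U j)) (hJ : J.card < q) :
    ∃ lam : A →* ℂˣ, ∀ j ∈ J, ¬ U j ≤ lam.ker :=
  @DualCount.exists_hom_avoid A (commInst A hc) _ ι J U q hU hJ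

include hc in
theorem sub_card_closure_pair_le (u v : A) (p : ℕ) (hp : 0 < p) (hu : u ^ p = 1)
    (hv : v ^ p = 1) : Nat.card (Subgroup.closure ({u, v} : Set A)) ≤ p ^ 2 :=
  @DualCount.card_closure_pair_le A (commInst A hc) u v p hp hu hv

include hc in
theorem sub_mem_closure_pair (u v z : A) :
    z ∈ Subgroup.closure ({u, v} : Set A) ↔ ∃ m n : ℤ, u ^ m * v ^ n = z :=
  @Subgroup.mem_closure_pair A (commInst A hc) u v z

/-- the commutator map `n ↦ g n g⁻¹ n⁻¹` on the abelian normal subgroup `A` -/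
def kap (g : H) : A →* A where
  toFun n := ⟨g * n * g⁻¹ * (n : H)⁻¹, A.mul_mem (hA.conj_mem n n.2 g) (A.inv_mem n.2)⟩
  map_one' := by
    apply Subtype.ext
    simp
  map_mul' := by
    intro n m
    apply Subtype.ext
    have hu : g * m * g⁻¹ * (m : H)⁻¹ ∈ A := A.mul_mem (hA.conj_mem m m.2 g) (A.inv_mem m.2)
    have hcomm := hc _ hu _ (A.inv_mem n.2)
    show g * ((n : H) * m) * g⁻¹ * ((n : H) * m)⁻¹
      = g * n * g⁻¹ * (n : H)⁻¹ * (g * m * g⁻¹ * (m : H)⁻¹)
    calc g * ((n : H) * m) * g⁻¹ * ((n : H) * m)⁻¹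
        = g * n * g⁻¹ * ((g * m * g⁻¹ * (m : H)⁻¹) * (n : H)⁻¹) := by group
      _ = g * n * g⁻¹ * ((n : H)⁻¹ * (g * m * g⁻¹ * (m : H)⁻¹)) := by rw [hcomm]
      _ = _ := by group

theorem kap_coe (g : H) (n : A) : ((kap A hc g n : A) : H) = g * n * g⁻¹ * (n : H)⁻¹ := rfl

theorem kap_eq_one_iff (g : H) (n : A) : kap A hc g n = 1 ↔ g * n = n * g := by
  rw [Subtype.ext_iff, kap_coe, Subgroup.coe_one]
  constructor
  · intro h
    have h1 : g * n * g⁻¹ = n := mul_inv_eq_one.mp h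
    calc g * n = g * n * g⁻¹ * g := by group
      _ = n * g := by rw [h1]
  · intro h
    rw [h]; group

theorem mem_stab_iff (lam : A →* ℂˣ) (g : H) :
    g ∈ stab A lam ↔ ∀ n : A, lam (kap A hc g n) = 1 := by
  rw [mem_stab]
  have h2 : ∀ n : A, kap A hc g n = ⟨g * n * g⁻¹, hA.conj_mem n n.2 g⟩ * n⁻¹ := by
    intro n
    apply Subtype.ext; rfl
  constructor
  · intro h n
    have h1 := DFunLike.congr_fun h n
    rw [act_apply] at h1
    rw [h2, map_mul, map_inv, h1, mul_inv_cancel]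
  · intro h
    apply MonoidHom.ext
    intro n
    rw [act_apply]
    have h3 := h n
    rw [h2, map_mul, map_inv, mul_inv_eq_one] at h3
    exact h3

theorem mem_stab_iff_range (lam : A →* ℂˣ) (g : H) :
    g ∈ stab A lam ↔ (kap A hc g).range ≤ lam.ker := by
  rw [mem_stab_iff A hc]
  constructor
  · rintro h _ ⟨n, rfl⟩
    exact MonoidHom.mem_ker.mpr (h n)
  · intro h n
    exact MonoidHom.mem_ker.mp (h ⟨n, rfl⟩)

theorem card_range (g : H) : Nat.card (kap A hc g).range = (kap A hc g).ker.index :=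
  (Subgroup.index_ker _).symm

end Kap

/-- `x ∉ A` and `y` is not in `⟨x⟩ A` -/
def Indep (A : Subgroup H) (x y : H) : Prop := x ∉ A ∧ ∀ i : ℤ, y * x ^ i ∉ A

/-- the configuration: a self-centralizing abelian normal subgroup of a `p`-group whose linear
characters have stabilizers of index at most `p`, with the extension property -/
structure Cfg (p : ℕ) (A : Subgroup H) [hA : A.Normal] : Prop where
  hp : p.Prime
  pgrp : IsPGroup p H
  comm : ∀ a ∈ A, ∀ b ∈ A, a * b = b * a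
  cent : ∀ g : H, (∀ a ∈ A, g * a = a * g) → g ∈ A
  hstab : ∀ lam : A →* ℂˣ, TwoDeg.stab A lam = ⊤ ∨
    ((TwoDeg.stab A lam).index = p ∧ ∀ s ∈ TwoDeg.stab A lam, ∀ t ∈ TwoDeg.stab A lam,
      ∀ h : s * t * s⁻¹ * t⁻¹ ∈ A, lam ⟨s * t * s⁻¹ * t⁻¹, h⟩ = 1)

section Main

variable {A : Subgroup H} [hA : A.Normal] {p : ℕ}

theorem mem_of_forall_stab (h : Cfg p A) (g : H) (hg : ∀ lam : A →* ℂˣ, g ∈ stab A lam) :
    g ∈ A := by
  apply h.cent
  have hcz : g ∈ Subgroup.centralizer (A : Set H) :=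
    mem_centralizer_of_forall_stab A h.comm g hg
  intro a ha
  exact (hcz a ha).symm

/-- `H / A` is abelian -/
theorem comm_mem (h : Cfg p A) (s t : H) : s * t * s⁻¹ * t⁻¹ ∈ A := by
  apply mem_of_forall_stab h
  intro lam
  rcases h.hstab lam with h1 | ⟨h1, -⟩
  · rw [h1]; trivial
  · exact (index_p_props p h.hp h.pgrp _ h1).2.1 s t

/-- `H / A` has exponent `p` -/
theorem pow_mem (h : Cfg p A) (s : H) : s ^ p ∈ A := by
  apply mem_of_forall_stab h
  intro lam
  rcases h.hstab lam with h1 | ⟨h1, -⟩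
  · rw [h1]; trivial
  · exact (index_p_props p h.hp h.pgrp _ h1).2.2 s

theorem center_le (h : Cfg p A) : Subgroup.center H ≤ A := by
  intro z hz
  apply h.cent
  intro a _
  exact (Subgroup.mem_center_iff.mp hz a).symm

theorem exists_kap_ne_one (h : Cfg p A) (x : H) (hx : x ∉ A) :
    ∃ b : A, kap A h.comm x b ≠ 1 := by
  by_contra hcon
  push Not at hcon
  apply hx
  apply h.cent
  intro a ha
  exact (kap_eq_one_iff A h.comm x ⟨a, ha⟩).mp (hcon ⟨a, ha⟩)

/-- an element of `A` commuting with some element outside `A` is central -/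
theorem central_of_commute (h : Cfg p A) (x : H) (hx : x ∉ A) (a : A) (hxa : x * a = a * x)
    (y : H) : y * a = a * y := by
  by_contra hne
  obtain ⟨b, hb⟩ := exists_kap_ne_one h x hx
  have hv : kap A h.comm y a ≠ 1 := fun h0 => hne ((kap_eq_one_iff A h.comm y a).mp h0)
  obtain ⟨lam, -, hlu, hlv⟩ := sub_exists_hom_two A h.comm ⊥ (kap A h.comm x b)
    (kap A h.comm y a) (by rw [Subgroup.mem_bot]; exact hb) (by rw [Subgroup.mem_bot]; exact hv)
  have hxs : x ∉ stab A lam := fun hmem => hlu ((mem_stab_iff A h.comm lam x).mp hmem b)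
  rcases h.hstab lam with h1 | ⟨h1, -⟩
  · apply hxs; rw [h1]; trivial
  · obtain ⟨hTn, -, -⟩ := index_p_props p h.hp h.pgrp _ h1
    haveI := hTn
    obtain ⟨i, -, hi⟩ := exists_mul_pow_mem p h.hp _ h1 x hxs y
    apply hlv
    have h2 := (mem_stab_iff A h.comm lam (y * x ^ i)).mp hi a
    have h3 : kap A h.comm (y * x ^ i) a = kap A h.comm y a := by
      apply Subtype.ext
      rw [kap_coe, kap_coe]
      have hcomm : x ^ i * (a : H) = a * x ^ i :=
        (Commute.pow_left (show Commute x (a : H) from hxa) i).eq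
      calc y * x ^ i * a * (y * x ^ i)⁻¹ * (a : H)⁻¹
          = y * (x ^ i * a) * (x ^ i)⁻¹ * y⁻¹ * (a : H)⁻¹ := by group
        _ = y * (a * x ^ i) * (x ^ i)⁻¹ * y⁻¹ * (a : H)⁻¹ := by rw [hcomm]
        _ = _ := by group
    rw [h3] at h2
    exact h2

theorem ker_kap (h : Cfg p A) (x : H) (hx : x ∉ A) :
    (kap A h.comm x).ker = (Subgroup.center H).subgroupOf A := by
  ext a
  rw [MonoidHom.mem_ker, kap_eq_one_iff, Subgroup.mem_subgroupOf, Subgroup.mem_center_iff]
  constructor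
  · intro hxa y
    exact central_of_commute h x hx a hxa y
  · intro hy
    exact hy x

theorem card_range_kap (h : Cfg p A) (x : H) (hx : x ∉ A) :
    Nat.card (kap A h.comm x).range = (Subgroup.center H).relIndex A := by
  rw [card_range, ker_kap h x hx]
  rfl

theorem exists_indep (h : Cfg p A) (k : ℕ) (hk : 2 ≤ k) (hidx : A.index = p ^ k) :
    ∃ x y, Indep A x y := by
  have hAtop : A ≠ ⊤ := by
    intro htop
    rw [htop, Subgroup.index_top] at hidx
    have := Nat.one_lt_pow (by omega : k ≠ 0) h.hp.one_lt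
    omega
  obtain ⟨x, hx⟩ : ∃ x, x ∉ A := by
    by_contra hcon
    push Not at hcon
    exact hAtop (eq_top_iff.mpr fun g _ => hcon g)
  by_contra hcon
  have hall : ∀ y, ∃ i : ℤ, y * x ^ i ∈ A := by
    intro y
    by_contra hy
    push Not at hy
    exact hcon ⟨x, y, hx, hy⟩
  have htop : Subgroup.zpowers (QuotientGroup.mk x : H ⧸ A) = ⊤ := by
    rw [eq_top_iff]
    rintro q -
    obtain ⟨y, rfl⟩ := QuotientGroup.mk_surjective q
    obtain ⟨i, hi⟩ := hall y
    have : (QuotientGroup.mk y : H ⧸ A) = ((QuotientGroup.mk x : H ⧸ A) ^ i)⁻¹ := by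
      rw [← QuotientGroup.eq_one_iff, QuotientGroup.mk_mul, QuotientGroup.mk_zpow] at hi
      exact mul_eq_one_iff_eq_inv.mp hi
    rw [this]
    exact Subgroup.inv_mem _ (Subgroup.zpow_mem _ (Subgroup.mem_zpowers _) i)
  have hord : orderOf (QuotientGroup.mk x : H ⧸ A) ∣ p := by
    apply orderOf_dvd_of_pow_eq_one
    rw [← QuotientGroup.mk_pow]
    exact (QuotientGroup.eq_one_iff _).mpr (pow_mem h x)
  have hcard : A.index = orderOf (QuotientGroup.mk x : H ⧸ A) := by
    rw [Subgroup.index_eq_card, ← Nat.card_zpowers, htop, Subgroup.card_top]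
  rw [hcard] at hidx
  rw [hidx] at hord
  have h1 : p ^ 2 ∣ p := dvd_trans (pow_dvd_pow p hk) hord
  have h2 := Nat.le_of_dvd h.hp.pos h1
  have := h.hp.one_lt
  nlinarith

theorem relIndex_lt (h : Cfg p A) (x y : H) (hxy : Indep A x y) :
    (Subgroup.center H).relIndex A < p ^ 2 := by
  classical
  by_contra hcon
  push Not at hcon
  obtain ⟨J, hJ⟩ : ∃ J : Finset H,
      J = insert x ((Finset.range p).image (fun i : ℕ => y * x ^ i)) := ⟨_, rfl⟩
  have hJA : ∀ g ∈ J, g ∉ A := by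
    intro g hg
    rw [hJ, Finset.mem_insert, Finset.mem_image] at hg
    rcases hg with rfl | ⟨i, -, rfl⟩
    · exact hxy.1
    · have := hxy.2 (i : ℤ)
      rwa [zpow_natCast] at this
  have hJcard : J.card < p ^ 2 := by
    have h1 : J.card ≤ p + 1 := by
      rw [hJ]
      refine (Finset.card_insert_le _ _).trans ?_
      have := Finset.card_image_le (s := Finset.range p) (f := fun i : ℕ => y * x ^ i)
      rw [Finset.card_range] at this
      omega
    have := h.hp.two_le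
    nlinarith
  obtain ⟨lam, hlam⟩ := sub_exists_hom_avoid A h.comm J (fun g => (kap A h.comm g).range) (p ^ 2)
    (by
      intro g hg
      rw [card_range_kap h g (hJA g hg)]
      exact hcon) hJcard
  have hnot : ∀ g ∈ J, g ∉ stab A lam := by
    intro g hg hmem
    exact hlam g hg ((mem_stab_iff_range A h.comm lam g).mp hmem)
  have hxJ : x ∈ J := by rw [hJ]; exact Finset.mem_insert_self _ _
  have hxs := hnot x hxJ
  rcases h.hstab lam with h1 | ⟨h1, -⟩
  · apply hxs; rw [h1]; trivial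
  · obtain ⟨hTn, -, -⟩ := index_p_props p h.hp h.pgrp _ h1
    haveI := hTn
    obtain ⟨i, hip, hi⟩ := exists_mul_pow_mem p h.hp _ h1 x hxs y
    refine hnot (y * x ^ i) ?_ hi
    rw [hJ]
    exact Finset.mem_insert_of_mem (Finset.mem_image.mpr ⟨i, Finset.mem_range.mpr hip, rfl⟩)

/-- `|A : Z(H)| = p` when `H / A` is not cyclic -/
theorem relIndex_eq (h : Cfg p A) (x y : H) (hxy : Indep A x y) :
    (Subgroup.center H).relIndex A = p := by
  haveI : Fact p.Prime := ⟨h.hp⟩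
  have hlt := relIndex_lt h x y hxy
  have hdvd : (Subgroup.center H).relIndex A ∣ Nat.card A := Subgroup.relIndex_dvd_card _ _
  obtain ⟨n, hn⟩ := IsPGroup.iff_card.mp (h.pgrp.to_subgroup A)
  rw [hn] at hdvd
  obtain ⟨j, -, hj⟩ := (Nat.dvd_prime_pow h.hp).mp hdvd
  rw [hj] at hlt ⊢
  have hj2 : j < 2 := (Nat.pow_lt_pow_iff_right h.hp.one_lt).mp hlt
  have hj0 : j ≠ 0 := by
    rintro rfl
    rw [pow_zero, Subgroup.relIndex_eq_one] at hj
    apply hxy.1
    apply h.cent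
    intro a ha
    exact Subgroup.mem_center_iff.mp (hj ha) x
  have : j = 1 := by omega
  rw [this, pow_one]

theorem index_center (h : Cfg p A) (x y : H) (hxy : Indep A x y) (hidx : A.index = p ^ 2) :
    (Subgroup.center H).index = p ^ 3 := by
  rw [← Subgroup.relIndex_mul_index (center_le h), relIndex_eq h x y hxy, hidx]
  ring

/-- the commutators `[g, n]`, `n ∈ A`, are central when `|A : Z(H)| = p` -/
theorem kap_mem_center (h : Cfg p A) (hr : (Subgroup.center H).relIndex A = p) (g : H) (n : A) :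
    ((kap A h.comm g n : A) : H) ∈ Subgroup.center H := by
  haveI : Fact p.Prime := ⟨h.hp⟩
  by_cases hg : g ∈ A
  · have : kap A h.comm g n = 1 := (kap_eq_one_iff A h.comm g n).mpr (h.comm g hg n n.2)
    rw [this]; exact Subgroup.one_mem _
  · obtain ⟨N, hN⟩ : ∃ N : Subgroup H, N = (kap A h.comm g).range.map A.subtype := ⟨_, rfl⟩
    have hcard : Nat.card N = p := by
      rw [hN, Subgroup.card_map_of_injective (Subgroup.subtype_injective A),
        card_range_kap h g hg, hr]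
    have hNn : N.Normal := by
      constructor
      intro u hu k
      rw [hN] at hu ⊢
      obtain ⟨_, ⟨m, rfl⟩, rfl⟩ := hu
      refine ⟨kap A h.comm g ⟨k * m * k⁻¹, hA.conj_mem m m.2 k⟩, ⟨_, rfl⟩, ?_⟩
      show (g * (k * m * k⁻¹) * g⁻¹ * (k * m * k⁻¹)⁻¹ : H) = k * (g * m * g⁻¹ * (m : H)⁻¹) * k⁻¹
      have hcA : k * g * k⁻¹ * g⁻¹ ∈ A := comm_mem h k g
      have hm : g * (k * m * k⁻¹) * g⁻¹ ∈ A := hA.conj_mem _ (hA.conj_mem m m.2 k) g
      have hcm := h.comm _ hcA _ hm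
      symm
      calc k * (g * m * g⁻¹ * (m : H)⁻¹) * k⁻¹
          = (k * g * k⁻¹ * g⁻¹) * (g * (k * m * k⁻¹) * g⁻¹) * (k * g * k⁻¹ * g⁻¹)⁻¹
            * (k * m * k⁻¹)⁻¹ := by group
        _ = (g * (k * m * k⁻¹) * g⁻¹) * (k * g * k⁻¹ * g⁻¹) * (k * g * k⁻¹ * g⁻¹)⁻¹
            * (k * m * k⁻¹)⁻¹ := by rw [hcm]
        _ = g * (k * m * k⁻¹) * g⁻¹ * (k * m * k⁻¹)⁻¹ := by group
    haveI := hNn
    have hle := Cfsg.Agent.Lib.Helper1.le_center_of_normal_of_card_prime h.pgrp N hcard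
    apply hle
    rw [hN]
    exact ⟨kap A h.comm g n, ⟨n, rfl⟩, rfl⟩

theorem kap_mul (h : Cfg p A) (hr : (Subgroup.center H).relIndex A = p) (g k : H) (a : A) :
    kap A h.comm (g * k) a = kap A h.comm g a * kap A h.comm k a := by
  apply Subtype.ext
  rw [Subgroup.coe_mul, kap_coe, kap_coe, kap_coe]
  have hz := kap_mem_center h hr k a
  rw [kap_coe] at hz
  have hzc : g * (k * a * k⁻¹ * (a : H)⁻¹) = (k * a * k⁻¹ * (a : H)⁻¹) * g :=
    Subgroup.mem_center_iff.mp hz g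
  have hzc' : (g * a * g⁻¹ * (a : H)⁻¹) * (k * a * k⁻¹ * (a : H)⁻¹)
      = (k * a * k⁻¹ * (a : H)⁻¹) * (g * a * g⁻¹ * (a : H)⁻¹) :=
    Subgroup.mem_center_iff.mp hz _
  calc g * k * a * (g * k)⁻¹ * (a : H)⁻¹
      = g * (k * a * k⁻¹ * (a : H)⁻¹) * a * g⁻¹ * (a : H)⁻¹ := by group
    _ = (k * a * k⁻¹ * (a : H)⁻¹) * g * a * g⁻¹ * (a : H)⁻¹ := by rw [hzc]
    _ = (k * a * k⁻¹ * (a : H)⁻¹) * (g * a * g⁻¹ * (a : H)⁻¹) := by group
    _ = (g * a * g⁻¹ * (a : H)⁻¹) * (k * a * k⁻¹ * (a : H)⁻¹) := hzc'.symm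

/-- the homomorphism `g ↦ [g, a₀]` -/
def phiHom (h : Cfg p A) (hr : (Subgroup.center H).relIndex A = p) (a₀ : A) : H →* A where
  toFun g := kap A h.comm g a₀
  map_one' := by
    apply Subtype.ext
    rw [kap_coe]
    simp
  map_mul' := fun g k => kap_mul h hr g k a₀

theorem phiHom_apply (h : Cfg p A) (hr : (Subgroup.center H).relIndex A = p) (a₀ : A) (g : H) :
    phiHom h hr a₀ g = kap A h.comm g a₀ := rfl

theorem ker_phiHom (h : Cfg p A) (hr : (Subgroup.center H).relIndex A = p) (a₀ : A)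
    (ha₀ : (a₀ : H) ∉ Subgroup.center H) : (phiHom h hr a₀).ker = A := by
  ext g
  rw [MonoidHom.mem_ker, phiHom_apply, kap_eq_one_iff]
  constructor
  · intro hg
    by_contra hgA
    apply ha₀
    rw [Subgroup.mem_center_iff]
    intro y
    exact central_of_commute h g hgA a₀ hg y
  · intro hg
    exact h.comm g hg a₀ a₀.2

theorem mem_stab_of_phi (h : Cfg p A) (hr : (Subgroup.center H).relIndex A = p) (a₀ : A)
    (ha₀ : (a₀ : H) ∉ Subgroup.center H) (lam : A →* ℂˣ) (g : H)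
    (hφ : lam (kap A h.comm g a₀) = 1) : g ∈ stab A lam := by
  haveI : Fact p.Prime := ⟨h.hp⟩
  by_cases hg : g ∈ A
  · exact le_stab A h.comm lam hg
  rw [mem_stab_iff A h.comm]
  intro n
  have hcard : Nat.card (kap A h.comm g).range = p := by rw [card_range_kap h g hg, hr]
  have hu0 : (⟨kap A h.comm g a₀, ⟨a₀, rfl⟩⟩ : (kap A h.comm g).range) ≠ 1 := by
    intro h0
    have h1 : kap A h.comm g a₀ = 1 := congrArg Subtype.val h0
    have h2 : a₀ ∈ (kap A h.comm g).ker := MonoidHom.mem_ker.mpr h1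
    rw [ker_kap h g hg, Subgroup.mem_subgroupOf] at h2
    exact ha₀ h2
  have htop := zpowers_eq_top_of_prime_card hcard hu0
  have hmem : (⟨kap A h.comm g n, ⟨n, rfl⟩⟩ : (kap A h.comm g).range) ∈
      Subgroup.zpowers (⟨kap A h.comm g a₀, ⟨a₀, rfl⟩⟩ : (kap A h.comm g).range) := by
    rw [htop]; trivial
  obtain ⟨j, hj⟩ := Subgroup.mem_zpowers_iff.mp hmem
  have hj' : (kap A h.comm g a₀) ^ j = kap A h.comm g n := by
    have := congrArg Subtype.val hj
    rw [Subgroup.coe_zpow] at this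
    exact this
  rw [← hj', map_zpow, hφ, one_zpow]

theorem exists_not_mem_closure (h : Cfg p A) (hr : (Subgroup.center H).relIndex A = p) (a₀ : A)
    (ha₀ : (a₀ : H) ∉ Subgroup.center H) (k : ℕ) (hk : 3 ≤ k) (hidx : A.index = p ^ k)
    (y₁ y₂ : H) :
    ∃ y₃ : H, kap A h.comm y₃ a₀ ∉
      Subgroup.closure ({kap A h.comm y₁ a₀, kap A h.comm y₂ a₀} : Set A) := by
  by_contra hcon
  push Not at hcon
  have hker : (phiHom h hr a₀).ker = A := ker_phiHom h hr a₀ ha₀
  have hrange : (phiHom h hr a₀).range ≤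
      Subgroup.closure ({kap A h.comm y₁ a₀, kap A h.comm y₂ a₀} : Set A) := by
    rintro _ ⟨g, rfl⟩
    exact hcon g
  have h1 : Nat.card (phiHom h hr a₀).range = p ^ k := by
    rw [← Subgroup.index_ker, hker, hidx]
  have hpow : ∀ y : H, (kap A h.comm y a₀) ^ p = 1 := by
    intro y
    have h2 : (phiHom h hr a₀) (y ^ p) = 1 := by
      rw [← MonoidHom.mem_ker, hker]; exact pow_mem h y
    rw [map_pow, phiHom_apply] at h2
    exact h2
  have h2 := sub_card_closure_pair_le A h.comm (kap A h.comm y₁ a₀) (kap A h.comm y₂ a₀) p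
    h.hp.pos (hpow y₁) (hpow y₂)
  have h3 := Subgroup.card_le_of_le hrange
  rw [h1] at h3
  have h4 : p ^ 3 ≤ p ^ k := Nat.pow_le_pow_right h.hp.pos hk
  have h5 : p ^ 2 < p ^ 3 := Nat.pow_lt_pow_right h.hp.one_lt (by norm_num)
  omega

theorem comm_mem_closure (h : Cfg p A) (hr : (Subgroup.center H).relIndex A = p) (a₀ : A)
    (ha₀ : (a₀ : H) ∉ Subgroup.center H) (y₁ y₂ y₃ : H)
    (hy₃ : kap A h.comm y₃ a₀ ∉
      Subgroup.closure ({kap A h.comm y₁ a₀, kap A h.comm y₂ a₀} : Set A)) :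
    (⟨y₁ * y₂ * y₁⁻¹ * y₂⁻¹, comm_mem h y₁ y₂⟩ : A) ∈
      Subgroup.closure ({kap A h.comm y₁ a₀, kap A h.comm y₂ a₀} : Set A) := by
  by_contra hc
  obtain ⟨lam, hS, hlc, hlw⟩ := sub_exists_hom_two A h.comm
    (Subgroup.closure ({kap A h.comm y₁ a₀, kap A h.comm y₂ a₀} : Set A))
    ⟨y₁ * y₂ * y₁⁻¹ * y₂⁻¹, comm_mem h y₁ y₂⟩ (kap A h.comm y₃ a₀) hc hy₃
  have h1 : y₁ ∈ stab A lam := mem_stab_of_phi h hr a₀ ha₀ lam y₁
    (hS _ (Subgroup.subset_closure (Set.mem_insert _ _)))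
  have h2 : y₂ ∈ stab A lam := mem_stab_of_phi h hr a₀ ha₀ lam y₂
    (hS _ (Subgroup.subset_closure (Set.mem_insert_of_mem _ (Set.mem_singleton _))))
  have h3 : y₃ ∉ stab A lam := fun hm => hlw ((mem_stab_iff A h.comm lam y₃).mp hm a₀)
  rcases h.hstab lam with ht | ⟨-, hext⟩
  · apply h3; rw [ht]; trivial
  · exact hlc (hext y₁ h1 y₂ h2 (comm_mem h y₁ y₂))

theorem conj_zpow_eq (h : Cfg p A) (hr : (Subgroup.center H).relIndex A = p) (g : H) (a₀ : A)
    (t : ℤ) :
    g * (a₀ : H) ^ t * g⁻¹ = ((kap A h.comm g a₀ : A) : H) ^ t * (a₀ : H) ^ t := by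
  have h1 : g * (a₀ : H) * g⁻¹ = ((kap A h.comm g a₀ : A) : H) * a₀ := by
    rw [kap_coe]; group
  have hcomm : Commute ((kap A h.comm g a₀ : A) : H) (a₀ : H) :=
    (Subgroup.mem_center_iff.mp (kap_mem_center h hr g a₀) a₀).symm
  rw [← conj_zpow, h1, hcomm.mul_zpow]

/-- when `|H : A| ≥ p ^ 3` there is an abelian normal subgroup of larger order than `A` -/
theorem exists_larger (h : Cfg p A) (hr : (Subgroup.center H).relIndex A = p) (k : ℕ)
    (hk : 3 ≤ k) (hidx : A.index = p ^ k) (x y : H) (hxy : Indep A x y) :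
    ∃ B : Subgroup H, B.Normal ∧ (∀ a ∈ B, ∀ b ∈ B, a * b = b * a) ∧
      Nat.card A < Nat.card B := by
  classical
  obtain ⟨a₀, ha₀⟩ : ∃ a₀ : A, (a₀ : H) ∉ Subgroup.center H := by
    by_contra hcon
    push Not at hcon
    have hle : A ≤ Subgroup.center H := fun a ha => hcon ⟨a, ha⟩
    have := Subgroup.relIndex_eq_one.mpr hle
    rw [hr] at this
    exact h.hp.one_lt.ne' this
  have hcl : ∀ s t : H, (⟨s * t * s⁻¹ * t⁻¹, comm_mem h s t⟩ : A) ∈
      Subgroup.closure ({kap A h.comm s a₀, kap A h.comm t a₀} : Set A) := by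
    intro s t
    obtain ⟨y₃, hy₃⟩ := exists_not_mem_closure h hr a₀ ha₀ k hk hidx s t
    exact comm_mem_closure h hr a₀ ha₀ s t y₃ hy₃
  have hcen : ∀ s t : H, s * t * s⁻¹ * t⁻¹ ∈ Subgroup.center H := by
    intro s t
    have h1 : Subgroup.closure ({kap A h.comm s a₀, kap A h.comm t a₀} : Set A) ≤
        (Subgroup.center H).subgroupOf A := by
      rw [Subgroup.closure_le]
      rintro u (rfl | rfl)
      · exact Subgroup.mem_subgroupOf.mpr (kap_mem_center h hr s a₀)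
      · exact Subgroup.mem_subgroupOf.mpr (kap_mem_center h hr t a₀)
    exact Subgroup.mem_subgroupOf.mp (h1 (hcl s t))
  obtain ⟨m, n, hmn⟩ := (sub_mem_closure_pair A h.comm _ _ _).mp (hcl x y)
  have hmn' : ((kap A h.comm x a₀ : A) : H) ^ m * ((kap A h.comm y a₀ : A) : H) ^ n
      = x * y * x⁻¹ * y⁻¹ := by
    have := congrArg Subtype.val hmn
    rw [Subgroup.coe_mul, Subgroup.coe_zpow, Subgroup.coe_zpow] at this
    exact this
  have hz₁ : ((kap A h.comm x a₀ : A) : H) ^ m ∈ Subgroup.center H :=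
    Subgroup.zpow_mem _ (kap_mem_center h hr x a₀) m
  have hz₂ : ((kap A h.comm y a₀ : A) : H) ^ n ∈ Subgroup.center H :=
    Subgroup.zpow_mem _ (kap_mem_center h hr y a₀) n
  have hxy' : (x * (a₀ : H) ^ n) * (y * (a₀ : H) ^ (-m)) = (y * (a₀ : H) ^ (-m)) * (x * (a₀ : H) ^ n) := by
    apply commute_aux x y ((a₀ : H) ^ n) ((a₀ : H) ^ (-m)) (((kap A h.comm x a₀ : A) : H) ^ m)
      (((kap A h.comm y a₀ : A) : H) ^ n)
    · exact fun g => Subgroup.mem_center_iff.mp hz₁ g
    · exact fun g => Subgroup.mem_center_iff.mp hz₂ g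
    · rw [conj_zpow_eq h hr x a₀ (-m), zpow_neg]
    · exact conj_zpow_eq h hr y a₀ n
    · exact hmn'.symm
    · exact ((Commute.refl (a₀ : H)).zpow_zpow n (-m)).eq
  obtain ⟨x', hx'⟩ : ∃ x' : H, x' = x * (a₀ : H) ^ n := ⟨_, rfl⟩
  obtain ⟨y', hy'⟩ : ∃ y' : H, y' = y * (a₀ : H) ^ (-m) := ⟨_, rfl⟩
  rw [← hx', ← hy'] at hxy'
  have hx'A : x' ∉ A := by
    intro hmem
    apply hxy.1
    have : x = x' * ((a₀ : H) ^ n)⁻¹ := by rw [hx']; group
    rw [this]
    exact A.mul_mem hmem (A.inv_mem (A.zpow_mem a₀.2 n))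
  obtain ⟨B, hB⟩ : ∃ B : Subgroup H,
      B = Subgroup.closure ((Subgroup.center H : Set H) ∪ {x', y'}) := ⟨_, rfl⟩
  obtain ⟨B₁, hB₁⟩ : ∃ B₁ : Subgroup H,
      B₁ = Subgroup.closure ((Subgroup.center H : Set H) ∪ {x'}) := ⟨_, rfl⟩
  obtain ⟨D, hD⟩ : ∃ D : Subgroup H,
      D = (Subgroup.zpowers (QuotientGroup.mk x : H ⧸ A)).comap (QuotientGroup.mk' A) := ⟨_, rfl⟩
  have hZB : Subgroup.center H ≤ B := by
    rw [hB]
    exact fun z hz => Subgroup.subset_closure (Or.inl hz)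
  have hZB₁ : Subgroup.center H ≤ B₁ := by
    rw [hB₁]
    exact fun z hz => Subgroup.subset_closure (Or.inl hz)
  have hBcomm : ∀ a ∈ B, ∀ b ∈ B, a * b = b * a := by
    have hgen : ∀ a ∈ (Subgroup.center H : Set H) ∪ {x', y'},
        ∀ b ∈ (Subgroup.center H : Set H) ∪ {x', y'}, a * b = b * a := by
      rintro a (ha | ha) b hb
      · exact (Subgroup.mem_center_iff.mp ha b).symm
      · rcases hb with hb | hb
        · exact Subgroup.mem_center_iff.mp hb a
        · rcases ha with rfl | rfl <;> rcases hb with rfl | rfl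
          · rfl
          · exact hxy'
          · exact hxy'.symm
          · rfl
    have hMc := Subgroup.isMulCommutative_closure hgen
    intro a ha b hb
    rw [hB] at ha hb
    exact congrArg Subtype.val (hMc.is_comm.comm ⟨a, ha⟩ ⟨b, hb⟩)
  have hBn : B.Normal := by
    constructor
    intro b hb g
    have : g * b * g⁻¹ = (g * b * g⁻¹ * b⁻¹) * b := by group
    rw [this]
    exact B.mul_mem (hZB (hcen g b)) hb
  -- cardinalities
  have hx'B₁ : x' ∈ B₁ := by
    rw [hB₁]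
    exact Subgroup.subset_closure (Or.inr rfl)
  have hlt1 : Subgroup.center H < B₁ := by
    refine lt_of_le_of_ne hZB₁ ?_
    intro heq
    exact hx'A (center_le h (heq ▸ hx'B₁))
  have hB₁D : B₁ ≤ D := by
    rw [hB₁, Subgroup.closure_le]
    rintro u (hu | hu)
    · rw [hD]
      show (QuotientGroup.mk' A) u ∈ Subgroup.zpowers (QuotientGroup.mk x : H ⧸ A)
      have : (QuotientGroup.mk' A) u = 1 := (QuotientGroup.eq_one_iff u).mpr (center_le h hu)
      rw [this]
      exact Subgroup.one_mem _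
    · rw [Set.mem_singleton_iff] at hu
      rw [hu, hD]
      show (QuotientGroup.mk' A) x' ∈ Subgroup.zpowers (QuotientGroup.mk x : H ⧸ A)
      have : (QuotientGroup.mk' A) x' = (QuotientGroup.mk x : H ⧸ A) := by
        rw [hx', QuotientGroup.mk'_apply, QuotientGroup.mk_mul,
          (QuotientGroup.eq_one_iff _).mpr (A.zpow_mem a₀.2 n), mul_one]
      rw [this]
      exact Subgroup.mem_zpowers _
  have hy'D : y' ∉ D := by
    intro hmem
    rw [hD] at hmem
    have hmem' : (QuotientGroup.mk' A) y' ∈ Subgroup.zpowers (QuotientGroup.mk x : H ⧸ A) := hmem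
    have h1 : (QuotientGroup.mk' A) y' = (QuotientGroup.mk y : H ⧸ A) := by
      rw [hy', QuotientGroup.mk'_apply, QuotientGroup.mk_mul,
        (QuotientGroup.eq_one_iff _).mpr (A.zpow_mem a₀.2 (-m)), mul_one]
    rw [h1] at hmem'
    obtain ⟨j, hj⟩ := Subgroup.mem_zpowers_iff.mp hmem'
    apply hxy.2 (-j)
    rw [← QuotientGroup.eq_one_iff, QuotientGroup.mk_mul, QuotientGroup.mk_zpow, ← hj, zpow_neg,
      mul_inv_cancel]
  have hy'B : y' ∈ B := by
    rw [hB]
    exact Subgroup.subset_closure (Or.inr (Or.inr rfl))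
  have hlt2 : B₁ < B := by
    have hle : B₁ ≤ B := by
      rw [hB₁, hB]
      apply Subgroup.closure_mono
      apply Set.union_subset_union_right
      intro u hu
      rw [Set.mem_singleton_iff] at hu
      rw [hu]
      exact Or.inl rfl
    refine lt_of_le_of_ne hle ?_
    intro heq
    exact hy'D (hB₁D (heq ▸ hy'B))
  have hc1 := card_mul_le_of_lt p h.hp h.pgrp hlt1
  have hc2 : Nat.card B₁ < Nat.card B := Cfsg.Agent.Lib.Helper1.card_lt_of_lt hlt2
  have hc3 : Nat.card A = Nat.card (Subgroup.center H) * p := by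
    have := Subgroup.relIndex_mul_relIndex (⊥ : Subgroup H) (Subgroup.center H) A bot_le
      (center_le h)
    rw [Subgroup.relIndex_bot_left, Subgroup.relIndex_bot_left, hr] at this
    exact this.symm
  refine ⟨B, hBn, hBcomm, ?_⟩
  rw [hc3]
  calc Nat.card (Subgroup.center H) * p = p * Nat.card (Subgroup.center H) := mul_comm _ _
    _ ≤ Nat.card B₁ := hc1
    _ < Nat.card B := hc2

end Main

end DegP

end Cfsg.Agent.Lib.Helper2
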