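import Mathlib
import Cfsg.Agent.Lib.Helper2.DegP
import Cfsg.Agent.Lib.Helper2.Ito
import Cfsg.Agent.Lib.Helper11.FTLemma2

/-!
# Groups with character degrees `1` and `p` (Isaacs 12.11): character-theoretic part
(helper2 library)
-/

set_option autoImplicit false
set_option linter.unusedSectionVars false
set_option linter.style.haveILetI false

namespace Cfsg.Agent.Lib.Helper2

namespace DegP

open TwoDeg
open scoped ComplexConjugate

section Chars

variable {G : Type*} [Group G] [Finite G] (N : Subgroup G) [hN : N.Normal]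

/-- an irreducible character of `T` lying over the `T`-invariant linear character `lam` of `N`
restricts to a multiple of `lam` -/
theorem exists_irr_over_invariant (lam : N →* ℂˣ) (T : Subgroup G)
    (hT : ∀ g ∈ T, act N g lam = lam) (hNT : N ≤ T) :
    ∃ ψ : Cfsg.IrrCharacter T, ∀ x : N.subgroupOf T, (ψ : T → ℂ) x =
      (ψ : T → ℂ) 1 * (lam ⟨(x : T), Subgroup.mem_subgroupOf.mp x.2⟩ : ℂ) := by
  classical
  haveI : Fintype G := Fintype.ofFinite G
  haveI : Fintype T := Fintype.ofFinite _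
  haveI : Fintype (N.subgroupOf T) := Fintype.ofFinite _
  set θ' : N.subgroupOf T → ℂ :=
    fun x => (lam ⟨(x : T), Subgroup.mem_subgroupOf.mp x.2⟩ : ℂ) with hθ'
  have hθ'irr : Cfsg.IsIrrCharacter (N.subgroupOf T) θ' := by
    have := isIrrCharacter_of_monoidHom
      (lam.comp (Subgroup.subgroupOfEquivOfLe hNT).toMonoidHom)
    convert this using 1
    funext x
    rfl
  have hθ'1 : θ' 1 = 1 := by
    simp only [hθ']
    have h1 : (⟨((1 : N.subgroupOf T) : T), Subgroup.mem_subgroupOf.mp (1 : N.subgroupOf T).2⟩ : N)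
        = 1 := Subtype.ext rfl
    rw [h1, map_one, Units.val_one]
  have hΦchar : Cfsg.IsCharacter T (Cfsg.indFun (N.subgroupOf T) θ') :=
    indFun_isCharacter _ _ (IsIrrCharacter.isCharacter hθ'irr)
  have hΦne : Cfsg.indFun (N.subgroupOf T) θ' ≠ 0 := by
    intro h0
    have h1 : Cfsg.indFun (N.subgroupOf T) θ' 1 = 0 := by rw [h0]; rfl
    rw [indFun_apply_one, hθ'1, mul_one] at h1
    have h2 : (N.subgroupOf T).index ≠ 0 := Subgroup.index_ne_zero_of_finite
    apply h2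
    exact_mod_cast h1
  obtain ⟨ψ, Ψ, hΨ, hsum⟩ := exists_irr_add_of_ne_zero hΦchar hΦne
  have hne : Cfsg.classInner (Cfsg.indFun (N.subgroupOf T) θ') (ψ : T → ℂ) ≠ 0 := by
    rw [hsum, classInner_add_left, classInner_irrCharacter_self ψ]
    obtain ⟨k, hk⟩ := classInner_isCharacter_nat hΨ (IsIrrCharacter.isCharacter ψ.2)
    rw [hk]
    have h3 : ((1 + k : ℕ) : ℂ) ≠ 0 := Nat.cast_ne_zero.mpr (by omega)
    simpa using h3
  rw [frobenius_reciprocity (N.subgroupOf T) θ' _ (IrrCharacter.isClassFunction ψ)] at hne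
  have hconst : Cfsg.classInner (fun n : N.subgroupOf T => (ψ : T → ℂ) n) θ' ≠ 0 := by
    intro h
    apply hne
    rw [← classInner_conj_symm, h, map_zero]
  haveI : (N.subgroupOf T).Normal := inferInstance
  have hcl := clifford_restriction (N.subgroupOf T) ψ.2 hθ'irr hconst
  have hinv : ∀ g : T, conjFun (N.subgroupOf T) g θ' = θ' := by
    intro g
    funext x
    rw [conjFun_apply]
    simp only [hθ']
    have h1 := DFunLike.congr_fun (hT g g.2) ⟨(x : T), Subgroup.mem_subgroupOf.mp x.2⟩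
    rw [act_apply] at h1
    exact congrArg Units.val h1
  have hset : {ψ' : N.subgroupOf T → ℂ | ∃ g : T, ψ' = conjFun (N.subgroupOf T) g θ'} = {θ'} := by
    ext ψ'
    constructor
    · rintro ⟨g, rfl⟩; exact hinv g
    · intro h; exact ⟨1, by rw [Set.mem_singleton_iff.mp h, conjFun_one]⟩
  rw [hset, finsum_mem_singleton] at hcl
  have hval : ∀ x : N.subgroupOf T, (ψ : T → ℂ) x =
      Cfsg.classInner (fun n : N.subgroupOf T => (ψ : T → ℂ) n) θ' * θ' x := by
    intro x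
    have := congrFun hcl x
    simpa using this
  have h1 : (ψ : T → ℂ) 1 = Cfsg.classInner (fun n : N.subgroupOf T => (ψ : T → ℂ) n) θ' := by
    have := hval 1
    rw [hθ'1, mul_one] at this
    exact this
  refine ⟨ψ, fun x => ?_⟩
  rw [hval x, ← h1]

/-- the stabilizer of a linear character of an abelian normal subgroup has index `1` or `p`, and
in the latter case the character extends to its stabilizer -/
theorem stab_hyp (p : ℕ) (hp : p.Prime)
    (hcd : ∀ χ : Cfsg.IrrCharacter G, Cfsg.charDegree (χ : G → ℂ) = 1 ∨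
      Cfsg.charDegree (χ : G → ℂ) = p)
    (hc : ∀ a ∈ N, ∀ b ∈ N, a * b = b * a) (lam : N →* ℂˣ) (T : Subgroup G)
    (hT : ∀ g : G, g ∈ T ↔ act N g lam = lam) :
    T = ⊤ ∨ (T.index = p ∧ ∀ s ∈ T, ∀ t ∈ T, ∀ h : s * t * s⁻¹ * t⁻¹ ∈ N,
      lam ⟨s * t * s⁻¹ * t⁻¹, h⟩ = 1) := by
  have hNT : N ≤ T := fun g hg => (hT g).mpr (le_stab N hc lam hg)
  obtain ⟨ψ, hψ⟩ := exists_irr_over_invariant N lam T (fun g hg => (hT g).mp hg) hNT
  obtain ⟨χ, hχ⟩ := exists_irr_of_over N lam T hT hNT ψ hψ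
  obtain ⟨d, hd0, hd⟩ := IsIrrCharacter.apply_one ψ.2
  have h1 : (χ : G → ℂ) 1 = ((T.index * d : ℕ) : ℂ) := by rw [hχ, hd]; push_cast; ring
  have h2 := ThompsonDeg.charDegree_eq h1
  rcases hcd χ with h3 | h3
  · left
    rw [h2] at h3
    exact Subgroup.index_eq_one.mp (Nat.eq_one_of_mul_eq_one_right h3)
  · rw [h2] at h3
    have hdvd : T.index ∣ p := ⟨d, h3.symm⟩
    rcases (Nat.dvd_prime hp).mp hdvd with h4 | h4
    · left; exact Subgroup.index_eq_one.mp h4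
    · right
      refine ⟨h4, ?_⟩
      have hd1 : d = 1 := by
        rw [h4] at h3
        exact Nat.eq_of_mul_eq_mul_left hp.pos (by rw [h3, mul_one])
      have hψ1 : (ψ : T → ℂ) 1 = 1 := by rw [hd, hd1]; simp
      obtain ⟨μ, hμ⟩ := exists_monoidHom_of_isIrrCharacter_of_apply_one ψ.2 hψ1
      intro s hs t ht h
      have hx := hψ ⟨⟨s * t * s⁻¹ * t⁻¹, hNT h⟩, Subgroup.mem_subgroupOf.mpr h⟩
      rw [hψ1, one_mul, hμ] at hx
      have hμc : μ ⟨s * t * s⁻¹ * t⁻¹, hNT h⟩ = 1 := by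
        have h5 : (⟨s * t * s⁻¹ * t⁻¹, hNT h⟩ : T) = ⟨s, hs⟩ * ⟨t, ht⟩ * ⟨s, hs⟩⁻¹ * ⟨t, ht⟩⁻¹ :=
          Subtype.ext rfl
        rw [h5]
        simp only [map_mul, map_inv]
        rw [mul_comm (μ ⟨s, hs⟩) (μ ⟨t, ht⟩), mul_inv_cancel_right, mul_inv_cancel]
      apply Units.ext
      rw [Units.val_one]
      have h6 : ((μ ⟨s * t * s⁻¹ * t⁻¹, hNT h⟩ : ℂˣ) : ℂ) = 1 := by rw [hμc, Units.val_one]
      rw [← h6]
      exact hx.symm

/-- `χ(1)² ≤ |G : Z(G)|` -/
theorem sq_le_index_center (χ : Cfsg.IrrCharacter G) (d : ℕ) (hd : (χ : G → ℂ) 1 = d) :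
    d ^ 2 ≤ (Subgroup.center G).index := by
  classical
  haveI : Fintype G := Fintype.ofFinite G
  have h1 := classInner_irrCharacter_self χ
  rw [classInner_def] at h1
  have hcardne : (Nat.card G : ℂ) ≠ 0 := by exact_mod_cast Nat.card_pos.ne'
  have h2 : ∑ g : G, (χ : G → ℂ) g * conj ((χ : G → ℂ) g) = (Nat.card G : ℂ) := by
    have h0 : (Nat.card G : ℂ) * ((Nat.card G : ℂ)⁻¹ *
        ∑ g : G, (χ : G → ℂ) g * conj ((χ : G → ℂ) g)) = (Nat.card G : ℂ) * 1 := by rw [h1]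
    rw [← mul_assoc, mul_inv_cancel₀ hcardne, one_mul, mul_one] at h0
    exact h0
  have h3 : ((∑ g : G, ‖(χ : G → ℂ) g‖ ^ 2 : ℝ) : ℂ) = (Nat.card G : ℂ) := by
    rw [← h2]
    push_cast
    apply Finset.sum_congr rfl
    intro g _
    rw [Complex.mul_conj, Complex.normSq_eq_norm_sq]
    push_cast
    rfl
  have h3' : ∑ g : G, ‖(χ : G → ℂ) g‖ ^ 2 = (Nat.card G : ℝ) := by exact_mod_cast h3
  have h4 : ∑ g ∈ Finset.univ.filter (fun g : G => g ∈ Subgroup.center G), ‖(χ : G → ℂ) g‖ ^ 2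
      ≤ ∑ g : G, ‖(χ : G → ℂ) g‖ ^ 2 :=
    Finset.sum_le_sum_of_subset_of_nonneg (Finset.filter_subset _ _) (fun _ _ _ => sq_nonneg _)
  have h5 : ∑ g ∈ Finset.univ.filter (fun g : G => g ∈ Subgroup.center G), ‖(χ : G → ℂ) g‖ ^ 2
      = ((Finset.univ.filter (fun g : G => g ∈ Subgroup.center G)).card : ℝ) * (d : ℝ) ^ 2 := by
    rw [← nsmul_eq_mul, ← Finset.sum_const]
    apply Finset.sum_congr rfl
    intro g hg
    rw [Cfsg.Agent.Lib.Helper11.FTLemma.norm_center χ.2 g (Finset.mem_filter.mp hg).2, hd,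
      Complex.norm_natCast]
  have h6 : (Finset.univ.filter (fun g : G => g ∈ Subgroup.center G)).card
      = Nat.card (Subgroup.center G) := by
    rw [Nat.card_eq_fintype_card, Fintype.card_subtype]
  rw [h5, h3', h6] at h4
  have h7 : Nat.card (Subgroup.center G) * d ^ 2 ≤ Nat.card G := by exact_mod_cast h4
  rw [← (Subgroup.center G).card_mul_index] at h7
  exact Nat.le_of_mul_le_mul_left h7 Nat.card_pos

end Chars

section PGroup

/-- **The `p`-group case** of Isaacs 12.11. -/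
theorem pgroup_case {H : Type*} [Group H] [Finite H] (p : ℕ) (hp : p.Prime) (hH : IsPGroup p H)
    (hcd : ∀ χ : Cfsg.IrrCharacter H, Cfsg.charDegree (χ : H → ℂ) = 1 ∨
      Cfsg.charDegree (χ : H → ℂ) = p)
    (hna : ∃ a b : H, a * b ≠ b * a) :
    (∃ B : Subgroup H, B.Normal ∧ (∀ a ∈ B, ∀ b ∈ B, a * b = b * a) ∧ B.index = p) ∨
      (Subgroup.center H).index = p ^ 3 := by
  haveI : Fact p.Prime := ⟨hp⟩
  haveI : Nonempty {B : Subgroup H // B.Normal ∧ ∀ a ∈ B, ∀ b ∈ B, a * b = b * a} :=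
    ⟨⟨⊥, inferInstance, by
      intro a ha b hb
      rw [Subgroup.mem_bot] at ha hb
      rw [ha, hb]⟩⟩
  obtain ⟨⟨A, hAn, hAc⟩, hmax⟩ := Finite.exists_max
    (fun B : {B : Subgroup H // B.Normal ∧ ∀ a ∈ B, ∀ b ∈ B, a * b = b * a} => Nat.card B.1)
  haveI := hAn
  haveI : Group.IsNilpotent H := hH.isNilpotent
  haveI hAmc : IsMulCommutative A := ⟨⟨fun a b => Subtype.ext (hAc a a.2 b b.2)⟩⟩
  have hcentA : Subgroup.centralizer (A : Set H) = A := by
    apply Cfsg.Agent.Lib.Helper1.centralizer_eq_of_maximal_abelian_normal A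
    intro M hMn hMc hAM
    have hMc' : ∀ a ∈ M, ∀ b ∈ M, a * b = b * a :=
      fun a ha b hb => congrArg Subtype.val (hMc.is_comm.comm ⟨a, ha⟩ ⟨b, hb⟩)
    have h1 : Nat.card M ≤ Nat.card A := hmax ⟨M, hMn, hMc'⟩
    exact (Subgroup.eq_of_le_of_card_ge hAM h1).symm
  have cfg : Cfg p A :=
    { hp := hp
      pgrp := hH
      comm := hAc
      cent := by
        intro g hg
        rw [← hcentA, Subgroup.mem_centralizer_iff]
        intro a ha
        exact (hg a ha).symm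
      hstab := fun lam => stab_hyp A p hp hcd hAc lam (stab A lam) (fun g => Iff.rfl) }
  obtain ⟨k, hk⟩ := hH.index A
  rcases Nat.lt_or_ge k 2 with hk2 | hk2
  · interval_cases k
    · exfalso
      rw [pow_zero, Subgroup.index_eq_one] at hk
      obtain ⟨a, b, hab⟩ := hna
      exact hab (hAc a (hk ▸ Subgroup.mem_top a) b (hk ▸ Subgroup.mem_top b))
    · left
      exact ⟨A, hAn, hAc, by rw [hk, pow_one]⟩
  · obtain ⟨x, y, hxy⟩ := exists_indep cfg k hk2 hk
    have hr := relIndex_eq cfg x y hxy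
    rcases Nat.lt_or_ge k 3 with hk3 | hk3
    · right
      have : k = 2 := by omega
      subst this
      exact index_center cfg x y hxy hk
    · exfalso
      obtain ⟨B, hBn, hBc, hlt⟩ := exists_larger cfg hr k hk3 hk x y hxy
      have h1 : Nat.card B ≤ Nat.card A := hmax ⟨B, hBn, hBc⟩
      omega

end PGroup

section Reduce

variable {G : Type*} [Group G] [Finite G]

/-- reduction of a direct product `P × A₀` (`A₀` abelian) to the `p`-group `G / A₀` -/
theorem reduce_direct (p : ℕ) (hp : p.Prime)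
    (hcd : ∀ χ : Cfsg.IrrCharacter G, Cfsg.charDegree (χ : G → ℂ) = 1 ∨
      Cfsg.charDegree (χ : G → ℂ) = p)
    (hG : ∃ a b : G, a * b ≠ b * a)
    (P A₀ : Subgroup G) (hPn : P.Normal) (hA₀n : A₀.Normal) (hPp : IsPGroup p P)
    (hA₀c : ∀ a ∈ A₀, ∀ b ∈ A₀, a * b = b * a) (hinf : P ⊓ A₀ = ⊥) (hsup : P ⊔ A₀ = ⊤) :
    (∃ A : Subgroup G, A.Normal ∧ (∀ a ∈ A, ∀ b ∈ A, a * b = b * a) ∧ A.index = p) ∨
      (Subgroup.center G).index = p ^ 3 := by
  haveI := hPn
  haveI := hA₀n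
  have hdec : ∀ g : G, ∃ x ∈ P, ∃ a ∈ A₀, g = x * a := by
    intro g
    have hg : g ∈ ((P ⊔ A₀ : Subgroup G) : Set G) := by rw [hsup]; trivial
    rw [Subgroup.normal_mul P A₀, Set.mem_mul] at hg
    obtain ⟨x, hx, a, ha, rfl⟩ := hg
    exact ⟨x, hx, a, ha, rfl⟩
  have hq : ∀ g : G, ∃ a ∈ A₀, (QuotientGroup.mk g : G ⧸ P) = QuotientGroup.mk a := by
    intro g
    obtain ⟨x, hx, a, ha, rfl⟩ := hdec g
    exact ⟨a, ha, by rw [QuotientGroup.mk_mul, (QuotientGroup.eq_one_iff x).mpr hx, one_mul]⟩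
  have hcommP : ∀ g₁ g₂ : G, g₁ * g₂ * g₁⁻¹ * g₂⁻¹ ∈ P := by
    intro g₁ g₂
    obtain ⟨a₁, ha₁, h₁⟩ := hq g₁
    obtain ⟨a₂, ha₂, h₂⟩ := hq g₂
    rw [← QuotientGroup.eq_one_iff, QuotientGroup.mk_mul, QuotientGroup.mk_mul,
      QuotientGroup.mk_mul, QuotientGroup.mk_inv, QuotientGroup.mk_inv, h₁, h₂,
      ← QuotientGroup.mk_inv, ← QuotientGroup.mk_inv, ← QuotientGroup.mk_mul,
      ← QuotientGroup.mk_mul, ← QuotientGroup.mk_mul, hA₀c a₁ ha₁ a₂ ha₂]
    have : a₂ * a₁ * a₁⁻¹ * a₂⁻¹ = 1 := by group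
    rw [this, QuotientGroup.mk_one]
  have hkey : ∀ a b : G, (QuotientGroup.mk a : G ⧸ A₀) * QuotientGroup.mk b
      = QuotientGroup.mk b * QuotientGroup.mk a → a * b = b * a := by
    intro a b h
    have h1 : a * b * a⁻¹ * b⁻¹ ∈ A₀ := by
      rw [← QuotientGroup.eq_one_iff, QuotientGroup.mk_mul, QuotientGroup.mk_mul,
        QuotientGroup.mk_mul, QuotientGroup.mk_inv, QuotientGroup.mk_inv, h]
      group
    have h2 : a * b * a⁻¹ * b⁻¹ ∈ P ⊓ A₀ := Subgroup.mem_inf.mpr ⟨hcommP a b, h1⟩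
    rw [hinf, Subgroup.mem_bot] at h2
    calc a * b = (a * b * a⁻¹ * b⁻¹) * (b * a) := by group
      _ = b * a := by rw [h2, one_mul]
  have hQ : IsPGroup p (G ⧸ A₀) := by
    intro q
    obtain ⟨g, rfl⟩ := QuotientGroup.mk_surjective q
    obtain ⟨x, hx, a, ha, rfl⟩ := hdec g
    obtain ⟨k, hk⟩ := hPp ⟨x, hx⟩
    refine ⟨k, ?_⟩
    have hk' : x ^ p ^ k = 1 := by
      have := congrArg Subtype.val hk
      rw [Subgroup.coe_pow] at this
      exact this
    rw [QuotientGroup.mk_mul, (QuotientGroup.eq_one_iff a).mpr ha, mul_one, ← QuotientGroup.mk_pow,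
      hk', QuotientGroup.mk_one]
  have hcdQ : ∀ ψ : Cfsg.IrrCharacter (G ⧸ A₀), Cfsg.charDegree (ψ : G ⧸ A₀ → ℂ) = 1 ∨
      Cfsg.charDegree (ψ : G ⧸ A₀ → ℂ) = p := by
    intro ψ
    obtain ⟨d, -, hd⟩ := IsIrrCharacter.apply_one ψ.2
    have h1 : (Cfsg.Agent.Lib.Helper25.inflIrr A₀ ψ : G → ℂ) 1 = (d : ℂ) := by
      rw [Cfsg.Agent.Lib.Helper25.inflIrr_apply, QuotientGroup.mk_one, hd]
    rw [ThompsonDeg.charDegree_eq hd, ← ThompsonDeg.charDegree_eq h1]
    exact hcd _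
  have hnaQ : ∃ a b : G ⧸ A₀, a * b ≠ b * a := by
    obtain ⟨a, b, hab⟩ := hG
    exact ⟨QuotientGroup.mk a, QuotientGroup.mk b, fun h => hab (hkey a b h)⟩
  rcases pgroup_case p hp hQ hcdQ hnaQ with ⟨B, hBn, hBc, hBi⟩ | hZ
  · left
    refine ⟨B.comap (QuotientGroup.mk' A₀), hBn.comap _, ?_, ?_⟩
    · intro a ha b hb
      exact hkey a b (hBc _ ha _ hb)
    · rw [Subgroup.index_comap_of_surjective B (QuotientGroup.mk'_surjective A₀), hBi]
  · right
    have hcomap : (Subgroup.center (G ⧸ A₀)).comap (QuotientGroup.mk' A₀) = Subgroup.center G := by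
      ext g
      rw [Subgroup.mem_comap, Subgroup.mem_center_iff, Subgroup.mem_center_iff]
      constructor
      · intro h k
        exact hkey k g (h (QuotientGroup.mk k))
      · intro h q
        obtain ⟨k, rfl⟩ := QuotientGroup.mk_surjective q
        rw [QuotientGroup.mk'_apply, ← QuotientGroup.mk_mul, ← QuotientGroup.mk_mul, h k]
    rw [← hcomap, Subgroup.index_comap_of_surjective _ (QuotientGroup.mk'_surjective A₀), hZ]

end Reduce

end DegP

end Cfsg.Agent.Lib.Helper2
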