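import Mathlib
import Cfsg.Agent.Lib.Helper9.U35MinDefs

/-! S2149 front (helper9), piece B3: a subgroup of order `> 20` missing `z` meets `U` in order 5 and
covers `S / U`. -/

set_option autoImplicit false

namespace Cfsg.Agent.Lib.Helper9.U35Min

open scoped commutatorElement

namespace H2

/-- arithmetic core of B3 -/
theorem arith {a r : ℕ} (ha : a ∣ 125) (ha5 : a ≤ 5) (hr : r ∣ 8) (h : 20 < a * r) :
    a = 5 ∧ r = 8 := by
  have hr8 : r ≤ 8 := Nat.le_of_dvd (by norm_num) hr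
  have ha0 : 0 < a := Nat.pos_of_dvd_of_pos ha (by norm_num)
  interval_cases a <;> interval_cases r <;> simp_all

end H2

section B
variable {S : Type*} [Group S] {u1 u2 t : S}

/-- B3: arithmetic: a subgroup of order `> 20` missing `z` meets `U` in order 5 and covers `S / U` -/
theorem Borel.inf_sup (hB : Borel S u1 u2 t) (U : Subgroup S) (hU : U.Normal) (hcard : Nat.card U = 125)
    (hidx : U.index = 8)
    (hW : ∀ W : Subgroup S, W ≤ U → ⁅u1, u2⁆ ∉ W → Nat.card W ≤ 5)
    (K : Subgroup S) (hK : 20 < Nat.card K) (hz : ⁅u1, u2⁆ ∉ K) :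
    Nat.card ↥(K ⊓ U) = 5 ∧ K ⊔ U = ⊤ := by
  haveI : Finite S := Nat.finite_of_card_ne_zero (by rw [hB.card]; norm_num)
  have h5 : Nat.card ↥(K ⊓ U) ≤ 5 := hW (K ⊓ U) inf_le_right (fun h => hz h.1)
  have hdvd : Nat.card ↥(K ⊓ U) ∣ 125 := by
    rw [← hcard]
    exact Subgroup.card_dvd_of_le inf_le_right
  have hrel : U.relIndex K ∣ 8 := by
    rw [← hidx]
    exact Subgroup.relIndex_dvd_index_of_normal U K
  have hmul : Nat.card ↥(K ⊓ U) * U.relIndex K = Nat.card K := by
    have h1 := Subgroup.card_mul_index (U.subgroupOf K)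
    have h2 : Nat.card ↥(U.subgroupOf K) = Nat.card ↥(K ⊓ U) := by
      rw [inf_comm, ← Subgroup.inf_subgroupOf_right U K]
      exact Nat.card_congr (Subgroup.subgroupOfEquivOfLe inf_le_right).toEquiv
    rw [h2] at h1
    exact h1
  obtain ⟨ha, hr⟩ := H2.arith hdvd h5 hrel (by rw [hmul]; exact hK)
  refine ⟨ha, ?_⟩
  have h3 : U.relIndex (K ⊔ U) = 8 := by
    rw [Subgroup.relIndex_sup_right, hr]
  have h4 := Subgroup.relIndex_mul_index (H := U) (K := K ⊔ U) le_sup_right
  rw [h3, hidx] at h4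
  have h5' : (K ⊔ U).index = 1 := by omega
  exact Subgroup.index_eq_one.1 h5'

end B

end Cfsg.Agent.Lib.Helper9.U35Min
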