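import Mathlib
import Cfsg.Agent.Lib.Helper9.U35MinDefs

/-! S2149 front (helper9), pieces B4 + B5: the action of `t ^ 2` on `U / Z` is squaring, and there is
no `t`-invariant line `⟨w⟩ Z`. -/

set_option autoImplicit false

namespace Cfsg.Agent.Lib.Helper9.U35Min

open scoped commutatorElement

namespace H2

variable {S : Type*} [Group S]

/-- `⟨z⟩` is normal when all conjugates of `z` lie in it. -/
theorem zpowers_normal {z : S} (hzn : ∀ s : S, s * z * s⁻¹ ∈ Subgroup.zpowers z) :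
    (Subgroup.zpowers z).Normal := by
  constructor
  intro n hn g
  obtain ⟨k, rfl⟩ := Subgroup.mem_zpowers_iff.1 hn
  rw [← conj_zpow]
  exact Subgroup.zpow_mem _ (hzn g) k

/-- squares modulo 5 are never 2. -/
theorem sq_mod_five (i : ℕ) : ¬ (i ^ 2 ≡ 2 [MOD 5]) := by
  intro h
  have h1 : i ^ 2 % 5 = 2 := h
  rw [Nat.pow_mod] at h1
  have h2 : i % 5 < 5 := Nat.mod_lt _ (by norm_num)
  interval_cases (i % 5) <;> simp at h1

end H2

section B
variable {S : Type*} [Group S] {u1 u2 t : S}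

/-- B4: the action of `t ^ 2` on `U / Z` is squaring -/
theorem Borel.sq_action (hB : Borel S u1 u2 t) (U : Subgroup S) (hU : U.Normal)
    (hz : ∀ x ∈ U, x * ⁅u1, u2⁆ = ⁅u1, u2⁆ * x)
    (hcomm : ∀ x ∈ U, ∀ y ∈ U, ⁅x, y⁆ ∈ Subgroup.zpowers ⁅u1, u2⁆)
    (hzn : ∀ s : S, s * ⁅u1, u2⁆ * s⁻¹ ∈ Subgroup.zpowers ⁅u1, u2⁆)
    (hcl : Subgroup.closure {u1, u2} = U) (x : S) (hx : x ∈ U) :
    t ^ 2 * x * (t ^ 2)⁻¹ * (x ^ 2)⁻¹ ∈ Subgroup.zpowers ⁅u1, u2⁆ := by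
  haveI hN : (Subgroup.zpowers ⁅u1, u2⁆).Normal := H2.zpowers_normal hzn
  set Z : Subgroup S := Subgroup.zpowers ⁅u1, u2⁆ with hZ
  -- work in `S ⧸ Z`
  have key : ∀ y : S, y ∈ U →
      (QuotientGroup.mk (t ^ 2) : S ⧸ Z) * QuotientGroup.mk y * (QuotientGroup.mk (t ^ 2))⁻¹
        = (QuotientGroup.mk y) ^ 2 := by
    have hcommq : ∀ a ∈ U, ∀ b ∈ U,
        (QuotientGroup.mk a : S ⧸ Z) * QuotientGroup.mk b = QuotientGroup.mk b * QuotientGroup.mk a := by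
      intro a ha b hb
      have h1 : (QuotientGroup.mk ⁅a, b⁆ : S ⧸ Z) = 1 :=
        (QuotientGroup.eq_one_iff _).2 (hcomm a ha b hb)
      rw [commutatorElement_def] at h1
      simp only [QuotientGroup.mk_mul, QuotientGroup.mk_inv] at h1
      have h2 := mul_inv_eq_one.1 h1
      have h3 := mul_inv_eq_iff_eq_mul.1 h2
      exact h3
    intro y hy
    rw [← hcl] at hy
    have hUcl : ∀ y ∈ Subgroup.closure {u1, u2}, y ∈ U := by
      intro y hy
      rw [hcl] at hy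
      exact hy
    induction hy using Subgroup.closure_induction with
    | mem y hy =>
      rcases hy with rfl | rfl
      · obtain ⟨k, hk⟩ := hB.ht1
        have : (QuotientGroup.mk (t ^ 2 * y * (t ^ 2)⁻¹) : S ⧸ Z) = QuotientGroup.mk (y ^ 2) := by
          rw [hk, QuotientGroup.mk_mul]
          have : (QuotientGroup.mk (⁅y, u2⁆ ^ k) : S ⧸ Z) = 1 :=
            (QuotientGroup.eq_one_iff _).2 (Subgroup.pow_mem _ (Subgroup.mem_zpowers _) k)
          rw [this, one_mul]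
        simpa only [QuotientGroup.mk_mul, QuotientGroup.mk_inv, QuotientGroup.mk_pow] using this
      · obtain ⟨k, hk⟩ := hB.ht2
        have : (QuotientGroup.mk (t ^ 2 * y * (t ^ 2)⁻¹) : S ⧸ Z) = QuotientGroup.mk (y ^ 2) := by
          rw [hk, QuotientGroup.mk_mul]
          have : (QuotientGroup.mk (⁅u1, y⁆ ^ k) : S ⧸ Z) = 1 :=
            (QuotientGroup.eq_one_iff _).2 (Subgroup.pow_mem _ (Subgroup.mem_zpowers _) k)
          rw [this, one_mul]
        simpa only [QuotientGroup.mk_mul, QuotientGroup.mk_inv, QuotientGroup.mk_pow] using this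
    | one => simp
    | mul a b ha hb iha ihb =>
      have hab : Commute (QuotientGroup.mk a : S ⧸ Z) (QuotientGroup.mk b) :=
        hcommq a (hUcl a ha) b (hUcl b hb)
      rw [QuotientGroup.mk_mul, hab.mul_pow, ← iha, ← ihb]
      group
    | inv a ha iha =>
      rw [QuotientGroup.mk_inv, inv_pow, ← iha]
      group
  have h1 := key x hx
  rw [← QuotientGroup.eq_one_iff (N := Z)]
  simp only [QuotientGroup.mk_mul, QuotientGroup.mk_inv, QuotientGroup.mk_pow] at h1 ⊢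
  rw [h1, mul_inv_cancel]

/-- B5: no `S`-invariant `⟨w⟩ Z` -/
theorem Borel.no_invariant_line (hB : Borel S u1 u2 t) (U : Subgroup S) (hU : U.Normal)
    (hz5 : ⁅u1, u2⁆ ^ 5 = 1)
    (hz : ∀ x ∈ U, x * ⁅u1, u2⁆ = ⁅u1, u2⁆ * x)
    (hzn : ∀ s : S, s * ⁅u1, u2⁆ * s⁻¹ ∈ Subgroup.zpowers ⁅u1, u2⁆)
    (hsq : ∀ x ∈ U, t ^ 2 * x * (t ^ 2)⁻¹ * (x ^ 2)⁻¹ ∈ Subgroup.zpowers ⁅u1, u2⁆)
    (w : S) (hw : w ∈ U) (hw5 : w ^ 5 = 1) (hwz : w ∉ Subgroup.zpowers ⁅u1, u2⁆)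
    (hinv : ∃ i : ℕ, t * w * t⁻¹ * (w ^ i)⁻¹ ∈ Subgroup.zpowers ⁅u1, u2⁆) : False := by
  haveI hN : (Subgroup.zpowers ⁅u1, u2⁆).Normal := H2.zpowers_normal hzn
  set Z : Subgroup S := Subgroup.zpowers ⁅u1, u2⁆ with hZ
  obtain ⟨i, hi⟩ := hinv
  set wq : S ⧸ Z := QuotientGroup.mk w with hwq
  set tq : S ⧸ Z := QuotientGroup.mk t with htq
  have hw1 : wq ≠ 1 := by
    intro h
    exact hwz ((QuotientGroup.eq_one_iff _).1 h)
  have hw5q : wq ^ 5 = 1 := by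
    rw [hwq, ← QuotientGroup.mk_pow, hw5, QuotientGroup.mk_one]
  have hord : orderOf wq = 5 := by
    have hp : Fact (Nat.Prime 5) := ⟨by norm_num⟩
    exact orderOf_eq_prime hw5q hw1
  have h1 : tq * wq * tq⁻¹ = wq ^ i := by
    have := (QuotientGroup.eq_one_iff (N := Z) _).2 hi
    simp only [QuotientGroup.mk_mul, QuotientGroup.mk_inv, QuotientGroup.mk_pow] at this
    exact mul_inv_eq_one.1 this
  have h2 : tq ^ 2 * wq * (tq ^ 2)⁻¹ = wq ^ 2 := by
    have := (QuotientGroup.eq_one_iff (N := Z) _).2 (hsq w hw)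
    simp only [QuotientGroup.mk_mul, QuotientGroup.mk_inv, QuotientGroup.mk_pow] at this
    exact mul_inv_eq_one.1 this
  have h3 : tq ^ 2 * wq * (tq ^ 2)⁻¹ = wq ^ (i ^ 2) := by
    have e1 : tq ^ 2 * wq * (tq ^ 2)⁻¹ = tq * (tq * wq * tq⁻¹) * tq⁻¹ := by
      rw [pow_two, _root_.mul_inv_rev]
      simp only [mul_assoc]
    rw [e1, h1, ← conj_pow, h1, ← pow_mul, sq]
  rw [h2] at h3
  have h4 : 2 ≡ i ^ 2 [MOD orderOf wq] := pow_eq_pow_iff_modEq.1 h3
  rw [hord] at h4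
  exact H2.sq_mod_five i h4.symm

end B

end Cfsg.Agent.Lib.Helper9.U35Min
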