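import Mathlib
import Cfsg.Prelude.Def_Characters
import Cfsg.Prelude.Def_Blocks
import Cfsg.Prelude.Def_Solvable
import Cfsg.Agent.Lib.Helper2.Induction
import Cfsg.Agent.Lib.Helper2.Expansion
import Cfsg.Agent.Lib.Helper2.Linear
import Cfsg.Agent.Lib.Helper2.Orthogonality
import Cfsg.Agent.Lib.Helper25.Kernel
import Cfsg.Agent.Lib.Helper1.Cores
import Cfsg.Agent.Lib.Helper1.Fitting
import Cfsg.Agent.Lib.Helper1.FittingFrattini
import Cfsg.Agent.Lib.Helper1.Frattini

/-!
# The Broline-Garrison theorem (helper2 library)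

If `χ` is an irreducible character of `G` with kernel `K`, and either `K` is not nilpotent, or
`K = F(G) < G` with `G / K` solvable, then there is an irreducible character `ψ` with
`ψ 1 > χ 1` and `ker ψ < K` (Isaacs 12.19).

Proof: find a maximal subgroup `H` with `K H = G` and an element `x` of `H` outside the core of
`H` with `χ x ≠ 0`.  Then `θ = χ|_H` is irreducible, and comparing the values of the induced
character `θ^G` at `1` and at `x` shows that some constituent `ψ` of `θ^G` has larger degree.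
-/

set_option autoImplicit false

namespace Cfsg.Agent.Lib.Helper2.BG

open Cfsg
open scoped ComplexConjugate commutatorElement

universe u

section Basic

variable {G : Type u} [Group G]

theorem charDegree_eq_of {χ : G → ℂ} {n : ℕ} (h : χ 1 = n) : Cfsg.charDegree χ = n := by
  unfold Cfsg.charDegree
  rw [h]
  simp

theorem apply_one_eq (χ : Cfsg.IrrCharacter G) :
    (χ : G → ℂ) 1 = (Cfsg.charDegree (χ : G → ℂ) : ℂ) := by
  obtain ⟨d, _, hd⟩ := IsIrrCharacter.apply_one χ.2
  rw [charDegree_eq_of hd, hd]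

end Basic

section Fin

variable {G : Type u} [Group G] [Fintype G]

/-- a character of degree zero is zero -/
theorem eq_zero_of_apply_one_eq_zero {Ψ : G → ℂ} (hΨ : IsCharacter G Ψ) (h : Ψ 1 = 0) :
    Ψ = 0 := by
  by_contra h0
  obtain ⟨χ, Ψ', hΨ', hsum⟩ := exists_irr_add_of_ne_zero hΨ h0
  obtain ⟨a, ha0, ha⟩ := IsIrrCharacter.apply_one χ.2
  obtain ⟨b, hb⟩ := IsCharacter.apply_one hΨ'
  rw [hsum, Pi.add_apply, ha, hb] at h
  have : (a + b : ℕ) = 0 := by exact_mod_cast h
  omega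

/-- a character containing an irreducible character of at least its degree equals it -/
theorem eq_of_classInner_ne_zero_of_degree_le {Ψ : G → ℂ} (hΨ : IsCharacter G Ψ)
    (θ : IrrCharacter G) (h : classInner Ψ (θ : G → ℂ) ≠ 0) {a b : ℕ} (ha : Ψ 1 = a)
    (hb : (θ : G → ℂ) 1 = b) (hab : a ≤ b) : Ψ = (θ : G → ℂ) := by
  obtain ⟨Ψ', hΨ', hsum⟩ := exists_add_of_classInner_ne_zero hΨ θ h
  obtain ⟨c, hc⟩ := IsCharacter.apply_one hΨ'
  have h1 : Ψ 1 = (θ : G → ℂ) 1 + Ψ' 1 := by rw [hsum]; rfl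
  rw [ha, hb, hc] at h1
  have h2 : a = b + c := by exact_mod_cast h1
  have hc0 : c = 0 := by omega
  rw [hc0, Nat.cast_zero] at hc
  have := eq_zero_of_apply_one_eq_zero hΨ' hc
  rw [hsum, this, add_zero]

/-- if the irreducible character `θ` occurs in a function `Ψ` invariant under translation by the
normal subgroup `N`, then `N` lies in the kernel of `θ` -/
theorem ker_of_classInner_ne_zero {θ : G → ℂ} (hθ : IsIrrCharacter G θ) (Ψ : G → ℂ)
    (N : Subgroup G) [N.Normal] (hN : ∀ n ∈ N, ∀ g, Ψ (g * n) = Ψ g)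
    (h : classInner θ Ψ ≠ 0) : ∀ n ∈ N, θ n = θ 1 := by
  classical
  haveI : Fintype N := Fintype.ofFinite N
  rcases Helper25.sum_normal_char hθ N with h1 | h1
  · exact h1
  · exfalso
    apply h
    rw [classInner_def]
    have h3 : ∀ n : N, ∑ g : G, θ (g * (n : G)) * conj (Ψ g) = ∑ g : G, θ g * conj (Ψ g) := by
      intro n
      apply Fintype.sum_equiv (Equiv.mulRight (n : G))
      intro g
      simp only [Equiv.coe_mulRight]
      rw [hN n n.2 g]
    have h2 : (Nat.card N : ℂ) * ∑ g : G, θ g * conj (Ψ g) = 0 := by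
      calc (Nat.card N : ℂ) * ∑ g : G, θ g * conj (Ψ g)
          = ∑ n : N, ∑ g : G, θ g * conj (Ψ g) := by
            rw [Finset.sum_const, Finset.card_univ, nsmul_eq_mul, Nat.card_eq_fintype_card]
        _ = ∑ n : N, ∑ g : G, θ (g * (n : G)) * conj (Ψ g) :=
            Finset.sum_congr rfl (fun n _ => (h3 n).symm)
        _ = ∑ g : G, ∑ n : N, θ (g * (n : G)) * conj (Ψ g) := Finset.sum_comm
        _ = 0 := by
            apply Finset.sum_eq_zero
            intro g _
            rw [← Finset.sum_mul, h1 g, zero_mul]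
    have hN0 : (Nat.card N : ℂ) ≠ 0 := by exact_mod_cast Nat.card_pos.ne'
    rcases mul_eq_zero.mp h2 with h5 | h5
    · exact absurd h5 hN0
    · rw [h5, mul_zero]

end Fin

section Restrict

variable {G : Type u} [Group G] [Finite G]

/-- restriction to a supplement of a normal subgroup of the kernel stays irreducible -/
theorem isIrrCharacter_restrict_of_sup_eq_top {ψ : G → ℂ} (hψ : IsIrrCharacter G ψ)
    (N : Subgroup G) [N.Normal] (hN : ∀ n ∈ N, ψ n = ψ 1) (H : Subgroup G) (hNH : N ⊔ H = ⊤) :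
    IsIrrCharacter H (fun h : H => ψ h) := by
  obtain ⟨ψ', hψ', hψψ'⟩ := Helper25.exists_deflation N hψ hN
  have hsurj : Function.Surjective ((QuotientGroup.mk' N).comp H.subtype) := by
    intro q
    obtain ⟨g, rfl⟩ := QuotientGroup.mk'_surjective N q
    have hg : g ∈ N ⊔ H := by rw [hNH]; exact Subgroup.mem_top g
    obtain ⟨n, hn, h, hh, rfl⟩ := Subgroup.mem_sup_of_normal_left.1 hg
    refine ⟨⟨h, hh⟩, ?_⟩
    show ((h : G) : G ⧸ N) = ((n * h : G) : G ⧸ N)
    rw [QuotientGroup.mk_mul, (QuotientGroup.eq_one_iff n).2 hn, one_mul]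
  have h1 := Helper25.isIrrCharacter_comp _ hsurj hψ'
  have h2 : (fun h : H => ψ h) = fun h : H => ψ' (((QuotientGroup.mk' N).comp H.subtype) h) := by
    funext h
    exact hψψ' h
  rw [h2]
  exact h1

end Restrict

section Core

variable {G : Type u} [Group G] [Fintype G]

open Classical in
/-- number of conjugators taking `y` into `H` -/
noncomputable def conjCount (H : Subgroup G) (y : G) : ℕ :=
  (Finset.univ.filter (fun g : G => g⁻¹ * y * g ∈ H)).card

theorem indFun_restrict_apply (H : Subgroup G) {χ : G → ℂ} (hχ : IsClassFunction G χ) (y : G) :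
    indFun H (fun h : H => χ h) y = (Nat.card H : ℂ)⁻¹ * ((conjCount H y : ℂ) * χ y) := by
  classical
  rw [indFun_apply]
  congr 1
  have h1 : ∀ g : G, extendByZero H (fun h : H => χ h) (g⁻¹ * y * g)
      = if g⁻¹ * y * g ∈ H then χ y else 0 := by
    intro g
    split_ifs with hg
    · rw [extendByZero_of_mem H _ hg]
      have := hχ y g⁻¹
      rw [inv_inv] at this
      exact this
    · exact extendByZero_of_not_mem H _ hg
  rw [Finset.sum_congr rfl (fun g _ => h1 g), ← Finset.sum_filter, Finset.sum_const, nsmul_eq_mul]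
  unfold conjCount
  congr 3

theorem conjCount_one (H : Subgroup G) : conjCount H 1 = Nat.card G := by
  classical
  unfold conjCount
  rw [Nat.card_eq_fintype_card, ← Finset.card_univ]
  congr 1
  apply Finset.filter_true_of_mem
  intro g _
  rw [mul_one, inv_mul_cancel]
  exact H.one_mem

theorem mem_normalCore_of_conjCount (H : Subgroup G) (x : G) (h : conjCount H x = Nat.card G) :
    x ∈ H.normalCore := by
  classical
  unfold conjCount at h
  rw [Nat.card_eq_fintype_card, Finset.card_eq_iff_eq_univ] at h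
  show ∀ b : G, b * x * b⁻¹ ∈ H
  intro b
  have h1 := Finset.mem_univ b⁻¹
  rw [← h, Finset.mem_filter] at h1
  have h2 := h1.2
  rw [inv_inv] at h2
  exact h2

end Core

section LemmaA

variable {G : Type u} [Group G] [Fintype G]

omit [Fintype G] in
/-- a coatom together with a subgroup it does not contain generates everything -/
theorem sup_eq_top_of_coatom {H : Subgroup G} (hH : IsCoatom H) (N : Subgroup G) (hN : ¬ N ≤ H) :
    N ⊔ H = ⊤ := by
  by_contra hne
  have hlt : H < N ⊔ H :=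
    lt_of_le_of_ne le_sup_right (fun heq => hN (le_sup_left.trans heq.ge))
  exact hne (hH.2 _ hlt)

/-- the key step: some constituent of the induced character has larger degree -/
theorem exists_constituent_larger (χ : IrrCharacter G) (H : Subgroup G) [Fintype H]
    (θ : IrrCharacter H) (hθ : (θ : H → ℂ) = fun h : H => (χ : G → ℂ) h)
    (x : G) (hxH : x ∈ H) (hxC : x ∉ H.normalCore) (hχx : (χ : G → ℂ) x ≠ 0) :
    ∃ ψ : IrrCharacter G, classInner (θ : H → ℂ) (fun h : H => (ψ : G → ℂ) h) ≠ 0 ∧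
      charDegree (χ : G → ℂ) < charDegree (ψ : G → ℂ) := by
  classical
  haveI : Fintype (IrrCharacter G) := Fintype.ofFinite _
  have hχcf : IsClassFunction G (χ : G → ℂ) := IrrCharacter.isClassFunction χ
  have hχ1 : (χ : G → ℂ) 1 ≠ 0 := IsIrrCharacter.apply_one_ne_zero χ.2
  obtain ⟨φ, hφ⟩ : ∃ φ : G → ℂ, φ = indFun H (θ : H → ℂ) := ⟨_, rfl⟩
  have hφcf : IsClassFunction G φ := by rw [hφ]; exact indFun_isClassFunction H _
  have hfrob : ∀ ψ : IrrCharacter G, classInner φ (ψ : G → ℂ)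
      = classInner (θ : H → ℂ) (fun h : H => (ψ : G → ℂ) h) := by
    intro ψ
    rw [hφ]
    exact frobenius_reciprocity H _ _ (IrrCharacter.isClassFunction ψ)
  have hformula : ∀ y : G,
      φ y = (Nat.card H : ℂ)⁻¹ * ((conjCount H y : ℂ) * (χ : G → ℂ) y) := by
    intro y
    rw [hφ, hθ]
    exact indFun_restrict_apply H hχcf y
  have hθ1 : (θ : H → ℂ) 1 = (charDegree (χ : G → ℂ) : ℂ) := by
    rw [hθ]
    exact apply_one_eq χ
  by_contra hno
  push Not at hno
  have hres : ∀ ψ : IrrCharacter G, classInner φ (ψ : G → ℂ) ≠ 0 →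
      ∀ y : H, (ψ : G → ℂ) y = (χ : G → ℂ) y := by
    intro ψ hψ y
    rw [hfrob ψ] at hψ
    have hle := hno ψ hψ
    have hΨ : IsCharacter H (fun h : H => (ψ : G → ℂ) h) :=
      IsCharacter.restrict (IsIrrCharacter.isCharacter ψ.2) H
    have hne : classInner (fun h : H => (ψ : G → ℂ) h) (θ : H → ℂ) ≠ 0 := by
      rw [← classInner_conj_symm]
      intro h0
      exact hψ ((map_eq_zero _).1 h0)
    have hψ1 : (fun h : H => (ψ : G → ℂ) h) 1 = (charDegree (ψ : G → ℂ) : ℂ) := apply_one_eq ψ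
    have heq := eq_of_classInner_ne_zero_of_degree_le hΨ θ hne hψ1 hθ1 hle
    have h2 := congrFun heq y
    rw [hθ] at h2
    exact h2
  have hexp := classFunction_expansion φ hφcf
  obtain ⟨s, hs⟩ : ∃ s : ℂ, s = ∑ ψ : IrrCharacter G, classInner φ (ψ : G → ℂ) := ⟨_, rfl⟩
  have hval : ∀ y : H, φ y = s * (χ : G → ℂ) y := by
    intro y
    have h1 : φ y = ∑ ψ : IrrCharacter G, classInner φ (ψ : G → ℂ) * (ψ : G → ℂ) y := by
      have h2 := congrFun hexp (y : G)
      rw [Finset.sum_apply] at h2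
      simpa only [Pi.smul_apply, smul_eq_mul] using h2
    rw [h1, hs, Finset.sum_mul]
    apply Finset.sum_congr rfl
    intro ψ _
    by_cases hψ : classInner φ (ψ : G → ℂ) = 0
    · rw [hψ, zero_mul, zero_mul]
    · rw [hres ψ hψ y]
  have hH0 : (Nat.card H : ℂ)⁻¹ ≠ 0 := inv_ne_zero (card_subgroup_ne_zero H)
  have e1 : s * (χ : G → ℂ) 1 = (Nat.card H : ℂ)⁻¹ * ((Nat.card G : ℂ) * (χ : G → ℂ) 1) := by
    have h1 : φ 1 = s * (χ : G → ℂ) 1 := hval 1
    rw [hformula 1, conjCount_one] at h1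
    exact h1.symm
  have e2 : s * (χ : G → ℂ) x
      = (Nat.card H : ℂ)⁻¹ * ((conjCount H x : ℂ) * (χ : G → ℂ) x) := by
    have h1 : φ x = s * (χ : G → ℂ) x := hval ⟨x, hxH⟩
    rw [hformula x] at h1
    exact h1.symm
  have e3 : s = (Nat.card H : ℂ)⁻¹ * (Nat.card G : ℂ) := by
    apply mul_right_cancel₀ hχ1
    rw [e1]; ring
  have e4 : s = (Nat.card H : ℂ)⁻¹ * (conjCount H x : ℂ) := by
    apply mul_right_cancel₀ hχx
    rw [e2]; ring
  have e5 : (conjCount H x : ℂ) = (Nat.card G : ℂ) := by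
    apply mul_left_cancel₀ hH0
    rw [← e3, ← e4]
  have e6 : conjCount H x = Nat.card G := by exact_mod_cast e5
  exact hxC (mem_normalCore_of_conjCount H x e6)

/-- **Lemma A**: a coatom `H` not containing the kernel `K` of `χ`, and an element of `H` outside
the core of `H` at which `χ` does not vanish, produce a character of larger degree and smaller
kernel. -/
theorem exists_larger_of_coatom (χ : IrrCharacter G) (K : Subgroup G) [K.Normal]
    (hK : ∀ g : G, g ∈ K ↔ (χ : G → ℂ) g = (χ : G → ℂ) 1) (H : Subgroup G) (hH : IsCoatom H)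
    (hKH : ¬ K ≤ H) (x : G) (hxH : x ∈ H) (hxC : x ∉ H.normalCore)
    (hχx : (χ : G → ℂ) x ≠ 0) :
    ∃ ψ : IrrCharacter G, charDegree (χ : G → ℂ) < charDegree (ψ : G → ℂ) ∧
      ∃ L : Subgroup G, (∀ g : G, g ∈ L ↔ (ψ : G → ℂ) g = (ψ : G → ℂ) 1) ∧ L < K := by
  classical
  haveI : Fintype H := Fintype.ofFinite H
  have hθirr : IsIrrCharacter H (fun h : H => (χ : G → ℂ) h) :=
    isIrrCharacter_restrict_of_sup_eq_top χ.2 K (fun n hn => (hK n).1 hn) H
      (sup_eq_top_of_coatom hH K hKH)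
  obtain ⟨θ, hθ⟩ : ∃ θ : IrrCharacter H, (θ : H → ℂ) = fun h : H => (χ : G → ℂ) h :=
    ⟨⟨_, hθirr⟩, rfl⟩
  obtain ⟨ψ, hθψ, hdeg⟩ := exists_constituent_larger χ H θ hθ x hxH hxC hχx
  obtain ⟨L, hLn, hL⟩ := Helper25.exists_kernel (IsIrrCharacter.isCharacter ψ.2)
  haveI := hLn
  refine ⟨ψ, hdeg, L, hL, ?_⟩
  have hθ1 : (θ : H → ℂ) 1 = (charDegree (χ : G → ℂ) : ℂ) := by
    rw [hθ]
    exact apply_one_eq χ
  have hLH : L ≤ H := by
    by_contra hLH
    have hirr : IsIrrCharacter H (fun h : H => (ψ : G → ℂ) h) :=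
      isIrrCharacter_restrict_of_sup_eq_top ψ.2 L (fun n hn => (hL n).1 hn) H
        (sup_eq_top_of_coatom hH L hLH)
    obtain ⟨ψH, hψH⟩ : ∃ ψH : IrrCharacter H, (ψH : H → ℂ) = fun h : H => (ψ : G → ℂ) h :=
      ⟨⟨_, hirr⟩, rfl⟩
    have heq : θ = ψH := by
      by_contra hne
      apply hθψ
      rw [← hψH]
      exact classInner_irrCharacter_ne hne
    have h1 : (θ : H → ℂ) 1 = (ψ : G → ℂ) 1 := by
      rw [heq, hψH]
      rfl
    rw [hθ1, apply_one_eq ψ] at h1
    have h2 : charDegree (χ : G → ℂ) = charDegree (ψ : G → ℂ) := by exact_mod_cast h1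
    omega
  have hLK : L ≤ K := by
    intro l hl
    have hlH : l ∈ H := hLH hl
    haveI : (L.subgroupOf H).Normal := Subgroup.Normal.subgroupOf hLn H
    have h1 := ker_of_classInner_ne_zero θ.2 (fun h : H => (ψ : G → ℂ) h) (L.subgroupOf H)
      (by
        intro n hn g
        have hn' : (n : G) ∈ L := Subgroup.mem_subgroupOf.1 hn
        exact (Helper25.char_mul_of_mem_ker (IsIrrCharacter.isCharacter ψ.2)
          ((hL _).1 hn') (g : G)).1)
      hθψ ⟨l, hlH⟩ (Subgroup.mem_subgroupOf.2 hl)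
    rw [hθ] at h1
    exact (hK l).2 h1
  exact lt_of_le_of_ne hLK (fun heq => hKH (heq ▸ hLH))

end LemmaA

section CaseOne

variable {G : Type u} [Group G] [Finite G]

/-- a non-nilpotent normal subgroup `K`: there are a coatom `H` not containing `K` and an element
of `K ⊓ H` outside the core of `H` (Frattini argument, twice) -/
theorem exists_coatom_of_not_nilpotent (K : Subgroup G) [K.Normal]
    (hK : ¬ Group.IsNilpotent K) :
    ∃ H : Subgroup G, IsCoatom H ∧ ¬ K ≤ H ∧ ∃ x ∈ K, x ∈ H ∧ x ∉ H.normalCore := by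
  have htfae := (Group.isNilpotent_of_finite_tfae (G := K)).out 0 3
  rw [htfae] at hK
  push Not at hK
  obtain ⟨p, hp, P, hP⟩ := hK
  haveI := hp
  obtain ⟨P', hP'⟩ : ∃ P' : Subgroup G, P' = (P : Subgroup K).map K.subtype := ⟨_, rfl⟩
  have hfr : Subgroup.normalizer (P' : Set G) ⊔ K = ⊤ := by
    rw [hP']; exact Sylow.normalizer_sup_eq_top P
  have hne : Subgroup.normalizer (P' : Set G) ≠ ⊤ := by
    intro htop
    apply hP
    have hn : P'.Normal := Subgroup.normalizer_eq_top_iff.mp htop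
    rw [hP'] at hn
    exact hn.of_map_subtype
  rcases eq_top_or_exists_le_coatom (Subgroup.normalizer (P' : Set G)) with h | ⟨H, hH, hle⟩
  · exact absurd h hne
  have hKH : ¬ K ≤ H := by
    intro hKH
    apply hH.1
    rw [eq_top_iff, ← hfr]
    exact sup_le hle hKH
  have hP'K : P' ≤ K := by
    rw [hP']
    exact Subgroup.map_subtype_le _
  have hP'H : P' ≤ H := le_trans Subgroup.le_normalizer hle
  refine ⟨H, hH, hKH, ?_⟩
  by_contra hall
  push Not at hall
  have hP'C : P' ≤ H.normalCore := fun x hx => hall x (hP'K hx) (hP'H hx)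
  obtain ⟨R, hR⟩ : ∃ R : Subgroup G, R = K ⊓ H.normalCore := ⟨_, rfl⟩
  haveI : R.Normal := by rw [hR]; infer_instance
  have hP'R : P' ≤ R := by rw [hR]; exact le_inf hP'K hP'C
  have hRK : R ≤ K := by rw [hR]; exact inf_le_left
  have hRH : R ≤ H := by rw [hR]; exact inf_le_right.trans H.normalCore_le
  have hpg : IsPGroup p (P'.subgroupOf R) := by
    have h1 : IsPGroup p P' := by
      rw [hP']; exact P.isPGroup'.map K.subtype
    exact h1.comap_subtype
  have hidx : ¬ p ∣ (P'.subgroupOf R).index := by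
    have h1 : P'.relIndex R * R.relIndex K = P'.relIndex K :=
      Subgroup.relIndex_mul_relIndex P' R K hP'R hRK
    have h2 : P'.relIndex K = (P : Subgroup K).index := by
      unfold Subgroup.relIndex
      congr 1
      rw [hP']
      exact Subgroup.comap_map_eq_self_of_injective K.subtype_injective _
    intro hdvd
    apply P.not_dvd_index
    rw [← h2, ← h1]
    exact Dvd.dvd.mul_right hdvd _
  obtain ⟨Q, hQ⟩ : ∃ Q : Sylow p R, (Q : Subgroup R) = P'.subgroupOf R :=
    ⟨hpg.toSylow hidx, IsPGroup.toSylow_coe hpg hidx⟩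
  have hfr2 := Sylow.normalizer_sup_eq_top Q
  rw [hQ, Subgroup.map_subgroupOf_eq_of_le hP'R] at hfr2
  apply hH.1
  rw [eq_top_iff, ← hfr2]
  exact sup_le hle hRH

end CaseOne

section CaseTwo

variable {G : Type u} [Group G] [Finite G]

omit [Finite G] in
/-- commutators of a nilpotent normal subgroup `K` lie in any coatom `H` not containing `K` for
which `K ⊓ H` is normal -/
theorem commutator_le_of_coatom (K : Subgroup G) [K.Normal] (hKnil : Group.IsNilpotent K)
    (H : Subgroup G) (hH : IsCoatom H) (hKH : ¬ K ≤ H) (hD : (K ⊓ H).Normal) :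
    ⁅K, K⁆ ≤ H := by
  by_contra hc
  haveI := hKnil
  haveI := hD
  obtain ⟨M, hM⟩ : ∃ M : Subgroup G, M = (K ⊓ H) ⊔ ⁅K, K⁆ := ⟨_, rfl⟩
  haveI hMn : M.Normal := by rw [hM]; infer_instance
  have hMK : M ≤ K := by
    rw [hM]; exact sup_le inf_le_left (Subgroup.commutator_le_left K K)
  have hMH : ¬ M ≤ H := fun h => hc (le_trans (by rw [hM]; exact le_sup_right) h)
  have hsup : M ⊔ H = ⊤ := sup_eq_top_of_coatom hH M hMH
  have hKM : K ≤ M := by
    intro n hn
    have hnm : n ∈ M ⊔ H := by rw [hsup]; trivial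
    obtain ⟨m, hm, h, hh, rfl⟩ := Subgroup.mem_sup_of_normal_left.1 hnm
    have hhK : h ∈ K := by
      have : h = m⁻¹ * (m * h) := by group
      rw [this]
      exact K.mul_mem (K.inv_mem (hMK hm)) hn
    have hhM : h ∈ M := by rw [hM]; exact Subgroup.mem_sup_left ⟨hhK, hh⟩
    exact M.mul_mem hm hhM
  haveI hDn' : ((K ⊓ H).subgroupOf K).Normal := hD.subgroupOf K
  obtain ⟨n0, hn0K, hn0H⟩ := SetLike.not_le_iff_exists.1 hKH
  haveI : Nontrivial (↥K ⧸ (K ⊓ H).subgroupOf K) := by
    refine ⟨⟨((⟨n0, hn0K⟩ : K) : ↥K ⧸ (K ⊓ H).subgroupOf K), 1, ?_⟩⟩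
    intro h1
    rw [QuotientGroup.eq_one_iff, Subgroup.mem_subgroupOf] at h1
    exact hn0H h1.2
  have hlt := Group.IsSolvable.commutator_lt_top_of_nontrivial (↥K ⧸ (K ⊓ H).subgroupOf K)
  apply hlt.ne
  rw [eq_top_iff]
  obtain ⟨S, hS⟩ : ∃ S : Subgroup K, S = (commutator (↥K ⧸ (K ⊓ H).subgroupOf K)).comap
      (QuotientGroup.mk' ((K ⊓ H).subgroupOf K)) := ⟨_, rfl⟩
  have h1 : K ⊓ H ≤ S.map K.subtype := by
    intro d hd
    have hmem : (⟨d, hd.1⟩ : K) ∈ S := by
      rw [hS, Subgroup.mem_comap, QuotientGroup.mk'_apply,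
        (QuotientGroup.eq_one_iff _).2 (Subgroup.mem_subgroupOf.2 hd)]
      exact Subgroup.one_mem _
    exact ⟨⟨d, hd.1⟩, hmem, rfl⟩
  have h2 : ⁅K, K⁆ ≤ S.map K.subtype := by
    rw [Subgroup.commutator_le]
    intro a ha b hb
    have hmem : ⁅(⟨a, ha⟩ : K), ⟨b, hb⟩⁆ ∈ S := by
      rw [hS, Subgroup.mem_comap, map_commutatorElement, commutator_def]
      exact Subgroup.commutator_mem_commutator (Subgroup.mem_top _) (Subgroup.mem_top _)
    exact ⟨⁅(⟨a, ha⟩ : K), ⟨b, hb⟩⁆, hmem, map_commutatorElement K.subtype _ _⟩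
  have h3 : K ≤ S.map K.subtype := by
    refine hKM.trans ?_
    rw [hM]
    exact sup_le h1 h2
  intro q _
  obtain ⟨⟨n, hn⟩, rfl⟩ := QuotientGroup.mk'_surjective _ q
  obtain ⟨s, hs, hsn⟩ := h3 hn
  have hsn' : s = ⟨n, hn⟩ := Subtype.ext hsn
  rw [← hsn']
  rw [hS] at hs
  exact hs

/-- the commutator of an element of the nilpotent kernel `K` with a non-vanishing element lies in
a coatom `H` not containing `K`, if non-vanishing elements of `H` lie in its core -/
theorem commutator_mem_coatom (χ : IrrCharacter G) (K : Subgroup G) [K.Normal]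
    (hK : ∀ g : G, g ∈ K ↔ (χ : G → ℂ) g = (χ : G → ℂ) 1) (hKnil : Group.IsNilpotent K)
    (H : Subgroup G) (hH : IsCoatom H) (hKH : ¬ K ≤ H)
    (hstar : ∀ x ∈ H, (χ : G → ℂ) x ≠ 0 → x ∈ H.normalCore)
    (g : G) (hg : (χ : G → ℂ) g ≠ 0) (k : G) (hk : k ∈ K) : ⁅k, g⁆ ∈ H := by
  have hχ1 : (χ : G → ℂ) 1 ≠ 0 := IsIrrCharacter.apply_one_ne_zero χ.2
  have hDC : K ⊓ H ≤ H.normalCore := by
    intro y hy
    apply hstar y hy.2
    rw [(hK y).1 hy.1]
    exact hχ1
  have hDeq : K ⊓ H = K ⊓ H.normalCore :=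
    le_antisymm (le_inf inf_le_left hDC) (inf_le_inf_left K H.normalCore_le)
  have hDn : (K ⊓ H).Normal := by rw [hDeq]; infer_instance
  have hcomm : ⁅K, K⁆ ≤ H := commutator_le_of_coatom K hKnil H hH hKH hDn
  have hsup : K ⊔ H = ⊤ := sup_eq_top_of_coatom hH K hKH
  have hgm : g ∈ K ⊔ H := by rw [hsup]; trivial
  obtain ⟨k', hk', h, hh, rfl⟩ := Subgroup.mem_sup_of_normal_left.1 hgm
  have hχh : (χ : G → ℂ) h ≠ 0 := by
    have h1 := (Helper25.char_mul_of_mem_ker (IsIrrCharacter.isCharacter χ.2)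
      ((hK k').1 hk') h).2
    rw [h1] at hg
    exact hg
  have hhC : h ∈ H.normalCore := hstar h hh hχh
  have hid : ⁅k, k' * h⁆ = ⁅k, k'⁆ * (k' * ⁅k, h⁆ * k'⁻¹) := by
    simp only [commutatorElement_def]; group
  rw [hid]
  apply H.mul_mem
  · exact hcomm (Subgroup.commutator_mem_commutator hk hk')
  · have h1 : ⁅k, h⁆ ∈ K ⊓ H.normalCore := by
      constructor
      · rw [commutatorElement_def]
        have h2 : k * h * k⁻¹ * h⁻¹ = k * (h * k⁻¹ * h⁻¹) := by group
        rw [h2]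
        exact K.mul_mem hk (Subgroup.Normal.conj_mem inferInstance _ (K.inv_mem hk) h)
      · rw [commutatorElement_def]
        exact H.normalCore.mul_mem (Subgroup.Normal.conj_mem inferInstance _ hhC k)
          (H.normalCore.inv_mem hhC)
    have h2 : k' * ⁅k, h⁆ * k'⁻¹ ∈ K ⊓ H.normalCore :=
      Subgroup.Normal.conj_mem inferInstance _ h1 k'
    exact H.normalCore_le h2.2

/-- if `χ` vanishes off its kernel then the kernel is everything -/
theorem eq_top_of_vanish_off (χ : IrrCharacter G) (K : Subgroup G)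
    (hK : ∀ g : G, g ∈ K ↔ (χ : G → ℂ) g = (χ : G → ℂ) 1)
    (hvan : ∀ g : G, (χ : G → ℂ) g ≠ 0 → g ∈ K) : K = ⊤ := by
  classical
  haveI : Fintype G := Fintype.ofFinite G
  have hχ1 : (χ : G → ℂ) 1 ≠ 0 := IsIrrCharacter.apply_one_ne_zero χ.2
  obtain ⟨τ, hτ⟩ : ∃ τ : IrrCharacter G, (τ : G → ℂ) = fun _ => 1 := by
    refine ⟨⟨_, isIrrCharacter_of_monoidHom (1 : G →* ℂˣ)⟩, ?_⟩
    funext g
    simp
  have hsum : ∑ g : G, (χ : G → ℂ) g
      = ((Finset.univ.filter (fun g : G => g ∈ K)).card : ℂ) * (χ : G → ℂ) 1 := by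
    rw [← nsmul_eq_mul, ← Finset.sum_const, Finset.sum_filter]
    apply Finset.sum_congr rfl
    intro g _
    split_ifs with hgK
    · exact (hK g).1 hgK
    · by_contra h0
      exact hgK (hvan g h0)
  have hcard : (Finset.univ.filter (fun g : G => g ∈ K)).card ≠ 0 := by
    apply Finset.card_ne_zero.2
    exact ⟨1, by simp [K.one_mem]⟩
  have hinner : classInner (χ : G → ℂ) (τ : G → ℂ) ≠ 0 := by
    rw [classInner_def, hτ]
    simp only [map_one, mul_one]
    rw [hsum]
    apply mul_ne_zero (inv_ne_zero card_ne_zero_complex)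
    exact mul_ne_zero (by exact_mod_cast hcard) hχ1
  have heq : χ = τ := by
    by_contra hne
    exact hinner (classInner_irrCharacter_ne hne)
  rw [eq_top_iff]
  intro g _
  rw [hK g, heq, hτ]

/-- if `K = F(G)` is the kernel of `χ`, `G / K` is solvable and `K ≠ G`, there are a coatom `H`
not containing `K` and a non-vanishing element of `H` outside the core of `H` -/
theorem exists_coatom_of_fitting (χ : IrrCharacter G) (K : Subgroup G) [K.Normal]
    (hK : ∀ g : G, g ∈ K ↔ (χ : G → ℂ) g = (χ : G → ℂ) 1) (hKF : K = fittingSubgroup G)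
    (hsol : Group.IsSolvable (G ⧸ K)) (hKtop : K ≠ ⊤) :
    ∃ H : Subgroup G, IsCoatom H ∧ ¬ K ≤ H ∧
      ∃ x ∈ H, x ∉ H.normalCore ∧ (χ : G → ℂ) x ≠ 0 := by
  by_contra hno
  push Not at hno
  have hstar : ∀ H : Subgroup G, IsCoatom H → ¬ K ≤ H →
      ∀ x ∈ H, (χ : G → ℂ) x ≠ 0 → x ∈ H.normalCore := by
    intro H hH hKH x hx hχx
    by_contra hxC
    exact hχx (hno H hH hKH x hx hxC)
  have hKnil : Group.IsNilpotent K := by
    rw [hKF]; exact Helper1.fittingSubgroup_isNilpotent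
  haveI := hKnil
  haveI : Group.IsSolvable G := by
    haveI := hsol
    apply Group.isSolvable_of_ker_le_range K.subtype (QuotientGroup.mk' K)
    rw [QuotientGroup.ker_mk', Subgroup.range_subtype]
  apply hKtop
  apply eq_top_of_vanish_off χ K hK
  intro g hg
  -- commutators with `K` lie in the Frattini subgroup
  have hfr : ∀ k ∈ K, ⁅k, g⁆ ∈ frattini G := by
    intro k hk
    have h1 : Subgroup.zpowers ⁅k, g⁆ ≤ frattini G := by
      rw [Helper1.le_frattini_iff]
      intro M hM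
      rw [Subgroup.zpowers_le]
      by_cases hKM : K ≤ M
      · apply hKM
        rw [commutatorElement_def]
        have h2 : k * g * k⁻¹ * g⁻¹ = k * (g * k⁻¹ * g⁻¹) := by group
        rw [h2]
        exact K.mul_mem hk (Subgroup.Normal.conj_mem inferInstance _ (K.inv_mem hk) g)
      · exact commutator_mem_coatom χ K hK hKnil M hM hKM (hstar M hM hKM) g hg k hk
    exact h1 (Subgroup.mem_zpowers _)
  have hcent : (QuotientGroup.mk' (frattini G) g) ∈
      Subgroup.centralizer ((fittingSubgroup (G ⧸ frattini G) : Subgroup _) : Set _) := by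
    rw [Subgroup.mem_centralizer_iff]
    intro q hq
    rw [SetLike.mem_coe, Helper1.fittingSubgroup_quotient_frattini] at hq
    obtain ⟨k, hk, rfl⟩ := Subgroup.mem_map.1 hq
    rw [← commutatorElement_eq_one_iff_mul_comm, ← map_commutatorElement,
      QuotientGroup.mk'_apply, QuotientGroup.eq_one_iff]
    exact hfr k (hKF ▸ hk)
  have h2 := Helper1.centralizer_fittingSubgroup_le hcent
  rw [Helper1.fittingSubgroup_quotient_frattini] at h2
  obtain ⟨k, hk, hkg⟩ := Subgroup.mem_map.1 h2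
  rw [QuotientGroup.mk'_apply, QuotientGroup.mk'_apply, QuotientGroup.eq] at hkg
  have h3 : k⁻¹ * g ∈ fittingSubgroup G := Helper1.frattini_le_fittingSubgroup hkg
  have h4 : g = k * (k⁻¹ * g) := by group
  rw [h4, hKF]
  exact (fittingSubgroup G).mul_mem hk h3

end CaseTwo

section Main

variable {G : Type u} [Group G] [Finite G]

/-- **Broline-Garrison** -/
theorem main (χ : IrrCharacter G) (K : Subgroup G) [K.Normal]
    (hK : ∀ g : G, g ∈ K ↔ (χ : G → ℂ) g = (χ : G → ℂ) 1)
    (h : ¬ K ≤ fittingSubgroup G ∨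
      (K = fittingSubgroup G ∧ Group.IsSolvable (G ⧸ K) ∧ K ≠ ⊤)) :
    ∃ ψ : IrrCharacter G, charDegree (χ : G → ℂ) < charDegree (ψ : G → ℂ) ∧
      ∃ L : Subgroup G, (∀ g : G, g ∈ L ↔ (ψ : G → ℂ) g = (ψ : G → ℂ) 1) ∧ L < K := by
  haveI : Fintype G := Fintype.ofFinite G
  have hχ1 : (χ : G → ℂ) 1 ≠ 0 := IsIrrCharacter.apply_one_ne_zero χ.2
  rcases h with h | ⟨h1, h2, h3⟩
  · have hnil : ¬ Group.IsNilpotent K :=
      fun hn => h (Helper1.le_fittingSubgroup inferInstance hn)
    obtain ⟨H, hH, hKH, x, hxK, hxH, hxC⟩ := exists_coatom_of_not_nilpotent K hnil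
    exact exists_larger_of_coatom χ K hK H hH hKH x hxH hxC
      (by rw [(hK x).1 hxK]; exact hχ1)
  · obtain ⟨H, hH, hKH, x, hxH, hxC, hχx⟩ := exists_coatom_of_fitting χ K hK h1 h2 h3
    exact exists_larger_of_coatom χ K hK H hH hKH x hxH hxC hχx

end Main

end Cfsg.Agent.Lib.Helper2.BG
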