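import Mathlib

/-!
# Generic lemmas requested by helper21 for S2202

`sylow_inf_center_eq_bot_of_perfect` (R1): in a perfect group an abelian Sylow subgroup meets the
centre trivially (transfer).
`exists_fixed_in_orbit` (R3b): an odd-order group normalising an elementary abelian 2-group `S`
and preserving a regular `S`-orbit has a fixed point on it (vanishing of the cocycle).
-/

set_option autoImplicit false
set_option linter.unusedVariables false
set_option linter.unusedSectionVars false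
set_option linter.style.longLine false
set_option linter.unnecessarySimpa false
set_option linter.style.haveILetI false

namespace Cfsg.Agent.Lib.Helper2.S2202R

theorem sylow_inf_center_eq_bot_of_perfect {G : Type*} [Group G] [Finite G]
    (hperf : commutator G = ⊤) (p : ℕ) [Fact p.Prime] (P : Sylow p G)
    (hP : ∀ a ∈ P, ∀ b ∈ P, a * b = b * a) : (P : Subgroup G) ⊓ Subgroup.center G = ⊥ := by
  rw [eq_bot_iff]
  rintro z ⟨hzP, hzZ⟩
  rw [Subgroup.mem_bot]
  letI : CommGroup ↥(P : Subgroup G) :=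
    { (inferInstance : Group ↥(P : Subgroup G)) with
      mul_comm := fun a b => Subtype.ext (hP a a.2 b b.2) }
  have hφ1 : ∀ g : G, MonoidHom.transfer (MonoidHom.id ↥(P : Subgroup G)) g = 1 := by
    intro g
    have h1 : commutator G ≤ (MonoidHom.transfer (MonoidHom.id ↥(P : Subgroup G))).ker :=
      Abelianization.commutator_subset_ker _
    rw [hperf] at h1
    exact h1 (Subgroup.mem_top g)
  have hkey : ∀ (k : ℕ) (g₀ : G), g₀⁻¹ * z ^ k * g₀ ∈ (P : Subgroup G) →
      g₀⁻¹ * z ^ k * g₀ = z ^ k := by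
    intro k g₀ _
    have : z ^ k ∈ Subgroup.center G := pow_mem hzZ k
    rw [mul_assoc, ← Subgroup.mem_center_iff.1 this g₀, inv_mul_cancel_left]
  have hpow := MonoidHom.transfer_eq_pow (MonoidHom.id ↥(P : Subgroup G)) z hkey
  rw [hφ1 z] at hpow
  have hz1 : z ^ (P : Subgroup G).index = 1 := by
    have := congrArg Subtype.val hpow
    simpa using this.symm
  have h1 : orderOf z ∣ (P : Subgroup G).index := orderOf_dvd_of_pow_eq_one hz1
  have h2 : orderOf z ∣ Nat.card (P : Subgroup G) := Subgroup.orderOf_dvd_natCard _ hzP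
  exact orderOf_eq_one_iff.1 (Nat.eq_one_of_dvd_coprimes (Sylow.card_coprime_index P) h2 h1)

theorem exists_fixed_in_orbit {G X : Type*} [Group G] [MulAction G X] (S H : Subgroup G)
    [Finite H] (hS2 : ∀ s ∈ S, s * s = 1) (hScomm : ∀ a ∈ S, ∀ b ∈ S, a * b = b * a)
    (hHS : ∀ h ∈ H, ∀ s ∈ S, h * s * h⁻¹ ∈ S) (hodd : Odd (Nat.card H)) (x₀ : X)
    (hfree : ∀ s ∈ S, s • x₀ = x₀ → s = 1) (horb : ∀ h ∈ H, ∃ s ∈ S, h • x₀ = s • x₀) :
    ∃ s ∈ S, ∀ h ∈ H, h • (s • x₀) = s • x₀ := by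
  classical
  letI : Fintype ↥H := Fintype.ofFinite ↥H
  letI : CommGroup ↥S :=
    { (inferInstance : Group ↥S) with
      mul_comm := fun a b => Subtype.ext (hScomm a a.2 b b.2) }
  choose e he using fun h : ↥H => horb h h.2
  -- conjugation by `h` on `S`
  let c : ↥H → (↥S →* ↥S) := fun h =>
    { toFun := fun s => ⟨(h : G) * s * (h : G)⁻¹, hHS h h.2 s s.2⟩
      map_one' := by
        apply Subtype.ext
        simp
      map_mul' := fun a b => by
        apply Subtype.ext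
        simp only [Subgroup.coe_mul]
        group }
  have hc : ∀ (h : ↥H) (s : ↥S), ((c h s : ↥S) : G) = (h : G) * s * (h : G)⁻¹ := fun h s => rfl
  let e' : ↥H → ↥S := fun h => ⟨e h, (he h).1⟩
  have he' : ∀ h : ↥H, (h : G) • x₀ = ((e' h : ↥S) : G) • x₀ := fun h => (he h).2
  have hsq : ∀ s : ↥S, s * s = 1 := fun s => Subtype.ext (hS2 s s.2)
  have hinv : ∀ s : ↥S, s⁻¹ = s := fun s => inv_eq_of_mul_eq_one_left (hsq s)
  -- the cocycle identity
  have hcoc : ∀ h h' : ↥H, e' (h * h') = c h (e' h') * e' h := by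
    intro h h'
    have h1 : ((h * h' : ↥H) : G) • x₀ = ((c h (e' h') * e' h : ↥S) : G) • x₀ := by
      calc ((h * h' : ↥H) : G) • x₀ = (h : G) • ((h' : G) • x₀) := by
            rw [Subgroup.coe_mul, mul_smul]
        _ = (h : G) • (((e' h' : ↥S) : G) • x₀) := by rw [he' h']
        _ = ((h : G) * (e' h' : ↥S) * (h : G)⁻¹) • ((h : G) • x₀) := by
            rw [← mul_smul, ← mul_smul, inv_mul_cancel_right]
        _ = ((h : G) * (e' h' : ↥S) * (h : G)⁻¹) • (((e' h : ↥S) : G) • x₀) := by rw [he' h]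
        _ = ((c h (e' h') * e' h : ↥S) : G) • x₀ := by
            rw [← mul_smul, Subgroup.coe_mul, hc]
    rw [he' (h * h')] at h1
    have h2 : (((c h (e' h') * e' h)⁻¹ * e' (h * h') : ↥S) : G) • x₀ = x₀ := by
      rw [Subgroup.coe_mul, mul_smul, h1, ← mul_smul, Subgroup.coe_inv, inv_mul_cancel, one_smul]
    have h3 := hfree _ ((c h (e' h') * e' h)⁻¹ * e' (h * h')).2 h2
    have h4 : (c h (e' h') * e' h)⁻¹ * e' (h * h') = 1 := Subtype.ext h3
    exact (inv_mul_eq_one.1 h4).symm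
  have hodd' : ∀ s : ↥S, s ^ Nat.card ↥H = s := by
    intro s
    obtain ⟨m, hm⟩ := hodd
    rw [hm, pow_succ, pow_mul, pow_two, hsq, one_pow, one_mul]
  -- the fixed point
  have hcs : ∀ h : ↥H, c h (∏ h' : ↥H, e' h') = (∏ h' : ↥H, e' h') * e' h := by
    intro h
    rw [map_prod]
    have h1 : ∀ h' : ↥H, c h (e' h') = e' (h * h') * e' h := by
      intro h'
      rw [hcoc h h', mul_assoc, hsq, mul_one]
    rw [Finset.prod_congr rfl (fun h' _ => h1 h'), Finset.prod_mul_distrib, Finset.prod_const,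
      Finset.card_univ, ← Nat.card_eq_fintype_card, hodd']
    congr 1
    exact Fintype.prod_equiv (Equiv.mulLeft h) _ _ (fun h' => rfl)
  refine ⟨((∏ h' : ↥H, e' h' : ↥S) : G), (∏ h' : ↥H, e' h' : ↥S).2, ?_⟩
  intro h hh
  have h1 := hcs ⟨h, hh⟩
  have h2 := congrArg Subtype.val h1
  rw [hc, Subgroup.coe_mul] at h2
  calc h • (((∏ h' : ↥H, e' h' : ↥S) : G) • x₀)
      = (h * ((∏ h' : ↥H, e' h' : ↥S) : G) * h⁻¹) • (h • x₀) := by
        rw [← mul_smul, ← mul_smul, inv_mul_cancel_right]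
    _ = (h * ((∏ h' : ↥H, e' h' : ↥S) : G) * h⁻¹) • (((e' ⟨h, hh⟩ : ↥S) : G) • x₀) := by
        rw [he' ⟨h, hh⟩]
    _ = ((∏ h' : ↥H, e' h' : ↥S) : G) • x₀ := by
        have h3 : h * ((∏ h' : ↥H, e' h' : ↥S) : G) * h⁻¹ =
            ((∏ h' : ↥H, e' h' : ↥S) : G) * ((e' ⟨h, hh⟩ : ↥S) : G) := h2
        rw [h3, ← mul_smul, mul_assoc]
        have h4 : ((e' ⟨h, hh⟩ : ↥S) : G) * ((e' ⟨h, hh⟩ : ↥S) : G) = 1 :=
          hS2 _ (e' ⟨h, hh⟩).2
        rw [h4, mul_one]

end Cfsg.Agent.Lib.Helper2.S2202R
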