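import Mathlib
import Cfsg.Agent.Lib.Helper13.OSubDefs
import Cfsg.Agent.Lib.Helper13.OSubBridge

/-!
# S5659 FO-G: from the rational singular vectors to all isotropic vectors

If every rational singular vector is a centre of transvections of `M` (all parameters), then
so is every isotropic vector of `F^n`.  Proof: write `v = ι a + θ ι b`.  After a scalar and one
rational transvection both components become singular; if they are orthogonal one more
rational transvection makes them a hyperbolic pair, where `SuX.rule` applies.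
-/

set_option autoImplicit false
set_option linter.unusedSectionVars false
set_option linter.unusedVariables false

namespace Cfsg.Agent.Lib.Helper2.S5659G

open Matrix Module Cfsg.Agent.Lib.Helper6 Cfsg.Agent.S0779 Cfsg.Agent.S0781
open Cfsg.Agent.Lib.Helper6.SUG Cfsg.Agent.Lib.Helper13

section geo
variable {K' : Type*} [Field K'] {n : ℕ} {f : (Fin n → K') → (Fin n → K') → K'}

/-- a vector orthogonal to `a` but not to `b`, when `b` is not a multiple of `a` -/
theorem exists_perp_ne' (hf : SymF f) {a b : Fin n → K'} (hb : ∀ k : K', b ≠ k • a) :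
    ∃ x, f a x = 0 ∧ f b x ≠ 0 := by
  by_cases ha : a = 0
  · have hb0 : b ≠ 0 := by
      intro h0
      apply hb 0
      rw [h0, ha, smul_zero]
    obtain ⟨x, hx⟩ := hf.nd b hb0
    exact ⟨x, by rw [ha, hf.zero_left], hx⟩
  · by_contra hcon
    push Not at hcon
    obtain ⟨x₀, hx₀⟩ := hf.nd a ha
    apply hb (f b x₀ / f a x₀)
    have h1 : b - (f b x₀ / f a x₀) • a = 0 := by
      by_contra hne
      obtain ⟨x, hx⟩ := hf.nd _ hne
      apply hx
      have h2 := hcon (x - (f a x / f a x₀) • x₀) (by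
        rw [hf.sub_right, hf.smul_right]
        field_simp
        ring)
      rw [hf.sub_right, hf.smul_right] at h2
      rw [hf.sub_left, hf.smul_left]
      field_simp
      field_simp at h2
      linear_combination h2
    exact sub_eq_zero.mp h1

/-- a singular vector not orthogonal to a given nonzero vector -/
theorem exists_singular_not_perp [Finite K'] (hf : SymF f) (h2 : (2 : K') ≠ 0) (hn : 3 ≤ n)
    (a : Fin n → K') (ha : a ≠ 0) : ∃ y, f y y = 0 ∧ f a y ≠ 0 := by
  obtain ⟨z, hz0, hzz, -⟩ := hf.exists_singular_perp [] (by simpa using hn)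
  by_cases haz : f a z = 0
  · obtain ⟨w₁, hw₁⟩ := hf.nd a ha
    obtain ⟨w₂, hw₂⟩ := hf.nd z hz0
    obtain ⟨w, hwa, hwz⟩ : ∃ w, f a w ≠ 0 ∧ f z w ≠ 0 := by
      by_cases h1 : f z w₁ = 0
      · by_cases h3 : f a w₂ = 0
        · refine ⟨w₁ + w₂, ?_, ?_⟩
          · rw [hf.add_right, h3, add_zero]
            exact hw₁
          · rw [hf.add_right, h1, zero_add]
            exact hw₂
        · exact ⟨w₂, h3, hw₂⟩
      · exact ⟨w₁, hw₁, h1⟩
    have hwz' : f w z ≠ 0 := by rw [hf.symm]; exact hwz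
    refine ⟨w + (-(f w w) / (2 * f w z)) • z, ?_, ?_⟩
    · rw [hf.add_left, hf.add_right, hf.add_right, hf.smul_left, hf.smul_left, hf.smul_right,
        hf.smul_right, hzz, hf.symm z w]
      field_simp
      ring
    · rw [hf.add_right, hf.smul_right, haz, mul_zero, add_zero]
      exact hwa
  · exact ⟨z, hzz, haz⟩

end geo

variable {F : Type*} [Field F] [Fintype F] {q n : ℕ}

local notation "hh" => Cfsg.hermForm n F q

variable {K : Subfield F} {θ : F} {P : GL (Fin n) F}

theorem coe_ne_zero' {x : K} (hx : x ≠ 0) : (x : F) ≠ 0 := by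
  intro h0
  apply hx
  exact_mod_cast h0

/-- both components singular -/
theorem suX_pair (h : OSub q K θ P) {M : Subgroup (GL (Fin n) F)}
    (hrat : ∀ x : Fin n → K, oB h x x = 0 → SuX q M (iot K P x))
    (a b : Fin n → K) (ha : oB h a a = 0) (hb : oB h b b = 0) :
    SuX q M (subE K θ P a b) := by
  have hS := h.symF
  have hiso : hh (subE K θ P a b) (subE K θ P a b) = 0 :=
    (h.iso_iff a b).mpr (by rw [ha, hb, mul_zero])
  by_cases ht : oB h a b = 0
  · by_cases hk : ∃ k : K, b = k • a
    · obtain ⟨k, rfl⟩ := hk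
      have e : subE K θ P a (k • a) = (1 + θ * (k : F)) • iot K P a := by
        unfold subE
        rw [iot_smul, smul_smul, add_smul, one_smul]
      rw [e]
      exact (hrat a ha).smul _
    · push Not at hk
      obtain ⟨w, hw1, hw2⟩ := exists_perp_ne' hS hk
      have h2 := h.two'
      obtain ⟨y, hydef⟩ : ∃ y, y = w + (-(oB h w w) / (2 * oB h b w)) • b := ⟨_, rfl⟩
      have hy : oB h y y = 0 := by
        rw [hydef, hS.add_left, hS.add_right, hS.add_right, hS.smul_left, hS.smul_left,
          hS.smul_right, hS.smul_right, hb, hS.symm w b]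
        field_simp
        ring
      have hay : oB h a y = 0 := by
        rw [hydef, hS.add_right, hS.smul_right, hw1, ht, mul_zero, add_zero]
      have hby : oB h b y ≠ 0 := by
        rw [hydef, hS.add_right, hS.smul_right, hb, mul_zero, add_zero]
        exact hw2
      have hT : suGL n F q (oTv h y hy 1) ∈ M := (hrat y hy).2 _ _ rfl
      have e1 := oTv_subE h y hy 1 a b
      rw [hay, mul_zero, zero_smul, add_zero] at e1
      obtain ⟨a', ha'def⟩ : ∃ a', a' = a + (1 * oEps h * oB h b y) • y := ⟨_, rfl⟩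
      rw [← ha'def] at e1
      have hiso' : hh (subE K θ P a' b) (subE K θ P a' b) = 0 := by
        rw [← e1, herm_av]
        exact hiso
      have ha' : oB h a' a' = 0 := by
        rw [(h.iso_iff a' b).mp hiso', hb, mul_zero]
      have ha'b : oB h a' b ≠ 0 := by
        rw [ha'def, hS.add_left, hS.smul_left, ht, zero_add, hS.symm y b, one_mul]
        exact mul_ne_zero (mul_ne_zero (oEps_ne_zero h) hby) hby
      have h1 := (hrat a' ha').rule h.hF (hrat b hb)
        (by rw [← oB_coe h]; exact coe_ne_zero' ha'b) θ hiso'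
      have h3 := h1.map (oTv h y hy 1)⁻¹ (by rw [map_inv]; exact M.inv_mem hT)
      have e2 : iot K P a' + θ • iot K P b = subE K θ P a' b := rfl
      rwa [e2, ← e1, av_inv_av] at h3
  · exact (hrat a ha).rule h.hF (hrat b hb)
      (by rw [← oB_coe h]; exact coe_ne_zero' ht) θ hiso

theorem one_add_theta_ne_zero (h : OSub q K θ P) : (1 : F) + θ ≠ 0 := by
  intro h0
  have e : ((1 : K) : F) + θ * ((1 : K) : F) = ((0 : K) : F) + θ * ((0 : K) : F) := by
    push_cast
    linear_combination h0
  exact one_ne_zero (h.sd.uniq e).1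

/-- **FO-G**: all isotropic vectors -/
theorem suX_all_of_rational (h : OSub q K θ P) (hn : 13 ≤ n) {M : Subgroup (GL (Fin n) F)}
    (hrat : ∀ x : Fin n → K, oB h x x = 0 → SuX q M (iot K P x)) :
    ∀ v : Fin n → F, hh v v = 0 → SuX q M v := by
  intro v hv
  have hS := h.symF
  haveI : Finite K := Finite.of_injective (fun x : K => (x : F)) Subtype.val_injective
  by_cases hv0 : v = 0
  · rw [hv0]
    exact SuX.zero M
  obtain ⟨a, b, hab⟩ := exists_subE h.sd P v
  -- a rational singular vector not orthogonal to `v`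
  obtain ⟨y, hy, hvy⟩ : ∃ y : Fin n → K, oB h y y = 0 ∧ hh v (iot K P y) ≠ 0 := by
    have key : ∀ y : Fin n → K, (oB h a y ≠ 0 ∨ oB h b y ≠ 0) → hh v (iot K P y) ≠ 0 := by
      intro y hy h0
      rw [hab, h.herm_subE_iot] at h0
      have e : (oB h a y : F) + θ * (oB h b y : F) = ((0 : K) : F) + θ * ((0 : K) : F) := by
        push_cast
        linear_combination h0
      obtain ⟨e1, e2⟩ := h.sd.uniq e
      rcases hy with hy | hy
      · exact hy e1
      · exact hy e2
    by_cases ha0 : a = 0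
    · have hb0 : b ≠ 0 := by
        intro hb0
        apply hv0
        rw [hab, ha0, hb0]
        unfold subE
        rw [iot_zero, smul_zero, add_zero]
      obtain ⟨y, hy, hby⟩ := exists_singular_not_perp hS h.two' (by omega) b hb0
      exact ⟨y, hy, key y (Or.inr hby)⟩
    · obtain ⟨y, hy, hay⟩ := exists_singular_not_perp hS h.two' (by omega) a ha0
      exact ⟨y, hy, key y (Or.inl hay)⟩
  -- normalise
  have h1θ := one_add_theta_ne_zero h
  obtain ⟨l, hl⟩ : ∃ l : F, l = (1 + θ) / hh v (iot K P y) := ⟨_, rfl⟩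
  have hl0 : l ≠ 0 := by
    rw [hl]
    exact div_ne_zero h1θ hvy
  obtain ⟨a₁, b₁, hab₁⟩ := exists_subE h.sd P (l • v)
  have hiso₁ : hh (subE K θ P a₁ b₁) (subE K θ P a₁ b₁) = 0 := by
    rw [← hab₁, herm_smul_left, herm_smul_right, hv, mul_zero, mul_zero]
  have hpr : oB h a₁ y = 1 ∧ oB h b₁ y = 1 := by
    have e1 : hh (l • v) (iot K P y) = 1 + θ := by
      rw [herm_smul_left, hl, div_mul_cancel₀ _ hvy]
    rw [hab₁, h.herm_subE_iot] at e1
    have e : (oB h a₁ y : F) + θ * (oB h b₁ y : F) = ((1 : K) : F) + θ * ((1 : K) : F) := by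
      push_cast
      linear_combination e1
    exact h.sd.uniq e
  obtain ⟨hp, hr⟩ := hpr
  have h2 := h.two'
  obtain ⟨k, hk⟩ : ∃ k : K, k = -(oB h b₁ b₁) / 2 := ⟨_, rfl⟩
  have hT : suGL n F q (oTv h y hy k) ∈ M := (hrat y hy).2 _ _ rfl
  have e1 := oTv_subE h y hy k a₁ b₁
  rw [hp, hr, mul_one, mul_one] at e1
  obtain ⟨a₂, ha₂def⟩ : ∃ a₂, a₂ = a₁ + (k * oEps h) • y := ⟨_, rfl⟩
  obtain ⟨b₂, hb₂def⟩ : ∃ b₂, b₂ = b₁ + k • y := ⟨_, rfl⟩
  rw [← ha₂def, ← hb₂def] at e1
  have hiso₂ : hh (subE K θ P a₂ b₂) (subE K θ P a₂ b₂) = 0 := by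
    rw [← e1, herm_av]
    exact hiso₁
  have hb₂ : oB h b₂ b₂ = 0 := by
    rw [hb₂def, hS.add_left, hS.add_right, hS.add_right, hS.smul_left, hS.smul_left,
      hS.smul_right, hS.smul_right, hy, hr, hS.symm y b₁, hr, hk]
    field_simp
    ring
  have ha₂ : oB h a₂ a₂ = 0 := by
    rw [(h.iso_iff a₂ b₂).mp hiso₂, hb₂, mul_zero]
  have h3 := suX_pair h hrat a₂ b₂ ha₂ hb₂
  have h4 := h3.map (oTv h y hy k)⁻¹ (by rw [map_inv]; exact M.inv_mem hT)
  rw [← e1, av_inv_av, ← hab₁] at h4
  have h5 := h4.smul l⁻¹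
  rwa [smul_smul, inv_mul_cancel₀ hl0, one_smul] at h5

end Cfsg.Agent.Lib.Helper2.S5659G
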