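import Mathlib
import Cfsg.Agent.Lib.Helper13.TensSODefs
import Cfsg.Agent.Lib.Helper23.S5670FOLEFT
import Cfsg.Agent.Lib.Helper10.KronRank3

/-!
# S5666 (helper13's skeleton): A-E1 `hypE1_of_hypA` (helper2)

`g ∈ M`, `y := g * rU u c * g⁻¹ ∈ N0`.  The fixed space of `y` has codimension `b`, so (`a ≥ 3`) one of the Kronecker
factors of `y` is scalar (`KronRank2.scalar_or_scalar_of_fix`).

* `y = A' ⊗ 1`: `A' - 1` has rank one, `[V, y] = u₁ ⊗ W = g (u ⊗ W)` and `g ∈ N0` by (A).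
* `y = 1 ⊗ B'`: `B'` is an isometry of `W`; its fixed space contains a non-singular vector `w₀` (`a ≥ 4`), and the reflection
  `n = 1 ⊗ r_{w₀} ∈ N0 ∩ Sp(V) ≤ M` fixes `g (u ⊗ W) = [V, y]` pointwise; so `z = g⁻¹ n g` fixes `u ⊗ W` pointwise, `z ∈ N0`
  by (A), `z = A₃ ⊗ 1`; counting fixed spaces gives `a = b` and `rank (A₃ - 1) = 1`, so the `(-1)`-eigenvectors
  `g⁻¹ (x ⊗ w₀)` of `z` lie in a totally isotropic `u₁ ⊗ W`: contradiction.
-/

set_option autoImplicit false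
set_option linter.unusedSectionVars false
set_option linter.unusedVariables false

namespace Cfsg.Agent.Lib.Helper2.S5666FOE1

open Matrix Module
open Cfsg.Agent.Lib.Helper16.Tens Cfsg.Agent.Lib.Helper10.TensFund Cfsg.Agent.Lib.Helper13.TensSO
open Cfsg.Agent.Lib.Helper28.TensU (ctrL ctrL_apply ctrL_pur hypL mem_hypL_iff ptL mem_ptL_iff pur_mem_ptL rootGLL
  rootGLL_val act_rootGLL rootGLL_mem_SL rootGLL_mem_kron)
open Cfsg.Agent.Lib.Helper3.SpT (bf SympG bf_kron_pur pur_induction)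
open scoped Kronecker

variable {F : Type*} [Field F] {a b : ℕ}
variable {J1 : Matrix (Fin a) (Fin a) F} {J2 : Matrix (Fin b) (Fin b) F}
variable {M : Subgroup (GL (Fin a × Fin b) F)}

local notation "K" => Cfsg.Geo.kroneckerSubgroup a b F
local notation "V" => (Fin a × Fin b → F)

/-! ## basic facts on `rU` -/

theorem J1u_ne_zero (h1 : SympG J1) {u : Fin a → F} (hu : u ≠ 0) : J1 *ᵥ u ≠ 0 := by
  intro h
  apply hu
  apply h1.nondeg_right
  intro x
  unfold bf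
  rw [h, dotProduct_zero]

theorem ctrL_J1_pur (u x : Fin a → F) (w : Fin b → F) : ctrL (J1 *ᵥ u) (pur x w) = bf J1 x u • w := by
  rw [ctrL_pur]
  rfl

theorem act_rU_pur (h1 : SympG J1) (u : Fin a → F) (c : F) (x : Fin a → F) (w : Fin b → F) :
    act (rU (b := b) J1 h1 u c) (pur x w) = pur (x + (c * bf J1 x u) • u) w := by
  rw [act_rU, ctrL_J1_pur, pur_smul_right, smul_smul, pur_add_left, pur_smul_left]

/-- the fixed space of `rU u c` is `u^⊥ ⊗ W` -/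
theorem act_rU_fix_iff (h1 : SympG J1) (u : Fin a → F) (c : F) (hu : u ≠ 0) (hc : c ≠ 0) (v : V) :
    act (rU J1 h1 u c) v = v ↔ v ∈ hypL (J1 *ᵥ u) := by
  rw [act_rU, mem_hypL_iff]
  constructor
  · intro h
    have h2 : c • pur u (ctrL (J1 *ᵥ u) v) = 0 := by
      have := congrArg (fun z => z - v) h
      simpa using this
    rcases smul_eq_zero.1 h2 with h3 | h3
    · exact absurd h3 hc
    · rcases pur_eq_zero h3 with h4 | h4
      · exact absurd h4 hu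
      · exact h4
  · intro h
    rw [h, pur_zero_right, smul_zero, add_zero]

/-- the fixed space of a conjugate -/
theorem fix_conj (g x : GL (Fin a × Fin b) F) (P : Submodule F V)
    (hP : ∀ v, act x v = v ↔ v ∈ P) :
    LinearMap.ker ((act (g * x * g⁻¹)).toLinearMap - LinearMap.id) = img g P := by
  ext v
  rw [LinearMap.mem_ker, LinearMap.sub_apply, LinearMap.id_apply, sub_eq_zero, mem_img_iff, ← hP]
  show act (g * x * g⁻¹) v = v ↔ _
  rw [act_mul, act_mul]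
  constructor
  · intro h
    have := congrArg (act g⁻¹) h
    rwa [act_inv_act] at this
  · intro h
    rw [h, act_act_inv]

/-- membership in the isometry group may be tested on pure tensors -/
theorem mem_iso_of_pur (g : GL (Fin a × Fin b) F)
    (h : ∀ (u u' : Fin a → F) (w w' : Fin b → F),
      bf (J1 ⊗ₖ J2) (act g (pur u w)) (act g (pur u' w')) = bf J1 u u' * bf J2 w w') :
    g ∈ IsoG (J1 ⊗ₖ J2) := by
  rw [mem_IsoG_iff]
  intro x y
  show bf (J1 ⊗ₖ J2) (act g x) (act g y) = bf (J1 ⊗ₖ J2) x y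
  refine pur_induction (p := fun x => bf (J1 ⊗ₖ J2) (act g x) (act g y) = bf (J1 ⊗ₖ J2) x y) ?_ ?_ ?_ x
  · simp
  · intro x₁ x₂ h₁ h₂
    rw [map_add, Cfsg.Agent.Lib.Helper3.SpT.bf_add_left, Cfsg.Agent.Lib.Helper3.SpT.bf_add_left, h₁, h₂]
  · intro u w
    refine pur_induction (p := fun y => bf (J1 ⊗ₖ J2) (act g (pur u w)) (act g y) = bf (J1 ⊗ₖ J2) (pur u w) y)
      ?_ ?_ ?_ y
    · simp
    · intro y₁ y₂ h₁ h₂
      rw [map_add, Cfsg.Agent.Lib.Helper3.SpT.bf_add_right, Cfsg.Agent.Lib.Helper3.SpT.bf_add_right, h₁, h₂]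
    · intro u' w'
      rw [h, bf_kron_pur]

theorem act_iso (g : GL (Fin a × Fin b) F) (hg : g ∈ IsoG (J1 ⊗ₖ J2)) (x y : V) :
    bf (J1 ⊗ₖ J2) (act g x) (act g y) = bf (J1 ⊗ₖ J2) x y := by
  rw [act_apply, act_apply]
  exact (mem_IsoG_iff _ g).1 hg x y

theorem rU_mem_iso (h1 : SympG J1) (u : Fin a → F) (c : F) :
    rU (b := b) J1 h1 u c ∈ IsoG (J1 ⊗ₖ J2) := by
  apply mem_iso_of_pur
  intro x x' w w'
  rw [act_rU_pur, act_rU_pur, bf_kron_pur]
  congr 1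
  open Cfsg.Agent.Lib.Helper3.SpT in
  rw [bf_add_left, bf_add_right, bf_add_right, bf_smul_left, bf_smul_left, bf_smul_right, bf_smul_right,
    h1.alt u, h1.skew u x']
  ring

/-! ## the conjugate `y = g * rU u c * g⁻¹` -/

theorem act_conj_rU (h1 : SympG J1) (g : GL (Fin a × Fin b) F) (u : Fin a → F) (c : F) (v : V) :
    act (g * rU J1 h1 u c * g⁻¹) v = v + c • act g (pur u (ctrL (J1 *ᵥ u) (act g⁻¹ v))) := by
  rw [act_mul, act_mul, act_rU, map_add, act_act_inv, map_smul]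

/-- `[V, y] ≤ g (u ⊗ W)` -/
theorem conj_sub_mem (h1 : SympG J1) (g : GL (Fin a × Fin b) F) (u : Fin a → F) (c : F) (v : V) :
    act (g * rU J1 h1 u c * g⁻¹) v - v ∈ img g (ptL (b := b) u) := by
  rw [act_conj_rU, add_sub_cancel_left, mem_img_iff, map_smul, act_inv_act]
  exact (ptL u).smul_mem c (pur_mem_ptL _ _)

/-- `g (u ⊗ W) ≤ [V, y]` -/
theorem exists_conj_sub (h1 : SympG J1) (g : GL (Fin a × Fin b) F) (u : Fin a → F) (c : F) (hu : u ≠ 0)
    (hc : c ≠ 0) (x : V) (hx : x ∈ img g (ptL (b := b) u)) :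
    ∃ v : V, act (g * rU J1 h1 u c * g⁻¹) v - v = x := by
  rw [mem_img_iff, mem_ptL_iff] at hx
  obtain ⟨w, hw⟩ := hx
  obtain ⟨v', hv'⟩ := Cfsg.Agent.Lib.Helper23.S5670LEFT.ctrL_surjective (b := b) (J1u_ne_zero h1 hu) (c⁻¹ • w)
  refine ⟨act g v', ?_⟩
  rw [act_conj_rU, add_sub_cancel_left, act_inv_act, hv', pur_smul_right, map_smul, smul_smul, mul_inv_cancel₀ hc,
    one_smul, hw, act_act_inv]

/-- the fixed space of `y` -/
theorem fix_conj_rU (h1 : SympG J1) (g : GL (Fin a × Fin b) F) (u : Fin a → F) (c : F) (hu : u ≠ 0)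
    (hc : c ≠ 0) :
    LinearMap.ker ((act (g * rU J1 h1 u c * g⁻¹)).toLinearMap - LinearMap.id) =
      img g (hypL (b := b) (J1 *ᵥ u)) :=
  fix_conj g (rU J1 h1 u c) (hypL (J1 *ᵥ u)) (act_rU_fix_iff h1 u c hu hc)

theorem finrank_fix_conj_rU (h1 : SympG J1) (g : GL (Fin a × Fin b) F) (u : Fin a → F) (c : F) (hu : u ≠ 0)
    (hc : c ≠ 0) :
    finrank F (LinearMap.ker ((act (g * rU (b := b) J1 h1 u c * g⁻¹)).toLinearMap - LinearMap.id)) + b = a * b := by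
  rw [fix_conj_rU h1 g u c hu hc, finrank_img]
  exact Cfsg.Agent.Lib.Helper23.S5670LEFT.finrank_hypL _ (J1u_ne_zero h1 hu)

/-- Case 1: `[V, y] ≤ u₁ ⊗ W` forces `g (u ⊗ W) = u₁ ⊗ W` -/
theorem img_ptL_of_left (h1 : SympG J1) (g : GL (Fin a × Fin b) F) (u : Fin a → F) (c : F) (hu : u ≠ 0)
    (hc : c ≠ 0) (u₁ : Fin a → F) (hu₁ : u₁ ≠ 0)
    (hall : ∀ v : V, ∃ w : Fin b → F, act (g * rU J1 h1 u c * g⁻¹) v - v = pur u₁ w) :
    img g (ptL (b := b) u) = ptL u₁ := by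
  have hle : img g (ptL (b := b) u) ≤ ptL u₁ := by
    intro x hx
    obtain ⟨v, hv⟩ := exists_conj_sub h1 g u c hu hc x hx
    obtain ⟨w, hw⟩ := hall v
    rw [mem_ptL_iff]
    exact ⟨w, by rw [← hw, hv]⟩
  apply Submodule.eq_of_le_of_finrank_eq hle
  rw [finrank_img, Cfsg.Agent.Lib.Helper23.S5670LEFT.finrank_ptL u hu,
    Cfsg.Agent.Lib.Helper23.S5670LEFT.finrank_ptL u₁ hu₁]

/-! ## the Kronecker dichotomy -/

open Cfsg.Agent.Lib.Helper10.KronRank3 Cfsg.Agent.Lib.Helper10.S5637FORANK in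
/-- an element of `N0` whose fixed space has codimension `b` (`3 ≤ a`) is `1 ⊗ B'`, or `A' ⊗ 1` with
`rank (A' - 1) = 1` -/
theorem kron_dichotomy (ha : 3 ≤ a) (hb : 1 ≤ b) (n : GL (Fin a × Fin b) F) (hn : n ∈ K)
    (hker : finrank F (LinearMap.ker ((act n).toLinearMap - LinearMap.id)) + b = a * b) :
    (∃ B' : Matrix (Fin b) (Fin b) F,
      (n : Matrix (Fin a × Fin b) (Fin a × Fin b) F) = (1 : Matrix (Fin a) (Fin a) F) ⊗ₖ B' ∧
      a * finrank F (LinearMap.ker (Matrix.toLin' B' - LinearMap.id)) + b = a * b) ∨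
    (∃ u₁ : Fin a → F, u₁ ≠ 0 ∧ ∀ v : V, ∃ w : Fin b → F, act n v - v = pur u₁ w) := by
  classical
  obtain ⟨A, B, hAB⟩ := (mem_kron_iff n).mp hn
  rw [act_toLinearMap, hAB] at hker
  have hsc := Cfsg.Agent.Lib.Helper10.KronRank2.scalar_or_scalar_of_fix (A : Matrix (Fin a) (Fin a) F)
    (B : Matrix (Fin b) (Fin b) F) (by
      rw [Fintype.card_fin, Fintype.card_fin]
      omega)
  rcases hsc with ⟨z, hz⟩ | ⟨z, hz⟩
  · left
    refine ⟨z • (B : Matrix (Fin b) (Fin b) F), ?_, ?_⟩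
    · rw [hAB, hz, Matrix.smul_kronecker, Matrix.kronecker_smul]
    · have hkr : (A : Matrix (Fin a) (Fin a) F) ⊗ₖ (B : Matrix (Fin b) (Fin b) F) =
          (1 : Matrix (Fin a) (Fin a) F) ⊗ₖ (z • (B : Matrix (Fin b) (Fin b) F)) := by
        rw [hz, Matrix.smul_kronecker, Matrix.kronecker_smul]
      rw [hkr, finrank_fix_one_kron] at hker
      exact hker
  · right
    obtain ⟨A', hA'⟩ : ∃ A' : Matrix (Fin a) (Fin a) F,
        A' = z • (A : Matrix (Fin a) (Fin a) F) := ⟨_, rfl⟩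
    have hkr : (A : Matrix (Fin a) (Fin a) F) ⊗ₖ (B : Matrix (Fin b) (Fin b) F) =
        A' ⊗ₖ (1 : Matrix (Fin b) (Fin b) F) := by
      rw [hz, hA', Matrix.smul_kronecker, Matrix.kronecker_smul]
    rw [hkr, finrank_fix_kron_one] at hker
    have hEdim : finrank F (LinearMap.ker (Matrix.toLin' A' - LinearMap.id)) + 1 = a := by
      have h1 : b * (finrank F (LinearMap.ker (Matrix.toLin' A' - LinearMap.id)) + 1) = b * a := by
        rw [mul_add, mul_one, mul_comm b a]; exact hker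
      exact Nat.eq_of_mul_eq_mul_left (by omega) h1
    obtain ⟨u₁, hu₁, hall⟩ := sub_kron_one (b := b) A' hEdim
    refine ⟨u₁, hu₁, fun v => ?_⟩
    obtain ⟨w, hw⟩ := hall v
    refine ⟨w, ?_⟩
    rw [act_apply, hAB, hkr]
    exact hw

/-! ## vectors -/

open Cfsg.Agent.Lib.Helper3.SpT in
theorem exists_bf_eq_one (h1 : SympG J1) {u : Fin a → F} (hu : u ≠ 0) : ∃ u' : Fin a → F, bf J1 u u' = 1 := by
  have h : ∃ y, bf J1 u y ≠ 0 := by
    by_contra hcon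
    push Not at hcon
    exact hu (h1.nondeg u hcon)
  obtain ⟨y, hy⟩ := h
  refine ⟨(bf J1 u y)⁻¹ • y, ?_⟩
  rw [bf_smul_right, inv_mul_cancel₀ hy]

open Cfsg.Agent.Lib.Helper3.SpT in
/-- polarisation: a subspace-like family of singular vectors is totally singular -/
theorem polar_zero (h2 : OrthG J2) (two : (2 : F) ≠ 0) (w w' : Fin b → F) (h : bf J2 w w = 0)
    (h' : bf J2 w' w' = 0) (hs : bf J2 (w + w') (w + w') = 0) : bf J2 w w' = 0 := by
  rw [bf_add_left, bf_add_right, bf_add_right, h, h', h2.symm w' w] at hs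
  have h3 : 2 * bf J2 w w' = 0 := by linear_combination hs
  rcases mul_eq_zero.1 h3 with h4 | h4
  · exact absurd h4 two
  · exact h4

open Cfsg.Agent.Lib.Helper3.SpT in
theorem exists_nonsing (h2 : OrthG J2) (two : (2 : F) ≠ 0) (hb : 1 ≤ b) : ∃ w₁ : Fin b → F, bf J2 w₁ w₁ ≠ 0 := by
  by_contra hcon
  push Not at hcon
  have hall : ∀ w w', bf J2 w w' = 0 := fun w w' => polar_zero h2 two w w' (hcon w) (hcon w') (hcon _)
  have h0 : (Pi.single (⟨0, by omega⟩ : Fin b) (1 : F) : Fin b → F) = 0 := h2.nondeg _ (hall _)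
  have := congrFun h0 ⟨0, by omega⟩
  simp at this

open Cfsg.Agent.Lib.Helper3.SpT in
/-- two vectors of `u^⊥` that are not orthogonal (`a ≥ 3`) -/
theorem exists_perp_pair (h1 : SympG J1) (ha : 3 ≤ a) (u : Fin a → F) (hu : u ≠ 0) :
    ∃ u₂ u₃ : Fin a → F, bf J1 u₂ u = 0 ∧ bf J1 u₃ u = 0 ∧ bf J1 u₂ u₃ ≠ 0 := by
  classical
  obtain ⟨u', hu'⟩ := exists_bf_eq_one h1 hu
  have hu'u : bf J1 u' u = -1 := by rw [h1.skew, hu']
  -- the projection onto `⟨u, u'⟩^⊥`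
  let pr : (Fin a → F) → (Fin a → F) := fun x => x - bf J1 x u' • u + bf J1 x u • u'
  have hpr1 : ∀ x, bf J1 (pr x) u = 0 := by
    intro x
    show bf J1 (x - bf J1 x u' • u + bf J1 x u • u') u = 0
    rw [bf_add_left, bf_sub_left, bf_smul_left, bf_smul_left, h1.alt u, hu'u]
    ring
  have hpr2 : ∀ x, bf J1 (pr x) u' = 0 := by
    intro x
    show bf J1 (x - bf J1 x u' • u + bf J1 x u • u') u' = 0
    rw [bf_add_left, bf_sub_left, bf_smul_left, bf_smul_left, h1.alt u', hu']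
    ring
  -- a vector outside `⟨u, u'⟩`
  have hlt : Submodule.span F ({u, u'} : Set (Fin a → F)) < ⊤ := by
    rw [lt_top_iff_ne_top]
    intro htop
    have h3 : finrank F (Submodule.span F ({u, u'} : Set (Fin a → F))) ≤ 2 := by
      have := finrank_span_finset_le_card (R := F) ({u, u'} : Finset (Fin a → F))
      have hc : ({u, u'} : Finset (Fin a → F)).card ≤ 2 := Finset.card_le_two
      have e : ((({u, u'} : Finset (Fin a → F)) : Set (Fin a → F))) = ({u, u'} : Set (Fin a → F)) := by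
        simp
      rw [e] at this
      unfold Set.finrank at this
      omega
    rw [htop, finrank_top, Module.finrank_fintype_fun_eq_card, Fintype.card_fin] at h3
    omega
  obtain ⟨x₀, -, hx₀⟩ := SetLike.exists_of_lt hlt
  have hu₂ : pr x₀ ≠ 0 := by
    intro h0
    apply hx₀
    have e : x₀ = bf J1 x₀ u' • u + (- bf J1 x₀ u) • u' := by
      have h0' : x₀ - bf J1 x₀ u' • u + bf J1 x₀ u • u' = 0 := h0
      generalize bf J1 x₀ u' = α at h0' ⊢
      generalize bf J1 x₀ u = β at h0' ⊢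
      linear_combination (norm := module) h0'
    rw [e]
    apply Submodule.add_mem
    · exact Submodule.smul_mem _ _ (Submodule.subset_span (by simp))
    · exact Submodule.smul_mem _ _ (Submodule.subset_span (by simp))
  have h : ∃ y, bf J1 (pr x₀) y ≠ 0 := by
    by_contra hcon
    push Not at hcon
    exact hu₂ (h1.nondeg _ hcon)
  obtain ⟨y₃, hy₃⟩ := h
  refine ⟨pr x₀, pr y₃, hpr1 x₀, hpr1 y₃, ?_⟩
  show bf J1 (pr x₀) (y₃ - bf J1 y₃ u' • u + bf J1 y₃ u • u') ≠ 0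
  rw [bf_add_right, bf_sub_right, bf_smul_right, bf_smul_right, hpr1 x₀, hpr2 x₀, mul_zero, mul_zero, sub_zero,
    add_zero]
  exact hy₃

/-! ## Case 2: `y = 1 ⊗ B'` -/

open Cfsg.Agent.Lib.Helper10.Kron (slice slice_apply slice_one_kron)

/-- the second factor of an isometry `1 ⊗ B'` is an isometry of `W` -/
theorem isoB_of_one_kron (h1 : SympG J1) (y : GL (Fin a × Fin b) F) (hy : y ∈ IsoG (J1 ⊗ₖ J2))
    (B' : Matrix (Fin b) (Fin b) F)
    (hyB : (y : Matrix (Fin a × Fin b) (Fin a × Fin b) F) = (1 : Matrix (Fin a) (Fin a) F) ⊗ₖ B')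
    (u : Fin a → F) (hu : u ≠ 0) (w w' : Fin b → F) : bf J2 (B' *ᵥ w) (B' *ᵥ w') = bf J2 w w' := by
  obtain ⟨u', hu'⟩ := exists_bf_eq_one h1 hu
  have h := act_iso y hy (pur u w) (pur u' w')
  rw [act_apply, act_apply, hyB, kron_mulVec_pur, kron_mulVec_pur, Matrix.one_mulVec, Matrix.one_mulVec,
    bf_kron_pur, bf_kron_pur, hu', one_mul, one_mul] at h
  exact h

/-- the rows of a vector fixed by `1 ⊗ B'` are fixed by `B'` -/
theorem rows_fixed (B' : Matrix (Fin b) (Fin b) F) (v : V)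
    (h : ((1 : Matrix (Fin a) (Fin a) F) ⊗ₖ B') *ᵥ v = v) (i : Fin a) : B' *ᵥ (slice i v) = slice i v := by
  have h1 := slice_one_kron B' i v
  rw [Matrix.toLin'_apply, Matrix.toLin'_apply, h] at h1
  exact h1.symm

/-- every vector is the sum of its rows `∑ᵢ eᵢ ⊗ v(i,·)` -/
theorem eq_sum_pur_left (v : V) : v = ∑ i : Fin a, pur (Pi.single i 1) (slice i v) := by
  funext ⟨i0, j⟩
  rw [Finset.sum_apply]
  simp only [pur_apply, slice_apply]
  rw [Finset.sum_eq_single i0]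
  · simp
  · intro i _ hi
    simp [Ne.symm hi]
  · simp

theorem bf_sum_right {κ : Type} {ι : Type*} [Fintype κ] (J : Matrix κ κ F) (x : κ → F) (s : Finset ι) (f : ι → κ → F) :
    bf J x (∑ i ∈ s, f i) = ∑ i ∈ s, bf J x (f i) := by
  unfold bf
  rw [Matrix.mulVec_sum, dotProduct_sum]

/-- vectors with pairwise orthogonal rows are orthogonal -/
theorem bf_zero_of_rows (v v' : V) (h : ∀ i i', bf J2 (slice i v) (slice i' v') = 0) :
    bf (J1 ⊗ₖ J2) v v' = 0 := by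
  rw [eq_sum_pur_left v', bf_sum_right]
  apply Finset.sum_eq_zero
  intro i' _
  rw [Cfsg.Agent.Lib.Helper3.SpT.bf_kron_pur_right]
  have h0 : ctr (J2 *ᵥ slice i' v') v = 0 := by
    funext i
    exact h i i'
  rw [h0, Cfsg.Agent.Lib.Helper3.SpT.bf_zero_left]

/-- the fixed space of `B'` contains a non-singular vector -/
theorem exists_fixed_nonsing (h1 : SympG J1) (h2 : OrthG J2) (two : (2 : F) ≠ 0) (ha : 3 ≤ a) (hb : 1 ≤ b)
    (g y : GL (Fin a × Fin b) F) (hg : g ∈ IsoG (J1 ⊗ₖ J2)) (u : Fin a → F) (hu : u ≠ 0)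
    (B' : Matrix (Fin b) (Fin b) F)
    (hyB : (y : Matrix (Fin a × Fin b) (Fin a × Fin b) F) = (1 : Matrix (Fin a) (Fin a) F) ⊗ₖ B')
    (hfix : ∀ v ∈ img g (hypL (b := b) (J1 *ᵥ u)), act y v = v) :
    ∃ w₀ : Fin b → F, B' *ᵥ w₀ = w₀ ∧ bf J2 w₀ w₀ ≠ 0 := by
  by_contra hcon
  push Not at hcon
  have hpol : ∀ w w', B' *ᵥ w = w → B' *ᵥ w' = w' → bf J2 w w' = 0 := by
    intro w w' hw hw'
    apply polar_zero h2 two w w' (hcon w hw) (hcon w' hw')
    apply hcon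
    rw [Matrix.mulVec_add, hw, hw']
  have hkey : ∀ v v' : V, act y v = v → act y v' = v' → bf (J1 ⊗ₖ J2) v v' = 0 := by
    intro v v' hv hv'
    rw [act_apply, hyB] at hv hv'
    apply bf_zero_of_rows
    intro i i'
    exact hpol _ _ (rows_fixed B' v hv i) (rows_fixed B' v' hv' i')
  obtain ⟨u₂, u₃, hu₂, hu₃, h23⟩ := exists_perp_pair h1 ha u hu
  obtain ⟨w₁, hw₁⟩ := exists_nonsing h2 two hb
  have hmem : ∀ x : Fin a → F, bf J1 x u = 0 → act g (pur x w₁) ∈ img g (hypL (b := b) (J1 *ᵥ u)) := by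
    intro x hx
    rw [mem_img_iff, act_inv_act, mem_hypL_iff, ctrL_J1_pur, hx, zero_smul]
  have h3 := hkey _ _ (hfix _ (hmem u₂ hu₂)) (hfix _ (hmem u₃ hu₃))
  rw [act_iso g hg, bf_kron_pur] at h3
  rcases mul_eq_zero.1 h3 with h4 | h4
  · exact h23 h4
  · exact hw₁ h4

/-! ## the reflection `1 ⊗ r_{w₀}` -/

section refl

open Cfsg.Agent.Lib.Helper3.SpT (E E_mulVec mat_ext_mulVec bf_add_left bf_add_right bf_smul_left bf_smul_right)

variable (J2)

/-- the matrix of the reflection `r_{w₀} : x ↦ x - (2 f₂(x,w₀) / f₂(w₀,w₀)) w₀` -/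
noncomputable def reflM (w₀ : Fin b → F) : Matrix (Fin b) (Fin b) F :=
  1 + E J2 ((-2 / bf J2 w₀ w₀) • w₀) w₀

theorem reflM_mulVec (w₀ x : Fin b → F) :
    reflM J2 w₀ *ᵥ x = x + (-2 / bf J2 w₀ w₀ * bf J2 x w₀) • w₀ := by
  unfold reflM
  rw [Matrix.add_mulVec, Matrix.one_mulVec, E_mulVec, smul_smul, mul_comm]

theorem reflM_self (w₀ : Fin b → F) (hQ : bf J2 w₀ w₀ ≠ 0) : reflM J2 w₀ *ᵥ w₀ = - w₀ := by
  rw [reflM_mulVec, div_mul_cancel₀ _ hQ]
  module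

theorem bf_reflM (h2 : OrthG J2) (w₀ : Fin b → F) (hQ : bf J2 w₀ w₀ ≠ 0) (x y : Fin b → F) :
    bf J2 (reflM J2 w₀ *ᵥ x) (reflM J2 w₀ *ᵥ y) = bf J2 x y := by
  rw [reflM_mulVec, reflM_mulVec, bf_add_left, bf_add_right, bf_add_right, bf_smul_left, bf_smul_left,
    bf_smul_right, bf_smul_right, h2.symm w₀ y]
  field_simp
  ring

theorem reflM_sq (h2 : OrthG J2) (w₀ : Fin b → F) (hQ : bf J2 w₀ w₀ ≠ 0) : reflM J2 w₀ * reflM J2 w₀ = 1 := by
  apply mat_ext_mulVec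
  intro x
  rw [← Matrix.mulVec_mulVec, Matrix.one_mulVec, reflM_mulVec J2 w₀ (reflM J2 w₀ *ᵥ x), reflM_mulVec, bf_add_left,
    bf_smul_left]
  have e : -2 / bf J2 w₀ w₀ * (bf J2 x w₀ + -2 / bf J2 w₀ w₀ * bf J2 x w₀ * bf J2 w₀ w₀) =
      - (-2 / bf J2 w₀ w₀ * bf J2 x w₀) := by
    field_simp
    ring
  rw [e]
  module

/-- `1 ⊗ r_{w₀}` -/
noncomputable def reflGL (h2 : OrthG J2) (w₀ : Fin b → F) (hQ : bf J2 w₀ w₀ ≠ 0) : GL (Fin a × Fin b) F where
  val := (1 : Matrix (Fin a) (Fin a) F) ⊗ₖ reflM J2 w₀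
  inv := (1 : Matrix (Fin a) (Fin a) F) ⊗ₖ reflM J2 w₀
  val_inv := by rw [← Matrix.mul_kronecker_mul, one_mul, reflM_sq J2 h2 w₀ hQ, Matrix.one_kronecker_one]
  inv_val := by rw [← Matrix.mul_kronecker_mul, one_mul, reflM_sq J2 h2 w₀ hQ, Matrix.one_kronecker_one]

theorem reflGL_val (h2 : OrthG J2) (w₀ : Fin b → F) (hQ : bf J2 w₀ w₀ ≠ 0) :
    ((reflGL (a := a) J2 h2 w₀ hQ : GL (Fin a × Fin b) F) : Matrix (Fin a × Fin b) (Fin a × Fin b) F) =
      (1 : Matrix (Fin a) (Fin a) F) ⊗ₖ reflM J2 w₀ := rfl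

theorem act_reflGL_pur (h2 : OrthG J2) (w₀ : Fin b → F) (hQ : bf J2 w₀ w₀ ≠ 0) (x : Fin a → F) (w : Fin b → F) :
    act (reflGL (a := a) J2 h2 w₀ hQ) (pur x w) = pur x (reflM J2 w₀ *ᵥ w) := by
  rw [act_apply, reflGL_val, kron_mulVec_pur, Matrix.one_mulVec]

/-- `1 ⊗ r_{w₀}` fixes every vector all of whose rows are orthogonal to `w₀` -/
theorem act_reflGL (h2 : OrthG J2) (w₀ : Fin b → F) (hQ : bf J2 w₀ w₀ ≠ 0) (v : V) :
    act (reflGL (a := a) J2 h2 w₀ hQ) v = v + pur (ctr (J2 *ᵥ w₀) v) ((-2 / bf J2 w₀ w₀) • w₀) := by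
  rw [act_apply, reflGL_val]
  exact rootM_mulVec _ _ v

theorem reflGL_mem_kron (h2 : OrthG J2) (w₀ : Fin b → F) (hQ : bf J2 w₀ w₀ ≠ 0) :
    reflGL (a := a) J2 h2 w₀ hQ ∈ K := by
  rw [mem_kron_iff]
  refine ⟨1, ⟨reflM J2 w₀, reflM J2 w₀, reflM_sq J2 h2 w₀ hQ, reflM_sq J2 h2 w₀ hQ⟩, ?_⟩
  rw [reflGL_val, Units.val_one]

theorem reflGL_mem_iso (h2 : OrthG J2) (w₀ : Fin b → F) (hQ : bf J2 w₀ w₀ ≠ 0) :
    reflGL (a := a) J2 h2 w₀ hQ ∈ IsoG (J1 ⊗ₖ J2) := by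
  apply mem_iso_of_pur
  intro u u' w w'
  rw [act_reflGL_pur, act_reflGL_pur, bf_kron_pur, bf_reflM J2 h2 w₀ hQ]

open Cfsg.Agent.Lib.Helper10.KronRank3 Cfsg.Agent.Lib.Helper10.S5637FORANK Cfsg.Agent.Lib.Helper10.KronRank2 in
/-- the fixed space of `1 ⊗ r_{w₀}` has codimension `a` -/
theorem finrank_fix_reflGL (h2 : OrthG J2) (two : (2 : F) ≠ 0) (w₀ : Fin b → F) (hQ : bf J2 w₀ w₀ ≠ 0) :
    finrank F (LinearMap.ker ((act (reflGL (a := a) J2 h2 w₀ hQ)).toLinearMap - LinearMap.id)) + a = a * b := by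
  rw [act_toLinearMap, reflGL_val, finrank_fix_one_kron]
  have hker : LinearMap.ker (Matrix.toLin' (reflM J2 w₀) - LinearMap.id) = LinearMap.ker (dotL (J2 *ᵥ w₀)) := by
    ext x
    rw [LinearMap.mem_ker, LinearMap.mem_ker, LinearMap.sub_apply, LinearMap.id_apply, Matrix.toLin'_apply,
      reflM_mulVec, add_sub_cancel_left, dotL_apply, dotProduct_comm]
    show _ ↔ bf J2 x w₀ = 0
    constructor
    · intro h
      rcases smul_eq_zero.1 h with h3 | h3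
      · rcases mul_eq_zero.1 h3 with h4 | h4
        · exfalso
          rcases div_eq_zero_iff.1 h4 with h5 | h5
          · have : (2 : F) = 0 := by linear_combination -h5
            exact two this
          · exact hQ h5
        · exact h4
      · exfalso
        apply hQ
        rw [h3]
        simp
    · intro h
      rw [h, mul_zero, zero_smul]
  have h1 := finrank_ker_dotL (J2 *ᵥ w₀) w₀ (by rw [dotProduct_comm]; exact hQ)
  rw [Fintype.card_fin] at h1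
  rw [hker]
  have : a * (finrank F (LinearMap.ker (dotL (J2 *ᵥ w₀))) + 1) = a * b := by rw [h1]
  rw [mul_add, mul_one] at this
  exact this

end refl

/-! ## Case 2 is impossible -/

/-- an element fixing a subspace pointwise stabilises it -/
theorem img_eq_of_fix (z : GL (Fin a × Fin b) F) (P : Submodule F V) (h : ∀ x ∈ P, act z x = x) : img z P = P := by
  ext v
  rw [mem_img_iff]
  constructor
  · intro hv
    have h1 := h _ hv
    rw [act_act_inv] at h1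
    rw [h1]
    exact hv
  · intro hv
    have h1 : act z⁻¹ v = v := by
      have := congrArg (act z⁻¹) (h v hv)
      rw [act_inv_act] at this
      exact this.symm
    rw [h1]
    exact hv

/-- a Kronecker product fixing `u ⊗ W` pointwise is `A₃ ⊗ 1` -/
theorem kron_left_of_fix (hb : 1 ≤ b) (z : GL (Fin a × Fin b) F) (hz : z ∈ K) (u : Fin a → F) (hu : u ≠ 0)
    (hfix : ∀ x ∈ ptL (b := b) u, act z x = x) :
    ∃ A₃ : Matrix (Fin a) (Fin a) F,
      (z : Matrix (Fin a × Fin b) (Fin a × Fin b) F) = A₃ ⊗ₖ (1 : Matrix (Fin b) (Fin b) F) := by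
  obtain ⟨A₂, B₂, hz2⟩ := (mem_kron_iff z).1 hz
  have hp : ∀ w : Fin b → F, pur ((A₂ : Matrix (Fin a) (Fin a) F) *ᵥ u) ((B₂ : Matrix (Fin b) (Fin b) F) *ᵥ w) =
      pur u w := by
    intro w
    have := hfix (pur u w) (pur_mem_ptL u w)
    rw [act_apply, hz2, kron_mulVec_pur] at this
    exact this
  have hw₁ : (Pi.single (⟨0, by omega⟩ : Fin b) (1 : F) : Fin b → F) ≠ 0 := single_ne_zero' _
  obtain ⟨c₁, hc₁, hAu, -⟩ := Cfsg.Agent.Lib.Helper23.S5670LEFT.pur_eq_pur _ _ _ _ (hp _).symm hu hw₁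
  have hB : ∀ w : Fin b → F, (B₂ : Matrix (Fin b) (Fin b) F) *ᵥ w = c₁⁻¹ • w := by
    intro w
    have h1 := hp w
    rw [hAu, pur_smul_left, ← pur_smul_right] at h1
    have h2 : c₁ • ((B₂ : Matrix (Fin b) (Fin b) F) *ᵥ w) = w := purR_injective hu h1
    calc (B₂ : Matrix (Fin b) (Fin b) F) *ᵥ w = c₁⁻¹ • (c₁ • ((B₂ : Matrix (Fin b) (Fin b) F) *ᵥ w)) := by
          rw [smul_smul, inv_mul_cancel₀ hc₁, one_smul]
      _ = c₁⁻¹ • w := by rw [h2]
  have hB2 : (B₂ : Matrix (Fin b) (Fin b) F) = c₁⁻¹ • (1 : Matrix (Fin b) (Fin b) F) := by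
    apply Cfsg.Agent.Lib.Helper3.SpT.mat_ext_mulVec
    intro w
    rw [hB, Matrix.smul_mulVec, Matrix.one_mulVec]
  refine ⟨c₁⁻¹ • (A₂ : Matrix (Fin a) (Fin a) F), ?_⟩
  rw [hz2, hB2, Matrix.kronecker_smul, Matrix.smul_kronecker]

open Cfsg.Agent.Lib.Helper10.KronRank3 Cfsg.Agent.Lib.Helper10.S5637FORANK in
/-- Case 2 (`y = 1 ⊗ B'`) is impossible -/
theorem case2_false (hS : SetupSO J1 J2) (ha : 3 ≤ a) (hb : 1 ≤ b) (hM : OverS J1 J2 M) (hA : HypA M)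
    (g : GL (Fin a × Fin b) F) (hg : g ∈ M) (u : Fin a → F) (c : F) (hu : u ≠ 0) (hc : c ≠ 0)
    (B' : Matrix (Fin b) (Fin b) F)
    (hyB : ((g * rU J1 hS.h1 u c * g⁻¹ : GL (Fin a × Fin b) F) : Matrix (Fin a × Fin b) (Fin a × Fin b) F) =
      (1 : Matrix (Fin a) (Fin a) F) ⊗ₖ B')
    (hdim : a * finrank F (LinearMap.ker (Matrix.toLin' B' - LinearMap.id)) + b = a * b) : False := by
  classical
  have h1 := hS.h1
  have h2 := hS.h2
  have two := hS.two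
  have hgI : g ∈ IsoG (J1 ⊗ₖ J2) := hM.le_iso hg
  have hgI' : g⁻¹ ∈ IsoG (J1 ⊗ₖ J2) := (IsoG (J1 ⊗ₖ J2)).inv_mem hgI
  obtain ⟨y, hy⟩ : ∃ y : GL (Fin a × Fin b) F, y = g * rU J1 hS.h1 u c * g⁻¹ := ⟨_, rfl⟩
  rw [← hy] at hyB
  have hyI : y ∈ IsoG (J1 ⊗ₖ J2) := by
    rw [hy]
    exact (IsoG (J1 ⊗ₖ J2)).mul_mem ((IsoG (J1 ⊗ₖ J2)).mul_mem hgI (rU_mem_iso h1 u c)) hgI'
  have hfixy : ∀ v ∈ img g (hypL (b := b) (J1 *ᵥ u)), act y v = v := by
    intro v hv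
    rw [← fix_conj_rU hS.h1 g u c hu hc, ← hy, LinearMap.mem_ker, LinearMap.sub_apply, LinearMap.id_apply,
      sub_eq_zero] at hv
    exact hv
  obtain ⟨w₀, hw₀fix, hQ⟩ := exists_fixed_nonsing h1 h2 two ha hb g y hgI u hu B' hyB hfixy
  have hB'iso := isoB_of_one_kron h1 y hyI B' hyB u hu
  -- the reflection
  obtain ⟨n, hn⟩ : ∃ n : GL (Fin a × Fin b) F, n = reflGL (a := a) J2 h2 w₀ hQ := ⟨_, rfl⟩
  have hnK : n ∈ K := by rw [hn]; exact reflGL_mem_kron J2 h2 w₀ hQ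
  have hnI : n ∈ IsoG (J1 ⊗ₖ J2) := by rw [hn]; exact reflGL_mem_iso J2 h2 w₀ hQ
  have hnM : n ∈ M := hM.kron_mem n hnK hnI
  -- `n` fixes `g (u ⊗ W)` pointwise
  have hctr : ∀ v : V, ctr (J2 *ᵥ w₀) (act y v) = ctr (J2 *ᵥ w₀) v := by
    intro v
    refine pur_induction (p := fun v => ctr (J2 *ᵥ w₀) (act y v) = ctr (J2 *ᵥ w₀) v) ?_ ?_ ?_ v
    · simp
    · intro x₁ x₂ e₁ e₂
      rw [map_add, map_add, map_add, e₁, e₂]
    · intro x s
      rw [act_apply, hyB, kron_mulVec_pur, Matrix.one_mulVec, ctr_pur, ctr_pur]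
      have e : (B' *ᵥ s) ⬝ᵥ J2 *ᵥ w₀ = s ⬝ᵥ J2 *ᵥ w₀ := by
        have := hB'iso s w₀
        rw [hw₀fix] at this
        exact this
      rw [e]
  have hnfix : ∀ x ∈ img g (ptL (b := b) u), act n x = x := by
    intro x hx
    obtain ⟨v, hv⟩ := exists_conj_sub hS.h1 g u c hu hc x hx
    rw [← hy] at hv
    have h0 : ctr (J2 *ᵥ w₀) x = 0 := by
      rw [← hv, map_sub, hctr, sub_self]
    rw [hn, act_reflGL, h0, pur_zero_left, add_zero]
  -- the conjugate `z`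
  obtain ⟨z, hz⟩ : ∃ z : GL (Fin a × Fin b) F, z = g⁻¹ * n * g := ⟨_, rfl⟩
  have hzM : z ∈ M := by
    rw [hz]
    exact M.mul_mem (M.mul_mem (M.inv_mem hg) hnM) hg
  have hzfix : ∀ x ∈ ptL (b := b) u, act z x = x := by
    intro x hx
    have h3 : act g x ∈ img g (ptL (b := b) u) := by
      rw [mem_img_iff, act_inv_act]
      exact hx
    rw [hz, act_mul, act_mul, hnfix _ h3, act_inv_act]
  have hzK : z ∈ K := hA z hzM u u hu hu (img_eq_of_fix z _ hzfix)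
  obtain ⟨A₃, hzA⟩ := kron_left_of_fix hb z hzK u hu hzfix
  -- dimensions
  have hfz : finrank F (LinearMap.ker ((act z).toLinearMap - LinearMap.id)) + a = a * b := by
    have h3 := fix_conj g⁻¹ n (LinearMap.ker ((act n).toLinearMap - LinearMap.id)) (by
      intro v
      rw [LinearMap.mem_ker, LinearMap.sub_apply, LinearMap.id_apply, sub_eq_zero]
      rfl)
    rw [inv_inv, ← hz] at h3
    rw [h3, finrank_img, hn]
    exact finrank_fix_reflGL J2 h2 two w₀ hQ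
  rw [act_toLinearMap, hzA, finrank_fix_kron_one] at hfz
  obtain ⟨d₃, hd₃⟩ : ∃ d₃ : ℕ, d₃ = finrank F (LinearMap.ker (Matrix.toLin' A₃ - LinearMap.id)) := ⟨_, rfl⟩
  obtain ⟨d', hd'⟩ : ∃ d' : ℕ, d' = finrank F (LinearMap.ker (Matrix.toLin' B' - LinearMap.id)) := ⟨_, rfl⟩
  rw [← hd₃] at hfz
  rw [← hd'] at hdim
  have hba : b ∣ a := by
    have h3 : b ∣ b * d₃ + a := by rw [hfz]; exact dvd_mul_left b a
    exact (Nat.dvd_add_right (dvd_mul_right b d₃)).1 h3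
  have hab : a ∣ b := by
    have h3 : a ∣ a * d' + b := by rw [hdim]; exact dvd_mul_right a b
    exact (Nat.dvd_add_right (dvd_mul_right a d')).1 h3
  have heq : a = b := Nat.dvd_antisymm hab hba
  have hd₃1 : d₃ + 1 = a := by
    have h3 : b * (d₃ + 1) = b * a := by
      rw [mul_add, mul_one]
      nth_rewrite 2 [← heq]
      rw [hfz, mul_comm]
    exact Nat.eq_of_mul_eq_mul_left (by omega) h3
  rw [hd₃] at hd₃1
  obtain ⟨u₁, hu₁, hall⟩ := sub_kron_one (b := b) A₃ hd₃1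
  -- the `(-1)`-eigenvectors of `z`
  obtain ⟨u', hu'⟩ := exists_bf_eq_one h1 hu
  have hv : ∀ x : Fin a → F, ∃ w : Fin b → F, act g⁻¹ (pur x w₀) = pur u₁ w := by
    intro x
    obtain ⟨w, hw⟩ := hall (act g⁻¹ (pur x w₀))
    have h3 : act z (act g⁻¹ (pur x w₀)) = - act g⁻¹ (pur x w₀) := by
      rw [hz, act_mul, act_mul, act_act_inv, hn, act_reflGL_pur, reflM_self J2 w₀ hQ, pur_neg_right, map_neg]
    rw [← hzA, ← act_apply, h3] at hw
    refine ⟨(-2 : F)⁻¹ • w, ?_⟩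
    rw [pur_smul_right, ← hw]
    have h2' : (-2 : F) ≠ 0 := by
      intro h
      apply two
      linear_combination -h
    rw [show - act g⁻¹ (pur x w₀) - act g⁻¹ (pur x w₀) = (-2 : F) • act g⁻¹ (pur x w₀) by module, smul_smul,
      inv_mul_cancel₀ h2', one_smul]
  obtain ⟨w, hw⟩ := hv u
  obtain ⟨w', hw'⟩ := hv u'
  have h3 : bf (J1 ⊗ₖ J2) (act g⁻¹ (pur u w₀)) (act g⁻¹ (pur u' w₀)) = bf J1 u u' * bf J2 w₀ w₀ := by
    rw [act_iso g⁻¹ hgI', bf_kron_pur]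
  rw [hw, hw', bf_kron_pur, h1.alt, zero_mul, hu', one_mul] at h3
  exact hQ h3.symm

/-- **A-E1** : hypothesis (A) implies (E1) (`3 ≤ a`) -/
theorem hypE1_of_hypA (hS : SetupSO J1 J2) (ha : 3 ≤ a) (hb : 1 ≤ b) (hM : OverS J1 J2 M) (hA : HypA M) :
    HypE1 J1 hS.h1 M := by
  intro g hg u c hu hc hyK
  rcases kron_dichotomy ha hb _ hyK (finrank_fix_conj_rU hS.h1 g u c hu hc) with ⟨B', hyB, hdim⟩ | ⟨u₁, hu₁, hall⟩
  · exact (case2_false hS ha hb hM hA g hg u c hu hc B' hyB hdim).elim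
  · exact hA g hg u u₁ hu hu₁ (img_ptL_of_left hS.h1 g u c hu hc u₁ hu₁ hall)

end Cfsg.Agent.Lib.Helper2.S5666FOE1
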