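import Mathlib

/-!
# The "Sylow trick" (helper28's T1 for tensor rows, msg 3063 step (2)), as an abstract lemma

`G` a finite group acting on a finite set `α`; `S₁, S₂` two `p`-subgroups, `xᵢ ∈ Sᵢ` with a UNIQUE fixed
point `wᵢ`.  Then some `δ ∈ S₁ ⊔ S₂` has `δ • w₂ = w₁` and `S₁ ⊔ δ S₂ δ⁻¹` is a `p`-group.
-/

set_option autoImplicit false

namespace Cfsg.Agent.Lib.Helper2.SylowTrick

open MulAction

/-- an element of a `p`-group with a unique fixed point forces `card α ≡ 1 [MOD p]` -/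
theorem card_modEq_one {G : Type*} [Group G] {α : Type*} [MulAction G α] [Finite α]
    (p : ℕ) [Fact p.Prime] (S : Subgroup G) (hS : IsPGroup p S) (x : G) (hx : x ∈ S) (w₀ : α)
    (hw : ∀ w, x • w = w ↔ w = w₀) : Nat.card α ≡ 1 [MOD p] := by
  classical
  haveI := Fintype.ofFinite α
  have hZ : IsPGroup p (Subgroup.zpowers x) := hS.to_le (by
    rw [Subgroup.zpowers_le]; exact hx)
  have hfix : fixedPoints (Subgroup.zpowers x) α = {w₀} := by
    ext w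
    simp only [mem_fixedPoints, Set.mem_singleton_iff]
    constructor
    · intro h
      exact (hw w).mp (h ⟨x, Subgroup.mem_zpowers x⟩)
    · rintro rfl ⟨y, hy⟩
      obtain ⟨k, rfl⟩ := Subgroup.mem_zpowers_iff.mp hy
      change (x ^ k) • w = w
      have h1 : x • w = w := (hw w).mpr rfl
      have hstab : x ∈ MulAction.stabilizer G w := h1
      exact (MulAction.stabilizer G w).zpow_mem hstab k
  have h := hZ.card_modEq_card_fixedPoints α
  refine h.trans ?_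
  have : Nat.card (fixedPoints (Subgroup.zpowers x) α) = 1 := by
    rw [hfix]
    simp
  rw [this]

/-- a `p`-group acting on a set of size `≡ 1 [MOD p]` has a fixed point -/
theorem exists_fixed {G : Type*} [Group G] {α : Type*} [MulAction G α] [Finite α]
    (p : ℕ) [Fact p.Prime] (P : Subgroup G) (hP : IsPGroup p P) (hα : Nat.card α ≡ 1 [MOD p]) :
    ∃ w : α, ∀ g ∈ P, g • w = w := by
  classical
  have h := hP.card_modEq_card_fixedPoints α
  have h2 : Nat.card (fixedPoints P α) ≡ 1 [MOD p] := h.symm.trans hα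
  have hne : Nat.card (fixedPoints P α) ≠ 0 := by
    intro h0
    rw [h0] at h2
    have hp := (Fact.out : p.Prime)
    have := (Nat.modEq_zero_iff_dvd.mp h2.symm)
    exact hp.one_lt.ne' (Nat.dvd_one.mp this)
  have hpos : 0 < Nat.card (fixedPoints P α) := Nat.pos_of_ne_zero hne
  obtain ⟨⟨w, hw⟩⟩ := (Nat.card_pos_iff.mp hpos).1
  exact ⟨w, fun g hg => hw ⟨g, hg⟩⟩

/-- **Sylow trick.** -/
theorem sylow_trick {G : Type*} [Group G] [Finite G] {α : Type*} [MulAction G α] [Finite α]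
    (p : ℕ) [Fact p.Prime] (S₁ S₂ : Subgroup G) (h₁ : IsPGroup p S₁) (h₂ : IsPGroup p S₂)
    (x₁ x₂ : G) (hx₁ : x₁ ∈ S₁) (hx₂ : x₂ ∈ S₂) (w₁ w₂ : α)
    (hw₁ : ∀ w, x₁ • w = w ↔ w = w₁) (hw₂ : ∀ w, x₂ • w = w ↔ w = w₂) :
    ∃ δ ∈ S₁ ⊔ S₂, IsPGroup p (S₁ ⊔ S₂.map (MulAut.conj δ).toMonoidHom : Subgroup G) ∧
      δ • w₂ = w₁ := by
  classical
  set K : Subgroup G := S₁ ⊔ S₂ with hK
  have hS₁K : S₁ ≤ K := le_sup_left
  have hS₂K : S₂ ≤ K := le_sup_right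
  have h₁' : IsPGroup p (S₁.subgroupOf K) := h₁.comap_subtype
  have h₂' : IsPGroup p (S₂.subgroupOf K) := h₂.comap_subtype
  obtain ⟨P, hP⟩ := h₁'.exists_le_sylow
  obtain ⟨Q, hQ⟩ := h₂'.exists_le_sylow
  obtain ⟨δ, hδ⟩ := MulAction.exists_smul_eq K Q P
  -- the image of `P` in `G`
  set P' : Subgroup G := (P : Subgroup K).map K.subtype with hP'
  have hP'p : IsPGroup p P' := P.isPGroup'.map K.subtype
  have hS₁P : S₁ ≤ P' := by
    intro x hx
    exact ⟨⟨x, hS₁K hx⟩, hP (by simpa [Subgroup.mem_subgroupOf] using hx), rfl⟩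
  have hconj : S₂.map (MulAut.conj (δ : G)).toMonoidHom ≤ P' := by
    rintro _ ⟨x, hx, rfl⟩
    have hxQ : (⟨x, hS₂K hx⟩ : K) ∈ (Q : Subgroup K) :=
      hQ (by simpa [Subgroup.mem_subgroupOf] using hx)
    have hmem : δ * ⟨x, hS₂K hx⟩ * δ⁻¹ ∈ ((δ • Q : Sylow p K) : Subgroup K) := by
      rw [Sylow.smul_def, Sylow.pointwise_smul_def, Subgroup.mem_smul_pointwise_iff_exists]
      exact ⟨⟨x, hS₂K hx⟩, hxQ, rfl⟩
    rw [hδ] at hmem
    refine ⟨δ * ⟨x, hS₂K hx⟩ * δ⁻¹, hmem, ?_⟩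
    simp
  refine ⟨(δ : G), δ.2, hP'p.to_le (sup_le hS₁P hconj), ?_⟩
  have hα := card_modEq_one p S₁ h₁ x₁ hx₁ w₁ hw₁
  obtain ⟨w, hw⟩ := exists_fixed p P' hP'p hα
  have e1 : w = w₁ := (hw₁ w).mp (hw x₁ (hS₁P hx₁))
  have hx₂' : (δ : G) * x₂ * (δ : G)⁻¹ ∈ P' := hconj ⟨x₂, hx₂, by simp⟩
  have e2 := hw _ hx₂'
  have e3 : x₂ • ((δ : G)⁻¹ • w) = (δ : G)⁻¹ • w := by
    have := congrArg (fun z => (δ : G)⁻¹ • z) e2
    simp only [mul_smul, inv_smul_smul] at this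
    exact this
  have e4 : (δ : G)⁻¹ • w = w₂ := (hw₂ _).mp e3
  rw [← e1, ← e4, smul_inv_smul]

/-! ### linear companions: `δ ∈ S₁ ⊔ S₂` fixes the common fixed vectors and is `1` modulo the common commutator space -/

section linear
open Matrix
variable {ι : Type*} [Fintype ι] [DecidableEq ι] {F : Type*} [CommRing F]

/-- a vector fixed by `S₁` and by `S₂` is fixed by every `δ ∈ S₁ ⊔ S₂` -/
theorem mulVec_eq_of_mem_sup (S₁ S₂ : Subgroup (GL ι F)) (v : ι → F)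
    (h1 : ∀ s ∈ S₁, (s : Matrix ι ι F) *ᵥ v = v) (h2 : ∀ s ∈ S₂, (s : Matrix ι ι F) *ᵥ v = v)
    (δ : GL ι F) (hδ : δ ∈ S₁ ⊔ S₂) : (δ : Matrix ι ι F) *ᵥ v = v := by
  have hle : S₁ ⊔ S₂ ≤ MulAction.stabilizer (GL ι F) v := by
    refine sup_le ?_ ?_
    · intro s hs
      exact h1 s hs
    · intro s hs
      exact h2 s hs
  exact hle hδ

/-- if `(s - 1) V ⊆ D` for all `s ∈ S₁ ∪ S₂` then `(δ - 1) V ⊆ D` for every `δ ∈ S₁ ⊔ S₂` -/
theorem mulVec_sub_mem_of_mem_sup (S₁ S₂ : Subgroup (GL ι F)) (D : Submodule F (ι → F))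
    (h1 : ∀ s ∈ S₁, ∀ v, (s : Matrix ι ι F) *ᵥ v - v ∈ D)
    (h2 : ∀ s ∈ S₂, ∀ v, (s : Matrix ι ι F) *ᵥ v - v ∈ D)
    (δ : GL ι F) (hδ : δ ∈ S₁ ⊔ S₂) : ∀ v, (δ : Matrix ι ι F) *ᵥ v - v ∈ D := by
  let T : Subgroup (GL ι F) :=
    { carrier := {g | ∀ v, (g : Matrix ι ι F) *ᵥ v - v ∈ D}
      one_mem' := by
        intro v
        simp
      mul_mem' := by
        intro a b ha hb v
        have e : ((a * b : GL ι F) : Matrix ι ι F) *ᵥ v - v =
            ((a : Matrix ι ι F) *ᵥ ((b : Matrix ι ι F) *ᵥ v) - (b : Matrix ι ι F) *ᵥ v) +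
              ((b : Matrix ι ι F) *ᵥ v - v) := by
          rw [Units.val_mul, ← Matrix.mulVec_mulVec]
          abel
        rw [e]
        exact D.add_mem (ha _) (hb v)
      inv_mem' := by
        intro a ha v
        have e : ((a⁻¹ : GL ι F) : Matrix ι ι F) *ᵥ v - v =
            -((a : Matrix ι ι F) *ᵥ (((a⁻¹ : GL ι F) : Matrix ι ι F) *ᵥ v) -
              ((a⁻¹ : GL ι F) : Matrix ι ι F) *ᵥ v) := by
          rw [Matrix.mulVec_mulVec, ← Units.val_mul, mul_inv_cancel, Units.val_one, Matrix.one_mulVec]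
          abel
        rw [e]
        exact D.neg_mem (ha _) }
  have hle : S₁ ⊔ S₂ ≤ T := sup_le (fun s hs => h1 s hs) (fun s hs => h2 s hs)
  exact hle hδ

end linear

end Cfsg.Agent.Lib.Helper2.SylowTrick
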