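import Mathlib
import Cfsg.Prelude.Def_Characters
import Cfsg.Prelude.Def_Blocks
import Cfsg.Agent.Lib.Helper2.Expansion
import Cfsg.Agent.Lib.Helper2.Ito
import Cfsg.Agent.Lib.Helper11.Clifford2

/-!
# S2436 (McKay for SL₂(q)) generic pieces P1: FO-G1, G2, G3, G4, G7
-/

set_option autoImplicit false

namespace Cfsg.Agent.Lib.Helper2.McKayP1

open Cfsg

/-- the number of irreducible characters of degree prime to `ℓ` (copy of helper14's `mk`) -/
noncomputable def mk (ℓ : ℕ) (K : Type*) [Group K] : ℕ :=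
  Nat.card {χ : Cfsg.IrrCharacter K // ¬ ℓ ∣ Cfsg.charDegree (χ : K → ℂ)}

theorem charDegree_comp {K K' : Type*} [Group K] [Group K'] (e : K' ≃* K) (θ : K → ℂ) :
    Cfsg.charDegree (θ ∘ e) = Cfsg.charDegree θ := by
  unfold Cfsg.charDegree
  rw [Function.comp_apply, map_one]

/-- FO-G1: transport along a group isomorphism. -/
theorem mk_congr (ℓ : ℕ) {K K' : Type*} [Group K] [Group K'] [Finite K] (e : K ≃* K') :
    mk ℓ K = mk ℓ K' := by
  haveI : Finite K' := Finite.of_equiv K e.toEquiv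
  unfold mk
  apply Nat.card_congr
  refine ⟨fun χ => ⟨⟨(χ.1 : K → ℂ) ∘ e.symm,
      Cfsg.Agent.Lib.Helper11.isIrrCharacter_comp_equiv e.symm χ.1.2⟩, ?_⟩,
    fun χ => ⟨⟨(χ.1 : K' → ℂ) ∘ e,
      Cfsg.Agent.Lib.Helper11.isIrrCharacter_comp_equiv e χ.1.2⟩, ?_⟩, ?_, ?_⟩
  · change ¬ ℓ ∣ Cfsg.charDegree ((χ.1 : K → ℂ) ∘ e.symm)
    rw [charDegree_comp]
    exact χ.2
  · change ¬ ℓ ∣ Cfsg.charDegree ((χ.1 : K' → ℂ) ∘ e)
    rw [charDegree_comp]
    exact χ.2
  · intro χ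
    apply Subtype.ext
    apply Subtype.ext
    funext x
    simp
  · intro χ
    apply Subtype.ext
    apply Subtype.ext
    funext x
    simp

/-- FO-G2: if no degree is divisible by `ℓ`, `mk` is the class number. -/
theorem mk_eq_card_conjClasses (ℓ : ℕ) {K : Type*} [Group K] [Finite K]
    (h : ∀ χ : Cfsg.IrrCharacter K, ¬ ℓ ∣ Cfsg.charDegree (χ : K → ℂ)) :
    mk ℓ K = Nat.card (ConjClasses K) := by
  haveI : Fintype K := Fintype.ofFinite K
  unfold mk
  rw [← Cfsg.Agent.Lib.Helper2.card_irrCharacter]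
  exact Nat.card_congr (Equiv.subtypeUnivEquiv h)

/-- FO-G3 (Ito): degrees divide the index of an abelian normal subgroup. -/
theorem charDegree_dvd_index {K : Type*} [Group K] [Finite K] (A : Subgroup K) [A.Normal]
    (hA : ∀ a ∈ A, ∀ b ∈ A, a * b = b * a) (χ : Cfsg.IrrCharacter K) :
    Cfsg.charDegree (χ : K → ℂ) ∣ A.index := by
  obtain ⟨d, hd, hdvd⟩ := Cfsg.Agent.Lib.Helper2.ito_aux (Nat.card K) K rfl (χ : K → ℂ) χ.2 A hA
  have : Cfsg.charDegree (χ : K → ℂ) = d := by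
    unfold Cfsg.charDegree
    rw [hd]
    simp
  rw [this]
  exact hdvd

/-- FO-G4: a group with an abelian normal subgroup of index prime to `ℓ` has `mk = k`. -/
theorem mk_of_abelian_normal (ℓ : ℕ) [Fact ℓ.Prime] {K : Type*} [Group K] [Finite K]
    (A : Subgroup K) [A.Normal] (hA : ∀ a ∈ A, ∀ b ∈ A, a * b = b * a) (hℓ : ¬ ℓ ∣ A.index) :
    mk ℓ K = Nat.card (ConjClasses K) := by
  apply mk_eq_card_conjClasses
  intro χ hdvd
  exact hℓ (dvd_trans hdvd (charDegree_dvd_index A hA χ))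

/-- FO-G7: a subgroup whose normalizer is everything. -/
theorem mk_normalizer_of_eq_top (ℓ : ℕ) {G : Type*} [Group G] [Finite G] (H : Subgroup G)
    (h : Subgroup.normalizer (H : Set G) = ⊤) :
    mk ℓ G = mk ℓ (Subgroup.normalizer (H : Set G)) :=
  mk_congr ℓ ((Subgroup.topEquiv (G := G)).symm.trans (MulEquiv.subgroupCongr h.symm))

end Cfsg.Agent.Lib.Helper2.McKayP1
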