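import Mathlib

/-!
# Generic lemmas for bounding the set of element orders of a finite group

Conjugating a `p`-subgroup into a given Sylow subgroup; elements whose order is divisible by a
self-centralizing prime; elements of even order when the involutions form one class.
-/

set_option autoImplicit false

namespace Cfsg.Agent.Lib.Helper2.J1SpecGen

open Pointwise

variable {G : Type*} [Group G]

theorem orderOf_conj' (c g : G) : orderOf (c * g * c⁻¹) = orderOf g :=
  (MulAut.conj c).orderOf_eq g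

/-- a `p`-subgroup is conjugate into any subgroup whose order is the full `p`-part -/
theorem exists_conj_mem [Finite G] (p : ℕ) [Fact p.Prime] (H K : Subgroup G)
    (hH : IsPGroup p H) (hK : Nat.card K = p ^ (Nat.card G).factorization p) :
    ∃ c : G, ∀ h ∈ H, c * h * c⁻¹ ∈ K := by
  obtain ⟨P, hP⟩ := hH.exists_le_sylow
  obtain ⟨c, hc⟩ := MulAction.exists_smul_eq G P (Sylow.ofCard K hK)
  refine ⟨c, fun h hh => ?_⟩
  have h1 : h ∈ (P : Subgroup G) := hP hh
  have h2 : MulAut.conj c • h ∈ MulAut.conj c • (P : Subgroup G) :=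
    Subgroup.smul_mem_pointwise_smul _ _ _ h1
  have h3 : ((c • P : Sylow p G) : Subgroup G) = K := by rw [hc, Sylow.coe_ofCard]
  rw [← Sylow.coe_subgroup_smul, h3] at h2
  simpa [MulAut.smul_def] using h2

/-- `zpowers` of an element of prime order is a `p`-group -/
theorem isPGroup_zpowers (p : ℕ) [Fact p.Prime] (t : G) (ht : orderOf t = p) :
    IsPGroup p (Subgroup.zpowers t) := by
  apply IsPGroup.of_card (n := 1)
  rw [Nat.card_zpowers, ht, pow_one]

/-- if `x` of prime order `q` generates a Sylow subgroup and only its powers commute with it,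
then every element whose order is divisible by `q` has order `q` -/
theorem orderOf_eq_of_cent [Finite G] (q : ℕ) [hq : Fact q.Prime]
    (hmult : (Nat.card G).factorization q = 1) (x : G) (hx : orderOf x = q)
    (hC : ∀ z : G, z * x = x * z → z ∈ Subgroup.zpowers x)
    (g : G) (h : q ∣ orderOf g) : orderOf g = q := by
  obtain ⟨m, hm⟩ := h
  have hq0 : 0 < q := hq.out.pos
  have hn0 : 0 < orderOf g := orderOf_pos g
  have hm0 : 0 < m := by
    rcases Nat.eq_zero_or_pos m with h0 | h0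
    · rw [h0, mul_zero] at hm; omega
    · exact h0
  -- the element `g ^ m` of order `q`
  have ht : orderOf (g ^ m) = q := by
    rw [orderOf_pow' g hm0.ne', hm, Nat.gcd_mul_left_left, Nat.mul_div_cancel _ hm0]
  have hK : Nat.card (Subgroup.zpowers x) = q ^ (Nat.card G).factorization q := by
    rw [hmult, pow_one, Nat.card_zpowers, hx]
  obtain ⟨c, hc⟩ := exists_conj_mem q (Subgroup.zpowers (g ^ m)) (Subgroup.zpowers x)
    (isPGroup_zpowers q _ ht) hK
  have h1 : c * g ^ m * c⁻¹ ∈ Subgroup.zpowers x := hc _ (Subgroup.mem_zpowers _)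
  have hord : orderOf (c * g ^ m * c⁻¹) = q := by rw [orderOf_conj', ht]
  -- `x` is a power of this conjugate
  have hle : Subgroup.zpowers (c * g ^ m * c⁻¹) ≤ Subgroup.zpowers x :=
    Subgroup.zpowers_le.mpr h1
  have heq : Subgroup.zpowers (c * g ^ m * c⁻¹) = Subgroup.zpowers x := by
    apply Subgroup.eq_of_le_of_card_ge hle
    rw [Nat.card_zpowers, Nat.card_zpowers, hord, hx]
  have hxm : x ∈ Subgroup.zpowers (c * g ^ m * c⁻¹) := by
    rw [heq]; exact Subgroup.mem_zpowers x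
  obtain ⟨k, hk⟩ := Subgroup.mem_zpowers_iff.mp hxm
  have hconj : c * g ^ m * c⁻¹ = (c * g * c⁻¹) ^ m := (conj_pow (a := c) (b := g) (i := m)).symm
  have hcomm : (c * g * c⁻¹) * x = x * (c * g * c⁻¹) := by
    rw [← hk, hconj]
    have h3 : Commute (c * g * c⁻¹) (((c * g * c⁻¹) ^ m) ^ k) :=
      ((Commute.refl _).pow_right m).zpow_right k
    exact h3.eq
  have hmem := hC _ hcomm
  have hdvd : orderOf (c * g * c⁻¹) ∣ orderOf x := orderOf_dvd_of_mem_zpowers hmem
  rw [orderOf_conj', hx] at hdvd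
  exact Nat.dvd_antisymm hdvd ⟨m, hm⟩

/-- if all non-identity elements of a Sylow `2`-subgroup `E` are conjugate, every element of even
order is conjugate to an element commuting with a given involution `t0` -/
theorem exists_conj_comm_of_even [Finite G] (E : Subgroup G)
    (hE : Nat.card E = 2 ^ (Nat.card G).factorization 2)
    (hconj : ∀ e ∈ E, e ≠ 1 → ∀ e' ∈ E, e' ≠ 1 → ∃ c : G, c * e * c⁻¹ = e')
    (t0 : G) (ht0 : orderOf t0 = 2) (g : G) (hg : 2 ∣ orderOf g) :
    ∃ d : G, (d * g * d⁻¹) * t0 = t0 * (d * g * d⁻¹) := by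
  haveI : Fact (Nat.Prime 2) := ⟨Nat.prime_two⟩
  obtain ⟨m, hm⟩ := hg
  have hn0 : 0 < orderOf g := orderOf_pos g
  have hm0 : 0 < m := by
    rcases Nat.eq_zero_or_pos m with h0 | h0
    · rw [h0, mul_zero] at hm; omega
    · exact h0
  have ht : orderOf (g ^ m) = 2 := by
    rw [orderOf_pow' g hm0.ne', hm, Nat.gcd_mul_left_left, Nat.mul_div_cancel _ hm0]
  obtain ⟨c1, hc1⟩ := exists_conj_mem 2 (Subgroup.zpowers (g ^ m)) E
    (isPGroup_zpowers 2 _ ht) hE
  obtain ⟨c0, hc0⟩ := exists_conj_mem 2 (Subgroup.zpowers t0) E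
    (isPGroup_zpowers 2 _ ht0) hE
  have h1 : c1 * g ^ m * c1⁻¹ ∈ E := hc1 _ (Subgroup.mem_zpowers _)
  have h0 : c0 * t0 * c0⁻¹ ∈ E := hc0 _ (Subgroup.mem_zpowers _)
  have h1ne : c1 * g ^ m * c1⁻¹ ≠ 1 := by
    intro h
    have := orderOf_conj' c1 (g ^ m)
    rw [h, orderOf_one, ht] at this
    omega
  have h0ne : c0 * t0 * c0⁻¹ ≠ 1 := by
    intro h
    have := orderOf_conj' c0 t0
    rw [h, orderOf_one, ht0] at this
    omega
  obtain ⟨c, hc⟩ := hconj _ h1 h1ne _ h0 h0ne
  refine ⟨c0⁻¹ * c * c1, ?_⟩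
  have key : (c0⁻¹ * c * c1) * g ^ m * (c0⁻¹ * c * c1)⁻¹ = t0 := by
    have : (c0⁻¹ * c * c1) * g ^ m * (c0⁻¹ * c * c1)⁻¹
        = c0⁻¹ * (c * (c1 * g ^ m * c1⁻¹) * c⁻¹) * c0 := by group
    rw [this, hc]; group
  have hconj2 : (c0⁻¹ * c * c1) * g ^ m * (c0⁻¹ * c * c1)⁻¹
      = ((c0⁻¹ * c * c1) * g * (c0⁻¹ * c * c1)⁻¹) ^ m :=
    (conj_pow (a := c0⁻¹ * c * c1) (b := g) (i := m)).symm
  rw [← key, hconj2]
  exact ((Commute.refl _).pow_right m).eq

end Cfsg.Agent.Lib.Helper2.J1SpecGen
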