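import Mathlib
import Cfsg.Agent.Lib.Helper14.StGLDefs
import Cfsg.Agent.Lib.Helper2.S2425Q1

/-!
# S2425 piece Q4 (HALL): the alternating sum of the flag counts is the Möbius number
-/

set_option autoImplicit false

namespace Cfsg.Agent.Lib.Helper2.S2425Q4

open Cfsg Cfsg.Agent.Lib.Helper14.StGL Cfsg.Agent.Lib.Helper2.S2425Q1

/-! ## the rank profiles `sD` -/

/-- the top value of a rank profile -/
def topD {k : ℕ} (D : Finset (Fin k)) : ℕ := D.sup (fun d => d.val + 1)

theorem sD_map_castSucc {k : ℕ} (D' : Finset (Fin k)) (j : Fin k) :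
    sD (D'.map Fin.castSuccEmb) j.castSucc = sD D' j := by
  unfold sD
  rw [Finset.filter_map, Finset.sup_map]
  congr 1

theorem sD_insert_last_castSucc {k : ℕ} (X : Finset (Fin (k + 1))) (j : Fin k) :
    sD (insert (Fin.last k) X) j.castSucc = sD X j.castSucc := by
  unfold sD
  congr 1
  ext d
  simp only [Finset.mem_filter, Finset.mem_insert]
  constructor
  · rintro ⟨h | h, h2⟩
    · exfalso
      rw [h] at h2
      have := Fin.castSucc_lt_last j
      exact absurd h2 (not_le.mpr this)
    · exact ⟨h, h2⟩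
  · rintro ⟨h, h2⟩
    exact ⟨Or.inr h, h2⟩

theorem sD_le {k : ℕ} (D : Finset (Fin k)) (j : Fin k) : sD D j ≤ j.val + 1 := by
  unfold sD
  apply Finset.sup_le
  intro d hd
  rw [Finset.mem_filter] at hd
  have : d.val ≤ j.val := hd.2
  omega

theorem sD_of_mem {k : ℕ} (D : Finset (Fin k)) (j : Fin k) (hj : j ∈ D) : sD D j = j.val + 1 := by
  apply le_antisymm (sD_le D j)
  unfold sD
  exact Finset.le_sup (f := fun d : Fin k => d.val + 1)
    (Finset.mem_filter.mpr ⟨hj, le_refl j⟩)

theorem sD_last {k : ℕ} (D : Finset (Fin (k + 1))) : sD D (Fin.last k) = topD D := by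
  unfold sD topD
  congr 1
  ext d
  simp only [Finset.mem_filter, and_iff_left_iff_imp]
  intro _
  exact Fin.le_last d

theorem topD_map_castSucc {k : ℕ} (D' : Finset (Fin k)) :
    topD (D'.map Fin.castSuccEmb) = topD D' := by
  unfold topD
  rw [Finset.sup_map]
  rfl

theorem topD_pos_eq {k : ℕ} (D' : Finset (Fin (k + 1))) : topD D' = sD D' (Fin.last k) :=
  (sD_last D').symm


/-! ## counting flags -/

section count

variable {L : Type*} [PartialOrder L] [Fintype L]

/-- the number of flags below `a` with rank profile `s` -/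
noncomputable def cnt (rk : L → ℕ) {k : ℕ} (s : Fin k → ℕ) (a : L) : ℕ :=
  Nat.card {W : Fin k → L // Monotone W ∧ (∀ j, rk (W j) = s j) ∧ ∀ j, W j ≤ a}

omit [Fintype L] in
theorem flag_iff (rk : L → ℕ) {k : ℕ} (s : Fin (k + 1) → ℕ) (a : L) (W : Fin (k + 1) → L) :
    (Monotone W ∧ (∀ j, rk (W j) = s j) ∧ ∀ j, W j ≤ a) ↔
      (W (Fin.last k) ≤ a ∧ rk (W (Fin.last k)) = s (Fin.last k) ∧
        Monotone (Fin.init W) ∧ (∀ j : Fin k, rk (Fin.init W j) = s j.castSucc) ∧
        ∀ j : Fin k, Fin.init W j ≤ W (Fin.last k)) := by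
  constructor
  · rintro ⟨hm, hr, ha⟩
    refine ⟨ha _, hr _, ?_, fun j => hr _, fun j => hm (Fin.le_last _)⟩
    intro i j hij
    exact hm (Fin.castSucc_le_castSucc_iff.mpr hij)
  · rintro ⟨ha, hr, hm, hr', hle⟩
    have hmono : Monotone W := by
      intro i j hij
      cases j using Fin.lastCases with
      | last =>
        cases i using Fin.lastCases with
        | last => exact le_refl _
        | cast i' => exact hle i'
      | cast j' =>
        cases i using Fin.lastCases with
        | last =>
          exfalso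
          have := Fin.castSucc_lt_last j'
          exact absurd hij (not_le.mpr this)
        | cast i' => exact hm (Fin.castSucc_le_castSucc_iff.mp hij)
    refine ⟨hmono, ?_, fun j => le_trans (hmono (Fin.le_last j)) ha⟩
    intro j
    cases j using Fin.lastCases with
    | last => exact hr
    | cast j' => exact hr' j'

open Classical in
/-- peeling the last position of a flag -/
theorem cnt_succ (rk : L → ℕ) {k : ℕ} (s : Fin (k + 1) → ℕ) (a : L) :
    cnt rk s a = ∑ b : L,
      if b ≤ a ∧ rk b = s (Fin.last k) then cnt rk (fun j : Fin k => s j.castSucc) b else 0 := by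
  unfold cnt
  rw [Nat.card_congr (Equiv.subtypeEquiv
    (q := fun x : L × (Fin k → L) => x.1 ≤ a ∧ rk x.1 = s (Fin.last k) ∧
        Monotone x.2 ∧ (∀ j : Fin k, rk (x.2 j) = s j.castSucc) ∧ ∀ j : Fin k, x.2 j ≤ x.1)
    (Fin.snocEquiv (fun _ => L)).symm
    (fun W => flag_iff rk s a W))]
  rw [Nat.card_congr (Equiv.subtypeProdEquivSigmaSubtype
    (fun (b : L) (W' : Fin k → L) => b ≤ a ∧ rk b = s (Fin.last k) ∧
        Monotone W' ∧ (∀ j : Fin k, rk (W' j) = s j.castSucc) ∧ ∀ j : Fin k, W' j ≤ b))]
  rw [Nat.card_sigma]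
  apply Finset.sum_congr rfl
  intro b _
  by_cases hb : b ≤ a ∧ rk b = s (Fin.last k)
  · rw [if_pos hb]
    apply Nat.card_congr
    apply Equiv.subtypeEquivRight
    intro W'
    constructor
    · rintro ⟨_, _, h⟩
      exact h
    · intro h
      exact ⟨hb.1, hb.2, h⟩
  · rw [if_neg hb]
    rw [Nat.card_eq_zero]
    left
    constructor
    rintro ⟨W', h1, h2, _⟩
    exact hb ⟨h1, h2⟩


open Classical in
/-- the top value of a flag is determined -/
theorem cnt_top_succ (rk : L → ℕ) (hrk : StrictMono rk) {k : ℕ} (s : Fin (k + 1) → ℕ) (a : L) :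
    (∑ b : L, if b ≤ a ∧ rk b = s (Fin.last k) then cnt rk s b else 0) = cnt rk s a := by
  rw [cnt_succ rk s a]
  apply Finset.sum_congr rfl
  intro b _
  by_cases hb : b ≤ a ∧ rk b = s (Fin.last k)
  · rw [if_pos hb, if_pos hb, cnt_succ rk s b]
    rw [Finset.sum_eq_single b]
    · rw [if_pos ⟨le_refl b, hb.2⟩]
    · intro c _ hcb
      rw [if_neg]
      rintro ⟨h1, h2⟩
      apply hcb
      by_contra hne
      have hlt : c < b := lt_of_le_of_ne h1 hne
      have := hrk hlt
      omega
    · intro h
      exact absurd (Finset.mem_univ b) h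
  · rw [if_neg hb, if_neg hb]

omit [Fintype L] in
theorem cnt_zero (rk : L → ℕ) (s : Fin 0 → ℕ) (a : L) : cnt rk s a = 1 := by
  unfold cnt
  rw [Nat.card_eq_one_iff_unique]
  constructor
  · constructor
    intro x y
    apply Subtype.ext
    funext j
    exact j.elim0
  · refine ⟨⟨fun j => j.elim0, ?_, ?_, ?_⟩⟩
    · intro i
      exact i.elim0
    · intro j
      exact j.elim0
    · intro j
      exact j.elim0

end count


/-! ## sums over the subsets of `Fin (k + 1)` -/

/-- the trace of a subset of `Fin (k + 1)` on `Fin k` -/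
def pre {k : ℕ} (D : Finset (Fin (k + 1))) : Finset (Fin k) :=
  Finset.univ.filter (fun j : Fin k => j.castSucc ∈ D)

theorem mem_pre {k : ℕ} (D : Finset (Fin (k + 1))) (j : Fin k) : j ∈ pre D ↔ j.castSucc ∈ D := by
  unfold pre
  simp

theorem pre_map {k : ℕ} (D' : Finset (Fin k)) : pre (D'.map Fin.castSuccEmb) = D' := by
  ext j
  rw [mem_pre]
  constructor
  · intro h
    rw [Finset.mem_map] at h
    obtain ⟨j', hj', h⟩ := h
    have : j' = j := Fin.castSucc_injective _ h
    rw [← this]
    exact hj'
  · intro h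
    exact Finset.mem_map.mpr ⟨j, h, rfl⟩

theorem pre_insert_last {k : ℕ} (X : Finset (Fin (k + 1))) :
    pre (insert (Fin.last k) X) = pre X := by
  ext j
  rw [mem_pre, mem_pre, Finset.mem_insert]
  constructor
  · rintro (h | h)
    · exact absurd h (Fin.castSucc_lt_last j).ne
    · exact h
  · intro h
    exact Or.inr h

theorem map_pre_of_not_mem {k : ℕ} (D : Finset (Fin (k + 1))) (h : Fin.last k ∉ D) :
    (pre D).map Fin.castSuccEmb = D := by
  ext d
  rw [Finset.mem_map]
  constructor
  · rintro ⟨j, hj, rfl⟩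
    exact (mem_pre D j).mp hj
  · intro hd
    cases d using Fin.lastCases with
    | last => exact absurd hd h
    | cast j => exact ⟨j, (mem_pre D j).mpr hd, rfl⟩

theorem insert_map_pre_of_mem {k : ℕ} (D : Finset (Fin (k + 1))) (h : Fin.last k ∈ D) :
    insert (Fin.last k) ((pre D).map Fin.castSuccEmb) = D := by
  ext d
  rw [Finset.mem_insert, Finset.mem_map]
  constructor
  · rintro (rfl | ⟨j, hj, rfl⟩)
    · exact h
    · exact (mem_pre D j).mp hj
  · intro hd
    cases d using Fin.lastCases with
    | last => exact Or.inl rfl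
    | cast j => exact Or.inr ⟨j, (mem_pre D j).mpr hd, rfl⟩

theorem last_not_mem_map {k : ℕ} (D' : Finset (Fin k)) :
    Fin.last k ∉ D'.map Fin.castSuccEmb := by
  intro h
  rw [Finset.mem_map] at h
  obtain ⟨j, _, hj⟩ := h
  exact absurd hj (Fin.castSucc_lt_last j).ne

theorem sum_finset_fin_succ {M : Type*} [AddCommMonoid M] (k : ℕ)
    (f : Finset (Fin (k + 1)) → M) :
    ∑ D : Finset (Fin (k + 1)), f D =
      ∑ D' : Finset (Fin k), f (D'.map Fin.castSuccEmb) +
        ∑ D' : Finset (Fin k), f (insert (Fin.last k) (D'.map Fin.castSuccEmb)) := by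
  classical
  rw [← Finset.sum_filter_add_sum_filter_not Finset.univ
    (fun D : Finset (Fin (k + 1)) => Fin.last k ∉ D)]
  congr 1
  · apply Finset.sum_nbij' pre (fun D' => D'.map Fin.castSuccEmb)
    · intro D _
      exact Finset.mem_univ _
    · intro D' _
      rw [Finset.mem_filter]
      exact ⟨Finset.mem_univ _, last_not_mem_map D'⟩
    · intro D hD
      rw [Finset.mem_filter] at hD
      exact map_pre_of_not_mem D hD.2
    · intro D' _
      exact pre_map D'
    · intro D hD
      rw [Finset.mem_filter] at hD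
      rw [map_pre_of_not_mem D hD.2]
  · apply Finset.sum_nbij' pre (fun D' => insert (Fin.last k) (D'.map Fin.castSuccEmb))
    · intro D _
      exact Finset.mem_univ _
    · intro D' _
      rw [Finset.mem_filter]
      exact ⟨Finset.mem_univ _, not_not.mpr (Finset.mem_insert_self _ _)⟩
    · intro D hD
      rw [Finset.mem_filter, not_not] at hD
      exact insert_map_pre_of_mem D hD.2
    · intro D' _
      rw [pre_insert_last, pre_map]
    · intro D hD
      rw [Finset.mem_filter, not_not] at hD
      rw [insert_map_pre_of_mem D hD.2]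


/-! ## the main induction -/

section main

variable {L : Type*} [PartialOrder L] [BoundedOrder L] [Fintype L] (rk : L → ℕ)

omit [BoundedOrder L] in
open Classical in
theorem cnt_insert_last (k : ℕ) (D' : Finset (Fin k)) (a : L) :
    cnt rk (sD (insert (Fin.last k) (D'.map Fin.castSuccEmb))) a =
      ∑ b : L, if b ≤ a ∧ rk b = k + 1 then cnt rk (sD D') b else 0 := by
  rw [cnt_succ]
  have h1 : sD (insert (Fin.last k) (D'.map Fin.castSuccEmb)) (Fin.last k) = k + 1 := by
    rw [sD_of_mem _ _ (Finset.mem_insert_self _ _), Fin.val_last]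
  have h2 : (fun j : Fin k => sD (insert (Fin.last k) (D'.map Fin.castSuccEmb)) j.castSucc) =
      sD D' := by
    funext j
    rw [sD_insert_last_castSucc, sD_map_castSucc]
  rw [h1, h2]

omit [Fintype L] in
theorem rk_eq_zero_iff (hrk : StrictMono rk) (h0 : rk ⊥ = 0) (b : L) : rk b = 0 ↔ b = ⊥ := by
  constructor
  · intro h
    by_contra hne
    have h1 : ⊥ < b := bot_lt_iff_ne_bot.mpr hne
    have h2 := hrk h1
    omega
  · rintro rfl
    exact h0

open Classical in
theorem cnt_map_castSucc (hrk : StrictMono rk) (h0 : rk ⊥ = 0) (k : ℕ) (D' : Finset (Fin k))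
    (a : L) : cnt rk (sD (D'.map Fin.castSuccEmb)) a = cnt rk (sD D') a := by
  rw [cnt_succ]
  have h2 : (fun j : Fin k => sD (D'.map Fin.castSuccEmb) j.castSucc) = sD D' := by
    funext j
    rw [sD_map_castSucc]
  rw [h2, sD_last, topD_map_castSucc]
  cases k with
  | zero =>
    have hD : D' = ∅ := by
      ext d
      exact d.elim0
    rw [hD]
    have ht : topD (∅ : Finset (Fin 0)) = 0 := rfl
    rw [ht, cnt_zero]
    rw [Finset.sum_eq_single ⊥]
    · rw [if_pos ⟨bot_le, h0⟩, cnt_zero]
    · intro b _ hb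
      rw [if_neg]
      rintro ⟨_, h⟩
      exact hb ((rk_eq_zero_iff rk hrk h0 b).mp h)
    · intro h
      exact absurd (Finset.mem_univ _) h
  | succ k' =>
    rw [topD_pos_eq]
    exact cnt_top_succ rk hrk (sD D') a

/-- the alternating sum of the numbers of flags below `a` -/
noncomputable def V (k : ℕ) (a : L) : ℤ :=
  ∑ D : Finset (Fin k), (-1 : ℤ) ^ D.card * (cnt rk (sD D) a : ℤ)

theorem muBot_bot : muBot L ⊥ = 1 := by
  classical
  have h := muBot_spec (⊥ : L)
  rw [if_pos rfl] at h
  have hf : Finset.univ.filter (fun b : L => b ≤ ⊥) = {⊥} := by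
    ext b
    simp
  rw [hf, Finset.sum_singleton] at h
  exact h

open Classical in
theorem sum_muBot_lt (hrk : StrictMono rk) (h0 : rk ⊥ = 0) (k : ℕ) (b : L) (hb : rk b = k + 1) :
    ∑ c ∈ Finset.univ.filter (fun c : L => c ≤ b ∧ rk c ≤ k), muBot L c = - muBot L b := by
  have h := muBot_spec b
  have hne : b ≠ ⊥ := by
    intro h'
    rw [h', h0] at hb
    omega
  rw [if_neg hne] at h
  have hins : Finset.univ.filter (fun c : L => c ≤ b) =
      insert b (Finset.univ.filter (fun c : L => c ≤ b ∧ rk c ≤ k)) := by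
    ext c
    simp only [Finset.mem_filter, Finset.mem_univ, true_and, Finset.mem_insert]
    constructor
    · intro hc
      by_cases hcb : c = b
      · exact Or.inl hcb
      · right
        refine ⟨hc, ?_⟩
        have := hrk (lt_of_le_of_ne hc hcb)
        omega
    · rintro (rfl | ⟨hc, _⟩)
      · exact le_refl _
      · exact hc
  rw [hins, Finset.sum_insert] at h
  · linarith
  · rw [Finset.mem_filter]
    rintro ⟨_, _, h3⟩
    omega

open Classical in
theorem V_eq (hrk : StrictMono rk) (h0 : rk ⊥ = 0) (k : ℕ) (a : L) :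
    V rk k a = ∑ b ∈ Finset.univ.filter (fun b : L => b ≤ a ∧ rk b ≤ k), muBot L b := by
  induction k generalizing a with
  | zero =>
    unfold V
    have hu : (Finset.univ : Finset (Finset (Fin 0))) = {∅} := by
      ext D
      simp only [Finset.mem_univ, Finset.mem_singleton, true_iff]
      ext d
      exact d.elim0
    rw [hu, Finset.sum_singleton, Finset.card_empty, pow_zero, one_mul, cnt_zero, Nat.cast_one]
    have hf : Finset.univ.filter (fun b : L => b ≤ a ∧ rk b ≤ 0) = {⊥} := by
      ext b
      simp only [Finset.mem_filter, Finset.mem_univ, true_and, Finset.mem_singleton,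
        Nat.le_zero]
      constructor
      · rintro ⟨_, h⟩
        exact (rk_eq_zero_iff rk hrk h0 b).mp h
      · rintro rfl
        exact ⟨bot_le, h0⟩
    rw [hf, Finset.sum_singleton, muBot_bot]
  | succ k ih =>
    unfold V
    rw [sum_finset_fin_succ]
    have e1 : ∑ D' : Finset (Fin k), (-1 : ℤ) ^ (D'.map Fin.castSuccEmb).card *
        (cnt rk (sD (D'.map Fin.castSuccEmb)) a : ℤ) = V rk k a := by
      unfold V
      apply Finset.sum_congr rfl
      intro D' _
      rw [Finset.card_map, cnt_map_castSucc rk hrk h0]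
    have e2 : ∑ D' : Finset (Fin k),
        (-1 : ℤ) ^ (insert (Fin.last k) (D'.map Fin.castSuccEmb)).card *
        (cnt rk (sD (insert (Fin.last k) (D'.map Fin.castSuccEmb))) a : ℤ) =
        - ∑ b : L, if b ≤ a ∧ rk b = k + 1 then V rk k b else 0 := by
      unfold V
      have hb' : ∀ b : L, (if b ≤ a ∧ rk b = k + 1 then
          ∑ D : Finset (Fin k), (-1 : ℤ) ^ D.card * (cnt rk (sD D) b : ℤ) else 0) =
          ∑ D : Finset (Fin k), (-1 : ℤ) ^ D.card *
            ((if b ≤ a ∧ rk b = k + 1 then cnt rk (sD D) b else 0 : ℕ) : ℤ) := by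
        intro b
        by_cases hb : b ≤ a ∧ rk b = k + 1
        · simp only [if_pos hb]
        · simp only [if_neg hb, Nat.cast_zero, mul_zero, Finset.sum_const_zero]
      have hD : ∀ D' : Finset (Fin k),
          (-1 : ℤ) ^ (insert (Fin.last k) (D'.map Fin.castSuccEmb)).card *
          (cnt rk (sD (insert (Fin.last k) (D'.map Fin.castSuccEmb))) a : ℤ) =
          - ∑ b : L, (-1 : ℤ) ^ D'.card *
            ((if b ≤ a ∧ rk b = k + 1 then cnt rk (sD D') b else 0 : ℕ) : ℤ) := by
        intro D'
        rw [Finset.card_insert_of_notMem (last_not_mem_map D'), Finset.card_map,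
          cnt_insert_last, Nat.cast_sum, Finset.mul_sum, pow_succ, ← Finset.sum_neg_distrib]
        apply Finset.sum_congr rfl
        intro b _
        ring
      rw [Finset.sum_congr rfl (fun D' _ => hD D'), Finset.sum_neg_distrib, neg_inj,
        Finset.sum_comm]
      apply Finset.sum_congr rfl
      intro b _
      exact (hb' b).symm
    rw [e1, e2, ih a]
    have e3 : ∀ b : L, (if b ≤ a ∧ rk b = k + 1 then V rk k b else 0) =
        if b ≤ a ∧ rk b = k + 1 then - muBot L b else 0 := by
      intro b
      by_cases hb : b ≤ a ∧ rk b = k + 1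
      · rw [if_pos hb, if_pos hb, ih b, sum_muBot_lt rk hrk h0 k b hb.2]
      · rw [if_neg hb, if_neg hb]
    simp only [e3]
    rw [Finset.sum_filter, Finset.sum_filter, ← Finset.sum_neg_distrib, ← Finset.sum_add_distrib]
    apply Finset.sum_congr rfl
    intro b _
    by_cases h1 : b ≤ a
    · by_cases h2 : rk b ≤ k
      · rw [if_pos ⟨h1, h2⟩, if_neg (by omega), if_pos ⟨h1, by omega⟩]
        ring
      · by_cases h3 : rk b = k + 1
        · rw [if_neg (fun h => h2 h.2), if_pos ⟨h1, h3⟩, if_pos ⟨h1, by omega⟩]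
          ring
        · rw [if_neg (fun h => h2 h.2), if_neg (fun h => h3 h.2), if_neg (by omega)]
          ring
    · rw [if_neg (fun h => h1 h.1), if_neg (fun h => h1 h.1), if_neg (fun h => h1 h.1)]
      ring


omit [Fintype L] in
theorem flagCount_eq_cnt {k : ℕ} (s : Fin k → ℕ) : flagCount rk s = cnt rk s ⊤ := by
  unfold flagCount cnt
  apply Nat.card_congr
  apply Equiv.subtypeEquivRight
  intro W
  constructor
  · rintro ⟨h1, h2⟩
    exact ⟨h1, h2, fun j => le_top⟩
  · rintro ⟨h1, h2, _⟩
    exact ⟨h1, h2⟩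

/-- HALL: the alternating sum of the flag counts is the Möbius number (Philip Hall's theorem). -/
theorem hall_flags (hrk : StrictMono rk) (h0 : rk ⊥ = 0) (n : ℕ) (hn : rk ⊤ = n) :
    ∑ D ∈ lastSets n, (-1 : ℂ) ^ (n - D.card) * (flagCount rk (sD D) : ℂ) =
      (-1 : ℂ) ^ n * (muBot L ⊤ : ℂ) := by
  classical
  cases n with
  | zero =>
    have htop : (⊤ : L) = ⊥ := (rk_eq_zero_iff rk hrk h0 ⊤).mp hn
    have hu : lastSets 0 = {∅} := by
      ext D
      simp only [Finset.mem_singleton]
      constructor
      · intro _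
        ext d
        exact d.elim0
      · rintro rfl
        unfold lastSets
        rw [Finset.mem_filter]
        exact ⟨Finset.mem_univ _, fun i => i.elim0⟩
    rw [hu, Finset.sum_singleton, Finset.card_empty, flagCount_eq_cnt, cnt_zero, htop, muBot_bot]
    norm_num
  | succ k =>
    have hl : ∀ D : Finset (Fin (k + 1)), D ∈ lastSets (k + 1) ↔ Fin.last k ∈ D := by
      intro D
      unfold lastSets
      rw [Finset.mem_filter]
      constructor
      · rintro ⟨_, h⟩
        exact h (Fin.last k) (by rw [Fin.val_last])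
      · intro h
        refine ⟨Finset.mem_univ _, fun i hi => ?_⟩
        have : i = Fin.last k := by
          apply Fin.ext
          rw [Fin.val_last]
          omega
        rw [this]
        exact h
    have hsum : ∑ D ∈ lastSets (k + 1), (-1 : ℂ) ^ (k + 1 - D.card) * (flagCount rk (sD D) : ℂ) =
        ∑ D : Finset (Fin (k + 1)), if Fin.last k ∈ D then
          (-1 : ℂ) ^ (k + 1 - D.card) * (flagCount rk (sD D) : ℂ) else 0 := by
      rw [← Finset.sum_filter]
      apply Finset.sum_congr
      · ext D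
        rw [hl, Finset.mem_filter]
        simp
      · intro D _
        rfl
    rw [hsum, sum_finset_fin_succ]
    have z1 : ∑ D' : Finset (Fin k), (if Fin.last k ∈ D'.map Fin.castSuccEmb then
        (-1 : ℂ) ^ (k + 1 - (D'.map Fin.castSuccEmb).card) *
          (flagCount rk (sD (D'.map Fin.castSuccEmb)) : ℂ) else 0) = 0 := by
      apply Finset.sum_eq_zero
      intro D' _
      rw [if_neg (last_not_mem_map D')]
    rw [z1, zero_add]
    -- the flags ending at the top
    have hcnt : ∀ D' : Finset (Fin k),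
        flagCount rk (sD (insert (Fin.last k) (D'.map Fin.castSuccEmb))) = cnt rk (sD D') ⊤ := by
      intro D'
      rw [flagCount_eq_cnt, cnt_insert_last, Finset.sum_eq_single ⊤]
      · rw [if_pos ⟨le_refl _, hn⟩]
      · intro b _ hb
        rw [if_neg]
        rintro ⟨_, h⟩
        apply hb
        by_contra hne
        have h1 : b < ⊤ := lt_of_le_of_ne le_top hne
        have h2 := hrk h1
        omega
      · intro h
        exact absurd (Finset.mem_univ _) h
    have hterm : ∀ D' : Finset (Fin k),
        (if Fin.last k ∈ insert (Fin.last k) (D'.map Fin.castSuccEmb) then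
        (-1 : ℂ) ^ (k + 1 - (insert (Fin.last k) (D'.map Fin.castSuccEmb)).card) *
          (flagCount rk (sD (insert (Fin.last k) (D'.map Fin.castSuccEmb))) : ℂ) else 0) =
        (-1 : ℂ) ^ k * (((-1 : ℤ) ^ D'.card * (cnt rk (sD D') ⊤ : ℤ) : ℤ) : ℂ) := by
      intro D'
      rw [if_pos (Finset.mem_insert_self _ _), hcnt,
        Finset.card_insert_of_notMem (last_not_mem_map D'), Finset.card_map]
      have hle : D'.card ≤ k := by
        have := Finset.card_le_univ D'
        rw [Fintype.card_fin] at this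
        exact this
      have hk : k + 1 - (D'.card + 1) = k - D'.card := by omega
      rw [hk]
      have hpow : (-1 : ℂ) ^ (k - D'.card) = (-1 : ℂ) ^ k * (-1 : ℂ) ^ D'.card := by
        have h2 : (-1 : ℂ) ^ k = (-1 : ℂ) ^ (k - D'.card) * (-1 : ℂ) ^ D'.card := by
          rw [← pow_add, Nat.sub_add_cancel hle]
        rw [h2, mul_assoc, ← pow_add, ← two_mul, pow_mul]
        norm_num
      rw [hpow]
      push_cast
      ring
    rw [Finset.sum_congr rfl (fun D' _ => hterm D'), ← Finset.mul_sum, ← Int.cast_sum]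
    have hV : ∑ D' : Finset (Fin k), (-1 : ℤ) ^ D'.card * (cnt rk (sD D') ⊤ : ℤ) = V rk k ⊤ := rfl
    rw [hV, V_eq rk hrk h0 k ⊤, sum_muBot_lt rk hrk h0 k ⊤ hn]
    push_cast
    ring

end main

end Cfsg.Agent.Lib.Helper2.S2425Q4
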