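import Mathlib
import Cfsg.Agent.Lib.Helper1.ClassTwo

/-!
# Alperin's theorem: `Ω_n(C_G(A)) = A` for `A` maximal among normal abelian subgroups of
exponent dividing `p ^ n` in a `p`-group (`p ^ n ≠ 2`). (helper2 library)
-/

set_option autoImplicit false

namespace Cfsg.Agent.Lib.Helper2

open scoped commutatorElement

namespace Alperin

section Filtration

variable {G : Type*} [Group G] (A : Subgroup G) [hAn : A.Normal]

/-- the part of the upper central series of `G` modulo `A` lying in `C_G(A)` -/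
def Zf (k : ℕ) : Subgroup G :=
  Subgroup.centralizer (A : Set G) ⊓
    (Subgroup.upperCentralSeries (G ⧸ A) k).comap (QuotientGroup.mk' A)

theorem Zf_le_centralizer (k : ℕ) : Zf A k ≤ Subgroup.centralizer (A : Set G) := inf_le_left

theorem mem_of_mem_Zf_zero {x : G} (hx : x ∈ Zf A 0) : x ∈ A := by
  have h : x ∈ (Subgroup.upperCentralSeries (G ⧸ A) 0).comap (QuotientGroup.mk' A) := hx.2
  rw [Subgroup.mem_comap, Subgroup.upperCentralSeries_zero, Subgroup.mem_bot] at h
  exact (QuotientGroup.eq_one_iff x).mp h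

theorem Zf_mono {k l : ℕ} (h : k ≤ l) : Zf A k ≤ Zf A l :=
  inf_le_inf_left _ (Subgroup.comap_mono (Subgroup.upperCentralSeries_mono _ h))

theorem commutator_mem_Zf {k : ℕ} {t : G} (ht : t ∈ Zf A (k + 1)) (g : G) : ⁅t, g⁆ ∈ Zf A k := by
  refine ⟨?_, ?_⟩
  · haveI : (Subgroup.centralizer (A : Set G)).Normal := Subgroup.normal_centralizer
    have h1 : g * t⁻¹ * g⁻¹ ∈ Subgroup.centralizer (A : Set G) :=
      ‹(Subgroup.centralizer (A : Set G)).Normal›.conj_mem _ (inv_mem ht.1) g
    have : ⁅t, g⁆ = t * (g * t⁻¹ * g⁻¹) := by rw [commutatorElement_def]; group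
    rw [this]
    exact mul_mem ht.1 h1
  · have h : t ∈ (Subgroup.upperCentralSeries (G ⧸ A) (k + 1)).comap (QuotientGroup.mk' A) := ht.2
    rw [Subgroup.mem_comap, Subgroup.mem_upperCentralSeries_succ_iff] at h
    have h2 := h (QuotientGroup.mk' A g)
    show ⁅t, g⁆ ∈ (Subgroup.upperCentralSeries (G ⧸ A) k).comap (QuotientGroup.mk' A)
    rw [Subgroup.mem_comap, map_commutatorElement]
    exact h2

theorem exists_Zf_eq [Group.IsNilpotent G] :
    ∃ m, Zf A m = Subgroup.centralizer (A : Set G) := by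
  obtain ⟨m, hm⟩ := (inferInstance : Group.IsNilpotent (G ⧸ A)).nilpotent
  refine ⟨m, ?_⟩
  unfold Zf
  rw [hm, Subgroup.comap_top, inf_top_eq]

end Filtration

end Alperin

end Cfsg.Agent.Lib.Helper2

namespace Cfsg.Agent.Lib.Helper2

open scoped commutatorElement

namespace Alperin

section ClassTwo

variable {G : Type*} [Group G]

/-- the class-two computation at the heart of Alperin's theorem -/
theorem pow_eq_one_of_class_two {p n : ℕ} (hp : p.Prime) (hn : p ^ n ≠ 2) (A : Subgroup G)
    (hAe : ∀ a ∈ A, a ^ p ^ n = 1) {x t : G}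
    (hxC : x ∈ Subgroup.centralizer (A : Set G)) (htC : t ∈ Subgroup.centralizer (A : Set G))
    (hw : ⁅t, x⁆ ∈ A) (hx : x ^ p ^ n = 1) (hxt : (x * t) ^ p ^ n = 1)
    (hs : ∀ h : ℕ, p ^ n = 2 * h → (t ^ h) ^ p ^ n = 1 → t ^ h ∈ A) :
    t ^ p ^ n = 1 := by
  set w := ⁅t, x⁆ with hwdef
  have hwx : w * x = x * w := (Subgroup.mem_centralizer_iff.mp hxC) w hw
  have hwt : w * t = t * w := (Subgroup.mem_centralizer_iff.mp htC) w hw
  have hwq : w ^ p ^ n = 1 := hAe w hw
  have hformula := Cfsg.Agent.Lib.Helper1.mul_pow_of_commutator_central hwx hwt (p ^ n)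
  rw [hxt, hx, one_mul] at hformula
  -- `1 = t^q * w^(q choose 2)`
  rcases hp.eq_two_or_odd' with h2 | hodd
  · -- `p = 2`
    subst h2
    rcases Nat.lt_or_ge n 1 with h0 | h1
    · have hn0 : n = 0 := by omega
      subst hn0
      simp only [pow_zero, pow_one] at hformula ⊢
      simpa using hformula.symm
    · have hn2 : 2 ≤ n := by
        rcases Nat.lt_or_ge n 2 with h | h
        · exfalso; apply hn
          have : n = 1 := by omega
          rw [this]; norm_num
        · exact h
      obtain ⟨k, rfl⟩ : ∃ k, n = k + 2 := ⟨n - 2, by omega⟩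
      set h := 2 ^ (k + 1) with hh
      have hq : 2 ^ (k + 2) = 2 * h := by rw [hh]; ring
      have hq4 : 2 ^ (k + 2) = 4 * 2 ^ k := by ring
      have hchoose : (2 ^ (k + 2)).choose 2 = h * (2 ^ (k + 2) - 1) := by
        rw [Nat.choose_two_right, hq]
        have : 2 * h * (2 * h - 1) = 2 * (h * (2 * h - 1)) := by ring
        rw [this, Nat.mul_div_cancel_left _ (by norm_num : 0 < 2)]
      rw [hchoose, pow_mul] at hformula
      -- `s = t^h`
      have hsx : ⁅t ^ h, x⁆ = w ^ h := Cfsg.Agent.Lib.Helper1.commutatorElement_pow_left hwt h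
      have hs2 : (t ^ h) ^ 2 = ((w ^ h) ^ (2 ^ (k + 2) - 1))⁻¹ := by
        rw [← pow_mul, mul_comm, ← hq]
        exact eq_inv_of_mul_eq_one_left hformula.symm
      have hwh2 : (w ^ h) ^ 2 = 1 := by rw [← pow_mul, mul_comm, ← hq]; exact hwq
      have hs4 : (t ^ h) ^ 4 = 1 := by
        have : (t ^ h) ^ 4 = ((t ^ h) ^ 2) ^ 2 := by rw [← pow_mul (t ^ h) 2 2]
        rw [this, hs2, inv_pow, ← pow_mul, mul_comm, pow_mul, hwh2, one_pow, inv_one]
      have hsq : (t ^ h) ^ 2 ^ (k + 2) = 1 := by
        rw [hq4, pow_mul, hs4, one_pow]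
      have hsA := hs h hq hsq
      have hcomm : t ^ h * x = x * t ^ h := (Subgroup.mem_centralizer_iff.mp hxC) _ hsA
      have hwh1 : w ^ h = 1 := by
        rw [← hsx, commutatorElement_eq_one_iff_mul_comm]
        exact hcomm
      rw [hwh1, one_pow, mul_one] at hformula
      exact hformula.symm
  · -- `p` odd
    have hqodd : Odd (p ^ n) := hodd.pow
    obtain ⟨m, hm⟩ := hqodd
    have hchoose : (p ^ n).choose 2 = p ^ n * m := by
      rw [Nat.choose_two_right, hm]
      have : (2 * m + 1) * (2 * m + 1 - 1) = 2 * ((2 * m + 1) * m) := by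
        rw [Nat.add_sub_cancel]; ring
      rw [this, Nat.mul_div_cancel_left _ (by norm_num : 0 < 2)]
    rw [hchoose, pow_mul, hwq, one_pow, mul_one] at hformula
    exact hformula.symm

end ClassTwo

end Alperin

end Cfsg.Agent.Lib.Helper2

namespace Cfsg.Agent.Lib.Helper2

open scoped commutatorElement

namespace Alperin

section Main

variable {G : Type*} [Group G]

/-- adjoining to a normal abelian subgroup `A` of exponent dividing `q` an element `x` of
`C_G(A)` with `x ^ q = 1` and `[x, G] ⊆ A` gives a normal abelian subgroup of exponent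
dividing `q`. -/
theorem adjoin_props (A : Subgroup G) [hAn : A.Normal] (hA : IsMulCommutative A) (q : ℕ)
    (hAe : ∀ a ∈ A, a ^ q = 1) {x : G} (hxC : x ∈ Subgroup.centralizer (A : Set G))
    (hxq : x ^ q = 1) (hconj : ∀ g : G, ⁅x⁻¹, g⁆ ∈ A) :
    (Subgroup.closure ((A : Set G) ∪ {x})).Normal ∧
      IsMulCommutative (Subgroup.closure ((A : Set G) ∪ {x})) ∧
      (∀ b ∈ Subgroup.closure ((A : Set G) ∪ {x}), b ^ q = 1) := by
  have hcomm : ∀ a ∈ ((A : Set G) ∪ {x}), ∀ b ∈ ((A : Set G) ∪ {x}), a * b = b * a := by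
    rintro a (ha | ha) b (hb | hb)
    · exact congrArg Subtype.val (hA.is_comm.comm ⟨a, ha⟩ ⟨b, hb⟩)
    · rw [Set.mem_singleton_iff] at hb; subst hb
      exact (Subgroup.mem_centralizer_iff.mp hxC) a ha
    · rw [Set.mem_singleton_iff] at ha; subst ha
      exact ((Subgroup.mem_centralizer_iff.mp hxC) b hb).symm
    · rw [Set.mem_singleton_iff] at ha hb; subst ha; subst hb; rfl
  have hcommB : ∀ a ∈ Subgroup.closure ((A : Set G) ∪ {x}),
      ∀ b ∈ Subgroup.closure ((A : Set G) ∪ {x}), a * b = b * a := by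
    intro a ha b hb
    have := (Subgroup.isMulCommutative_closure hcomm).is_comm.comm ⟨a, ha⟩ ⟨b, hb⟩
    exact congrArg Subtype.val this
  refine ⟨⟨?_⟩, ⟨⟨fun a b => Subtype.ext (hcommB a a.2 b b.2)⟩⟩, ?_⟩
  · intro b hb g
    induction hb using Subgroup.closure_induction with
    | mem s hs =>
      rcases hs with hs | hs
      · exact Subgroup.subset_closure (Or.inl (hAn.conj_mem s hs g))
      · rw [Set.mem_singleton_iff] at hs; subst hs
        have : g * s * g⁻¹ = s * ⁅s⁻¹, g⁆ := by rw [commutatorElement_def]; group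
        rw [this]
        exact mul_mem (Subgroup.subset_closure (Or.inr rfl))
          (Subgroup.subset_closure (Or.inl (hconj g)))
    | one => simp
    | mul a b ha hb iha ihb =>
      have : g * (a * b) * g⁻¹ = (g * a * g⁻¹) * (g * b * g⁻¹) := by group
      rw [this]; exact mul_mem iha ihb
    | inv a ha iha =>
      have : g * a⁻¹ * g⁻¹ = (g * a * g⁻¹)⁻¹ := by group
      rw [this]; exact inv_mem iha
  · intro b hb
    induction hb using Subgroup.closure_induction with
    | mem s hs =>
      rcases hs with hs | hs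
      · exact hAe s hs
      · rw [Set.mem_singleton_iff] at hs; subst hs; exact hxq
    | one => simp
    | mul a b ha hb iha ihb =>
      have hc : Commute a b := hcommB a ha b hb
      rw [hc.mul_pow, iha, ihb, one_mul]
    | inv a ha iha => rw [inv_pow, iha, inv_one]

variable [Finite G] {p : ℕ} [hp : Fact p.Prime]

/-- **Alperin's theorem.** -/
theorem mem_of_pow_eq_one (hG : IsPGroup p G) (n : ℕ) (hn : p ^ n ≠ 2) (A : Subgroup G)
    [hAn : A.Normal] (hA : IsMulCommutative A) (hAe : ∀ a ∈ A, a ^ p ^ n = 1)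
    (hmax : ∀ B : Subgroup G, B.Normal → IsMulCommutative B → (∀ b ∈ B, b ^ p ^ n = 1) →
      A ≤ B → B = A)
    (x : G) (hx : x ∈ Subgroup.centralizer (A : Set G)) (hxn : x ^ p ^ n = 1) : x ∈ A := by
  haveI : Group.IsNilpotent G := hG.isNilpotent
  have P : ∀ i, ∀ x ∈ Zf A i, x ^ p ^ n = 1 → x ∈ A := by
    intro i
    induction i with
    | zero => intro x hx _; exact mem_of_mem_Zf_zero A hx
    | succ i ih =>
      intro x hx hxq
      have hxC := Zf_le_centralizer A _ hx
      have Q : ∀ k, k ≤ i → ∀ t ∈ Zf A k, (x * t) ^ p ^ n = 1 → t ∈ A := by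
        intro k
        induction k with
        | zero => intro _ t ht _; exact mem_of_mem_Zf_zero A ht
        | succ k ihk =>
          intro hk t ht hxt
          have htC := Zf_le_centralizer A _ ht
          have hu : ⁅x⁻¹, t⁆ ∈ Zf A k := by
            have h1 := commutator_mem_Zf A ht x⁻¹
            have h2 : ⁅x⁻¹, t⁆ = ⁅t, x⁻¹⁆⁻¹ := by simp only [commutatorElement_def]; group
            rw [h2]; exact inv_mem h1
          have hxu : (x * ⁅x⁻¹, t⁆) ^ p ^ n = 1 := by
            have : x * ⁅x⁻¹, t⁆ = t * x * t⁻¹ := by rw [commutatorElement_def]; group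
            rw [this, conj_pow, hxq]; group
          have huA := ihk (by omega) _ hu hxu
          have hw : ⁅t, x⁆ ∈ A := by
            have : ⁅t, x⁆ = x * ⁅x⁻¹, t⁆ * x⁻¹ := by simp only [commutatorElement_def]; group
            rw [this]; exact hAn.conj_mem _ huA x
          have htq := pow_eq_one_of_class_two hp.out hn A hAe hxC htC hw hxq hxt
            (fun h _ hs => ih _ (Zf_mono A (by omega : k + 1 ≤ i) (pow_mem ht h)) hs)
          exact ih t (Zf_mono A (by omega : k + 1 ≤ i) ht) htq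
      have hconj : ∀ g : G, ⁅x⁻¹, g⁆ ∈ A := by
        intro g
        have hy : ⁅x⁻¹, g⁆ ∈ Zf A i := commutator_mem_Zf A (inv_mem hx) g
        apply Q i le_rfl _ hy
        have : x * ⁅x⁻¹, g⁆ = g * x * g⁻¹ := by rw [commutatorElement_def]; group
        rw [this, conj_pow, hxq]; group
      obtain ⟨hBn, hBc, hBe⟩ := adjoin_props A hA (p ^ n) hAe hxC hxq hconj
      have hAB : A ≤ Subgroup.closure ((A : Set G) ∪ {x}) :=
        fun a ha => Subgroup.subset_closure (Or.inl ha)
      have hBA := hmax _ hBn hBc hBe hAB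
      rw [← hBA]
      exact Subgroup.subset_closure (Or.inr rfl)
  obtain ⟨m, hm⟩ := exists_Zf_eq A
  exact P m x (by rw [hm]; exact hx) hxn

end Main

end Alperin

end Cfsg.Agent.Lib.Helper2
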