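import Mathlib
import Cfsg.Prelude.Def_Characters
import Cfsg.Agent.Lib.Helper2.Ito
import Cfsg.Agent.Lib.Helper2.AlperinOmega
import Cfsg.Agent.Lib.Helper25.Kernel

/-!
# Finite nilpotent groups are M-groups (helper2 library)
-/

set_option autoImplicit false

universe u

namespace Cfsg.Agent.Lib.Helper2

open scoped ComplexConjugate commutatorElement

namespace MGroup

section Quot

variable {G : Type*} [Group G] (N : Subgroup G) [hNn : N.Normal]

/-- `G ≃ (G ⧸ N) × N` via coset representatives -/
noncomputable def quotProdEquiv : (G ⧸ N) × N ≃ G where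
  toFun x := Quotient.out x.1 * (x.2 : G)
  invFun g := ((g : G ⧸ N), ⟨(Quotient.out (g : G ⧸ N))⁻¹ * g, by
    rw [← QuotientGroup.eq]; exact QuotientGroup.out_eq' _⟩)
  left_inv x := by
    have h : ((Quotient.out x.1 * (x.2 : G) : G) : G ⧸ N) = x.1 := by
      rw [QuotientGroup.mk_mul_of_mem _ x.2.2, QuotientGroup.out_eq']
    apply Prod.ext
    · exact h
    · apply Subtype.ext
      simp only
      rw [h]; group
  right_inv g := by simp

omit hNn in
theorem mk_quotProdEquiv (x : (G ⧸ N) × N) : ((quotProdEquiv N x : G) : G ⧸ N) = x.1 := by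
  show ((Quotient.out x.1 * (x.2 : G) : G) : G ⧸ N) = x.1
  rw [QuotientGroup.mk_mul_of_mem _ x.2.2, QuotientGroup.out_eq']

omit hNn in
theorem sum_comp_mk [Fintype G] [Fintype (G ⧸ N)] (F : G ⧸ N → ℂ) :
    ∑ g : G, F (g : G ⧸ N) = (Nat.card N : ℂ) * ∑ q : G ⧸ N, F q := by
  classical
  haveI : Fintype N := Fintype.ofFinite N
  rw [← Equiv.sum_comp (quotProdEquiv N) (fun g : G => F (g : G ⧸ N)), Fintype.sum_prod_type]
  simp only [mk_quotProdEquiv]
  rw [Finset.mul_sum]
  apply Finset.sum_congr rfl
  intro q _
  rw [Finset.sum_const, Finset.card_univ, nsmul_eq_mul, Nat.card_eq_fintype_card]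

theorem card_comap_mk [Finite G] (Hb : Subgroup (G ⧸ N)) :
    Nat.card (Hb.comap (QuotientGroup.mk' N)) = Nat.card N * Nat.card Hb := by
  have hidx : (Hb.comap (QuotientGroup.mk' N)).index = Hb.index :=
    Subgroup.index_comap_of_surjective _ (QuotientGroup.mk'_surjective N)
  have e1 := (Hb.comap (QuotientGroup.mk' N)).card_mul_index
  have e2 := Hb.card_mul_index
  have e3 : Nat.card N * Nat.card (G ⧸ N) = Nat.card G := by
    rw [mul_comm]; exact (Subgroup.card_eq_card_quotient_mul_card_subgroup N).symm
  have hidxpos : 0 < Hb.index := Nat.pos_of_ne_zero Subgroup.index_ne_zero_of_finite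
  have : Nat.card (Hb.comap (QuotientGroup.mk' N)) * Hb.index
      = (Nat.card N * Nat.card Hb) * Hb.index := by
    rw [← hidx, e1, ← e3, ← e2, hidx]; ring
  exact Nat.eq_of_mul_eq_mul_right hidxpos this

/-- induction commutes with inflation -/
theorem indFun_comap [Fintype G] [Fintype (G ⧸ N)] (Hb : Subgroup (G ⧸ N)) (θ : Hb → ℂ) (g : G) :
    Cfsg.indFun (Hb.comap (QuotientGroup.mk' N))
      (fun h => θ ⟨QuotientGroup.mk' N (h : G), h.2⟩) g = Cfsg.indFun Hb θ (g : G ⧸ N) := by
  classical
  have hext : ∀ y : G, Cfsg.extendByZero (Hb.comap (QuotientGroup.mk' N))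
      (fun h => θ ⟨QuotientGroup.mk' N (h : G), h.2⟩) y
        = Cfsg.extendByZero Hb θ (y : G ⧸ N) := by
    intro y
    by_cases hy : (y : G ⧸ N) ∈ Hb
    · have hy' : y ∈ Hb.comap (QuotientGroup.mk' N) := hy
      rw [extendByZero_of_mem _ _ hy', extendByZero_of_mem _ _ hy]
      rfl
    · have hy' : y ∉ Hb.comap (QuotientGroup.mk' N) := hy
      rw [extendByZero_of_not_mem _ _ hy', extendByZero_of_not_mem _ _ hy]
  rw [indFun_apply, indFun_apply]
  simp only [hext]
  have h1 : ∀ x : G, ((x⁻¹ * g * x : G) : G ⧸ N)
      = ((x : G ⧸ N))⁻¹ * (g : G ⧸ N) * (x : G ⧸ N) := fun x => rfl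
  simp only [h1]
  rw [sum_comp_mk N (fun q => Cfsg.extendByZero Hb θ (q⁻¹ * (g : G ⧸ N) * q)), card_comap_mk]
  have hN : (Nat.card N : ℂ) ≠ 0 := by
    have : 0 < Nat.card N := Nat.card_pos
    exact_mod_cast this.ne'
  push_cast
  rw [mul_inv, mul_assoc, ← mul_assoc (Nat.card Hb : ℂ)⁻¹, mul_comm (Nat.card Hb : ℂ)⁻¹,
    mul_assoc, ← mul_assoc, inv_mul_cancel₀ hN, one_mul]

end Quot

end MGroup

end Cfsg.Agent.Lib.Helper2

namespace Cfsg.Agent.Lib.Helper2

open scoped ComplexConjugate commutatorElement

namespace MGroup

section Basic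

variable {G : Type*} [Group G] [Fintype G]

/-- inducing from the whole group does nothing to class functions -/
theorem indFun_top {θ : G → ℂ} (hθ : Cfsg.IsClassFunction G θ) :
    Cfsg.indFun (⊤ : Subgroup G) (fun h => θ (h : G)) = θ := by
  classical
  funext g
  rw [indFun_apply]
  have h1 : ∀ x : G, Cfsg.extendByZero (⊤ : Subgroup G) (fun h => θ (h : G)) (x⁻¹ * g * x)
      = θ g := by
    intro x
    rw [extendByZero_of_mem _ _ (Subgroup.mem_top _)]
    have := hθ g x⁻¹
    simpa using this
  simp only [h1]
  rw [Finset.sum_const, Finset.card_univ, nsmul_eq_mul, Subgroup.card_top,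
    Nat.card_eq_fintype_card]
  have hG : (Fintype.card G : ℂ) ≠ 0 := by
    have : 0 < Fintype.card G := Fintype.card_pos
    exact_mod_cast this.ne'
  rw [← mul_assoc, inv_mul_cancel₀ hG, one_mul]

/-- `indFun` only depends on the subgroup as a set -/
theorem indFun_congr {S S' : Subgroup G} (h : S = S') (θ : S → ℂ) (θ' : S' → ℂ)
    (hθ : ∀ (x : G) (hx : x ∈ S) (hx' : x ∈ S'), θ ⟨x, hx⟩ = θ' ⟨x, hx'⟩) :
    Cfsg.indFun S θ = Cfsg.indFun S' θ' := by
  subst h
  have : θ = θ' := by
    funext x
    exact hθ x x.2 x.2
  rw [this]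

end Basic

section Nilpotent

variable {G : Type*} [Group G]

/-- a non-abelian nilpotent group has an element outside the centre that is central
modulo the centre -/
theorem exists_second_center [Group.IsNilpotent G] (hG : ∃ a b : G, a * b ≠ b * a) :
    ∃ x : G, x ∉ Subgroup.center G ∧ ∀ g : G, ⁅x, g⁆ ∈ Subgroup.center G := by
  by_contra hcon
  push Not at hcon
  -- then the upper central series is stuck at the centre
  have hstuck : ∀ k : ℕ, Subgroup.upperCentralSeries G (k + 1) ≤ Subgroup.center G := by
    intro k
    induction k with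
    | zero => rw [zero_add, Subgroup.upperCentralSeries_one]
    | succ k ih =>
      intro x hx
      rw [Subgroup.mem_upperCentralSeries_succ_iff] at hx
      by_contra hxc
      obtain ⟨g, hg⟩ := hcon x hxc
      exact hg (ih (hx g))
  obtain ⟨n, hn⟩ := (inferInstance : Group.IsNilpotent G).nilpotent
  have htop : Subgroup.center G = ⊤ := by
    rw [eq_top_iff]
    calc (⊤ : Subgroup G) = Subgroup.upperCentralSeries G n := hn.symm
      _ ≤ Subgroup.upperCentralSeries G (n + 1) :=
        Subgroup.upperCentralSeries_mono G (Nat.le_succ n)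
      _ ≤ Subgroup.center G := hstuck n
  obtain ⟨a, b, hab⟩ := hG
  apply hab
  have ha : a ∈ Subgroup.center G := by rw [htop]; trivial
  exact ((Subgroup.mem_center_iff.mp ha) b).symm

end Nilpotent

end MGroup

end Cfsg.Agent.Lib.Helper2

namespace Cfsg.Agent.Lib.Helper2

open Module
open scoped ComplexConjugate commutatorElement

namespace MGroup

/-- finite nilpotent groups are M-groups, by induction on the order -/
theorem monomial_aux : ∀ (n : ℕ) (G : Type u) [Group G] [Fintype G] [Group.IsNilpotent G],
    Fintype.card G = n → ∀ χ : G → ℂ, Cfsg.IsIrrCharacter G χ →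
      ∃ (H : Subgroup G) (lam : H →* ℂˣ), χ = Cfsg.indFun H (fun h => (lam h : ℂ)) := by
  intro n
  induction n using Nat.strong_induction_on with
  | _ n ih =>
  intro G _ _ _ hcard χ hχ
  classical
  have hχchar := IsIrrCharacter.isCharacter hχ
  have hχcf : Cfsg.IsClassFunction G χ := IsCharacter.isClassFunction hχchar
  obtain ⟨K, hKn, hK⟩ := Cfsg.Agent.Lib.Helper25.exists_kernel hχchar
  haveI := hKn
  by_cases hKbot : K = ⊥
  · -- faithful case
    have hfaith : ∀ g : G, χ g = χ 1 → g = 1 := by
      intro g hg
      have : g ∈ K := (hK g).mpr hg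
      rw [hKbot] at this; exact Subgroup.mem_bot.mp this
    by_cases hab : ∀ a b : G, a * b = b * a
    · -- abelian
      have h1 := IsIrrCharacter.apply_one_of_comm hab hχ
      obtain ⟨φ, hφ⟩ := exists_monoidHom_of_isIrrCharacter_of_apply_one hχ h1
      refine ⟨⊤, φ.comp (⊤ : Subgroup G).subtype, ?_⟩
      exact (indFun_top hχcf).symm.trans
        (congrArg (Cfsg.indFun (⊤ : Subgroup G)) (funext fun h => congrFun hφ h))
    · -- non-abelian
      push Not at hab
      obtain ⟨x, hxZ, hxc⟩ := exists_second_center hab
      have hZc : IsMulCommutative (Subgroup.center G) :=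
        ⟨⟨fun a b => Subtype.ext (Subgroup.mem_center_iff.mp b.2 a)⟩⟩
      have hxcent : x ∈ Subgroup.centralizer ((Subgroup.center G : Subgroup G) : Set G) := by
        rw [Subgroup.mem_centralizer_iff]
        intro h hh
        exact ((Subgroup.mem_center_iff.mp hh) x).symm
      have hconj : ∀ g : G, ⁅x⁻¹, g⁆ ∈ Subgroup.center G := by
        intro g
        have h1 : ⁅x⁻¹, g⁆ = x⁻¹ * (⁅x, g⁆)⁻¹ * x⁻¹⁻¹ := by
          simp only [commutatorElement_def]; group
        rw [h1]
        exact (inferInstance : (Subgroup.center G).Normal).conj_mem _ (inv_mem (hxc g)) x⁻¹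
      obtain ⟨hAn, hAc, -⟩ := Alperin.adjoin_props (Subgroup.center G) hZc (Nat.card G)
        (fun a _ => pow_card_eq_one') hxcent pow_card_eq_one' hconj
      set A : Subgroup G := Subgroup.closure (((Subgroup.center G : Subgroup G) : Set G) ∪ {x})
        with hAdef
      haveI := hAn
      have hxA : x ∈ A := Subgroup.subset_closure (Or.inr rfl)
      have hcomm : ∀ a ∈ A, ∀ b ∈ A, a * b = b * a := fun a ha b hb =>
        congrArg Subtype.val (hAc.is_comm.comm ⟨a, ha⟩ ⟨b, hb⟩)
      haveI : Fintype A := Fintype.ofFinite A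
      -- an irreducible constituent of the restriction to `A`
      have hresne : (fun a : A => χ a) ≠ 0 := by
        intro h
        have := congrFun h 1
        exact IsIrrCharacter.apply_one_ne_zero hχ this
      obtain ⟨lamI, Ψ, hΨ, hsum⟩ :=
        exists_irr_add_of_ne_zero (IsCharacter.restrict hχchar A) hresne
      set lam : A → ℂ := (lamI : A → ℂ) with hlamdef
      have hlam : Cfsg.IsIrrCharacter A lam := lamI.2
      have hconst : Cfsg.classInner (fun a : A => χ a) lam ≠ 0 := by
        rw [hsum, classInner_add_left]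
        have h1 : Cfsg.classInner (lamI : A → ℂ) lam = 1 := classInner_irrCharacter_self lamI
        obtain ⟨k, hk⟩ := classInner_isCharacter_nat hΨ (IsIrrCharacter.isCharacter hlam)
        rw [h1, hk]
        have : ((1 + k : ℕ) : ℂ) ≠ 0 := by exact_mod_cast (Nat.succ_ne_zero k ∘ (by omega))
        simpa using this
      have hlam1 : lam 1 = 1 :=
        IsIrrCharacter.apply_one_of_comm
          (fun a b => Subtype.ext (hcomm a a.2 b b.2)) hlam
      have hlamcf : Cfsg.IsClassFunction A lam := IrrCharacter.isClassFunction lamI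
      set T := inertia A lam with hTdef
      have hAT : A ≤ T := le_inertia A hlamcf
      by_cases hT : T = ⊤
      · -- `A` acts by scalars, so is central: contradiction
        exfalso
        have hinv : ∀ g : G, conjFun A g lam = lam := by
          intro g
          have : g ∈ T := by rw [hT]; trivial
          exact this
        have hcl := clifford_restriction A hχ hlam hconst
        have hset : {ψ : A → ℂ | ∃ g : G, ψ = conjFun A g lam} = {lam} := by
          ext ψ
          constructor
          · rintro ⟨g, rfl⟩; exact hinv g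
          · intro h; exact ⟨1, by rw [Set.mem_singleton_iff.mp h, conjFun_one]⟩
        rw [hset, finsum_mem_singleton] at hcl
        set e := Cfsg.classInner (fun a : A => χ a) lam with he
        have hval : ∀ a : A, χ a = e * lam a := by
          intro a
          have := congrFun hcl a
          simpa using this
        obtain ⟨φ, hφ⟩ := exists_monoidHom_of_isIrrCharacter_of_apply_one hlam hlam1
        have hnorm : ∀ a : A, ‖lam a‖ = 1 := by
          intro a
          rw [hφ]
          have hfin : (φ a) ^ (orderOf a) = 1 := by rw [← map_pow, pow_orderOf_eq_one, map_one]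
          have hfin' : ((φ a : ℂˣ) : ℂ) ^ (orderOf a) = 1 := by
            rw [← Units.val_pow_eq_pow_val, hfin, Units.val_one]
          exact Complex.norm_eq_one_of_pow_eq_one hfin' (orderOf_pos a).ne'
        obtain ⟨m, ρ, hρ, rfl⟩ := hχ
        haveI := hρ
        have hscal : ∃ ω : ℂ, ρ x = ω • (LinearMap.id : (Fin m → ℂ) →ₗ[ℂ] (Fin m → ℂ)) := by
          rw [← norm_char_eq_finrank_iff]
          have h1 := hval ⟨x, hxA⟩
          have h2 := hval 1
          rw [hlam1, mul_one] at h2
          change ρ.character x = e * lam ⟨x, hxA⟩ at h1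
          change ρ.character 1 = e at h2
          rw [h1, norm_mul, hnorm, mul_one, ← h2, Representation.char_one, Complex.norm_natCast]
        obtain ⟨ω, hω⟩ := hscal
        apply hxZ
        rw [Subgroup.mem_center_iff]
        intro g
        have hρ1 : ρ ⁅x, g⁆ = 1 := by
          have hc : ρ (x * g) = ρ (g * x) := by
            rw [map_mul, map_mul, hω]
            ext v
            simp
          have h3 : ⁅x, g⁆ = (x * g) * (g * x)⁻¹ := by
            rw [commutatorElement_def]; group
          rw [h3, map_mul, hc, ← map_mul, mul_inv_cancel, map_one]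
        have h4 := (Cfsg.Agent.Lib.Helper25.rep_apply_eq_one_iff ρ ⁅x, g⁆).mp hρ1
        have h5 := hfaith _ h4
        rw [commutatorElement_eq_one_iff_mul_comm] at h5
        exact h5.symm
      · -- `χ` is induced from the proper subgroup `T`
        haveI : Fintype T := Fintype.ofFinite T
        set A' : Subgroup T := A.subgroupOf T with hA'
        haveI : Fintype A' := Fintype.ofFinite A'
        let lam' : A' → ℂ := fun x => lam ⟨(x : T), Subgroup.mem_subgroupOf.mp x.2⟩
        let ΧT : T → ℂ := fun t => χ t
        have hΧTcf : Cfsg.IsClassFunction T ΧT := fun t s => hχcf t s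
        have h1 : Cfsg.classInner (Cfsg.indFun A' lam') ΧT ≠ 0 := by
          rw [frobenius_reciprocity A' lam' ΧT hΧTcf]
          have h2 : Cfsg.classInner lam' (fun x : A' => ΧT x)
              = Cfsg.classInner lam (fun a : A => χ a) := by
            rw [classInner_def, classInner_def]
            let eqv : A' ≃* A := Subgroup.subgroupOfEquivOfLe hAT
            rw [Nat.card_congr eqv.toEquiv]
            congr 1
            rw [← Equiv.sum_comp eqv.toEquiv (fun a : A => lam a * conj (χ a))]
            rfl
          rw [h2, ← classInner_conj_symm]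
          intro h
          apply hconst
          have := congrArg conj h
          simpa using this
        obtain ⟨ψ, hψ1, hψ2⟩ := exists_common_constituent _ ΧT hΧTcf h1
        have hcc := Cfsg.Agent.Lib.Helper11.clifford_correspondence A T lam hlam
          (fun g => Iff.rfl) hAT ψ ψ ψ.2 ψ.2 hψ1 hψ1
        have hind : Cfsg.indFun T (ψ : T → ℂ) = χ := by
          apply eq_of_irr_of_classInner_ne_zero' hcc.1 hχ
          rw [frobenius_reciprocity T _ χ hχcf, ← classInner_conj_symm]
          intro h
          apply hψ2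
          have := congrArg conj h
          simpa using this
        have hTcard : Fintype.card T < n := by
          rw [← hcard, ← Nat.card_eq_fintype_card, ← Nat.card_eq_fintype_card]
          apply lt_of_le_of_ne (Subgroup.card_le_card_group T)
          intro h
          exact hT ((Subgroup.card_eq_iff_eq_top T).mp h)
        obtain ⟨S, μ, hμ⟩ := ih (Fintype.card T) hTcard T rfl (ψ : T → ℂ) ψ.2
        let eS : S ≃* S.map T.subtype := S.equivMapOfInjective T.subtype T.subtype_injective
        refine ⟨S.map T.subtype, μ.comp eS.symm.toMonoidHom, ?_⟩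
        have hle : S.map T.subtype ≤ T := Subgroup.map_subtype_le S
        rw [← hind, hμ, ← indFun_trans (S.map T.subtype) T hle]
        congr 1
        have hSeq : S = (S.map T.subtype).subgroupOf T :=
          (Subgroup.comap_map_eq_self_of_injective T.subtype_injective S).symm
        apply indFun_congr hSeq
        intro t ht ht'
        have : eS.symm ⟨(t : G), Subgroup.mem_subgroupOf.mp ht'⟩ = ⟨t, ht⟩ := by
          rw [MulEquiv.symm_apply_eq]
          apply Subtype.ext
          rfl
        simp only [MonoidHom.comp_apply, MulEquiv.coe_toMonoidHom]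
        rw [this]
  · -- not faithful: pass to the quotient
    haveI : Fintype (G ⧸ K) := Fintype.ofFinite _
    obtain ⟨ψ, hψ, hψχ⟩ :=
      Cfsg.Agent.Lib.Helper25.exists_deflation K hχ (fun k hk => (hK k).mp hk)
    have hlt : Fintype.card (G ⧸ K) < n := by
      rw [← hcard, ← Nat.card_eq_fintype_card, ← Nat.card_eq_fintype_card,
        Subgroup.card_eq_card_quotient_mul_card_subgroup K]
      have h1 : 1 < Nat.card K := (Subgroup.one_lt_card_iff_ne_bot K).mpr hKbot
      have h2 : 0 < Nat.card (G ⧸ K) := Nat.card_pos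
      nlinarith
    obtain ⟨Hb, lamb, hb⟩ := ih _ hlt (G ⧸ K) rfl ψ hψ
    refine ⟨Hb.comap (QuotientGroup.mk' K),
      lamb.comp ((QuotientGroup.mk' K).subgroupComap Hb), ?_⟩
    funext g
    rw [hψχ g, hb]
    exact (indFun_comap K Hb (fun h => (lamb h : ℂ)) g).symm

end MGroup

end Cfsg.Agent.Lib.Helper2

namespace Cfsg.Agent.Lib.Helper2

namespace MGroup

/-- **S0176**: a finite nilpotent group is an M-group -/
theorem isMonomial_of_isNilpotent {G : Type u} [Group G] [Fintype G] [Group.IsNilpotent G]
    (χ : G → ℂ) (hχ : Cfsg.IsIrrCharacter G χ) :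
    ∃ (H : Subgroup G) (lam : H →* ℂˣ), χ = Cfsg.indFun H (fun h => (lam h : ℂ)) :=
  monomial_aux (Fintype.card G) G rfl χ hχ

end MGroup

end Cfsg.Agent.Lib.Helper2
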