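import Mathlib
import Cfsg.Prelude.Def_Characters
import Cfsg.Agent.Lib.Helper2.Linear
import Cfsg.Agent.Lib.Helper2.Column
import Cfsg.Agent.Lib.Helper2.OddOrderChars
import Cfsg.Agent.Lib.Helper2.BurnsidePQ

/-!
# Taketa's theorem: M-groups are solvable
(helper2 library)
-/

set_option autoImplicit false

namespace Cfsg.Agent.Lib.Helper2

open scoped ComplexConjugate commutatorElement

section

variable {G : Type*} [Group G] [Fintype G]

/-- If `N ≤ H` is normal in `G` and `θ` is constant (equal to `θ 1`) on `N`, then the induced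
function is constant on `N`. -/
theorem indFun_apply_eq_apply_one_of_normal (H N : Subgroup G) [hN : N.Normal] (hNH : N ≤ H)
    (θ : H → ℂ) (hθ : ∀ n : G, ∀ hn : n ∈ N, θ ⟨n, hNH hn⟩ = θ 1) {n : G} (hn : n ∈ N) :
    Cfsg.indFun H θ n = Cfsg.indFun H θ 1 := by
  rw [indFun_apply, indFun_apply]
  congr 1
  apply Finset.sum_congr rfl
  intro x _
  have h1 : x⁻¹ * n * x ∈ N := by
    have := hN.conj_mem n hn x⁻¹
    simpa using this
  rw [extendByZero_of_mem H θ (hNH h1), hθ _ h1]
  have h2 : x⁻¹ * 1 * x = ((1 : H) : G) := by simp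
  rw [h2]
  have : ((1 : H) : G) ∈ H := (1 : H).2
  rw [extendByZero_of_mem H θ this]

/-- If the permutation character `(1_H)^G` takes its degree at `n`, then `n ∈ H`. -/
theorem mem_of_indFun_one_eq (H : Subgroup G) {n : G}
    (h : Cfsg.indFun H (fun _ => (1 : ℂ)) n = Cfsg.indFun H (fun _ => (1 : ℂ)) 1) : n ∈ H := by
  classical
  by_contra hn
  rw [indFun_apply, indFun_apply] at h
  have hne : (Nat.card H : ℂ)⁻¹ ≠ 0 := inv_ne_zero (card_subgroup_ne_zero H)
  have h' := mul_left_cancel₀ hne h
  have h1 : ∀ x : G, Cfsg.extendByZero H (fun _ => (1 : ℂ)) (x⁻¹ * 1 * x) = 1 := by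
    intro x
    have h2 : x⁻¹ * 1 * x ∈ H := by simp [H.one_mem]
    rw [extendByZero_of_mem H _ h2]
  have h2 : ∀ x : G, Cfsg.extendByZero H (fun _ => (1 : ℂ)) (x⁻¹ * n * x)
      = if x⁻¹ * n * x ∈ H then 1 else 0 := by
    intro x
    by_cases hx : x⁻¹ * n * x ∈ H
    · rw [if_pos hx, extendByZero_of_mem H _ hx]
    · rw [if_neg hx, extendByZero_of_not_mem H _ hx]
  simp only [h1, h2] at h'
  rw [Finset.sum_boole, Finset.sum_const, Finset.card_univ, nsmul_eq_mul, mul_one] at h'
  have h3 : (Finset.univ.filter (fun x : G => x⁻¹ * n * x ∈ H)).card = Fintype.card G := by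
    exact_mod_cast h'
  have h4 : Finset.univ.filter (fun x : G => x⁻¹ * n * x ∈ H) = Finset.univ :=
    Finset.eq_univ_of_card _ h3
  have h5 : (1 : G) ∈ Finset.univ.filter (fun x : G => x⁻¹ * n * x ∈ H) := by
    rw [h4]; exact Finset.mem_univ _
  rw [Finset.mem_filter] at h5
  apply hn
  simpa using h5.2

/-- Taketa's theorem. -/
theorem isSolvable_of_monomial
    (hM : ∀ χ : G → ℂ, Cfsg.IsIrrCharacter G χ → ∃ (H : Subgroup G) (lam : H →* ℂˣ),
      χ = Cfsg.indFun H (fun h => (lam h : ℂ))) : Group.IsSolvable G := by
  classical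
  -- main induction
  have key : ∀ d : ℕ, ∀ χ : Cfsg.IrrCharacter G, ∀ k : ℕ, (χ : G → ℂ) 1 = (k : ℂ) → k ≤ d →
      ∀ n ∈ derivedSeries G d, (χ : G → ℂ) n = (χ : G → ℂ) 1 := by
    intro d
    induction d with
    | zero =>
      intro χ k hk hk0 n _
      exfalso
      have : k = 0 := Nat.le_zero.mp hk0
      rw [this, Nat.cast_zero] at hk
      exact IsIrrCharacter.apply_one_ne_zero χ.2 hk
    | succ d ih =>
      intro χ k hk hkd n hn
      rcases Nat.lt_or_ge k (d + 1) with hlt | hge
      · exact ih χ k hk (Nat.lt_succ_iff.mp hlt) n (derivedSeries_antitone G (Nat.le_succ d) hn)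
      · have hkeq : k = d + 1 := le_antisymm hkd hge
        obtain ⟨H, lam, hχ⟩ := hM χ χ.2
        -- degree: |G:H| = k
        have hidx : (H.index : ℂ) = (k : ℂ) := by
          have h1 := indFun_apply_one H (fun h => (lam h : ℂ))
          rw [← hχ, hk] at h1
          simpa using h1.symm
        have hidx' : H.index = d + 1 := by
          rw [← hkeq]; exact_mod_cast hidx
        -- the permutation character
        set π : G → ℂ := Cfsg.indFun H (fun _ => (1 : ℂ)) with hπ
        have hπchar : Cfsg.IsCharacter G π :=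
          indFun_isCharacter H _ (IsIrrCharacter.isCharacter isIrrCharacter_one)
        have hπ1 : π 1 = ((d + 1 : ℕ) : ℂ) := by
          rw [hπ, indFun_apply_one, hidx']; simp
        have hne : Cfsg.classInner π ((trivialIrr G : Cfsg.IrrCharacter G) : G → ℂ) ≠ 0 := by
          haveI : Fintype H := Fintype.ofFinite H
          rw [hπ, frobenius_reciprocity H _ _ (IrrCharacter.isClassFunction (trivialIrr G))]
          have : Cfsg.classInner (fun _ : H => (1 : ℂ))
              (fun h : H => ((trivialIrr G : Cfsg.IrrCharacter G) : G → ℂ) h) = 1 :=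
            classInner_irrCharacter_self (trivialIrr H)
          rw [this]
          exact one_ne_zero
        obtain ⟨Ψ, hΨ, hsum⟩ := exists_add_of_classInner_ne_zero hπchar (trivialIrr G) hne
        obtain ⟨m, hm⟩ := IsCharacter.exists_multiset_irr hΨ
        have hπapply : ∀ g : G, π g = 1 + (m.map (fun ψ : Cfsg.IrrCharacter G => (ψ : G → ℂ) g)).sum := by
          intro g
          have h1 := congrFun hsum g
          rw [Pi.add_apply, hm] at h1
          rw [h1]
          congr 1
          clear h1 hm hsum
          induction m using Multiset.induction_on with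
          | empty => simp
          | cons a s ihs => simp [ihs]
        -- degrees of the constituents
        choose deg hdeg hdegdvd hdegpos using IrrCharacter.exists_degree (G := G)
        have hdegsum : (m.map deg).sum = d := by
          have h1 := hπapply 1
          rw [hπ1] at h1
          have h2 : (m.map (fun ψ : Cfsg.IrrCharacter G => (ψ : G → ℂ) 1)).sum
              = (((m.map deg).sum : ℕ) : ℂ) := by
            clear h1 hm hsum hπapply
            induction m using Multiset.induction_on with
            | empty => simp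
            | cons a s ihs => simp [hdeg]
          rw [h2] at h1
          have h3 : d + 1 = 1 + (m.map deg).sum := by exact_mod_cast h1
          omega
        have hdegle : ∀ ψ ∈ m, deg ψ ≤ d := by
          intro ψ hψ
          rw [← hdegsum]
          exact Multiset.single_le_sum (fun _ _ => Nat.zero_le _) _ (Multiset.mem_map_of_mem deg hψ)
        -- `G^(d) ≤ H`
        have hdH : derivedSeries G d ≤ H := by
          intro g hg
          apply mem_of_indFun_one_eq H
          change π g = π 1
          rw [hπapply g, hπapply 1]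
          congr 2
          apply Multiset.map_congr rfl
          intro ψ hψ
          exact ih ψ (deg ψ) (hdeg ψ) (hdegle ψ hψ) g hg
        -- `G^(d+1) ≤ ker λ`
        have hker : derivedSeries G (d + 1) ≤ (MonoidHom.ker lam).map H.subtype := by
          rw [derivedSeries_succ, Subgroup.commutator_le]
          intro g₁ hg₁ g₂ hg₂
          refine ⟨⁅(⟨g₁, hdH hg₁⟩ : H), ⟨g₂, hdH hg₂⟩⁆, ?_, rfl⟩
          rw [SetLike.mem_coe, MonoidHom.mem_ker, map_commutatorElement]
          exact commutatorElement_eq_one_iff_commute.mpr (Commute.all _ _)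
        haveI : (derivedSeries G (d + 1)).Normal := derivedSeries_normal G (d + 1)
        have hNH : derivedSeries G (d + 1) ≤ H := fun g hg => by
          obtain ⟨y, _, rfl⟩ := hker hg
          exact y.2
        rw [hχ]
        apply indFun_apply_eq_apply_one_of_normal H (derivedSeries G (d + 1)) hNH _ _ hn
        intro g hg
        obtain ⟨y, hy, hyg⟩ := hker hg
        have hy' : lam y = 1 := hy
        have : (⟨g, hNH hg⟩ : H) = y := Subtype.ext hyg.symm
        rw [this, hy', map_one]
  -- conclusion
  rw [Group.isSolvable_def]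
  refine ⟨Nat.card G, ?_⟩
  rw [eq_bot_iff]
  intro n hn
  rw [Subgroup.mem_bot]
  have hconj : IsConj n 1 := by
    rw [isConj_iff_forall_irrCharacter]
    intro χ
    obtain ⟨k, hk, hkdvd, hkpos⟩ := IrrCharacter.exists_degree χ
    exact key (Nat.card G) χ k hk (Nat.le_of_dvd Nat.card_pos hkdvd) n hn
  exact isConj_one_left.mp hconj

end

end Cfsg.Agent.Lib.Helper2
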