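import Mathlib
import Cfsg.Agent.Lib.Helper2.TwoDegrees
import Cfsg.Agent.Lib.Helper2.MGroup
import Cfsg.Agent.Lib.Helper2.Taketa

/-!
# `cd(G) = {1, m}` implies `G'` abelian (Isaacs 12.6)
-/

set_option autoImplicit false
set_option linter.style.haveILetI false
set_option linter.unusedSectionVars false

universe u

namespace Cfsg.Agent.Lib.Helper2

namespace TwoDeg

open Cfsg
open scoped ComplexConjugate commutatorElement

variable {G : Type u} [Group G] [Finite G]

/-- a finite group which is the product of a normal `p`-subgroup and an abelian normal subgroup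
meeting trivially is nilpotent -/
theorem isNilpotent_of_prod (p : ℕ) (hp : p.Prime) (P A : Subgroup G) (hPn : P.Normal)
    (hAn : A.Normal) (hP : IsPGroup p P) (hA : ∀ a ∈ A, ∀ b ∈ A, a * b = b * a)
    (hinf : P ⊓ A = ⊥) (hsup : P ⊔ A = ⊤) : Group.IsNilpotent G := by
  haveI : Fact p.Prime := ⟨hp⟩
  haveI := hAn
  -- `A` is central
  have hAc : A ≤ Subgroup.center G := by
    intro a ha
    rw [Subgroup.mem_center_iff]
    intro g
    have hg : g ∈ P ⊔ A := by rw [hsup]; exact Subgroup.mem_top g
    have hle : P ⊔ A ≤ Subgroup.centralizer ({a} : Set G) := by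
      apply sup_le
      · intro x hx
        rw [Subgroup.mem_centralizer_singleton_iff]
        have := Subgroup.commute_of_normal_of_disjoint P A hPn hAn (disjoint_iff.mpr hinf) x a hx ha
        exact this.eq
      · intro x hx
        rw [Subgroup.mem_centralizer_singleton_iff]
        exact hA x hx a ha
    have := hle hg
    rw [Subgroup.mem_centralizer_singleton_iff] at this
    exact this
  -- `G ⧸ A` is a `p`-group
  have hsurj : Function.Surjective ((QuotientGroup.mk' A).comp P.subtype) := by
    intro q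
    obtain ⟨g, rfl⟩ := QuotientGroup.mk_surjective q
    have hg : g ∈ ((P ⊔ A : Subgroup G) : Set G) := by rw [hsup]; exact Subgroup.mem_top g
    rw [Subgroup.mul_normal] at hg
    obtain ⟨x, hx, a, ha, rfl⟩ := Set.mem_mul.mp hg
    refine ⟨⟨x, hx⟩, ?_⟩
    rw [MonoidHom.comp_apply, QuotientGroup.mk'_apply, QuotientGroup.eq]
    simp only [Subgroup.coe_subtype]
    have : x⁻¹ * (x * a) = a := by group
    rw [this]
    exact ha
  have hQ : IsPGroup p (G ⧸ A) := IsPGroup.of_surjective hP _ hsurj
  haveI : Group.IsNilpotent (G ⧸ A) := hQ.isNilpotent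
  apply Subgroup.isNilpotent_of_ker_le_center (QuotientGroup.mk' A)
  rw [QuotientGroup.ker_mk']
  exact hAc

/-- **Isaacs 12.6**: if `cd(G) = {1, m}` then `G'` is abelian. -/
theorem commutator_comm (m : ℕ)
    (hcd : ∀ χ : Cfsg.IrrCharacter G, Cfsg.charDegree (χ : G → ℂ) = 1 ∨
      Cfsg.charDegree (χ : G → ℂ) = m)
    (hm : ∃ χ : Cfsg.IrrCharacter G, Cfsg.charDegree (χ : G → ℂ) = m) (hm1 : m ≠ 1) :
    ∀ a ∈ commutator G, ∀ b ∈ commutator G, a * b = b * a := by
  classical
  haveI : Fintype G := Fintype.ofFinite G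
  rcases main m hcd hm hm1 with ⟨A, hAn, hAc, hAi⟩ |
    ⟨p, e, hp, hme, P, A, hPn, hAn, hPp, hAc, hinf, hsup⟩
  · have hle := commutator_le_of_index m hcd A hAi
    intro a ha b hb
    exact hAc a (hle ha) b (hle hb)
  · haveI : Group.IsNilpotent G := isNilpotent_of_prod p hp P A hPn hAn hPp hAc hinf hsup
    set N₂ : Subgroup G := ⁅commutator G, commutator G⁆ with hN₂
    haveI hG'n : (commutator G).Normal := by rw [commutator_def]; infer_instance
    haveI hN₂n : N₂.Normal := by rw [hN₂]; infer_instance
    have hN₂G' : N₂ ≤ commutator G := by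
      rw [hN₂]
      exact Subgroup.commutator_le_left _ _
    have hall : ∀ n ∈ N₂, ∀ χ : Cfsg.IrrCharacter G, (χ : G → ℂ) n = (χ : G → ℂ) 1 := by
      intro n hn χ
      obtain ⟨H, lam, hχ⟩ := MGroup.isMonomial_of_isNilpotent (χ : G → ℂ) χ.2
      have h1 : (χ : G → ℂ) 1 = (H.index : ℂ) := by
        rw [hχ, indFun_apply_one]
        simp
      have hdeg : Cfsg.charDegree (χ : G → ℂ) = H.index := ThompsonDeg.charDegree_eq h1
      rcases hcd χ with h | h
      · have h2 : (χ : G → ℂ) 1 = 1 := by
          rw [apply_one_eq_charDegree, h]; simp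
        rw [linear_apply_commutator χ h2 n (hN₂G' hn), h2]
      · rw [hdeg] at h
        have hle := commutator_le_of_index m hcd H h
        have hker : N₂ ≤ (MonoidHom.ker lam).map H.subtype := by
          rw [hN₂, Subgroup.commutator_le]
          intro g₁ hg₁ g₂ hg₂
          refine ⟨⁅(⟨g₁, hle hg₁⟩ : H), ⟨g₂, hle hg₂⟩⁆, ?_, rfl⟩
          rw [SetLike.mem_coe, MonoidHom.mem_ker, map_commutatorElement]
          exact commutatorElement_eq_one_iff_commute.mpr (Commute.all _ _)
        have hNH : N₂ ≤ H := fun g hg => by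
          obtain ⟨y, _, rfl⟩ := hker hg
          exact y.2
        rw [hχ]
        apply indFun_apply_eq_apply_one_of_normal H N₂ hNH _ _ hn
        intro g hg
        obtain ⟨y, hy, hyg⟩ := hker hg
        have hy' : lam y = 1 := hy
        have : (⟨g, hNH hg⟩ : H) = y := Subtype.ext hyg.symm
        rw [this, hy', map_one]
    intro a ha b hb
    have hc : ⁅a, b⁆ ∈ N₂ := Subgroup.commutator_mem_commutator ha hb
    have hconj : IsConj ⁅a, b⁆ 1 := by
      rw [isConj_iff_forall_irrCharacter]
      exact hall _ hc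
    have h1 : ⁅a, b⁆ = 1 := isConj_one_right.mp hconj.symm
    exact commutatorElement_eq_one_iff_mul_comm.mp h1

end TwoDeg

end Cfsg.Agent.Lib.Helper2
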