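import Mathlib
import Cfsg.Agent.Lib.Helper2.FrobeniusSchur
import Cfsg.Agent.Lib.Helper24.FrobSchur
import Cfsg.Agent.Lib.Helper2.Linear
import Cfsg.Agent.Lib.Helper2.TwoDegrees
import Cfsg.Agent.Lib.Helper25.Codegree
import Cfsg.Agent.Lib.Helper25.MinNormal

/-!
# The Alperin–Feit–Thompson theorem on 2-groups (helper2 library)

A `2`-group whose number of involutions is `≡ 1 (mod 4)` is cyclic or has `[G : G'] = 4`.
The proof counts with Frobenius–Schur indicators and lets groups of linear characters act on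
the real irreducible characters of degree two.
-/

set_option autoImplicit false
set_option linter.style.haveILetI false
set_option linter.unusedSectionVars false

namespace Cfsg.Agent.Lib.Helper2

namespace AFT

open Cfsg
open scoped ComplexConjugate

section General

/-- Fixed point congruence for a `p`-group acting on an invariant subset. -/
theorem card_modEq_card_fixed {P X : Type*} [Group P] [MulAction P X] [Finite X] (p : ℕ)
    [Fact p.Prime] (hP : IsPGroup p P) (Y : Set X)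
    (hY : ∀ (a : P) (y : X), y ∈ Y → a • y ∈ Y) :
    Nat.card Y ≡ Nat.card {y : X // y ∈ Y ∧ ∀ a : P, a • y = y} [MOD p] := by
  let S : SubMulAction P X := ⟨Y, fun a {y} hy => hY a y hy⟩
  have h1 := hP.card_modEq_card_fixedPoints (↥S)
  let e : MulAction.fixedPoints P (↥S) ≃ {y : X // y ∈ Y ∧ ∀ a : P, a • y = y} :=
    { toFun := fun z => ⟨z.1.1, z.1.2, fun a => congrArg Subtype.val (z.2 a)⟩
      invFun := fun w => ⟨⟨w.1, w.2.1⟩, fun a => Subtype.ext (w.2.2 a)⟩
      left_inv := fun z => rfl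
      right_inv := fun w => rfl }
  rw [Nat.card_congr e] at h1
  exact h1

end General

section Hom

variable {G : Type*} [Group G] [Finite G]

theorem card_hom : Nat.card (G →* ℂˣ) = (commutator G).index := by
  rw [Nat.card_congr (Abelianization.lift (G := G) (A := ℂˣ))]
  haveI : NeZero ((Monoid.exponent (Abelianization G) : ℕ) : ℂ) := by
    refine ⟨?_⟩
    have : Monoid.exponent (Abelianization G) ≠ 0 := Monoid.exponent_ne_zero_of_finite
    exact_mod_cast this
  rw [CommGroup.card_monoidHom_of_hasEnoughRootsOfUnity (Abelianization G) ℂ]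
  rw [Subgroup.index_eq_card]
  rfl

instance finite_hom : Finite (G →* ℂˣ) := by
  apply Nat.finite_of_card_ne_zero
  rw [card_hom]
  exact Subgroup.index_ne_zero_of_finite

theorem isPGroup_hom {p : ℕ} [Fact p.Prime] (hG : IsPGroup p G) : IsPGroup p (G →* ℂˣ) := by
  obtain ⟨n, hn⟩ := IsPGroup.iff_card.mp hG
  have h1 : (commutator G).index ∣ p ^ n := hn ▸ Subgroup.index_dvd_card (commutator G)
  obtain ⟨m, -, hm⟩ := (Nat.dvd_prime_pow (Fact.out : p.Prime)).mp h1
  apply IsPGroup.of_card (n := m)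
  rw [card_hom, hm]

/-- the subgroup of homomorphisms of exponent dividing `k` -/
def torsionSub (k : ℕ) : Subgroup (G →* ℂˣ) :=
  (powMonoidHom k : (G →* ℂˣ) →* (G →* ℂˣ)).ker

theorem mem_torsionSub {k : ℕ} {φ : G →* ℂˣ} : φ ∈ torsionSub k ↔ φ ^ k = 1 := by
  rw [torsionSub, MonoidHom.mem_ker, powMonoidHom_apply]

theorem hom_pow_eq_one_iff {k : ℕ} {φ : G →* ℂˣ} :
    φ ^ k = 1 ↔ ∀ g, ((φ g : ℂˣ) : ℂ) ^ k = 1 := by
  constructor
  · intro h g
    have h2 : (φ ^ k) g = (1 : G →* ℂˣ) g := by rw [h]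
    rw [MonoidHom.pow_apply, MonoidHom.one_apply] at h2
    rw [← Units.val_pow_eq_pow_val, h2, Units.val_one]
  · intro h
    ext g
    rw [MonoidHom.pow_apply, MonoidHom.one_apply, Units.val_pow_eq_pow_val, Units.val_one]
    exact h g

theorem hom_pow_card (φ : G →* ℂˣ) (g : G) : ((φ g : ℂˣ) : ℂ) ^ Nat.card G = 1 := by
  rw [← Units.val_pow_eq_pow_val, ← map_pow, pow_card_eq_one', map_one, Units.val_one]

theorem hom_conj (φ : G →* ℂˣ) (g : G) : conj ((φ g : ℂˣ) : ℂ) = ((φ g : ℂˣ) : ℂ)⁻¹ :=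
  (inv_eq_conj_of_pow_eq_one Nat.card_pos.ne' (hom_pow_card φ g)).symm

theorem hom_ne_zero (φ : G →* ℂˣ) (g : G) : ((φ g : ℂˣ) : ℂ) ≠ 0 := Units.ne_zero _

/-- a real value of a homomorphism squares to one -/
theorem hom_sq_of_im (φ : G →* ℂˣ) (g : G) (h : (((φ g : ℂˣ) : ℂ)).im = 0) :
    ((φ g : ℂˣ) : ℂ) ^ 2 = 1 := by
  have h1 : conj ((φ g : ℂˣ) : ℂ) = ((φ g : ℂˣ) : ℂ) := Complex.conj_eq_iff_im.mpr h
  rw [hom_conj] at h1
  have h0 := hom_ne_zero φ g
  rw [pow_two]
  calc ((φ g : ℂˣ) : ℂ) * ((φ g : ℂˣ) : ℂ)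
      = ((φ g : ℂˣ) : ℂ) * ((φ g : ℂˣ) : ℂ)⁻¹ := by rw [h1]
    _ = 1 := mul_inv_cancel₀ h0

theorem hom_im_of_sq (φ : G →* ℂˣ) (g : G) (h : ((φ g : ℂˣ) : ℂ) ^ 2 = 1) :
    (((φ g : ℂˣ) : ℂ)).im = 0 := by
  rcases sq_eq_one_iff_of_side.mp h with h1 | h1 <;> simp [h1]
where
  sq_eq_one_iff_of_side {z : ℂ} : z ^ 2 = 1 ↔ z = 1 ∨ z = -1 := sq_eq_one_iff_of_ne_zero'
  sq_eq_one_iff_of_ne_zero' {z : ℂ} : z ^ 2 = 1 ↔ z = 1 ∨ z = -1 := by
    constructor
    · intro hz
      have : (z - 1) * (z + 1) = 0 := by ring_nf; rw [hz]; ring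
      rcases mul_eq_zero.mp this with h | h
      · left; exact sub_eq_zero.mp h
      · right; exact eq_neg_of_add_eq_zero_left h
    · rintro (rfl | rfl) <;> norm_num

end Hom

section Action

variable {G : Type*} [Group G] [Finite G]

theorem isCharacter_hom (φ : G →* ℂˣ) : IsCharacter G (fun g => ((φ g : ℂˣ) : ℂ)) :=
  IsIrrCharacter.isCharacter (isIrrCharacter_of_monoidHom φ)

/-- a homomorphism as an irreducible character -/
noncomputable def linIrr (φ : G →* ℂˣ) : IrrCharacter G :=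
  ⟨fun g => ((φ g : ℂˣ) : ℂ), isIrrCharacter_of_monoidHom φ⟩

theorem linIrr_apply (φ : G →* ℂˣ) (g : G) : (linIrr φ : G → ℂ) g = ((φ g : ℂˣ) : ℂ) := rfl

theorem linIrr_injective : Function.Injective (linIrr (G := G)) := by
  intro φ ψ h
  ext g
  have := congrFun (congrArg Subtype.val h) g
  exact this

/-- multiplying an irreducible character with a homomorphism -/
noncomputable def twist (φ : G →* ℂˣ) (χ : IrrCharacter G) : IrrCharacter G :=
  ⟨(fun g => ((φ g : ℂˣ) : ℂ)) * (χ : G → ℂ),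
    Cfsg.Agent.Lib.Helper25.isIrrCharacter_linear_mul (isCharacter_hom φ) (by simp) χ.2⟩

noncomputable instance mulActionHom : MulAction (G →* ℂˣ) (IrrCharacter G) where
  smul := twist
  one_smul χ := by
    apply Subtype.ext
    funext g
    show (((1 : G →* ℂˣ) g : ℂˣ) : ℂ) * (χ : G → ℂ) g = (χ : G → ℂ) g
    rw [MonoidHom.one_apply, Units.val_one, one_mul]
  mul_smul φ ψ χ := by
    apply Subtype.ext
    funext g
    show ((((φ * ψ) g : ℂˣ) : ℂ)) * (χ : G → ℂ) g
      = ((φ g : ℂˣ) : ℂ) * (((ψ g : ℂˣ) : ℂ) * (χ : G → ℂ) g)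
    rw [MonoidHom.mul_apply, Units.val_mul, mul_assoc]

theorem smul_apply (φ : G →* ℂˣ) (χ : IrrCharacter G) (g : G) :
    ((φ • χ : IrrCharacter G) : G → ℂ) g = ((φ g : ℂˣ) : ℂ) * (χ : G → ℂ) g := rfl

theorem smul_eq_iff (φ : G →* ℂˣ) (χ : IrrCharacter G) :
    φ • χ = χ ↔ ∀ g, ((φ g : ℂˣ) : ℂ) * (χ : G → ℂ) g = (χ : G → ℂ) g := by
  constructor
  · intro h g
    have := congrFun (congrArg Subtype.val h) g
    exact this
  · intro h
    apply Subtype.ext
    funext g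
    exact h g

theorem charDegree_smul (φ : G →* ℂˣ) (χ : IrrCharacter G) :
    charDegree ((φ • χ : IrrCharacter G) : G → ℂ) = charDegree (χ : G → ℂ) := by
  unfold charDegree
  rw [smul_apply, map_one, Units.val_one, one_mul]

/-- real-valued irreducible characters -/
def IsReal (χ : IrrCharacter G) : Prop := ∀ g : G, ((χ : G → ℂ) g).im = 0

/-- the real irreducible characters of degree two -/
def R2 (G : Type*) [Group G] [Finite G] : Set (IrrCharacter G) :=
  {χ | charDegree (χ : G → ℂ) = 2 ∧ IsReal χ}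

theorem R2_inv (a : ↥(torsionSub (G := G) 2)) (χ : IrrCharacter G) (hχ : χ ∈ R2 G) :
    a • χ ∈ R2 G := by
  refine ⟨?_, ?_⟩
  · rw [Subgroup.smul_def, charDegree_smul]; exact hχ.1
  · intro g
    rw [Subgroup.smul_def, smul_apply]
    have h1 := hom_pow_eq_one_iff.mp (mem_torsionSub.mp a.2) g
    have h2 := hom_im_of_sq (a : G →* ℂˣ) g h1
    rw [Complex.mul_im, h2, hχ.2 g]
    ring

theorem R2A_inv (b : ↥(torsionSub (G := G) 4)) (χ : IrrCharacter G)
    (hχ : χ ∈ {χ : IrrCharacter G | χ ∈ R2 G ∧ ∀ a : ↥(torsionSub (G := G) 2), a • χ = χ}) :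
    b • χ ∈ {χ : IrrCharacter G | χ ∈ R2 G ∧ ∀ a : ↥(torsionSub (G := G) 2), a • χ = χ} := by
  obtain ⟨⟨hd, hr⟩, hA⟩ := hχ
  refine ⟨⟨?_, ?_⟩, ?_⟩
  · rw [Subgroup.smul_def, charDegree_smul]; exact hd
  · intro g
    rw [Subgroup.smul_def, smul_apply]
    apply Complex.conj_eq_iff_im.mp
    rw [map_mul, hom_conj, Complex.conj_eq_iff_im.mpr (hr g)]
    -- `b ^ 2` lies in the subgroup of exponent two
    have hb2 : (b : G →* ℂˣ) ^ 2 ∈ torsionSub (G := G) 2 := by
      rw [mem_torsionSub, ← @pow_mul (G →* ℂˣ) _ (b : G →* ℂˣ) 2 2]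
      exact mem_torsionSub.mp b.2
    have h3 := (smul_eq_iff _ χ).mp (hA ⟨_, hb2⟩) g
    rw [MonoidHom.pow_apply, Units.val_pow_eq_pow_val] at h3
    have h0 := hom_ne_zero (b : G →* ℂˣ) g
    calc (((b : G →* ℂˣ) g : ℂˣ) : ℂ)⁻¹ * (χ : G → ℂ) g
        = (((b : G →* ℂˣ) g : ℂˣ) : ℂ)⁻¹ *
            ((((b : G →* ℂˣ) g : ℂˣ) : ℂ) ^ 2 * (χ : G → ℂ) g) := by rw [h3]
      _ = (((b : G →* ℂˣ) g : ℂˣ) : ℂ) * (χ : G → ℂ) g := by
          field_simp
  · intro a
    rw [Subgroup.smul_def, Subgroup.smul_def, smul_eq_iff]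
    intro g
    have h4 := hA a
    rw [Subgroup.smul_def] at h4
    have h5 := (smul_eq_iff _ χ).mp h4 g
    rw [smul_apply, mul_left_comm, h5]

end Action

section Bound

variable {G : Type*} [Group G] [Fintype G]

theorem norm_le_charDegree (χ : IrrCharacter G) (g : G) :
    ‖(χ : G → ℂ) g‖ ≤ (charDegree (χ : G → ℂ) : ℝ) := by
  have h1 := TwoDeg.apply_one_eq_charDegree χ
  obtain ⟨χ, n, ρ, hirr, rfl⟩ := χ
  have h2 := norm_char_le ρ g
  have h3 : ρ.character 1 = (Module.finrank ℂ (Fin n → ℂ) : ℂ) := Representation.char_one ρ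
  simp only at h1
  rw [h3] at h1
  have h4 : Module.finrank ℂ (Fin n → ℂ) = charDegree ρ.character := by exact_mod_cast h1
  simp only
  rw [← h4]
  exact h2

theorem sum_mul_conj_self (χ : IrrCharacter G) :
    ∑ g : G, (χ : G → ℂ) g * conj ((χ : G → ℂ) g) = (Nat.card G : ℂ) := by
  have h := classInner_irrCharacter_self χ
  rw [classInner_def] at h
  have h0 : (Nat.card G : ℂ) ≠ 0 := card_ne_zero_complex
  field_simp at h
  exact h

theorem sum_hom_mul_conj (φ ψ : G →* ℂˣ) [Decidable (φ = ψ)] :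
    ∑ g : G, ((φ g : ℂˣ) : ℂ) * conj ((ψ g : ℂˣ) : ℂ)
      = if φ = ψ then (Nat.card G : ℂ) else 0 := by
  classical
  have h := classInner_irrCharacter (linIrr φ) (linIrr ψ)
  rw [classInner_def] at h
  have h0 : (Nat.card G : ℂ) ≠ 0 := card_ne_zero_complex
  have h' : ∑ g : G, ((φ g : ℂˣ) : ℂ) * conj ((ψ g : ℂˣ) : ℂ)
      = (Nat.card G : ℂ) * (if linIrr φ = linIrr ψ then 1 else 0) := by
    rw [← h]
    show _ = (Nat.card G : ℂ) * ((Nat.card G : ℂ)⁻¹ * ∑ g : G, ((φ g : ℂˣ) : ℂ) * conj ((ψ g : ℂˣ) : ℂ))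
    rw [← mul_assoc, mul_inv_cancel₀ h0, one_mul]
  rw [h']
  by_cases hφψ : φ = ψ
  · rw [if_pos hφψ, if_pos (by rw [hφψ]), mul_one]
  · rw [if_neg hφψ, if_neg (fun h => hφψ (linIrr_injective h)), mul_zero]

/-- a group of homomorphisms fixing `χ` has order at most `χ(1)²` -/
theorem card_stab_le (χ : IrrCharacter G) (T : Subgroup (G →* ℂˣ))
    (hT : ∀ φ ∈ T, φ • χ = χ) : Nat.card T ≤ (charDegree (χ : G → ℂ)) ^ 2 := by
  classical
  haveI : Fintype ↥T := Fintype.ofFinite _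
  set d : ℕ := charDegree (χ : G → ℂ) with hd
  let e : G → ℂ := fun g => ∑ b : ↥T, (((b : G →* ℂˣ) g : ℂˣ) : ℂ)
  have h1 : ∀ g, e g * (χ : G → ℂ) g = (Nat.card T : ℂ) * (χ : G → ℂ) g := by
    intro g
    show (∑ b : ↥T, (((b : G →* ℂˣ) g : ℂˣ) : ℂ)) * (χ : G → ℂ) g = _
    rw [Finset.sum_mul]
    have : ∀ b ∈ (Finset.univ : Finset ↥T),
        (((b : G →* ℂˣ) g : ℂˣ) : ℂ) * (χ : G → ℂ) g = (χ : G → ℂ) g := by
      intro b _
      exact (smul_eq_iff _ χ).mp (hT b b.2) g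
    rw [Finset.sum_congr rfl this, Finset.sum_const, Finset.card_univ, nsmul_eq_mul,
      Nat.card_eq_fintype_card]
  have h2 : ∑ g : G, e g * conj (e g) = (Nat.card G : ℂ) * (Nat.card T : ℂ) := by
    have : ∀ g : G, e g * conj (e g)
        = ∑ b : ↥T, ∑ c : ↥T, (((b : G →* ℂˣ) g : ℂˣ) : ℂ) * conj (((c : G →* ℂˣ) g : ℂˣ) : ℂ) := by
      intro g
      show (∑ b : ↥T, (((b : G →* ℂˣ) g : ℂˣ) : ℂ)) * conj (∑ b : ↥T, (((b : G →* ℂˣ) g : ℂˣ) : ℂ)) = _
      rw [map_sum, Finset.sum_mul_sum]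
    rw [Finset.sum_congr rfl (fun g _ => this g), Finset.sum_comm]
    have h3 : ∀ b : ↥T, ∑ g : G, ∑ c : ↥T,
        (((b : G →* ℂˣ) g : ℂˣ) : ℂ) * conj (((c : G →* ℂˣ) g : ℂˣ) : ℂ) = (Nat.card G : ℂ) := by
      intro b
      rw [Finset.sum_comm]
      have : ∀ c ∈ (Finset.univ : Finset ↥T), ∑ g : G,
          (((b : G →* ℂˣ) g : ℂˣ) : ℂ) * conj (((c : G →* ℂˣ) g : ℂˣ) : ℂ)
            = if b = c then (Nat.card G : ℂ) else 0 := by
        intro c _
        rw [sum_hom_mul_conj]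
        by_cases hbc : b = c
        · rw [if_pos hbc, if_pos (by rw [hbc])]
        · rw [if_neg hbc, if_neg (fun h => hbc (Subtype.ext h))]
      rw [Finset.sum_congr rfl this, Finset.sum_ite_eq]
      simp
    rw [Finset.sum_congr rfl (fun b _ => h3 b), Finset.sum_const, Finset.card_univ, nsmul_eq_mul,
      ← Nat.card_eq_fintype_card, mul_comm]
  -- pass to real numbers
  have h2r : ∑ g : G, Complex.normSq (e g) = (Nat.card G : ℝ) * (Nat.card T : ℝ) := by
    apply Complex.ofReal_injective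
    push_cast
    rw [← h2]
    apply Finset.sum_congr rfl
    intro g _
    rw [Complex.mul_conj]
  have h3r : ∑ g : G, Complex.normSq ((χ : G → ℂ) g) = (Nat.card G : ℝ) := by
    apply Complex.ofReal_injective
    push_cast
    rw [← sum_mul_conj_self χ]
    apply Finset.sum_congr rfl
    intro g _
    rw [Complex.mul_conj]
  have h4 : ∀ g : G, Complex.normSq (e g) * Complex.normSq ((χ : G → ℂ) g)
      = (Nat.card T : ℝ) ^ 2 * Complex.normSq ((χ : G → ℂ) g) := by
    intro g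
    rw [← Complex.normSq_mul, h1 g, Complex.normSq_mul, Complex.normSq_natCast]
    ring
  have h5 : ∀ g : G, Complex.normSq ((χ : G → ℂ) g) ≤ (d : ℝ) ^ 2 := by
    intro g
    rw [Complex.normSq_eq_norm_sq]
    have := norm_le_charDegree χ g
    exact pow_le_pow_left₀ (norm_nonneg _) this 2
  have h6 : (Nat.card T : ℝ) ^ 2 * (Nat.card G : ℝ)
      ≤ (d : ℝ) ^ 2 * ((Nat.card G : ℝ) * (Nat.card T : ℝ)) := by
    rw [← h2r, ← h3r, Finset.mul_sum, Finset.mul_sum]
    apply Finset.sum_le_sum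
    intro g _
    rw [← h4 g, mul_comm]
    exact mul_le_mul_of_nonneg_right (h5 g) (Complex.normSq_nonneg _)
  have hG0 : (0 : ℝ) < (Nat.card G : ℝ) := by exact_mod_cast Nat.card_pos
  have hT0 : (0 : ℝ) < (Nat.card T : ℝ) := by exact_mod_cast Nat.card_pos
  have h7 : (Nat.card T : ℝ) ≤ (d : ℝ) ^ 2 := by
    by_contra hlt
    push Not at hlt
    have : (d : ℝ) ^ 2 * ((Nat.card G : ℝ) * (Nat.card T : ℝ))
        < (Nat.card T : ℝ) ^ 2 * (Nat.card G : ℝ) := by
      have h8 : (d : ℝ) ^ 2 * ((Nat.card G : ℝ) * (Nat.card T : ℝ))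
          < (Nat.card T : ℝ) * ((Nat.card G : ℝ) * (Nat.card T : ℝ)) :=
        mul_lt_mul_of_pos_right hlt (mul_pos hG0 hT0)
      calc (d : ℝ) ^ 2 * ((Nat.card G : ℝ) * (Nat.card T : ℝ))
          < (Nat.card T : ℝ) * ((Nat.card G : ℝ) * (Nat.card T : ℝ)) := h8
        _ = (Nat.card T : ℝ) ^ 2 * (Nat.card G : ℝ) := by ring
    exact absurd h6 (not_le.mpr this)
  exact_mod_cast h7

end Bound

section Indicator

variable {G : Type*} [Group G] [Fintype G]

/-- the Frobenius–Schur indicator -/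
noncomputable def fsInd (χ : IrrCharacter G) : ℂ :=
  (Nat.card G : ℂ)⁻¹ * ∑ s : G, (χ : G → ℂ) (s * s)

theorem fs_cases (χ : IrrCharacter G) :
    (fsInd χ = 0 ∨ fsInd χ = 1 ∨ fsInd χ = -1) ∧
      (fsInd χ = 0 ↔ ∃ s : G, ((χ : G → ℂ) s).im ≠ 0) := by
  obtain ⟨χ, n, ρ, hirr, rfl⟩ := χ
  haveI := hirr
  exact frobenius_schur ρ

theorem exists_eps (χ : IrrCharacter G) :
    ∃ ε : ℤ, (ε : ℂ) = fsInd χ ∧ (ε = 0 ∨ ε = 1 ∨ ε = -1) ∧ (ε ≠ 0 ↔ IsReal χ) := by
  obtain ⟨h1, h2⟩ := fs_cases χ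
  have h3 : fsInd χ ≠ 0 ↔ IsReal χ := by
    rw [Ne, h2]
    unfold IsReal
    push Not
    rfl
  rcases h1 with h | h | h
  · refine ⟨0, by rw [h]; simp, Or.inl rfl, ?_⟩
    rw [← h3]
    simp [h]
  · refine ⟨1, by rw [h]; simp, Or.inr (Or.inl rfl), ?_⟩
    rw [← h3, h]
    simp
  · refine ⟨-1, by rw [h]; simp, Or.inr (Or.inr rfl), ?_⟩
    rw [← h3, h]
    simp

/-- the integer Frobenius–Schur indicator -/
noncomputable def eps (χ : IrrCharacter G) : ℤ := (exists_eps χ).choose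

theorem eps_cast (χ : IrrCharacter G) : ((eps χ : ℤ) : ℂ) = fsInd χ := (exists_eps χ).choose_spec.1

theorem eps_cases (χ : IrrCharacter G) : eps χ = 0 ∨ eps χ = 1 ∨ eps χ = -1 :=
  (exists_eps χ).choose_spec.2.1

theorem eps_ne_zero_iff (χ : IrrCharacter G) : eps χ ≠ 0 ↔ IsReal χ :=
  (exists_eps χ).choose_spec.2.2

theorem eps_eq_one_of_linear (χ : IrrCharacter G) (h1 : charDegree (χ : G → ℂ) = 1)
    (hr : IsReal χ) : eps χ = 1 := by
  have h2 : (χ : G → ℂ) 1 = 1 := by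
    rw [TwoDeg.apply_one_eq_charDegree χ, h1, Nat.cast_one]
  obtain ⟨φ, hφ⟩ := exists_monoidHom_of_isIrrCharacter_of_apply_one χ.2 h2
  have h3 : fsInd χ = 1 := by
    unfold fsInd
    have : ∀ s ∈ (Finset.univ : Finset G), (χ : G → ℂ) (s * s) = 1 := by
      intro s _
      have hs : ((χ : G → ℂ) s).im = 0 := hr s
      rw [hφ] at hs ⊢
      simp only at hs ⊢
      rw [map_mul, Units.val_mul, ← pow_two]
      exact hom_sq_of_im φ s hs
    rw [Finset.sum_congr rfl this, Finset.sum_const, Finset.card_univ, nsmul_eq_mul, mul_one,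
      ← Nat.card_eq_fintype_card]
    exact inv_mul_cancel₀ card_ne_zero_complex
  have h4 : ((eps χ : ℤ) : ℂ) = ((1 : ℤ) : ℂ) := by
    rw [eps_cast, h3]; simp
  exact_mod_cast h4

/-- `∑ χ(1) ε(χ)` counts the solutions of `s * s = 1`. -/
theorem sum_degree_eps [Fintype (IrrCharacter G)] [DecidableEq G] :
    ∑ χ : IrrCharacter G, ((charDegree (χ : G → ℂ) : ℤ) * eps χ)
      = ((Finset.univ.filter (fun s : G => s * s = 1)).card : ℤ) := by
  have h := Cfsg.Agent.Lib.Helper24.sum_fs_degree (G := G)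
  have h2 : ∀ χ ∈ (Finset.univ : Finset (IrrCharacter G)), (χ : G → ℂ) 1 *
        ((Nat.card G : ℂ)⁻¹ * ∑ s : G, (χ : G → ℂ) (s * s))
      = (((charDegree (χ : G → ℂ) : ℤ) * eps χ : ℤ) : ℂ) := by
    intro χ _
    rw [TwoDeg.apply_one_eq_charDegree χ]
    push_cast
    rw [eps_cast]
    rfl
  rw [Finset.sum_congr rfl h2] at h
  have h3 : ((∑ χ : IrrCharacter G, ((charDegree (χ : G → ℂ) : ℤ) * eps χ) : ℤ) : ℂ)
      = (((Finset.univ.filter (fun s : G => s * s = 1)).card : ℤ) : ℂ) := by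
    push_cast
    push_cast at h
    exact h
  exact_mod_cast h3

theorem card_sq_eq_one [DecidableEq G] :
    (Finset.univ.filter (fun s : G => s * s = 1)).card
      = Nat.card {x : G // orderOf x = 2} + 1 := by
  have h1 : Finset.univ.filter (fun s : G => s * s = 1)
      = insert 1 (Finset.univ.filter (fun s : G => orderOf s = 2)) := by
    ext s
    simp only [Finset.mem_filter, Finset.mem_univ, true_and, Finset.mem_insert]
    constructor
    · intro h
      by_cases hs : s = 1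
      · left; exact hs
      · right
        exact orderOf_eq_prime_iff.mpr ⟨by rw [pow_two]; exact h, hs⟩
    · rintro (rfl | h)
      · simp
      · have := (orderOf_eq_prime_iff.mp h).1
        rw [pow_two] at this
        exact this
  rw [h1, Finset.card_insert_of_notMem, Nat.card_eq_fintype_card, Fintype.card_subtype]
  simp

theorem term_mod4 (hG : IsPGroup 2 G) (χ : IrrCharacter G) [Decidable (IsReal χ)] :
    (((charDegree (χ : G → ℂ) : ℤ) * eps χ : ℤ) : ZMod 4)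
      = (if charDegree (χ : G → ℂ) = 1 ∧ IsReal χ then 1 else 0)
        + 2 * (if charDegree (χ : G → ℂ) = 2 ∧ IsReal χ then 1 else 0) := by
  obtain ⟨n, hn⟩ := IsPGroup.iff_card.mp hG
  have hd : charDegree (χ : G → ℂ) ∣ 2 ^ n :=
    hn ▸ Cfsg.Agent.Lib.Helper25.charDegree_dvd_card χ.2
  obtain ⟨k, -, hdk⟩ := (Nat.dvd_prime_pow Nat.prime_two).mp hd
  have he2 := eps_cases χ
  have he3 := eps_ne_zero_iff χ
  rcases k with _ | _ | k
  · rw [pow_zero] at hdk
    by_cases hr : IsReal χ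
    · have h1 : eps χ = 1 := eps_eq_one_of_linear χ hdk hr
      rw [hdk, h1, if_pos ⟨rfl, hr⟩, if_neg (by omega)]
      simp
    · have h1 : eps χ = 0 := by
        by_contra h
        exact hr (he3.mp h)
      rw [hdk, h1, if_neg (fun h => hr h.2), if_neg (fun h => hr h.2)]
      simp
  · have hdk' : charDegree (χ : G → ℂ) = 2 := by rw [hdk]; rfl
    by_cases hr : IsReal χ
    · have hne : eps χ ≠ 0 := he3.mpr hr
      rw [hdk', if_neg (by omega), if_pos ⟨rfl, hr⟩]
      rcases he2 with h | h | h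
      · exact absurd h hne
      · rw [h]; simp
      · rw [h]; decide
    · have h1 : eps χ = 0 := by
        by_contra h
        exact hr (he3.mp h)
      rw [hdk', h1, if_neg (fun h => hr h.2), if_neg (fun h => hr h.2)]
      simp
  · have hdk' : charDegree (χ : G → ℂ) = 4 * 2 ^ k := by rw [hdk]; ring
    have hpos : 0 < 2 ^ k := by positivity
    rw [if_neg (by omega), if_neg (by omega), hdk']
    push_cast
    have : (4 : ZMod 4) = 0 := by decide
    rw [this]
    simp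

/-- the real linear characters correspond to the homomorphisms of exponent two -/
theorem card_real_linear :
    Nat.card {χ : IrrCharacter G // charDegree (χ : G → ℂ) = 1 ∧ IsReal χ}
      = Nat.card (torsionSub (G := G) 2) := by
  symm
  have hdeg : ∀ φ : G →* ℂˣ, charDegree ((linIrr φ : IrrCharacter G) : G → ℂ) = 1 := by
    intro φ
    have := TwoDeg.apply_one_eq_charDegree (linIrr φ)
    rw [linIrr_apply, map_one, Units.val_one] at this
    exact_mod_cast this.symm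
  let f : ↥(torsionSub (G := G) 2) →
      {χ : IrrCharacter G // charDegree (χ : G → ℂ) = 1 ∧ IsReal χ} :=
    fun a => ⟨linIrr (a : G →* ℂˣ), hdeg _, fun g => by
      rw [linIrr_apply]
      exact hom_im_of_sq _ g (hom_pow_eq_one_iff.mp (mem_torsionSub.mp a.2) g)⟩
  apply Nat.card_eq_of_bijective f
  constructor
  · intro a b hab
    apply Subtype.ext
    apply linIrr_injective
    exact congrArg Subtype.val hab
  · rintro ⟨χ, h1, hr⟩
    have h2 : (χ : G → ℂ) 1 = 1 := by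
      rw [TwoDeg.apply_one_eq_charDegree χ, h1, Nat.cast_one]
    obtain ⟨φ, hφ⟩ := exists_monoidHom_of_isIrrCharacter_of_apply_one χ.2 h2
    have hφA : φ ∈ torsionSub (G := G) 2 := by
      rw [mem_torsionSub, hom_pow_eq_one_iff]
      intro g
      have hs : ((χ : G → ℂ) g).im = 0 := hr g
      rw [hφ] at hs
      exact hom_sq_of_im φ g hs
    refine ⟨⟨φ, hφA⟩, ?_⟩
    apply Subtype.ext
    apply Subtype.ext
    exact hφ.symm

/-- the number of real irreducible characters of degree two is odd -/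
theorem odd_card_R2 (hG : IsPGroup 2 G) (ht : Nat.card {x : G // orderOf x = 2} % 4 = 1)
    (h4A : 4 ∣ Nat.card (torsionSub (G := G) 2)) :
    Nat.card {χ : IrrCharacter G // χ ∈ R2 G} % 2 = 1 := by
  classical
  haveI : Fintype (IrrCharacter G) := Fintype.ofFinite _
  have h1 := sum_degree_eps (G := G)
  have hcs := card_sq_eq_one (G := G)
  rw [hcs] at h1
  have h2 := congrArg (fun z : ℤ => (z : ZMod 4)) h1
  rw [Int.cast_sum, Finset.sum_congr rfl (fun χ _ => term_mod4 hG χ), Finset.sum_add_distrib,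
    ← Finset.mul_sum, Finset.sum_boole, Finset.sum_boole] at h2
  -- the first count
  have hc1 : (Finset.univ.filter (fun χ : IrrCharacter G =>
      charDegree (χ : G → ℂ) = 1 ∧ IsReal χ)).card = Nat.card (torsionSub (G := G) 2) := by
    rw [← card_real_linear, Nat.card_eq_fintype_card, Fintype.card_subtype]
  have hc2 : (Finset.univ.filter (fun χ : IrrCharacter G =>
      charDegree (χ : G → ℂ) = 2 ∧ IsReal χ)).card = Nat.card {χ : IrrCharacter G // χ ∈ R2 G} := by
    rw [Nat.card_eq_fintype_card, Fintype.card_subtype]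
    congr 1
    ext χ
    simp only [Finset.mem_filter, Finset.mem_univ, true_and]
    rfl
  rw [hc1, hc2] at h2
  have hz : ((Nat.card (torsionSub (G := G) 2) : ℕ) : ZMod 4) = 0 :=
    (ZMod.natCast_eq_zero_iff _ 4).mpr h4A
  rw [hz, zero_add] at h2
  have ht' : ((Nat.card {x : G // orderOf x = 2} : ℕ) : ZMod 4) = 1 := by
    rw [← ZMod.natCast_mod, ht]
    simp
  push_cast at h2
  rw [ht'] at h2
  rcases Nat.even_or_odd (Nat.card {χ : IrrCharacter G // χ ∈ R2 G}) with ⟨m, hm⟩ | hodd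
  · exfalso
    rw [hm] at h2
    push_cast at h2
    have : (2 : ZMod 4) * ((m : ZMod 4) + m) = 4 * m := by ring
    rw [this] at h2
    have h4 : (4 : ZMod 4) = 0 := by decide
    rw [h4, zero_mul] at h2
    revert h2
    decide
  · exact Nat.odd_iff.mp hodd

end Indicator

section Cyclic

variable {G : Type*} [Group G] [Finite G]

theorem exists_hom_of_index_two (K : Subgroup G) (hK : K.index = 2) :
    ∃ φ : G →* ℂˣ, φ ^ 2 = 1 ∧ (∀ g, φ g = 1 ↔ g ∈ K) := by
  classical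
  have hne : (-1 : ℂˣ) ≠ 1 := by
    intro h
    have := congrArg Units.val h
    norm_num at this
  let φ : G →* ℂˣ :=
    { toFun := fun g => if g ∈ K then 1 else -1
      map_one' := by simp [K.one_mem]
      map_mul' := by
        intro a b
        have := Subgroup.mul_mem_iff_of_index_two hK (a := a) (b := b)
        by_cases ha : a ∈ K <;> by_cases hb : b ∈ K <;> simp [ha, hb, this] }
  refine ⟨φ, ?_, ?_⟩
  · ext g
    rw [MonoidHom.pow_apply]
    show ((if g ∈ K then (1 : ℂˣ) else -1) ^ 2 : ℂˣ).val = _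
    split_ifs <;> simp
  · intro g
    show (if g ∈ K then (1 : ℂˣ) else -1) = 1 ↔ g ∈ K
    split_ifs with h
    · simp [h]
    · simp [h, hne]

theorem exists_hom_ker (hG : IsPGroup 2 G) (hnc : ¬ IsCyclic G) (x : G) :
    ∃ φ : G →* ℂˣ, φ ^ 2 = 1 ∧ φ ≠ 1 ∧ φ x = 1 := by
  obtain ⟨n, hn⟩ := IsPGroup.iff_card.mp hG
  have hH : Subgroup.zpowers x ≠ ⊤ := fun h =>
    hnc (isCyclic_iff_exists_zpowers_eq_top.mpr ⟨x, h⟩)
  obtain ⟨k, hk⟩ := IsPGroup.iff_card.mp (hG.to_subgroup (Subgroup.zpowers x))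
  have hkn : k < n := by
    by_contra hcon
    push Not at hcon
    apply hH
    apply Subgroup.eq_top_of_card_eq
    apply le_antisymm (Subgroup.card_le_card_group _)
    rw [hk, hn]
    exact Nat.pow_le_pow_right (by norm_num) hcon
  have hdvd : 2 ^ (n - 1) ∣ Nat.card G := by
    rw [hn]
    exact pow_dvd_pow 2 (by omega)
  obtain ⟨K, hKc, hHK⟩ := Sylow.exists_subgroup_card_pow_prime_le 2 hdvd
    (Subgroup.zpowers x) hk (by omega)
  have hKi : K.index = 2 := by
    have h1 := K.card_mul_index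
    rw [hKc, hn] at h1
    have h2 : 2 ^ n = 2 ^ (n - 1) * 2 := by
      rw [← pow_succ]
      congr 1
      omega
    rw [h2] at h1
    exact Nat.eq_of_mul_eq_mul_left (by positivity) h1
  obtain ⟨φ, h1, h2⟩ := exists_hom_of_index_two K hKi
  refine ⟨φ, h1, ?_, (h2 x).mpr (hHK (Subgroup.mem_zpowers x))⟩
  intro h
  have hK : K = ⊤ := by
    rw [eq_top_iff]
    intro g _
    rw [← h2 g, h]
    rfl
  rw [hK, Subgroup.index_top] at hKi
  omega

theorem four_dvd_card (hG : IsPGroup 2 G) (hnc : ¬ IsCyclic G) :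
    4 ∣ Nat.card (torsionSub (G := G) 2) := by
  have hL : IsPGroup 2 (G →* ℂˣ) := isPGroup_hom hG
  obtain ⟨r, hr⟩ := IsPGroup.iff_card.mp (hL.to_subgroup (torsionSub (G := G) 2))
  obtain ⟨φ₁, h11, h12, -⟩ := exists_hom_ker hG hnc 1
  have hx : ∃ x, φ₁ x ≠ 1 := by
    by_contra h
    push Not at h
    exact h12 (MonoidHom.ext h)
  obtain ⟨x₁, hx₁⟩ := hx
  obtain ⟨φ₂, h21, h22, h23⟩ := exists_hom_ker hG hnc x₁
  have hne : φ₁ ≠ φ₂ := fun h => hx₁ (h ▸ h23)
  have hm1 : φ₁ ∈ torsionSub (G := G) 2 := mem_torsionSub.mpr h11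
  have hm2 : φ₂ ∈ torsionSub (G := G) 2 := mem_torsionSub.mpr h21
  rcases r with _ | _ | r
  · exfalso
    rw [pow_zero] at hr
    have := (Nat.card_eq_one_iff_unique.mp hr).1
    have h := Subsingleton.elim (⟨φ₁, hm1⟩ : ↥(torsionSub (G := G) 2)) 1
    exact h12 (congrArg Subtype.val h)
  · exfalso
    rw [zero_add, pow_one] at hr
    obtain ⟨y, -, hy⟩ := (Nat.card_eq_two_iff' (1 : ↥(torsionSub (G := G) 2))).mp hr
    have e1 := hy ⟨φ₁, hm1⟩ (fun h => h12 (congrArg Subtype.val h))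
    have e2 := hy ⟨φ₂, hm2⟩ (fun h => h22 (congrArg Subtype.val h))
    exact hne (congrArg Subtype.val (e1.trans e2.symm))
  · rw [hr]
    exact ⟨2 ^ r, by ring⟩

end Cyclic

section Main

variable {G : Type*} [Group G] [Finite G]

/-- **Alperin–Feit–Thompson**. -/
theorem main (hG : IsPGroup 2 G) (ht : Nat.card {x : G // orderOf x = 2} % 4 = 1)
    (hnc : ¬ IsCyclic G) : (commutator G).index = 4 := by
  classical
  haveI : Fintype G := Fintype.ofFinite G
  have hL : IsPGroup 2 (G →* ℂˣ) := isPGroup_hom hG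
  have hAB : torsionSub (G := G) 2 ≤ torsionSub (G := G) 4 := by
    intro φ h
    rw [mem_torsionSub] at h ⊢
    rw [show 4 = 2 * 2 from rfl, @pow_mul (G →* ℂˣ) _ φ 2 2, h, @one_pow (G →* ℂˣ) _ 2]
  have h4A : 4 ∣ Nat.card (torsionSub (G := G) 2) := four_dvd_card hG hnc
  have hodd := odd_card_R2 hG ht h4A
  have hp1 := card_modEq_card_fixed 2 (hL.to_subgroup (torsionSub (G := G) 2)) (R2 G) R2_inv
  have hp2 := card_modEq_card_fixed 2 (hL.to_subgroup (torsionSub (G := G) 4))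
    {χ : IrrCharacter G | χ ∈ R2 G ∧ ∀ a : ↥(torsionSub (G := G) 2), a • χ = χ} R2A_inv
  have hne : Nat.card {y : IrrCharacter G //
      y ∈ {χ : IrrCharacter G | χ ∈ R2 G ∧ ∀ a : ↥(torsionSub (G := G) 2), a • χ = χ} ∧
        ∀ b : ↥(torsionSub (G := G) 4), b • y = y} ≠ 0 := by
    intro h0
    rw [h0] at hp2
    have h3 := hp1.trans hp2
    have h4 : Nat.card (R2 G) % 2 = 0 := h3
    have h5 : Nat.card (R2 G) % 2 = 1 := hodd
    omega
  obtain ⟨⟨χ, ⟨hχR, hχA⟩, hχB⟩⟩ := (Nat.card_ne_zero.mp hne).1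
  have hB4 : Nat.card (torsionSub (G := G) 4) ≤ 4 := by
    have h := card_stab_le χ (torsionSub (G := G) 4) (fun φ hφ => hχB ⟨φ, hφ⟩)
    rw [hχR.1] at h
    exact h
  have hA4 : 4 ≤ Nat.card (torsionSub (G := G) 2) := Nat.le_of_dvd Nat.card_pos h4A
  have hABeq : torsionSub (G := G) 2 = torsionSub (G := G) 4 :=
    Subgroup.eq_of_le_of_card_ge hAB (by omega)
  have hstep : ∀ k : ℕ, ∀ φ : G →* ℂˣ, φ ^ (2 ^ k) = 1 → φ ∈ torsionSub (G := G) 2 := by
    intro k
    induction k with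
    | zero =>
      intro φ h
      rw [pow_zero, pow_one] at h
      rw [h]
      exact Subgroup.one_mem _
    | succ k ih =>
      intro φ h
      rw [pow_succ', @pow_mul (G →* ℂˣ) _ φ 2 (2 ^ k)] at h
      have h1 := mem_torsionSub.mp (ih _ h)
      rw [← @pow_mul (G →* ℂˣ) _ φ 2 2] at h1
      rw [hABeq]
      exact mem_torsionSub.mpr h1
  have htop : torsionSub (G := G) 2 = ⊤ := by
    rw [eq_top_iff]
    intro φ _
    obtain ⟨k, hk⟩ := hL φ
    exact hstep k φ hk
  have hcard : Nat.card (G →* ℂˣ) = Nat.card (torsionSub (G := G) 2) := by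
    rw [htop, Subgroup.card_top]
  rw [← card_hom, hcard]
  rw [hABeq] at hA4 ⊢
  omega

end Main

end AFT

end Cfsg.Agent.Lib.Helper2
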