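import Mathlib

/-!
# Extending a homomorphism over a cyclic quotient (helper2 library)

`N ⊴ G`, `G = N⟨g₀⟩`, `g₀ ^ i ∈ N ↔ m ∣ i`; `f : N →* Γ` and `t : Γ` with
`t f(n) t⁻¹ = f(g₀ n g₀⁻¹)` and `t ^ m = f(g₀ ^ m)`.  Then `f` extends to `F : G →* Γ` with
`F g₀ = t`.
-/

set_option autoImplicit false

namespace Cfsg.Agent.Lib.Helper2

namespace CyclicExt

variable {G Γ : Type*} [Group G] [Group Γ] (N : Subgroup G) (f : N →* Γ)

open Classical in
/-- extension of `f` by `1` outside `N` -/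
noncomputable def fext (x : G) : Γ := if h : x ∈ N then f ⟨x, h⟩ else 1

theorem fext_mem {x : G} (h : x ∈ N) : fext N f x = f ⟨x, h⟩ := by
  unfold fext
  rw [dif_pos h]

theorem fext_one : fext N f 1 = 1 := by
  rw [fext_mem N f N.one_mem]
  exact map_one f

theorem fext_mul {x y : G} (hx : x ∈ N) (hy : y ∈ N) :
    fext N f (x * y) = fext N f x * fext N f y := by
  rw [fext_mem N f hx, fext_mem N f hy, fext_mem N f (N.mul_mem hx hy), ← map_mul]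
  rfl

theorem fext_inv {x : G} (hx : x ∈ N) : fext N f x⁻¹ = (fext N f x)⁻¹ := by
  rw [fext_mem N f hx, fext_mem N f (N.inv_mem hx), ← map_inv]
  rfl

theorem fext_zpow {x : G} (hx : x ∈ N) (k : ℤ) : fext N f (x ^ k) = (fext N f x) ^ k := by
  rw [fext_mem N f hx, fext_mem N f (N.zpow_mem hx k), ← map_zpow]
  rfl

variable [hN : N.Normal]

/-- the subgroup of pairs `(y, s)` such that conjugation by `s` on `f(N)` mirrors conjugation by
`y` on `N` -/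
def conjPairs : Subgroup (G × Γ) where
  carrier := {q | ∀ x ∈ N, q.2 * fext N f x * q.2⁻¹ = fext N f (q.1 * x * q.1⁻¹)}
  one_mem' := by
    intro x _
    simp
  mul_mem' := by
    intro a b ha hb x hx
    have h1 := hb x hx
    have h2 := ha (b.1 * x * b.1⁻¹) (hN.conj_mem x hx b.1)
    simp only [Prod.fst_mul, Prod.snd_mul, mul_inv_rev]
    calc a.2 * b.2 * fext N f x * (b.2⁻¹ * a.2⁻¹)
        = a.2 * (b.2 * fext N f x * b.2⁻¹) * a.2⁻¹ := by group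
      _ = fext N f (a.1 * (b.1 * x * b.1⁻¹) * a.1⁻¹) := by rw [h1, h2]
      _ = fext N f (a.1 * b.1 * x * (b.1⁻¹ * a.1⁻¹)) := by
        congr 1
        group
  inv_mem' := by
    intro a ha x hx
    have hx' : a.1⁻¹ * x * a.1 ∈ N := by
      have := hN.conj_mem x hx a.1⁻¹
      simpa using this
    have h1 := ha (a.1⁻¹ * x * a.1) hx'
    have h2 : a.1 * (a.1⁻¹ * x * a.1) * a.1⁻¹ = x := by group
    rw [h2] at h1
    simp only [Prod.fst_inv, Prod.snd_inv, inv_inv]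
    rw [← h1]
    group

theorem conj_zpow {g₀ : G} {t : Γ}
    (hconj : ∀ x ∈ N, t * fext N f x * t⁻¹ = fext N f (g₀ * x * g₀⁻¹)) (j : ℤ) {x : G}
    (hx : x ∈ N) : t ^ j * fext N f x * (t ^ j)⁻¹ = fext N f (g₀ ^ j * x * (g₀ ^ j)⁻¹) := by
  have h1 : ((g₀, t) : G × Γ) ∈ conjPairs N f := hconj
  have h2 := (conjPairs N f).zpow_mem h1 j
  have h3 := h2 x hx
  simpa using h3

section Main

variable (g₀ : G) (m : ℕ) (t : Γ)

/-- the candidate value at `g` computed with the exponent `i` -/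
noncomputable def val (i : ℤ) (g : G) : Γ := t ^ i * fext N f (g₀ ^ (-i) * g)

variable {N f g₀ m t}

omit hN in
theorem val_eq_of_valid (hpow : ∀ i : ℤ, g₀ ^ i ∈ N → (m : ℤ) ∣ i) (hm' : g₀ ^ m ∈ N)
    (htm : t ^ m = fext N f (g₀ ^ m)) {i i' : ℤ} {g : G} (hi : g₀ ^ (-i) * g ∈ N)
    (hi' : g₀ ^ (-i') * g ∈ N) : val N f g₀ t i g = val N f g₀ t i' g := by
  have h1 : g₀ ^ (i' - i) ∈ N := by
    have : g₀ ^ (i' - i) = (g₀ ^ (-i) * g) * (g₀ ^ (-i') * g)⁻¹ := by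
      rw [mul_inv_rev, zpow_neg, zpow_neg, inv_inv, zpow_sub]
      group
    rw [this]
    exact N.mul_mem hi (N.inv_mem hi')
  obtain ⟨k, hk⟩ := hpow _ h1
  have hi'eq : i' = i + m * k := by omega
  have hm'' : g₀ ^ (m : ℤ) ∈ N := by
    rw [zpow_natCast]
    exact hm'
  have h2 : g₀ ^ (-i') * g = (g₀ ^ (m : ℤ)) ^ (-k) * (g₀ ^ (-i) * g) := by
    rw [hi'eq, ← zpow_mul, ← mul_assoc, ← zpow_add]
    congr 2
    ring
  unfold val
  rw [h2, fext_mul N f (N.zpow_mem hm'' (-k)) hi, fext_zpow N f hm'' (-k), zpow_natCast, ← htm,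
    hi'eq, zpow_add, zpow_mul, zpow_natCast, zpow_neg]
  group

theorem val_mul (hconj : ∀ x ∈ N, t * fext N f x * t⁻¹ = fext N f (g₀ * x * g₀⁻¹))
    {i j : ℤ} {g h : G} (hi : g₀ ^ (-i) * g ∈ N) (hj : g₀ ^ (-j) * h ∈ N) :
    g₀ ^ (-(i + j)) * (g * h) ∈ N ∧
      val N f g₀ t (i + j) (g * h) = val N f g₀ t i g * val N f g₀ t j h := by
  have hca : g₀ ^ (-j) * (g₀ ^ (-i) * g) * (g₀ ^ (-j))⁻¹ ∈ N := hN.conj_mem _ hi _
  have h1 : g₀ ^ (-(i + j)) * (g * h) =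
      (g₀ ^ (-j) * (g₀ ^ (-i) * g) * (g₀ ^ (-j))⁻¹) * (g₀ ^ (-j) * h) := by
    rw [neg_add, zpow_add]
    group
  refine ⟨by rw [h1]; exact N.mul_mem hca hj, ?_⟩
  unfold val
  rw [h1, fext_mul N f hca hj, ← conj_zpow N f hconj (-j) hi, zpow_add, zpow_neg]
  group

/-- **Extension over a cyclic quotient.** -/
theorem exists_hom_extension
    (hgen : ∀ g : G, ∃ i : ℤ, g₀ ^ (-i) * g ∈ N)
    (hpow : ∀ i : ℤ, g₀ ^ i ∈ N → (m : ℤ) ∣ i) (hm' : g₀ ^ m ∈ N)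
    (hconj : ∀ n : N, t * f n * t⁻¹ = f ⟨g₀ * n * g₀⁻¹, hN.conj_mem n n.2 g₀⟩)
    (htm : t ^ m = f ⟨g₀ ^ m, hm'⟩) :
    ∃ F : G →* Γ, (∀ n : N, F n = f n) ∧ F g₀ = t := by
  have hconj' : ∀ x ∈ N, t * fext N f x * t⁻¹ = fext N f (g₀ * x * g₀⁻¹) := by
    intro x hx
    rw [fext_mem N f hx, fext_mem N f (hN.conj_mem x hx g₀)]
    exact hconj ⟨x, hx⟩
  have htm' : t ^ m = fext N f (g₀ ^ m) := by
    rw [fext_mem N f hm']
    exact htm
  choose idx hidx using hgen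
  let F : G →* Γ := MonoidHom.mk' (fun g => val N f g₀ t (idx g) g) (by
    intro a b
    obtain ⟨h1, h2⟩ := val_mul hconj' (hidx a) (hidx b)
    rw [← h2]
    exact val_eq_of_valid hpow hm' htm' (hidx (a * b)) h1)
  refine ⟨F, ?_, ?_⟩
  · intro n
    have h0 : g₀ ^ (-(0 : ℤ)) * (n : G) ∈ N := by simp
    have h1 : F n = val N f g₀ t (idx n) n := rfl
    rw [h1, val_eq_of_valid hpow hm' htm' (hidx (n : G)) h0]
    unfold val
    simp [fext_mem N f n.2]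
  · have h1 : g₀ ^ (-(1 : ℤ)) * g₀ ∈ N := by simp
    have h2 : F g₀ = val N f g₀ t (idx g₀) g₀ := rfl
    rw [h2, val_eq_of_valid hpow hm' htm' (hidx g₀) h1]
    unfold val
    simp [fext_one]

end Main

end CyclicExt

end Cfsg.Agent.Lib.Helper2
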