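import Mathlib
import Cfsg.Prelude.Def_Characters
import Cfsg.Agent.Lib.Helper2.CyclicExtension
import Cfsg.Agent.Lib.Helper2.EquivOfChar
import Cfsg.Agent.Lib.Helper2.CharBasic
import Cfsg.Agent.Lib.Helper25.Complete

/-!
# Invariant irreducible characters extend over cyclic quotients (helper2 library)
Isaacs 11.22.
-/

set_option autoImplicit false

namespace Cfsg.Agent.Lib.Helper2
namespace CyclicExt

open Module

theorem exists_irr_extension {G : Type*} [Group G] [Finite G] (N : Subgroup G) [hN : N.Normal]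
    (hcyc : IsCyclic (G ⧸ N)) (ϑ : N → ℂ) (hϑ : Cfsg.IsIrrCharacter N ϑ)
    (hinv : ∀ (g : G) (n : N), ϑ ⟨g * n * g⁻¹, hN.conj_mem (n : G) n.2 g⟩ = ϑ n) :
    ∃ χ : G → ℂ, Cfsg.IsIrrCharacter G χ ∧ ∀ n : N, χ n = ϑ n := by
  classical
  obtain ⟨d, ρ, hρ, rfl⟩ := hϑ
  haveI := hρ
  obtain ⟨q, hq⟩ := IsCyclic.exists_generator (α := G ⧸ N)
  obtain ⟨g₀, rfl⟩ := QuotientGroup.mk_surjective q
  set m := orderOf (QuotientGroup.mk g₀ : G ⧸ N) with hm
  have hmpos : 0 < m := orderOf_pos _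
  have hgen : ∀ g : G, ∃ i : ℤ, g₀ ^ (-i) * g ∈ N := by
    intro g
    obtain ⟨i, hi⟩ := Subgroup.mem_zpowers_iff.mp (hq (QuotientGroup.mk g))
    refine ⟨i, ?_⟩
    rw [← QuotientGroup.eq_one_iff, QuotientGroup.mk_mul, QuotientGroup.mk_zpow, ← hi, zpow_neg,
      inv_mul_cancel]
  have hpow : ∀ i : ℤ, g₀ ^ i ∈ N → (m : ℤ) ∣ i := by
    intro i hi
    rw [← QuotientGroup.eq_one_iff, QuotientGroup.mk_zpow] at hi
    exact orderOf_dvd_iff_zpow_eq_one.mpr hi
  have hm' : g₀ ^ m ∈ N := by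
    rw [← QuotientGroup.eq_one_iff, QuotientGroup.mk_pow]
    exact pow_orderOf_eq_one _
  let c : N →* N := (MulAut.conjNormal g₀ : MulAut N).toMonoidHom
  have hc : ∀ n : N, c n = ⟨g₀ * n * g₀⁻¹, hN.conj_mem (n : G) n.2 g₀⟩ := by
    intro n
    apply Subtype.ext
    simp [c]
  let ρ' : Representation ℂ N (Fin d → ℂ) := ρ.comp c
  have hchar : ρ'.character = ρ.character := by
    funext n
    have h1 := hinv g₀ n
    rw [← hc] at h1
    exact h1
  obtain ⟨φ⟩ := nonempty_equiv_of_char_eq _ _ _ ρ ρ' rfl hchar.symm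
  -- the group of units of the endomorphism algebra
  let T : (Module.End ℂ (Fin d → ℂ))ˣ :=
    LinearMap.GeneralLinearGroup.ofLinearEquiv φ.toLinearEquiv
  let f : N →* (Module.End ℂ (Fin d → ℂ))ˣ := ρ.asGroupHom
  have hT : ∀ n : N, T * f n * T⁻¹ = f (c n) := by
    intro n
    rw [mul_inv_eq_iff_eq_mul]
    apply Units.ext
    have h1 := φ.isIntertwining' n
    simp only [Units.val_mul, T, f, Representation.asGroupHom_apply]
    exact h1
  have hT' : ∀ x ∈ N, T * fext N f x * T⁻¹ = fext N f (g₀ * x * g₀⁻¹) := by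
    intro x hx
    rw [fext_mem N f hx, fext_mem N f (hN.conj_mem x hx g₀), hT ⟨x, hx⟩, hc]
  -- `S = f(g₀^m)⁻¹ T^m` commutes with `f(N)`
  set a : N := ⟨g₀ ^ m, hm'⟩ with ha
  set S : (Module.End ℂ (Fin d → ℂ))ˣ := (f a)⁻¹ * T ^ m with hS
  have hScomm : ∀ n : N, S * f n = f n * S := by
    intro n
    have h1 := conj_zpow N f hT' (m : ℤ) n.2
    rw [zpow_natCast, fext_mem N f n.2, fext_mem N f (hN.conj_mem n n.2 (g₀ ^ (m : ℤ)))] at h1
    have h2 : (⟨g₀ ^ (m : ℤ) * (n : G) * (g₀ ^ (m : ℤ))⁻¹,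
        hN.conj_mem n n.2 (g₀ ^ (m : ℤ))⟩ : N) = a * n * a⁻¹ := by
      apply Subtype.ext
      simp [ha]
    rw [h2, map_mul, map_mul, map_inv] at h1
    -- T^m f n T^-m = f a f n (f a)⁻¹
    rw [hS]
    calc (f a)⁻¹ * T ^ m * f n = (f a)⁻¹ * (T ^ m * f n * (T ^ m)⁻¹) * T ^ m := by group
      _ = (f a)⁻¹ * (f a * f n * (f a)⁻¹) * T ^ m := by rw [h1]
      _ = f n * ((f a)⁻¹ * T ^ m) := by group
  -- Schur: `S` is a scalar
  obtain ⟨c₀, hc₀⟩ := Cfsg.Agent.Lib.Helper25.schur_scalar ρ hρ (S : Module.End ℂ (Fin d → ℂ))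
    (by
      intro n
      have h1 := congrArg Units.val (hScomm n)
      simp only [Units.val_mul, f, Representation.asGroupHom_apply] at h1
      exact h1)
  haveI hV : Nontrivial (Fin d → ℂ) := nontrivial_of_isIrreducible ρ
  have hc₀ne : c₀ ≠ 0 := by
    rintro rfl
    rw [zero_smul] at hc₀
    exact S.ne_zero hc₀
  obtain ⟨c₁, hc₁⟩ := IsAlgClosed.exists_pow_nat_eq c₀ hmpos
  have hc₁ne : c₁ ≠ 0 := by
    rintro rfl
    rw [zero_pow hmpos.ne'] at hc₁
    exact hc₀ne hc₁.symm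
  -- the central unit `z` with `z ^ m = S`
  let z : (Module.End ℂ (Fin d → ℂ))ˣ :=
    Units.map (algebraMap ℂ (Module.End ℂ (Fin d → ℂ)) : ℂ →* Module.End ℂ (Fin d → ℂ))
      (Units.mk0 c₁ hc₁ne)
  have hzc : ∀ γ : (Module.End ℂ (Fin d → ℂ))ˣ, z * γ = γ * z := by
    intro γ
    apply Units.ext
    simp only [Units.val_mul, z, Units.coe_map, Units.val_mk0, MonoidHom.coe_coe]
    exact Algebra.commutes c₁ (γ : Module.End ℂ (Fin d → ℂ))
  have hzm : z ^ m = S := by
    apply Units.ext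
    simp only [Units.val_pow_eq_pow_val, z, Units.coe_map, Units.val_mk0, MonoidHom.coe_coe]
    rw [← map_pow, hc₁, hc₀, Algebra.algebraMap_eq_smul_one]
    rfl
  set t : (Module.End ℂ (Fin d → ℂ))ˣ := z⁻¹ * T with ht
  have hzinv : ∀ γ : (Module.End ℂ (Fin d → ℂ))ˣ, z⁻¹ * γ = γ * z⁻¹ := by
    intro γ
    have := hzc γ
    calc z⁻¹ * γ = z⁻¹ * (γ * z) * z⁻¹ := by group
      _ = z⁻¹ * (z * γ) * z⁻¹ := by rw [this]
      _ = γ * z⁻¹ := by group
  have hconj : ∀ n : N, t * f n * t⁻¹ = f ⟨g₀ * n * g₀⁻¹, hN.conj_mem n n.2 g₀⟩ := by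
    intro n
    rw [← hc, ← hT n, ht]
    calc z⁻¹ * T * f n * (z⁻¹ * T)⁻¹ = z⁻¹ * (T * f n * T⁻¹) * z := by group
      _ = (T * f n * T⁻¹) * z⁻¹ * z := by rw [hzinv]
      _ = T * f n * T⁻¹ := by group
  have hTa : Commute T (f a) := by
    have h1 := hT a
    have h2 : c a = a := by
      rw [hc]
      apply Subtype.ext
      simp only [ha]
      group
    rw [h2] at h1
    unfold Commute SemiconjBy
    calc T * f a = (T * f a * T⁻¹) * T := by group
      _ = f a * T := by rw [h1]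
  have htm : t ^ m = f ⟨g₀ ^ m, hm'⟩ := by
    have h1 : Commute z⁻¹ T := hzinv T
    rw [ht, h1.mul_pow, inv_pow, hzm, hS, mul_inv_rev, inv_inv]
    have h2 : Commute (T ^ m) (f a) := hTa.pow_left m
    calc (T ^ m)⁻¹ * f a * T ^ m = (T ^ m)⁻¹ * (f a * T ^ m) := by group
      _ = (T ^ m)⁻¹ * (T ^ m * f a) := by rw [h2.eq]
      _ = f a := by group
  obtain ⟨F, hFN, _⟩ := exists_hom_extension hgen hpow hm' hconj htm
  -- the extended representation
  let σ : Representation ℂ G (Fin d → ℂ) :=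
    (Units.coeHom (Module.End ℂ (Fin d → ℂ))).comp F
  have hσN : ∀ n : N, σ (n : G) = ρ n := by
    intro n
    change ((F (n : G) : (Module.End ℂ (Fin d → ℂ))ˣ) : Module.End ℂ (Fin d → ℂ)) = ρ n
    rw [hFN n]
    exact Representation.asGroupHom_apply ρ n
  have hσirr : σ.IsIrreducible := by
    have : Nontrivial (Subrepresentation σ) := by
      refine ⟨⊥, ⊤, ?_⟩
      intro h
      have h2 : (⊥ : Subrepresentation σ).toSubmodule
          = (⊤ : Subrepresentation σ).toSubmodule := by rw [h]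
      change (⊥ : Submodule ℂ (Fin d → ℂ)) = ⊤ at h2
      obtain ⟨v, hv⟩ := exists_ne (0 : Fin d → ℂ)
      have : v ∈ (⊥ : Submodule ℂ (Fin d → ℂ)) := by rw [h2]; trivial
      exact hv (by simpa using this)
    refine ⟨fun U => ?_⟩
    let U' : Subrepresentation ρ :=
      { toSubmodule := U.toSubmodule
        apply_mem_toSubmodule := by
          intro n v hv
          rw [← hσN n]
          exact U.apply_mem_toSubmodule (n : G) hv }
    rcases eq_bot_or_eq_top U' with h | h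
    · left
      apply Subrepresentation.toSubmodule_injective
      have h2 : U'.toSubmodule = (⊥ : Subrepresentation ρ).toSubmodule := by rw [h]
      exact h2
    · right
      apply Subrepresentation.toSubmodule_injective
      have h2 : U'.toSubmodule = (⊤ : Subrepresentation ρ).toSubmodule := by rw [h]
      exact h2
  refine ⟨σ.character, ⟨d, σ, hσirr, rfl⟩, ?_⟩
  intro n
  change LinearMap.trace ℂ _ (σ (n : G)) = LinearMap.trace ℂ _ (ρ n)
  rw [hσN n]

end CyclicExt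
end Cfsg.Agent.Lib.Helper2
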