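import Mathlib
import Cfsg.Prelude.Def_Characters
import Cfsg.Agent.Lib.Helper2.Clifford
import Cfsg.Agent.Lib.Helper2.Linear
import Cfsg.Agent.Lib.Helper2.Induction
import Cfsg.Agent.Lib.Helper25.ItoMichler
import Cfsg.Agent.Lib.Helper25.MinNormal
import Cfsg.Agent.Lib.Helper7.VanishDiv
import Cfsg.Agent.Lib.Helper11.Clifford2

/-!
# Going down (Isaacs 6.18) in an abstract form

`N ⊴ K` with `K/N` abelian, `ϑ ∈ Irr(K)` invariant under a set `A` of automorphisms of `K`
that stabilize `N`; if no `A`-invariant subgroup lies strictly between `N` and `K`, then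
`ϑ_N` is irreducible, or `e•φ` with `e² = [K:N]`, or a sum of `[K:N]` distinct irreducibles.
-/

set_option autoImplicit false
set_option linter.style.haveILetI false
set_option linter.unusedSectionVars false

namespace Cfsg.Agent.Lib.Helper2

namespace GoingDown

open Cfsg
open scoped ComplexConjugate

variable {K : Type*} [Group K] [Fintype K] (N : Subgroup K) [Fintype N]

/-- sum of squared absolute values of an irreducible character -/
theorem sum_mul_conj_eq_card {ϑ : K → ℂ} (hϑ : Cfsg.IsIrrCharacter K ϑ) :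
    ∑ k : K, ϑ k * conj (ϑ k) = (Nat.card K : ℂ) := by
  have h1 := classInner_irrCharacter_self (⟨ϑ, hϑ⟩ : Cfsg.IrrCharacter K)
  rw [classInner_def] at h1
  have hne : (Nat.card K : ℂ) ≠ 0 := card_ne_zero_complex
  have h2 : ∑ k : K, ϑ k * conj (ϑ k) = (Nat.card K : ℂ) * ((Nat.card K : ℂ)⁻¹ *
      ∑ k : K, ϑ k * conj (ϑ k)) := by
    rw [← mul_assoc, mul_inv_cancel₀ hne, one_mul]
  rw [h2]
  simp only at h1
  rw [h1, mul_one]

/-- `⟨ϑ_N, ϑ_N⟩` as a sum over `K` -/
theorem classInner_restrict_self (ϑ : K → ℂ) :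
    Cfsg.classInner (fun x : N => ϑ x) (fun x : N => ϑ x) =
      (Nat.card N : ℂ)⁻¹ * ∑ k : K, Cfsg.extendByZero N (fun x : N => ϑ x * conj (ϑ x)) k := by
  rw [classInner_def, sum_extendByZero]

/-- real version: the restricted norm is at most the index -/
theorem classInner_restrict_self_le {ϑ : K → ℂ} (hϑ : Cfsg.IsIrrCharacter K ϑ) (m : ℕ)
    (hm : Cfsg.classInner (fun x : N => ϑ x) (fun x : N => ϑ x) = (m : ℂ)) :
    m ≤ N.index := by
  classical
  have h1 := classInner_restrict_self N ϑ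
  rw [hm] at h1
  have hNne : (Nat.card N : ℂ) ≠ 0 := by
    exact_mod_cast (Nat.card_pos (α := N)).ne'
  have h2 : (m : ℂ) * (Nat.card N : ℂ) =
      ∑ k : K, Cfsg.extendByZero N (fun x : N => ϑ x * conj (ϑ x)) k := by
    rw [h1, mul_comm, ← mul_assoc, mul_inv_cancel₀ hNne, one_mul]
  have h3 : ∀ k : K, Cfsg.extendByZero N (fun x : N => ϑ x * conj (ϑ x)) k =
      ((if k ∈ N then ‖ϑ k‖ ^ 2 else 0 : ℝ) : ℂ) := by
    intro k
    by_cases hk : k ∈ N
    · rw [extendByZero_of_mem N _ hk, if_pos hk, Complex.mul_conj, Complex.normSq_eq_norm_sq]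
    · rw [extendByZero_of_not_mem N _ hk, if_neg hk]
      simp
  have h4 : ∀ k : K, ϑ k * conj (ϑ k) = ((‖ϑ k‖ ^ 2 : ℝ) : ℂ) := by
    intro k
    rw [Complex.mul_conj, Complex.normSq_eq_norm_sq]
  have h5 := sum_mul_conj_eq_card hϑ
  rw [Finset.sum_congr rfl (fun k _ => h4 k)] at h5
  rw [Finset.sum_congr rfl (fun k _ => h3 k)] at h2
  have h6 : ((m : ℝ) * (Nat.card N : ℝ)) = ∑ k : K, (if k ∈ N then ‖ϑ k‖ ^ 2 else 0 : ℝ) := by
    exact_mod_cast h2
  have h7 : (∑ k : K, ‖ϑ k‖ ^ 2 : ℝ) = (Nat.card K : ℝ) := by exact_mod_cast h5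
  have h8 : ∑ k : K, (if k ∈ N then ‖ϑ k‖ ^ 2 else 0 : ℝ) ≤ ∑ k : K, ‖ϑ k‖ ^ 2 := by
    apply Finset.sum_le_sum
    intro k _
    split_ifs
    · exact le_refl _
    · positivity
  have h9 : (m : ℝ) * (Nat.card N : ℝ) ≤ (Nat.card K : ℝ) := by
    rw [h6, ← h7]; exact h8
  have h10 : m * Nat.card N ≤ Nat.card K := by exact_mod_cast h9
  rw [← N.index_mul_card] at h10
  exact Nat.le_of_mul_le_mul_right h10 Nat.card_pos

/-- if `ϑ` vanishes off `N` the restricted norm equals the index -/
theorem classInner_restrict_self_eq {ϑ : K → ℂ} (hϑ : Cfsg.IsIrrCharacter K ϑ)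
    (hvan : ∀ k : K, k ∉ N → ϑ k = 0) :
    Cfsg.classInner (fun x : N => ϑ x) (fun x : N => ϑ x) = (N.index : ℂ) := by
  classical
  rw [classInner_restrict_self N ϑ]
  have h3 : ∀ k : K, Cfsg.extendByZero N (fun x : N => ϑ x * conj (ϑ x)) k =
      ϑ k * conj (ϑ k) := by
    intro k
    by_cases hk : k ∈ N
    · rw [extendByZero_of_mem N _ hk]
    · rw [extendByZero_of_not_mem N _ hk, hvan k hk, zero_mul]
  rw [Finset.sum_congr rfl (fun k _ => h3 k), sum_mul_conj_eq_card hϑ]
  have hNne : (Nat.card N : ℂ) ≠ 0 := by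
    exact_mod_cast (Nat.card_pos (α := N)).ne'
  rw [← N.index_mul_card]
  push_cast
  field_simp

/-- if only the trivial linear character of `K/N` fixes `ϑ`, then `ϑ_N` is irreducible
(norm one) -/
theorem classInner_restrict_self_eq_one [N.Normal] {ϑ : K → ℂ} (hϑ : Cfsg.IsIrrCharacter K ϑ)
    (hab : ∀ a b : K ⧸ N, a * b = b * a)
    (hW : ∀ lam : K →* ℂˣ, (∀ x ∈ N, lam x = 1) → (∀ k, ϑ k ≠ 0 → lam k = 1) → lam = 1) :
    Cfsg.classInner (fun x : N => ϑ x) (fun x : N => ϑ x) = 1 := by
  classical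
  haveI : Finite ((K ⧸ N) →* ℂˣ) := by
    apply Nat.finite_of_card_ne_zero
    rw [Cfsg.Agent.Lib.Helper7.card_linChar_of_comm' hab]
    exact Nat.card_pos.ne'
  haveI : Fintype ((K ⧸ N) →* ℂˣ) := Fintype.ofFinite _
  rw [classInner_restrict_self N ϑ]
  have hQne : (Nat.card (K ⧸ N) : ℂ) ≠ 0 := by
    exact_mod_cast (Nat.card_pos (α := K ⧸ N)).ne'
  have hNne : (Nat.card N : ℂ) ≠ 0 := by
    exact_mod_cast (Nat.card_pos (α := N)).ne'
  -- the linear character of `K` attached to `lam : K ⧸ N →* ℂˣ`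
  set L : ((K ⧸ N) →* ℂˣ) → K → ℂ := fun lam k => ((lam (k : K ⧸ N) : ℂˣ) : ℂ) with hL
  have hLchar : ∀ lam, Cfsg.IsCharacter K (L lam) ∧ L lam 1 = 1 := by
    intro lam
    constructor
    · exact IsIrrCharacter.isCharacter
        (isIrrCharacter_of_monoidHom (lam.comp (QuotientGroup.mk' N)))
    · simp [hL]
  have hLirr : ∀ lam, Cfsg.IsIrrCharacter K (L lam * ϑ) := fun lam =>
    Cfsg.Agent.Lib.Helper25.isIrrCharacter_linear_mul (hLchar lam).1 (hLchar lam).2 hϑ
  have h3 : ∀ k : K, Cfsg.extendByZero N (fun x : N => ϑ x * conj (ϑ x)) k =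
      (Nat.card (K ⧸ N) : ℂ)⁻¹ * ∑ lam : (K ⧸ N) →* ℂˣ, (L lam * ϑ) k * conj (ϑ k) := by
    intro k
    have h4 := Cfsg.Agent.Lib.Helper7.sum_linChar_apply hab (k : K ⧸ N)
    have h5 : ∑ lam : (K ⧸ N) →* ℂˣ, (L lam * ϑ) k * conj (ϑ k) =
        (∑ lam : (K ⧸ N) →* ℂˣ, ((lam (k : K ⧸ N) : ℂˣ) : ℂ)) * (ϑ k * conj (ϑ k)) := by
      rw [Finset.sum_mul]
      apply Finset.sum_congr rfl
      intro lam _
      simp only [hL, Pi.mul_apply]
      ring
    rw [h5, h4]
    by_cases hk : k ∈ N
    · rw [extendByZero_of_mem N _ hk, if_pos ((QuotientGroup.eq_one_iff k).mpr hk)]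
      field_simp
    · rw [extendByZero_of_not_mem N _ hk,
        if_neg (fun h => hk ((QuotientGroup.eq_one_iff k).mp h))]
      simp
  rw [Finset.sum_congr rfl (fun k _ => h3 k), ← Finset.mul_sum, Finset.sum_comm]
  have h6 : ∀ lam : (K ⧸ N) →* ℂˣ, ∑ k : K, (L lam * ϑ) k * conj (ϑ k) =
      (Nat.card K : ℂ) * (if lam = 1 then 1 else 0) := by
    intro lam
    have h7 := classInner_irrCharacter (⟨L lam * ϑ, hLirr lam⟩ : Cfsg.IrrCharacter K)
      (⟨ϑ, hϑ⟩ : Cfsg.IrrCharacter K)
    rw [classInner_def] at h7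
    simp only at h7
    have hKne : (Nat.card K : ℂ) ≠ 0 := card_ne_zero_complex
    have h8 : ∑ k : K, (L lam * ϑ) k * conj (ϑ k) = (Nat.card K : ℂ) *
        ((Nat.card K : ℂ)⁻¹ * ∑ k : K, (L lam * ϑ) k * conj (ϑ k)) := by
      rw [← mul_assoc, mul_inv_cancel₀ hKne, one_mul]
    rw [h8, h7]
    congr 1
    by_cases hlam : lam = 1
    · rw [if_pos hlam, if_pos]
      apply Subtype.ext
      funext k
      simp [hL, hlam]
    · rw [if_neg hlam, if_neg]
      intro heq
      apply hlam
      have heq' : L lam * ϑ = ϑ := congrArg Subtype.val heq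
      have h9 : lam.comp (QuotientGroup.mk' N) = 1 := by
        apply hW
        · intro x hx
          rw [MonoidHom.comp_apply, QuotientGroup.mk'_apply, (QuotientGroup.eq_one_iff x).mpr hx,
            map_one]
        · intro k hk
          have h10 := congrFun heq' k
          simp only [hL, Pi.mul_apply] at h10
          have h11 : ((lam (k : K ⧸ N) : ℂˣ) : ℂ) = 1 := by
            have := mul_right_cancel₀ hk (h10.trans (one_mul _).symm)
            exact this
          rw [MonoidHom.comp_apply, QuotientGroup.mk'_apply]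
          exact Units.ext h11
      apply MonoidHom.ext
      intro q
      obtain ⟨k, rfl⟩ := QuotientGroup.mk_surjective q
      have := DFunLike.congr_fun h9 k
      simpa using this
  rw [Finset.sum_congr rfl (fun lam _ => h6 lam), ← Finset.mul_sum]
  simp only [Finset.sum_ite_eq', Finset.mem_univ, if_true]
  have hcard : (Nat.card K : ℂ) = (Nat.card (K ⧸ N) : ℂ) * (Nat.card N : ℂ) := by
    rw [← N.index_mul_card, Subgroup.index_eq_card]
    push_cast
    ring
  rw [hcard]
  field_simp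

attribute [local instance] Cfsg.Agent.Lib.Helper25.conjIrrAction

/-- **Going down** (Isaacs 6.18), abstract form. -/
theorem going_down [hN : N.Normal] (hab : ∀ a b : K ⧸ N, a * b = b * a)
    (A : Set (K ≃* K)) (hAN : ∀ α ∈ A, ∀ x ∈ N, α x ∈ N)
    {ϑ : K → ℂ} (hϑ : Cfsg.IsIrrCharacter K ϑ) (hAϑ : ∀ α ∈ A, ∀ k, ϑ (α k) = ϑ k)
    (hchief : ∀ M : Subgroup K, N ≤ M → (∀ α ∈ A, ∀ x ∈ M, α x ∈ M) → M = N ∨ M = ⊤) :
    Cfsg.IsIrrCharacter N (fun x : N => ϑ x) ∨
    (∃ (φ : N → ℂ) (e : ℕ), Cfsg.IsIrrCharacter N φ ∧ (fun x : N => ϑ x) = (e : ℂ) • φ ∧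
      e ^ 2 = N.index) ∨
    (∃ F : Finset (N → ℂ), (∀ φ ∈ F, Cfsg.IsIrrCharacter N φ) ∧ F.card = N.index ∧
      (fun x : N => ϑ x) = ∑ φ ∈ F, φ) := by
  classical
  haveI : Fintype (Cfsg.IrrCharacter N) := Fintype.ofFinite _
  set r : N → ℂ := fun x : N => ϑ x with hr
  have hrchar : Cfsg.IsCharacter N r := IsCharacter.restrict (IsIrrCharacter.isCharacter hϑ) N
  have hr0 : r ≠ 0 := by
    intro h
    have := congrFun h 1
    simp only [hr, Pi.zero_apply] at this
    exact IsIrrCharacter.apply_one_ne_zero hϑ this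
  obtain ⟨φ, Ψ, hΨ, hrφ⟩ := exists_irr_add_of_ne_zero hrchar hr0
  obtain ⟨e, he⟩ := classInner_isCharacter_nat hrchar (IsIrrCharacter.isCharacter φ.2)
  have he0 : e ≠ 0 := by
    intro h0
    rw [h0, hrφ, classInner_add_left, classInner_irrCharacter_self] at he
    obtain ⟨n, hn⟩ := classInner_isCharacter_nat hΨ (IsIrrCharacter.isCharacter φ.2)
    rw [hn] at he
    have : (1 + n : ℕ) = 0 := by exact_mod_cast he
    omega
  have hene : Cfsg.classInner r (φ : N → ℂ) ≠ 0 := by
    rw [he]; exact_mod_cast he0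
  have hcl := clifford_restriction N hϑ φ.2 hene
  rw [he] at hcl
  -- the orbit as a finset
  set O : Set (Cfsg.IrrCharacter N) := MulAction.orbit K φ with hO
  have hOfin : O.Finite := Set.toFinite O
  set Sfin : Finset (Cfsg.IrrCharacter N) := hOfin.toFinset with hSfin
  have hsum : (∑ᶠ ψ ∈ {ψ : N → ℂ | ∃ g : K, ψ = conjFun N g (φ : N → ℂ)}, ψ) =
      ∑ θ ∈ Sfin, (θ : N → ℂ) := by
    have hS : {ψ : N → ℂ | ∃ g : K, ψ = conjFun N g (φ : N → ℂ)} = Subtype.val '' O := by
      ext ψ
      constructor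
      · rintro ⟨g, rfl⟩
        refine ⟨g⁻¹ • φ, ⟨g⁻¹, rfl⟩, ?_⟩
        rw [Cfsg.Agent.Lib.Helper25.conjIrrAction_smul_coe, inv_inv]
      · rintro ⟨θ, ⟨g, rfl⟩, rfl⟩
        exact ⟨g⁻¹, rfl⟩
    rw [hS, finsum_mem_image (Subtype.val_injective.injOn),
      finsum_mem_eq_finite_toFinset_sum _ hOfin]
  rw [hsum] at hcl
  change r = _ at hcl
  have hφmem : φ ∈ Sfin := by
    rw [hSfin, Set.Finite.mem_toFinset]
    exact MulAction.mem_orbit_self φ
  -- inner products with irreducibles
  have hinner : ∀ θ' : Cfsg.IrrCharacter N, Cfsg.classInner r (θ' : N → ℂ) =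
      if θ' ∈ Sfin then (e : ℂ) else 0 := by
    intro θ'
    rw [hcl, classInner_smul_left, classInner_sum_left]
    have : ∀ θ ∈ Sfin, Cfsg.classInner (θ : N → ℂ) (θ' : N → ℂ) = if θ = θ' then 1 else 0 :=
      fun θ _ => classInner_irrCharacter θ θ'
    rw [Finset.sum_congr rfl this, Finset.sum_ite_eq' Sfin θ']
    split_ifs <;> simp
  have hnorm : Cfsg.classInner r r = ((e ^ 2 * Sfin.card : ℕ) : ℂ) := by
    have h1 : Cfsg.classInner r r =
        Cfsg.classInner r ((e : ℂ) • ∑ θ ∈ Sfin, (θ : N → ℂ)) := by rw [← hcl]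
    rw [h1, classInner_smul_right, classInner_sum_right]
    have : ∀ θ ∈ Sfin, Cfsg.classInner r (θ : N → ℂ) = (e : ℂ) := by
      intro θ hθ
      rw [hinner θ, if_pos hθ]
    rw [Finset.sum_congr rfl this, Finset.sum_const, nsmul_eq_mul]
    push_cast
    simp only [Complex.conj_natCast]
    ring
  -- the stabilizer
  set I : Subgroup K := MulAction.stabilizer K φ with hI
  have hNI : N ≤ I := Cfsg.Agent.Lib.Helper25.le_stabilizer_conjIrr N φ
  have hcardS : Sfin.card = I.index := by
    rw [hI, MulAction.index_stabilizer, hSfin, Set.ncard_eq_toFinset_card O hOfin]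
  have hcomm : ∀ a b : K, a * b * a⁻¹ * b⁻¹ ∈ N := by
    intro a b
    rw [← QuotientGroup.eq_one_iff]
    have := hab (a : K ⧸ N) (b : K ⧸ N)
    simp only [QuotientGroup.mk_mul, QuotientGroup.mk_inv]
    rw [this]
    group
  have hInormal : I.Normal := by
    constructor
    intro k hk g
    have : g * k * g⁻¹ = (g * k * g⁻¹ * k⁻¹) * k := by group
    rw [this]
    exact I.mul_mem (hNI (hcomm g k)) hk
  -- `I` is `A`-invariant
  have hIinv : ∀ α ∈ A, ∀ x ∈ I, α x ∈ I := by
    intro α hα k hk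
    -- the restriction of `α` to `N`
    let αN₀ : N →* N :=
      { toFun := fun x => ⟨α x, hAN α hα x x.2⟩
        map_one' := by apply Subtype.ext; simp
        map_mul' := by intro x y; apply Subtype.ext; simp }
    have hαinj : Function.Injective αN₀ := by
      intro x y hxy
      have := congrArg Subtype.val hxy
      apply Subtype.ext
      exact α.injective this
    have hαbij : Function.Bijective αN₀ := Finite.injective_iff_bijective.mp hαinj
    let αN : N ≃* N := MulEquiv.ofBijective αN₀ hαbij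
    have hαN : ∀ x : N, ((αN x : N) : K) = α x := fun x => rfl
    have hφα : Cfsg.IsIrrCharacter N ((φ : N → ℂ) ∘ αN) :=
      Cfsg.Agent.Lib.Helper11.isIrrCharacter_comp_equiv αN φ.2
    set θ' : Cfsg.IrrCharacter N := ⟨(φ : N → ℂ) ∘ αN, hφα⟩ with hθ'
    have hrα : r ∘ αN = r := by
      funext x
      simp only [hr, Function.comp_apply, hαN]
      exact hAϑ α hα x
    have hin : Cfsg.classInner r (θ' : N → ℂ) = (e : ℂ) := by
      rw [← he]
      conv_lhs => rw [← hrα]
      rw [classInner_def, classInner_def]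
      congr 1
      exact Equiv.sum_comp αN.toEquiv (fun x => r x * conj ((φ : N → ℂ) x))
    have hθ'mem : θ' ∈ Sfin := by
      by_contra hnot
      rw [hinner θ', if_neg hnot] at hin
      exact he0 (by exact_mod_cast hin.symm)
    rw [hSfin, Set.Finite.mem_toFinset] at hθ'mem
    obtain ⟨k₀, hk₀⟩ := hθ'mem
    have hstab : MulAction.stabilizer K θ' = I := by
      rw [← hk₀]
      simp only
      rw [MulAction.stabilizer_smul_eq_stabilizer_map_conj]
      apply le_antisymm
      · rintro _ ⟨y, hy, rfl⟩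
        exact hInormal.conj_mem y hy k₀
      · intro y hy
        refine ⟨k₀⁻¹ * y * k₀, ?_, ?_⟩
        · have := hInormal.conj_mem y hy k₀⁻¹
          rw [inv_inv] at this
          exact this
        · simp [MulAut.conj_apply]
          group
    have hk' : k ∈ MulAction.stabilizer K θ' := by rw [hstab]; exact hk
    rw [Cfsg.Agent.Lib.Helper25.mem_stabilizer_conjIrr_iff] at hk'
    rw [hI, Cfsg.Agent.Lib.Helper25.mem_stabilizer_conjIrr_iff]
    funext n
    obtain ⟨n', rfl⟩ := hαbij.2 n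
    have h1 := congrFun hk' n'
    simp only [hθ', conjFun_apply, Function.comp_apply] at h1
    rw [conjFun_apply]
    have h2 : (⟨α k * ((αN₀ n' : N) : K) * (α k)⁻¹, hN.conj_mem _ (αN₀ n').2 (α k)⟩ : N) =
        αN ⟨k * (n' : K) * k⁻¹, hN.conj_mem _ n'.2 k⟩ := by
      apply Subtype.ext
      rw [hαN]
      show α k * α n' * (α k)⁻¹ = α (k * n' * k⁻¹)
      rw [map_mul, map_mul, map_inv]
    rw [h2]
    exact h1
  -- the subgroup generated by `N` and the support of `ϑ`
  set W : Subgroup K := N ⊔ Subgroup.closure {k : K | ϑ k ≠ 0} with hW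
  have hWinv : ∀ α ∈ A, ∀ x ∈ W, α x ∈ W := by
    intro α hα
    have : W ≤ W.comap α.toMonoidHom := by
      rw [hW]
      apply sup_le
      · intro x hx
        exact Subgroup.mem_comap.mpr (Subgroup.mem_sup_left (hAN α hα x hx))
      · rw [Subgroup.closure_le]
        intro x hx
        apply Subgroup.mem_comap.mpr
        apply Subgroup.mem_sup_right
        apply Subgroup.subset_closure
        show ϑ (α x) ≠ 0
        rw [hAϑ α hα]
        exact hx
    intro x hx
    exact this hx
  have hrn : ∃ m : ℕ, Cfsg.classInner r r = (m : ℂ) := ⟨_, hnorm⟩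
  rcases hchief I hNI hIinv with hIN | hItop
  · -- third alternative
    right; right
    have ht : Sfin.card = N.index := by rw [hcardS, hIN]
    have hle := classInner_restrict_self_le N hϑ _ hnorm
    rw [ht] at hle
    have hidx : 0 < N.index := Nat.pos_of_ne_zero Subgroup.index_ne_zero_of_finite
    have he1 : e = 1 := by
      have h1 : e ^ 2 ≤ 1 := by
        by_contra hcon
        push Not at hcon
        have : N.index < e ^ 2 * N.index := by nlinarith
        omega
      have h2 : 0 < e := Nat.pos_of_ne_zero he0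
      nlinarith
    refine ⟨Sfin.image Subtype.val, ?_, ?_, ?_⟩
    · intro ψ hψ
      rw [Finset.mem_image] at hψ
      obtain ⟨θ, _, rfl⟩ := hψ
      exact θ.2
    · rw [Finset.card_image_of_injective _ Subtype.val_injective, ht]
    · rw [Finset.sum_image (fun a _ b _ h => Subtype.val_injective h)]
      show r = _
      rw [hcl, he1]
      simp
  · have ht : Sfin.card = 1 := by rw [hcardS, hItop, Subgroup.index_top]
    have hSeq : Sfin = {φ} := by
      obtain ⟨a, ha⟩ := Finset.card_eq_one.mp ht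
      rw [ha] at hφmem ⊢
      rw [Finset.mem_singleton] at hφmem
      rw [hφmem]
    have hcl' : r = (e : ℂ) • (φ : N → ℂ) := by
      rw [hcl, hSeq, Finset.sum_singleton]
    rw [ht, mul_one] at hnorm
    rcases hchief W le_sup_left hWinv with hWN | hWtop
    · -- second alternative
      right; left
      have hvan : ∀ k : K, k ∉ N → ϑ k = 0 := by
        intro k hk
        by_contra h0
        apply hk
        rw [← hWN]
        exact Subgroup.mem_sup_right (Subgroup.subset_closure h0)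
      have h1 := classInner_restrict_self_eq N hϑ hvan
      have h2 : ((e ^ 2 : ℕ) : ℂ) = (N.index : ℂ) := by rw [← hnorm, ← h1]
      refine ⟨φ, e, φ.2, hcl', ?_⟩
      exact_mod_cast h2
    · -- first alternative
      left
      have h1 : Cfsg.classInner r r = 1 := by
        apply classInner_restrict_self_eq_one N hϑ hab
        intro lam hlamN hlams
        have : W ≤ lam.ker := by
          rw [hW]
          apply sup_le
          · intro x hx
            exact MonoidHom.mem_ker.mpr (hlamN x hx)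
          · rw [Subgroup.closure_le]
            intro x hx
            exact MonoidHom.mem_ker.mpr (hlams x hx)
        rw [hWtop] at this
        apply MonoidHom.ext
        intro k
        exact MonoidHom.mem_ker.mp (this (Subgroup.mem_top k))
      rw [hnorm] at h1
      have he1 : e = 1 := by
        have h2 : e ^ 2 = 1 := by exact_mod_cast h1
        have h3 : 0 < e := Nat.pos_of_ne_zero he0
        nlinarith
      show Cfsg.IsIrrCharacter N r
      rw [hcl', he1]
      simp only [Nat.cast_one, one_smul]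
      exact φ.2

end GoingDown

end Cfsg.Agent.Lib.Helper2
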