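import Mathlib

/-!
# The collection formula in groups of class three (helper2 library)

If `c = ⁅b, a⁆`, and `d = ⁅c, a⁆`, `e = ⁅c, b⁆` are central, then
`(a * b) ^ n = a ^ n * b ^ n * c ^ (n choose 2) * d ^ ((n+1) choose 3) * e ^ (2 * ((n+1) choose 3))`.
Consequence: in a `p`-group of class at most three with `p > 3` the elements of order dividing `p`
form a subgroup.
-/

set_option autoImplicit false

namespace Cfsg.Agent.Lib.Helper2

namespace ClassThree

variable {G : Type*} [Group G]

/-- if `x * y = z • (y * x)` with `z` central then `x * y ^ j = z ^ j • (y ^ j * x)` -/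
theorem mul_pow_of_central {x y : G} (z : Subgroup.center G) (h : x * y = z • (y * x)) (j : ℕ) :
    x * y ^ j = (z ^ j) • (y ^ j * x) := by
  induction j with
  | zero => simp
  | succ j ih =>
    calc x * y ^ (j + 1) = (x * y ^ j) * y := by rw [pow_succ, mul_assoc]
      _ = (z ^ j) • (y ^ j * (x * y)) := by rw [ih, smul_mul_assoc, mul_assoc]
      _ = (z ^ j) • (y ^ j * (z • (y * x))) := by rw [h]
      _ = (z ^ (j + 1)) • (y ^ (j + 1) * x) := by
        rw [mul_smul_comm, smul_smul, ← pow_succ, ← mul_assoc, ← pow_succ]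

/-- if `x * y = z • (y * x)` with `z` central then `x ^ k * y = z ^ k • (y * x ^ k)` -/
theorem pow_mul_of_central {x y : G} (z : Subgroup.center G) (h : x * y = z • (y * x)) (k : ℕ) :
    x ^ k * y = (z ^ k) • (y * x ^ k) := by
  induction k with
  | zero => simp
  | succ k ih =>
    calc x ^ (k + 1) * y = x * (x ^ k * y) := by rw [pow_succ', mul_assoc]
      _ = x * ((z ^ k) • (y * x ^ k)) := by rw [ih]
      _ = (z ^ k) • ((x * y) * x ^ k) := by rw [mul_smul_comm, mul_assoc]
      _ = (z ^ k) • ((z • (y * x)) * x ^ k) := by rw [h]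
      _ = (z ^ (k + 1)) • (y * x ^ (k + 1)) := by
        rw [smul_mul_assoc, smul_smul, ← pow_succ, mul_assoc, ← pow_succ']

section Formula

variable {a b c : G} {d e : Subgroup.center G}

/-- `b ^ j * a = (d ^ j * e ^ ((j+1) choose 2)) • (a * b ^ j * c ^ j)` -/
theorem pow_mul_left (hc : b * a = c * a * b) (hd : c * a = d • (a * c))
    (he : c * b = e • (b * c)) (j : ℕ) :
    b ^ j * a = (d ^ j * e ^ ((j + 1).choose 2)) • (a * b ^ j * c ^ j) := by
  induction j with
  | zero => simp
  | succ j ih =>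
    have h1 := mul_pow_of_central e he (j + 1)
    calc b ^ (j + 1) * a = b * (b ^ j * a) := by rw [pow_succ', mul_assoc]
      _ = b * ((d ^ j * e ^ ((j + 1).choose 2)) • (a * b ^ j * c ^ j)) := by rw [ih]
      _ = (d ^ j * e ^ ((j + 1).choose 2)) • ((b * a) * b ^ j * c ^ j) := by
        rw [mul_smul_comm]; simp only [mul_assoc]
      _ = (d ^ j * e ^ ((j + 1).choose 2)) • ((c * a) * b ^ (j + 1) * c ^ j) := by
        rw [hc, pow_succ']; simp only [mul_assoc]
      _ = (d ^ j * e ^ ((j + 1).choose 2)) • ((d • (a * c)) * b ^ (j + 1) * c ^ j) := by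
        rw [hd]
      _ = (d ^ j * e ^ ((j + 1).choose 2) * d) • (a * (c * b ^ (j + 1)) * c ^ j) := by
        rw [smul_mul_assoc, smul_mul_assoc, smul_smul]; simp only [mul_assoc]
      _ = (d ^ j * e ^ ((j + 1).choose 2) * d) •
          (a * ((e ^ (j + 1)) • (b ^ (j + 1) * c)) * c ^ j) := by rw [h1]
      _ = (d ^ j * e ^ ((j + 1).choose 2) * d * e ^ (j + 1)) •
          (a * b ^ (j + 1) * c ^ (j + 1)) := by
        rw [mul_smul_comm, smul_mul_assoc, smul_smul, pow_succ' c j]; simp only [mul_assoc]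
      _ = (d ^ (j + 1) * e ^ ((j + 1 + 1).choose 2)) • (a * b ^ (j + 1) * c ^ (j + 1)) := by
        congr 1
        have : (j + 1 + 1).choose 2 = (j + 1).choose 2 + (j + 1) := by
          rw [Nat.choose_succ_succ' (j + 1) 1, Nat.choose_one_right, add_comm]
        rw [this]
        calc d ^ j * e ^ ((j + 1).choose 2) * d * e ^ (j + 1)
            = (d ^ j * d) * (e ^ ((j + 1).choose 2) * e ^ (j + 1)) := by ac_rfl
          _ = d ^ (j + 1) * e ^ ((j + 1).choose 2 + (j + 1)) := by rw [← pow_succ, ← pow_add]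

/-- right multiplication of a normal form by `a` -/
theorem nf_mul_a (hc : b * a = c * a * b) (hd : c * a = d • (a * c))
    (he : c * b = e • (b * c)) (Z : Subgroup.center G) (i j k : ℕ) :
    (Z • (a ^ i * b ^ j * c ^ k)) * a =
      (Z * d ^ (j + k) * e ^ ((j + 1).choose 2)) • (a ^ (i + 1) * b ^ j * c ^ (j + k)) := by
  have h1 := pow_mul_of_central d hd k
  have h2 := pow_mul_left hc hd he j
  calc (Z • (a ^ i * b ^ j * c ^ k)) * a = Z • (a ^ i * b ^ j * (c ^ k * a)) := by
        rw [smul_mul_assoc]; simp only [mul_assoc]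
    _ = Z • (a ^ i * b ^ j * ((d ^ k) • (a * c ^ k))) := by rw [h1]
    _ = (Z * d ^ k) • (a ^ i * (b ^ j * a) * c ^ k) := by
        rw [mul_smul_comm, smul_smul]; simp only [mul_assoc]
    _ = (Z * d ^ k) • (a ^ i * ((d ^ j * e ^ ((j + 1).choose 2)) • (a * b ^ j * c ^ j)) * c ^ k) := by
        rw [h2]
    _ = (Z * d ^ k * (d ^ j * e ^ ((j + 1).choose 2))) • (a ^ (i + 1) * b ^ j * c ^ (j + k)) := by
        rw [mul_smul_comm, smul_mul_assoc, smul_smul, pow_succ, pow_add]; simp only [mul_assoc]
    _ = (Z * d ^ (j + k) * e ^ ((j + 1).choose 2)) • (a ^ (i + 1) * b ^ j * c ^ (j + k)) := by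
        congr 1
        calc Z * d ^ k * (d ^ j * e ^ ((j + 1).choose 2))
            = Z * (d ^ j * d ^ k) * e ^ ((j + 1).choose 2) := by ac_rfl
          _ = Z * d ^ (j + k) * e ^ ((j + 1).choose 2) := by rw [← pow_add]

/-- right multiplication of a normal form by `b` -/
theorem nf_mul_b (he : c * b = e • (b * c)) (Z : Subgroup.center G) (i j k : ℕ) :
    (Z • (a ^ i * b ^ j * c ^ k)) * b = (Z * e ^ k) • (a ^ i * b ^ (j + 1) * c ^ k) := by
  have h1 := pow_mul_of_central e he k
  calc (Z • (a ^ i * b ^ j * c ^ k)) * b = Z • (a ^ i * b ^ j * (c ^ k * b)) := by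
        rw [smul_mul_assoc]; simp only [mul_assoc]
    _ = Z • (a ^ i * b ^ j * ((e ^ k) • (b * c ^ k))) := by rw [h1]
    _ = (Z * e ^ k) • (a ^ i * b ^ (j + 1) * c ^ k) := by
        rw [mul_smul_comm, smul_smul, pow_succ]; simp only [mul_assoc]

/-- **The collection formula in class three.** -/
theorem mul_pow_formula (hc : b * a = c * a * b) (hd : c * a = d • (a * c))
    (he : c * b = e • (b * c)) (n : ℕ) :
    (a * b) ^ n = (d ^ ((n + 1).choose 3) * e ^ (2 * (n + 1).choose 3)) •
      (a ^ n * b ^ n * c ^ (n.choose 2)) := by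
  induction n with
  | zero =>
    have : Nat.choose 1 3 = 0 := by decide
    simp [this]
  | succ n ih =>
    have e1 : n + n.choose 2 = (n + 1).choose 2 := by
      rw [Nat.choose_succ_succ' n 1, Nat.choose_one_right]
    have e2 : (n + 1 + 1).choose 3 = (n + 1).choose 3 + (n + 1).choose 2 := by
      rw [Nat.choose_succ_succ' (n + 1) 2, add_comm]
    rw [pow_succ, ih, ← mul_assoc, nf_mul_a hc hd he, nf_mul_b he, e1]
    congr 1
    rw [e2]
    calc d ^ ((n + 1).choose 3) * e ^ (2 * (n + 1).choose 3) * d ^ ((n + 1).choose 2) *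
          e ^ ((n + 1).choose 2) * e ^ ((n + 1).choose 2)
        = (d ^ ((n + 1).choose 3) * d ^ ((n + 1).choose 2)) *
          (e ^ (2 * (n + 1).choose 3) * (e ^ ((n + 1).choose 2) * e ^ ((n + 1).choose 2))) := by
          ac_rfl
      _ = d ^ ((n + 1).choose 3 + (n + 1).choose 2) *
          e ^ (2 * ((n + 1).choose 3 + (n + 1).choose 2)) := by
        rw [← pow_add, ← pow_add, ← pow_add]
        congr 2
        ring

end Formula

section Consequence

open scoped commutatorElement

/-- in a group of class at most three, the commutator of an element of the derived subgroup with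
anything is central -/
theorem commutator_mem_center (hcl : ⁅⁅commutator G, (⊤ : Subgroup G)⁆, (⊤ : Subgroup G)⁆ = ⊥)
    {k : G} (hk : k ∈ commutator G) (g : G) : ⁅k, g⁆ ∈ Subgroup.center G := by
  rw [Subgroup.mem_center_iff]
  intro h
  have h1 : ⁅k, g⁆ ∈ ⁅commutator G, (⊤ : Subgroup G)⁆ :=
    Subgroup.commutator_mem_commutator hk (Subgroup.mem_top g)
  have h2 : ⁅⁅k, g⁆, h⁆ ∈ ⁅⁅commutator G, (⊤ : Subgroup G)⁆, (⊤ : Subgroup G)⁆ :=
    Subgroup.commutator_mem_commutator h1 (Subgroup.mem_top h)
  rw [hcl, Subgroup.mem_bot, commutatorElement_eq_one_iff_mul_comm] at h2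
  exact h2.symm

theorem prime_dvd_choose_succ_two {p : ℕ} (hp : p.Prime) (h3 : 3 < p) :
    p ∣ (p + 1).choose 2 := by
  rw [Nat.choose_succ_succ' p 1]
  exact dvd_add (hp.dvd_choose_self (by norm_num) (by omega))
    (hp.dvd_choose_self (by norm_num) (by omega))

theorem prime_dvd_choose_succ_three {p : ℕ} (hp : p.Prime) (h3 : 3 < p) :
    p ∣ (p + 1).choose 3 := by
  rw [Nat.choose_succ_succ' p 2]
  exact dvd_add (hp.dvd_choose_self (by norm_num) (by omega))
    (hp.dvd_choose_self (by norm_num) (by omega))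

/-- **Class three, `p > 3`**: the product of two elements of order dividing `p` has order
dividing `p`. -/
theorem mul_pow_prime_eq_one {p : ℕ} (hp : p.Prime) (h3 : 3 < p)
    (hcl : ⁅⁅commutator G, (⊤ : Subgroup G)⁆, (⊤ : Subgroup G)⁆ = ⊥)
    {a b : G} (ha : a ^ p = 1) (hb : b ^ p = 1) : (a * b) ^ p = 1 := by
  set c : G := ⁅b, a⁆ with hcdef
  have hcmem : c ∈ commutator G := by
    rw [commutator_def]
    exact Subgroup.commutator_mem_commutator (Subgroup.mem_top b) (Subgroup.mem_top a)
  set d : Subgroup.center G := ⟨⁅c, a⁆, commutator_mem_center hcl hcmem a⟩ with hddef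
  set e : Subgroup.center G := ⟨⁅c, b⁆, commutator_mem_center hcl hcmem b⟩ with hedef
  have hc : b * a = c * a * b := by
    rw [hcdef, commutatorElement_def]; group
  have hd : c * a = d • (a * c) := by
    change c * a = ⁅c, a⁆ * (a * c)
    rw [commutatorElement_def]; group
  have he : c * b = e • (b * c) := by
    change c * b = ⁅c, b⁆ * (b * c)
    rw [commutatorElement_def]; group
  -- powers of central elements vanish
  have hpow : ∀ (z : Subgroup.center G) (w : G), w = z • w → z = 1 := by
    intro z w h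
    apply Subtype.ext
    have h' : w = (z : G) * w := h
    have : (z : G) * w = 1 * w := by rw [one_mul]; exact h'.symm
    exact mul_right_cancel this
  have hep : e ^ p = 1 := by
    have h1 := mul_pow_of_central e he p
    rw [hb, mul_one, one_mul] at h1
    exact hpow _ _ h1
  have hdp : d ^ p = 1 := by
    have h1 := mul_pow_of_central d hd p
    rw [ha, mul_one, one_mul] at h1
    exact hpow _ _ h1
  have hpow_dvd : ∀ (z : Subgroup.center G) (m : ℕ), z ^ p = 1 → p ∣ m → z ^ m = 1 := by
    intro z m hz ⟨r, hr⟩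
    rw [hr, pow_mul, hz, one_pow]
  have hcp : c ^ p = 1 := by
    have h1 := pow_mul_left hc hd he p
    rw [hb, hdp, hpow_dvd e _ hep (prime_dvd_choose_succ_two hp h3), one_mul, one_mul, one_smul,
      mul_one] at h1
    exact mul_left_cancel (a := a) (by rw [mul_one]; exact h1.symm)
  have h2 : p ∣ p.choose 2 := hp.dvd_choose_self (by norm_num) (by omega)
  rw [mul_pow_formula hc hd he p, ha, hb, one_mul, one_mul,
    hpow_dvd d _ hdp (prime_dvd_choose_succ_three hp h3),
    hpow_dvd e _ hep (Dvd.dvd.mul_left (prime_dvd_choose_succ_three hp h3) 2), one_mul, one_smul]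
  obtain ⟨r, hr⟩ := h2
  rw [hr, pow_mul, hcp, one_pow]

/-- **S0124**: for `p > 3`, in a group of class at most three the elements of order dividing `p`
generate a subgroup of exponent dividing `p`. -/
theorem pow_prime_eq_one_of_mem_closure {p : ℕ} (hp : p.Prime) (h3 : 3 < p)
    (hcl : ⁅⁅commutator G, (⊤ : Subgroup G)⁆, (⊤ : Subgroup G)⁆ = ⊥)
    (g : G) (hg : g ∈ Subgroup.closure {x : G | x ^ p = 1}) : g ^ p = 1 := by
  induction hg using Subgroup.closure_induction with
  | mem x hx => exact hx
  | one => exact one_pow p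
  | mul x y _ _ hx hy => exact mul_pow_prime_eq_one hp h3 hcl hx hy
  | inv x _ hx => rw [inv_pow, hx, inv_one]

end Consequence

end ClassThree

end Cfsg.Agent.Lib.Helper2
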