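import Mathlib
import Cfsg.Prelude.Def_Characters
import Cfsg.Agent.Lib.Helper2.CenterIndex
import Cfsg.Agent.Lib.Helper10.PGroup
import Cfsg.Agent.Lib.Helper2.BurnsidePQ

/-!
# A finite p-group has a faithful irreducible representation iff its centre is cyclic
(helper2 library)
-/

set_option autoImplicit false

namespace Cfsg.Agent.Lib.Helper2

open Module
open scoped ComplexConjugate

section Cyclic

/-- In a finite cyclic group, an element whose `p`-th power is trivial lies in the subgroup
generated by any element of order `p`. -/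
theorem mem_zpowers_of_pow_eq_one_of_isCyclic {Z : Type*} [Group Z] [Finite Z] [IsCyclic Z]
    {p : ℕ} (hp : 0 < p) {x y : Z} (hx : orderOf x = p) (hy : y ^ p = 1) :
    y ∈ Subgroup.zpowers x := by
  classical
  haveI : Fintype Z := Fintype.ofFinite Z
  have h1 := IsCyclic.card_pow_eq_one_le (α := Z) hp
  have hsub : (Subgroup.zpowers x : Set Z).toFinset ⊆ Finset.univ.filter (fun a : Z => a ^ p = 1) := by
    intro a ha
    rw [Set.mem_toFinset] at ha
    obtain ⟨k, rfl⟩ := ha
    rw [Finset.mem_filter]
    refine ⟨Finset.mem_univ _, ?_⟩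
    change (x ^ k) ^ p = 1
    rw [← zpow_natCast, ← zpow_mul, mul_comm, zpow_mul, zpow_natCast, ← hx, pow_orderOf_eq_one,
      one_zpow]
  have hcard : (Subgroup.zpowers x : Set Z).toFinset.card = p := by
    rw [Set.toFinset_card, ← Nat.card_eq_fintype_card]
    change Nat.card (Subgroup.zpowers x) = p
    rw [Nat.card_zpowers, hx]
  have heq := Finset.eq_of_subset_of_card_le hsub (by rw [hcard]; exact h1)
  have : y ∈ Finset.univ.filter (fun a : Z => a ^ p = 1) := by
    rw [Finset.mem_filter]; exact ⟨Finset.mem_univ _, hy⟩
  rw [← heq, Set.mem_toFinset] at this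
  exact this

end Cyclic

section Forward

variable {G : Type*} [Group G] [Finite G]
variable {V : Type*} [AddCommGroup V] [Module ℂ V] [FiniteDimensional ℂ V]

/-- If a finite group has a faithful irreducible complex representation, its centre is cyclic. -/
theorem isCyclic_center_of_faithful_irreducible (ρ : Representation ℂ G V) [ρ.IsIrreducible]
    (hinj : Function.Injective ρ) : IsCyclic (Subgroup.center G) := by
  classical
  haveI : Fintype G := Fintype.ofFinite G
  have hnt := nontrivial_of_isIrreducible ρ
  have hsc : ∀ z : Subgroup.center G, ∃ ω : ℂ, ρ (z : G) = ω • (LinearMap.id : V →ₗ[ℂ] V) :=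
    fun z => exists_smul_id_of_mem_center ρ z.2
  choose ω hω using hsc
  obtain ⟨v, hv⟩ := exists_ne (0 : V)
  have huniq : ∀ a b : ℂ, a • (LinearMap.id : V →ₗ[ℂ] V) = b • LinearMap.id → a = b := by
    intro a b hab
    have h2 := LinearMap.congr_fun hab v
    simp only [LinearMap.smul_apply, LinearMap.id_coe, id_eq] at h2
    have h3 : (a - b) • v = 0 := by rw [sub_smul, h2, sub_self]
    rcases smul_eq_zero.mp h3 with h4 | h4
    · exact sub_eq_zero.mp h4
    · exact absurd h4 hv
  let f : Subgroup.center G →* ℂ :=
    { toFun := ω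
      map_one' := by
        apply huniq
        rw [← hω, one_smul]
        simp only [Subgroup.coe_one, map_one]
        rfl
      map_mul' := by
        intro a b
        apply huniq
        rw [← hω, Subgroup.coe_mul, map_mul, hω a, hω b]
        ext w
        simp [smul_smul, mul_comm] }
  have hf : Function.Injective f := by
    intro a b hab
    apply Subtype.ext
    apply hinj
    rw [hω a, hω b]
    change ω a = ω b at hab
    rw [hab]
  exact isCyclic_of_injective_ringHom f hf

end Forward

section Backward

variable {G : Type*} [Group G] [Finite G]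

/-- A finite `p`-group with cyclic centre has a faithful irreducible complex representation. -/
theorem exists_faithful_irreducible_of_isCyclic_center (p : ℕ) [Fact p.Prime]
    (hG : IsPGroup p G) (hZ : IsCyclic (Subgroup.center G)) :
    ∃ (n : ℕ) (ρ : Representation ℂ G (Fin n → ℂ)), ρ.IsIrreducible ∧ Function.Injective ρ := by
  classical
  haveI : Fintype G := Fintype.ofFinite G
  haveI : Fintype (Cfsg.IrrCharacter G) := Fintype.ofFinite _
  have hp : p.Prime := Fact.out
  by_cases htriv : Subsingleton G
  · -- trivial group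
    obtain ⟨n, ρ, hρ, _⟩ := (isIrrCharacter_one : Cfsg.IsIrrCharacter G (fun _ => (1 : ℂ)))
    exact ⟨n, ρ, hρ, fun a b _ => Subsingleton.elim a b⟩
  · rw [not_subsingleton_iff_nontrivial] at htriv
    haveI := htriv
    -- an element `z₀` of order `p` in the centre
    have hZnt : Nontrivial (Subgroup.center G) := hG.center_nontrivial
    have hZp : IsPGroup p (Subgroup.center G) := hG.to_subgroup _
    have hdvd : p ∣ Nat.card (Subgroup.center G) := by
      rcases hZp.card_eq_or_dvd with h | h
      · exfalso
        have := (Nat.card_eq_one_iff_unique.mp h).1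
        exact not_subsingleton (Subgroup.center G) this
      · exact h
    obtain ⟨z₀, hz₀⟩ := exists_prime_orderOf_dvd_card' p hdvd
    have hz₀ne : (z₀ : G) ≠ 1 := by
      intro h
      have : z₀ = 1 := Subtype.ext h
      rw [this, orderOf_one] at hz₀
      exact hp.one_lt.ne hz₀
    -- every nontrivial normal subgroup contains `z₀`
    have hmin : ∀ N : Subgroup G, N.Normal → N ≠ ⊥ → (z₀ : G) ∈ N := by
      intro N hN hNne
      haveI := hN
      have h1 := Cfsg.Agent.Lib.Helper10.normal_inf_center_ne_bot hG N hNne
      -- an element of order `p` in `N ⊓ Z`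
      have hMp : IsPGroup p (N ⊓ Subgroup.center G : Subgroup G) := hG.to_subgroup _
      have hdvd2 : p ∣ Nat.card (N ⊓ Subgroup.center G : Subgroup G) := by
        rcases hMp.card_eq_or_dvd with h | h
        · exact absurd (Subgroup.card_eq_one.mp h) h1
        · exact h
      obtain ⟨x, hx⟩ := exists_prime_orderOf_dvd_card' p hdvd2
      have hxN : (x : G) ∈ N := (Subgroup.mem_inf.mp x.2).1
      have hxZ : (x : G) ∈ Subgroup.center G := (Subgroup.mem_inf.mp x.2).2
      let x' : Subgroup.center G := ⟨x, hxZ⟩
      have hx' : orderOf x' = p := by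
        rw [← hx, ← Subgroup.orderOf_coe x', ← Subgroup.orderOf_coe x]
      have hz₀p : z₀ ^ p = 1 := by rw [← hz₀]; exact pow_orderOf_eq_one z₀
      have hmem := mem_zpowers_of_pow_eq_one_of_isCyclic hp.pos hx' hz₀p
      obtain ⟨k, hk⟩ := hmem
      have : (z₀ : G) = (x : G) ^ k := by
        rw [← hk]; simp [x']
      rw [this]
      exact N.zpow_mem hxN k
    -- some irreducible representation does not kill `z₀`
    have hex : ∃ χ : Cfsg.IrrCharacter G, (χ : G → ℂ) z₀ ≠ (χ : G → ℂ) 1 := by
      by_contra hcon
      simp only [not_exists, not_not] at hcon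
      have h1 := sum_irr_degree_mul (G := G) (z₀ : G)
      rw [if_neg hz₀ne] at h1
      have h2 := sum_irr_degree_sq (G := G)
      have h3 : ∑ χ : Cfsg.IrrCharacter G, (χ : G → ℂ) 1 * (χ : G → ℂ) z₀
          = ∑ χ : Cfsg.IrrCharacter G, (χ : G → ℂ) 1 ^ 2 := by
        apply Finset.sum_congr rfl
        intro χ _
        rw [hcon χ]; ring
      rw [h3, h2] at h1
      exact card_ne_zero_complex h1
    obtain ⟨χ, hχ⟩ := hex
    obtain ⟨n, ρ, hρ, hρχ⟩ := χ.2
    refine ⟨n, ρ, hρ, ?_⟩
    have hker : MonoidHom.ker ρ = ⊥ := by
      by_contra hne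
      have := hmin (MonoidHom.ker ρ) (MonoidHom.normal_ker ρ) hne
      rw [MonoidHom.mem_ker] at this
      apply hχ
      rw [← hρχ, Representation.character, Representation.character, this, _root_.map_one ρ]
    exact (MonoidHom.ker_eq_bot_iff ρ).mp hker

end Backward

end Cfsg.Agent.Lib.Helper2
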