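import Mathlib
import Cfsg.Prelude.Def_Blocks
import Cfsg.Agent.Lib.Helper2.Linear
import Cfsg.Agent.Lib.Helper2.Column
import Cfsg.Agent.Lib.Helper2.TwoDegrees
import Cfsg.Agent.Lib.Helper2.PGroupFaithful
import Cfsg.Agent.Lib.Helper2.ClassThree
import Cfsg.Agent.Lib.Helper2.MGroup
import Cfsg.Agent.Lib.Helper11.Clifford3
import Cfsg.Agent.Lib.Helper11.CentralChar
import Cfsg.Agent.Lib.Helper11.BLCentral
import Cfsg.Agent.Lib.Helper25.Kernel
import Cfsg.Agent.Lib.Helper25.Codegree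
import Cfsg.Agent.Lib.Helper10.PGroup

/-!
# `p`-groups whose nonlinear irreducible characters of equal degree are Galois conjugate
(helper2 library; Dolfi–Yadav): this holds iff the centre is cyclic and `|P'| = p`.
-/

set_option autoImplicit false
set_option linter.style.haveILetI false
set_option linter.unusedSectionVars false

namespace Cfsg.Agent.Lib.Helper2.GCP

open Cfsg
open scoped ComplexConjugate commutatorElement

universe u

/-- any two nonlinear irreducible characters of the same degree are Galois conjugate -/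
def GC (G : Type u) [Group G] : Prop :=
  ∀ χ ψ : IrrCharacter G, charDegree (χ : G → ℂ) ≠ 1 →
    charDegree (χ : G → ℂ) = charDegree (ψ : G → ℂ) →
    ∃ k : ℕ, Nat.Coprime k (Nat.card G) ∧ ∀ g : G, (ψ : G → ℂ) g = (χ : G → ℂ) (g ^ k)

section Basic

variable {G : Type u} [Group G] [Finite G]

theorem mem_of_pow_mem (K : Subgroup G) {k : ℕ} (hk : Nat.Coprime k (Nat.card G)) {g : G}
    (h : g ^ k ∈ K) : g ∈ K := by
  have h1 : (g ^ k) ^ ((Nat.card G).gcdB k) = g := (powCoprime hk.symm).left_inv g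
  rw [← h1]
  exact K.zpow_mem h _

theorem ker_iff_of_galois {χ ψ : G → ℂ} (hχ : IsCharacter G χ) {k : ℕ}
    (hk : Nat.Coprime k (Nat.card G)) (h : ∀ g, ψ g = χ (g ^ k)) (g : G) :
    ψ g = ψ 1 ↔ χ g = χ 1 := by
  obtain ⟨K, _, hK⟩ := Cfsg.Agent.Lib.Helper25.exists_kernel hχ
  have h1 : ψ 1 = χ 1 := by rw [h 1, one_pow]
  rw [h1, h g, ← hK, ← hK]
  exact ⟨fun hg => mem_of_pow_mem K hk hg, fun hg => K.pow_mem hg k⟩

theorem GC.quotient (hG : GC G) (N : Subgroup G) [N.Normal] : GC (G ⧸ N) := by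
  intro χ ψ h1 h2
  let χ' : IrrCharacter G := ⟨fun g => (χ : G ⧸ N → ℂ) (g : G ⧸ N),
    Cfsg.Agent.Lib.Helper25.isIrrCharacter_inflation N χ.2⟩
  let ψ' : IrrCharacter G := ⟨fun g => (ψ : G ⧸ N → ℂ) (g : G ⧸ N),
    Cfsg.Agent.Lib.Helper25.isIrrCharacter_inflation N ψ.2⟩
  have e1 : charDegree (χ' : G → ℂ) = charDegree (χ : G ⧸ N → ℂ) := rfl
  have e2 : charDegree (ψ' : G → ℂ) = charDegree (ψ : G ⧸ N → ℂ) := rfl
  obtain ⟨k, hk, hkk⟩ := hG χ' ψ' (by rw [e1]; exact h1) (by rw [e1, e2]; exact h2)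
  refine ⟨k, Nat.Coprime.coprime_dvd_right (Subgroup.card_quotient_dvd_card N) hk, ?_⟩
  intro q
  obtain ⟨g, rfl⟩ := QuotientGroup.mk_surjective q
  exact hkk g

theorem normal_of_le_center {N : Subgroup G} (h : N ≤ Subgroup.center G) : N.Normal := by
  constructor
  intro n hn g
  have := (Subgroup.mem_center_iff.1 (h hn)) g
  rw [this, mul_assoc, mul_inv_cancel, mul_one]
  exact hn

theorem quot_comm (a b : G ⧸ commutator G) : a * b = b * a := by
  induction a using QuotientGroup.induction_on with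
  | H x =>
    induction b using QuotientGroup.induction_on with
    | H y =>
      rw [← QuotientGroup.mk_mul, ← QuotientGroup.mk_mul, QuotientGroup.eq]
      have h : (x * y)⁻¹ * (y * x) = ⁅y⁻¹, x⁻¹⁆ := by
        rw [commutatorElement_def]; group
      rw [h, commutator_def]
      exact Subgroup.commutator_mem_commutator (Subgroup.mem_top _) (Subgroup.mem_top _)

theorem commutatorElement_mem (x y : G) : ⁅x, y⁆ ∈ commutator G := by
  rw [commutator_def]
  exact Subgroup.commutator_mem_commutator (Subgroup.mem_top x) (Subgroup.mem_top y)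

theorem degree_one_of_commutator_le_ker {ξ : G → ℂ} (hξ : IsIrrCharacter G ξ)
    (h : ∀ g ∈ commutator G, ξ g = ξ 1) : ξ 1 = 1 := by
  obtain ⟨ψ, hψ, hψξ⟩ := Cfsg.Agent.Lib.Helper25.exists_deflation (commutator G) hξ h
  have h1 := IsIrrCharacter.apply_one_of_comm quot_comm hψ
  rw [hψξ 1]
  exact h1

theorem charDegree_ne_one_iff (χ : IrrCharacter G) :
    charDegree (χ : G → ℂ) ≠ 1 ↔ (χ : G → ℂ) 1 ≠ 1 := by
  rw [TwoDeg.apply_one_eq_charDegree χ, Nat.cast_ne_one]

theorem exists_nonlinear (hna : ¬ ∀ a b : G, a * b = b * a) :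
    ∃ χ : IrrCharacter G, (χ : G → ℂ) 1 ≠ 1 := by
  by_contra h
  push Not at h
  exact hna (comm_iff_forall_irr_degree_one.2 h)

theorem not_comm_of_card_commutator {p : ℕ} (hp : p.Prime)
    (h : Nat.card (commutator G) = p) : ¬ ∀ a b : G, a * b = b * a := by
  intro hab
  have : commutator G = ⊥ := by
    rw [eq_bot_iff, commutator_def, Subgroup.commutator_le]
    intro x _ y _
    rw [Subgroup.mem_bot, commutatorElement_eq_one_iff_mul_comm]
    exact hab x y
  rw [this, Subgroup.card_bot] at h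
  exact hp.one_lt.ne h

/-- **Step 1**: kernels of nonlinear irreducible characters lie in the commutator subgroup. -/
theorem mem_commutator_of_ker (hG : GC G) (χ : IrrCharacter G)
    (hχ : charDegree (χ : G → ℂ) ≠ 1) {g : G} (hg : (χ : G → ℂ) g = (χ : G → ℂ) 1) :
    g ∈ commutator G := by
  classical
  haveI : Fintype G := Fintype.ofFinite G
  by_contra hng
  have hab : ∀ x y : G, x * y * x⁻¹ * y⁻¹ ∈ commutator G := fun x y => commutatorElement_mem x y
  obtain ⟨φ, _, hφg⟩ :=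
    Cfsg.Agent.Lib.Helper11.exists_char_trivial_ne_one_of_abelian_quotient (commutator G) hab hng
  let ψ : IrrCharacter G := ⟨fun k => (φ k : ℂ) * (χ : G → ℂ) k,
    Cfsg.Agent.Lib.Helper11.isIrrCharacter_twist φ χ.2⟩
  have e : charDegree (ψ : G → ℂ) = charDegree (χ : G → ℂ) := by
    show ⌊(((φ 1 : ℂˣ) : ℂ) * (χ : G → ℂ) 1).re⌋₊ = ⌊((χ : G → ℂ) 1).re⌋₊
    rw [map_one, Units.val_one, one_mul]
  obtain ⟨k, hk, hkk⟩ := hG χ ψ hχ e.symm
  have h1 : ((φ g : ℂˣ) : ℂ) * (χ : G → ℂ) g = (χ : G → ℂ) (g ^ k) := hkk g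
  obtain ⟨K, _, hK⟩ := Cfsg.Agent.Lib.Helper25.exists_kernel (IsIrrCharacter.isCharacter χ.2)
  have h2 : (χ : G → ℂ) (g ^ k) = (χ : G → ℂ) 1 := (hK _).1 (K.pow_mem ((hK g).2 hg) k)
  rw [h2, hg] at h1
  have hne : (χ : G → ℂ) 1 ≠ 0 := IsIrrCharacter.apply_one_ne_zero χ.2
  have h3 : ((φ g : ℂˣ) : ℂ) = 1 := mul_right_cancel₀ hne (h1.trans (one_mul _).symm)
  exact hφg (Units.ext h3)

theorem subgroup_of_prime_card {p : ℕ} (hp : p.Prime) {D K : Subgroup G} (hD : Nat.card D = p)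
    (hKD : K ≤ D) : K = ⊥ ∨ K = D := by
  have h1 : Nat.card K ∣ p := hD ▸ Subgroup.card_dvd_of_le hKD
  rcases (Nat.dvd_prime hp).1 h1 with h | h
  · left; exact Subgroup.card_eq_one.1 h
  · right
    exact Subgroup.eq_of_le_of_card_ge hKD (by rw [hD, h])

/-- **Step 2**: if `|G'| = p` then the centre is cyclic. -/
theorem isCyclic_center_of_card_commutator {p : ℕ} (hp : p.Prime) (hG : GC G)
    (hna : ¬ ∀ a b : G, a * b = b * a) (hc : Nat.card (commutator G) = p) :
    IsCyclic (Subgroup.center G) := by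
  obtain ⟨χ, hχ⟩ := exists_nonlinear hna
  obtain ⟨K, _, hK⟩ := Cfsg.Agent.Lib.Helper25.exists_kernel (IsIrrCharacter.isCharacter χ.2)
  have hKD : K ≤ commutator G := fun g hg =>
    mem_commutator_of_ker hG χ ((charDegree_ne_one_iff χ).2 hχ) ((hK g).1 hg)
  have hKbot : K = ⊥ := by
    rcases subgroup_of_prime_card hp hc hKD with h | h
    · exact h
    · exfalso
      apply hχ
      apply degree_one_of_commutator_le_ker χ.2
      intro g hg
      exact (hK g).1 (by rw [h]; exact hg)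
  obtain ⟨n, ρ, hirr, hρ⟩ := χ.2
  haveI := hirr
  apply isCyclic_center_of_faithful_irreducible ρ
  rw [injective_iff_map_eq_one]
  intro g hg
  have h1 : ρ.character g = ρ.character 1 :=
    (Cfsg.Agent.Lib.Helper25.rep_apply_eq_one_iff ρ g).1 hg
  rw [hρ] at h1
  have h2 : g ∈ K := (hK g).2 h1
  rw [hKbot, Subgroup.mem_bot] at h2
  exact h2

theorem commutator_le_center {p : ℕ} [Fact p.Prime] (hP : IsPGroup p G)
    (hc : Nat.card (commutator G) = p) : commutator G ≤ Subgroup.center G := by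
  have hp : p.Prime := Fact.out
  have hne : commutator G ≠ ⊥ := by
    intro h
    rw [h, Subgroup.card_bot] at hc
    exact hp.one_lt.ne hc
  have h1 := Cfsg.Agent.Lib.Helper10.normal_inf_center_ne_bot hP (commutator G) hne
  rcases subgroup_of_prime_card hp hc
    (inf_le_left : commutator G ⊓ Subgroup.center G ≤ commutator G) with h | h
  · exact absurd h h1
  · exact le_of_eq_of_le h.symm inf_le_right

/-- a nonlinear irreducible character is faithful on the commutator subgroup of order `p` -/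
theorem eq_one_of_mem_commutator_of_ker {p : ℕ} (hp : p.Prime)
    (hc : Nat.card (commutator G) = p) {ξ : G → ℂ} (hξ : IsIrrCharacter G ξ) (h1 : ξ 1 ≠ 1)
    {g : G} (hg : g ∈ commutator G) (hk : ξ g = ξ 1) : g = 1 := by
  obtain ⟨K, _, hK⟩ := Cfsg.Agent.Lib.Helper25.exists_kernel (IsIrrCharacter.isCharacter hξ)
  rcases subgroup_of_prime_card hp hc
    (inf_le_right : K ⊓ commutator G ≤ commutator G) with h | h
  · have : g ∈ K ⊓ commutator G := ⟨(hK g).2 hk, hg⟩
    rw [h, Subgroup.mem_bot] at this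
    exact this
  · exfalso
    apply h1
    apply degree_one_of_commutator_le_ker hξ
    intro x hx
    have : x ∈ K ⊓ commutator G := by rw [h]; exact hx
    exact (hK x).1 this.1

theorem vanish_off_center {p : ℕ} [Fact p.Prime] (hP : IsPGroup p G)
    (hc : Nat.card (commutator G) = p) {ξ : G → ℂ} (hξ : IsIrrCharacter G ξ) (h1 : ξ 1 ≠ 1)
    {g : G} (hg : g ∉ Subgroup.center G) : ξ g = 0 := by
  have hp : p.Prime := Fact.out
  have hle := commutator_le_center hP hc
  rw [Subgroup.mem_center_iff] at hg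
  push Not at hg
  obtain ⟨h, hh⟩ := hg
  have hcD : ⁅g, h⁆ ∈ commutator G := commutatorElement_mem g h
  have hcZ : ⁅g, h⁆⁻¹ ∈ Subgroup.center G := (Subgroup.center G).inv_mem (hle hcD)
  have hc1 : ⁅g, h⁆⁻¹ ≠ 1 := by
    intro h1
    apply hh
    have h2 : ⁅g, h⁆ = 1 := by rw [← inv_inv ⁅g, h⁆, h1, inv_one]
    rw [commutatorElement_eq_one_iff_mul_comm] at h2
    exact h2.symm
  have hnk : ξ ⁅g, h⁆⁻¹ ≠ ξ 1 := fun hk =>
    hc1 (eq_one_of_mem_commutator_of_ker hp hc hξ h1 ((commutator G).inv_mem hcD) hk)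
  have hconj : h * g * h⁻¹ = ⁅g, h⁆⁻¹ * g := by
    rw [commutatorElement_def]; group
  have hcf : ξ (h * g * h⁻¹) = ξ g :=
    (IrrCharacter.isClassFunction (⟨ξ, hξ⟩ : IrrCharacter G)) g h
  have hcm := Cfsg.Agent.Lib.Helper11.IsIrrCharacter.central_mul hξ ⁅g, h⁆⁻¹
    (fun k => ((Subgroup.mem_center_iff.1 hcZ) k).symm) g
  rw [← hconj, hcf] at hcm
  have : (ξ 1 - ξ ⁅g, h⁆⁻¹) * ξ g = 0 := by linear_combination hcm
  rcases mul_eq_zero.1 this with h0 | h0
  · exact absurd (sub_eq_zero.1 h0).symm hnk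
  · exact h0

/-- a nonlinear irreducible character is fully ramified over the centre when `|G'| = p` -/
theorem degree_sq_mul_card_center {p : ℕ} [Fact p.Prime] (hP : IsPGroup p G)
    (hc : Nat.card (commutator G) = p) {ξ : G → ℂ} (hξ : IsIrrCharacter G ξ) (d : ℕ)
    (hd : ξ 1 = d) (hd1 : d ≠ 1) : d ^ 2 * Nat.card (Subgroup.center G) = Nat.card G := by
  classical
  haveI : Fintype G := Fintype.ofFinite G
  have h1 : ξ 1 ≠ 1 := by rw [hd]; exact_mod_cast hd1
  have hnorm : classInner ξ ξ = 1 := classInner_irrCharacter_self (⟨ξ, hξ⟩ : IrrCharacter G)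
  rw [classInner_def] at hnorm
  have hne : (Nat.card G : ℂ) ≠ 0 := card_ne_zero_complex
  have hsum : ∑ g : G, ξ g * conj (ξ g) = (Nat.card G : ℂ) := by
    field_simp at hnorm
    exact hnorm
  have hval : ∀ g : G, ξ g * conj (ξ g)
      = if g ∈ Subgroup.center G then ((d : ℂ)) ^ 2 else 0 := by
    intro g
    split_ifs with hg
    · have h2 : ‖ξ g‖ = ‖ξ 1‖ := by
        apply Cfsg.Agent.Lib.Helper11.IsIrrCharacter.norm_eq_of_commutators_in_ker hξ g
        intro c
        have h3 : g * c * g⁻¹ * c⁻¹ = 1 := by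
          have := (Subgroup.mem_center_iff.1 hg) c
          rw [← this]; group
        rw [h3]
      rw [Complex.mul_conj, Complex.normSq_eq_norm_sq, h2, hd, Complex.norm_natCast]
      push_cast; ring
    · rw [vanish_off_center hP hc hξ h1 hg, zero_mul]
  rw [Finset.sum_congr rfl (fun g _ => hval g), Finset.sum_ite, Finset.sum_const_zero, add_zero,
    Finset.sum_const, nsmul_eq_mul] at hsum
  have hcard : (Finset.univ.filter (fun g : G => g ∈ Subgroup.center G)).card
      = Nat.card (Subgroup.center G) := by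
    rw [Nat.card_eq_fintype_card, Fintype.card_subtype]
  rw [hcard] at hsum
  have : ((d ^ 2 * Nat.card (Subgroup.center G) : ℕ) : ℂ) = (Nat.card G : ℂ) := by
    push_cast; rw [← hsum]; ring
  exact_mod_cast this

theorem pow_mem_center {p : ℕ} (hc : Nat.card (commutator G) = p)
    (hle : commutator G ≤ Subgroup.center G) (a : G) : a ^ p ∈ Subgroup.center G := by
  rw [Subgroup.mem_center_iff]
  intro q
  have hcD : ⁅a, q⁆ ∈ commutator G := commutatorElement_mem a q
  obtain ⟨z, hz⟩ : ∃ z : Subgroup.center G, (z : G) = ⁅a, q⁆ := ⟨⟨_, hle hcD⟩, rfl⟩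
  have h : a * q = z • (q * a) := by
    rw [Subgroup.smul_def, smul_eq_mul, hz, commutatorElement_def]; group
  have h1 := ClassThree.pow_mul_of_central z h p
  have h3 : ⁅a, q⁆ ^ p = 1 := by
    have h2 : (⟨⁅a, q⁆, hcD⟩ : commutator G) ^ Nat.card (commutator G) = 1 := pow_card_eq_one'
    rw [hc] at h2
    have := congrArg Subtype.val h2
    simpa using this
  have hzp : z ^ p = 1 := by
    apply Subtype.ext
    rw [Subgroup.coe_pow, hz, h3]; rfl
  rw [hzp, one_smul] at h1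
  exact h1.symm

/-- the preimage of the cyclic centre of `G ⧸ N` has index at most `p` over the centre -/
theorem card_comap_center_le {p : ℕ} (hp : p.Prime) (N : Subgroup G) [N.Normal]
    (hNc : N ≤ Subgroup.center G) (hN : Nat.card N = p)
    (hcyc : IsCyclic (Subgroup.center (G ⧸ N))) :
    Nat.card ((Subgroup.center (G ⧸ N)).comap (QuotientGroup.mk' N))
      ≤ p * Nat.card (Subgroup.center G) := by
  haveI := hcyc
  obtain ⟨cbar, hcbar⟩ := IsCyclic.exists_generator (α := Subgroup.center (G ⧸ N))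
  obtain ⟨w, hw⟩ := QuotientGroup.mk_surjective (cbar : G ⧸ N)
  -- commutators with `w` lie in `N`
  have hwN : ∀ g : G, ⁅w, g⁆ ∈ N := by
    intro g
    rw [← QuotientGroup.eq_one_iff]
    have h1 : (w : G ⧸ N) ∈ Subgroup.center (G ⧸ N) := by rw [hw]; exact cbar.2
    have h2 := (Subgroup.mem_center_iff.1 h1) (g : G ⧸ N)
    have h3 : ((⁅w, g⁆ : G) : G ⧸ N) = ⁅(w : G ⧸ N), (g : G ⧸ N)⁆ :=
      map_commutatorElement (QuotientGroup.mk' N) w g
    rw [h3, commutatorElement_eq_one_iff_mul_comm]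
    exact h2.symm
  -- `w ^ p` is central
  have hwp : w ^ p ∈ Subgroup.center G := by
    rw [Subgroup.mem_center_iff]
    intro g
    obtain ⟨z, hz⟩ : ∃ z : Subgroup.center G, (z : G) = ⁅w, g⁆ := ⟨⟨_, hNc (hwN g)⟩, rfl⟩
    have h : w * g = z • (g * w) := by
      rw [Subgroup.smul_def, smul_eq_mul, hz, commutatorElement_def]; group
    have h1 := ClassThree.pow_mul_of_central z h p
    have h3 : ⁅w, g⁆ ^ p = 1 := by
      have h2 : (⟨⁅w, g⁆, hwN g⟩ : N) ^ Nat.card N = 1 := pow_card_eq_one'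
      rw [hN] at h2
      have := congrArg Subtype.val h2
      simpa using this
    have hzp : z ^ p = 1 := by
      apply Subtype.ext
      rw [Subgroup.coe_pow, hz, h3]; rfl
    rw [hzp, one_smul] at h1
    exact h1.symm
  -- every element of the preimage is `w ^ r * (central)`
  have hex : ∀ x : ((Subgroup.center (G ⧸ N)).comap (QuotientGroup.mk' N)),
      ∃ y : Fin p × Subgroup.center G, w ^ (y.1 : ℕ) * (y.2 : G) = (x : G) := by
    intro x
    have hx : ((x : G) : G ⧸ N) ∈ Subgroup.center (G ⧸ N) := x.2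
    obtain ⟨k, hk⟩ := Subgroup.mem_zpowers_iff.1 (hcbar ⟨_, hx⟩)
    have hk' : ((w ^ k : G) : G ⧸ N) = ((x : G) : G ⧸ N) := by
      have := congrArg Subtype.val hk
      rw [Subgroup.coe_zpow] at this
      rw [QuotientGroup.mk_zpow, hw]; exact this
    rw [QuotientGroup.eq] at hk'
    have hpos : (0 : ℤ) < p := by exact_mod_cast hp.pos
    have hr0 : 0 ≤ k % (p : ℤ) := Int.emod_nonneg k hpos.ne'
    have hrp : k % (p : ℤ) < p := Int.emod_lt_of_pos k hpos
    have hrlt : (k % (p : ℤ)).toNat < p := by omega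
    refine ⟨(⟨(k % (p : ℤ)).toNat, hrlt⟩,
      ⟨(w ^ p) ^ (k / (p : ℤ)) * ((w ^ k)⁻¹ * (x : G)), ?_⟩), ?_⟩
    · exact (Subgroup.center G).mul_mem ((Subgroup.center G).zpow_mem hwp _) (hNc hk')
    · show w ^ (k % (p : ℤ)).toNat * ((w ^ p) ^ (k / (p : ℤ)) * ((w ^ k)⁻¹ * (x : G))) = (x : G)
      have e1 : w ^ (k % (p : ℤ)).toNat = w ^ (k % (p : ℤ)) := by
        rw [← zpow_natCast, Int.toNat_of_nonneg hr0]
      have e2 : (w ^ p) ^ (k / (p : ℤ)) = w ^ ((p : ℤ) * (k / (p : ℤ))) := by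
        rw [zpow_mul, zpow_natCast]
      rw [e1, e2, ← mul_assoc, ← zpow_add, Int.emod_add_mul_ediv, mul_inv_cancel_left]
  choose F hF using hex
  have hinj : Function.Injective F := by
    intro a b hab
    apply Subtype.ext
    rw [← hF a, ← hF b, hab]
  have h1 := Nat.card_le_card_of_injective F hinj
  rw [Nat.card_prod, Nat.card_fin] at h1
  exact h1

/-- the degree of the nonlinear characters of `G ⧸ N` in terms of `|G|` and `|Z(G)|` -/
theorem quot_degree {p : ℕ} [Fact p.Prime] (hP : IsPGroup p G) {n c : ℕ}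
    (hn : Nat.card G = p ^ n) (hc : Nat.card (Subgroup.center G) = p ^ c)
    (N : Subgroup G) [N.Normal] (hNc : N ≤ Subgroup.center G) (hN : Nat.card N = p)
    (hQ : Nat.card (commutator (G ⧸ N)) = p) (hcyc : IsCyclic (Subgroup.center (G ⧸ N)))
    {ξ : G ⧸ N → ℂ} (hξ : IsIrrCharacter (G ⧸ N) ξ) (d : ℕ) (hd : ξ 1 = d) (hd1 : d ≠ 1) :
    ∃ a c₂ : ℕ, d = p ^ a ∧ 2 * a + c₂ = n ∧ c ≤ c₂ ∧ c₂ ≤ c + 1 := by
  have hp : p.Prime := Fact.out
  have hPQ : IsPGroup p (G ⧸ N) := hP.to_quotient N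
  have h1 := degree_sq_mul_card_center hPQ hQ hξ d hd hd1
  obtain ⟨Z2, hZ2⟩ : ∃ Z2 : Subgroup G,
      Z2 = (Subgroup.center (G ⧸ N)).comap (QuotientGroup.mk' N) := ⟨_, rfl⟩
  have h2 : Nat.card Z2 = Nat.card N * Nat.card (Subgroup.center (G ⧸ N)) := by
    rw [hZ2]; exact MGroup.card_comap_mk N _
  have h3 : Nat.card G = Nat.card (G ⧸ N) * Nat.card N :=
    Subgroup.card_eq_card_quotient_mul_card_subgroup N
  have h4 : d ^ 2 * Nat.card Z2 = Nat.card G := by
    rw [h2, h3, ← h1]; ring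
  have hdvd : d ∣ p ^ n := by
    rw [← hn]
    exact Dvd.dvd.trans (dvd_pow_self d two_ne_zero) (Dvd.intro _ h4)
  obtain ⟨a, _, ha⟩ := (Nat.dvd_prime_pow hp).1 hdvd
  obtain ⟨c₂, hc₂⟩ := IsPGroup.iff_card.1 (hP.to_subgroup Z2)
  refine ⟨a, c₂, ha, ?_, ?_, ?_⟩
  · rw [ha, hc₂, hn, ← pow_mul, ← pow_add] at h4
    have := Nat.pow_right_injective hp.two_le h4
    omega
  · have hle : Subgroup.center G ≤ Z2 := by
      intro z hz
      rw [hZ2]
      show ((z : G) : G ⧸ N) ∈ Subgroup.center (G ⧸ N)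
      rw [Subgroup.mem_center_iff]
      intro q
      obtain ⟨g, rfl⟩ := QuotientGroup.mk_surjective q
      rw [← QuotientGroup.mk_mul, ← QuotientGroup.mk_mul, (Subgroup.mem_center_iff.1 hz) g]
    have := Subgroup.card_dvd_of_le hle
    rw [hc, hc₂] at this
    exact (Nat.pow_dvd_pow_iff_le_right hp.one_lt).1 this
  · have := card_comap_center_le hp N hNc hN hcyc
    rw [← hZ2, hc, hc₂, ← pow_succ'] at this
    exact (Nat.pow_le_pow_iff_right hp.one_lt).1 this

/-- **Case 1**: two central subgroups of order `p` inside `G'`. -/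
theorem case1 {p : ℕ} [Fact p.Prime] (hP : IsPGroup p G) (hGC : GC G)
    (N N' : Subgroup G) [N.Normal] [N'.Normal] (hN : Nat.card N = p) (hN' : Nat.card N' = p)
    (hne : N' ≠ N) (hND : N ≤ commutator G) (hND' : N' ≤ commutator G)
    (hNc : N ≤ Subgroup.center G) (hNc' : N' ≤ Subgroup.center G)
    (hD : Nat.card (commutator G) = p ^ 2)
    (hQ : Nat.card (commutator (G ⧸ N)) = p) (hcyc : IsCyclic (Subgroup.center (G ⧸ N)))
    (hQ' : Nat.card (commutator (G ⧸ N')) = p)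
    (hcyc' : IsCyclic (Subgroup.center (G ⧸ N'))) : False := by
  have hp : p.Prime := Fact.out
  obtain ⟨n, hn⟩ := IsPGroup.iff_card.1 hP
  obtain ⟨c, hc⟩ := IsPGroup.iff_card.1 (hP.to_subgroup (Subgroup.center G))
  obtain ⟨ξ, hξ1⟩ := exists_nonlinear (not_comm_of_card_commutator hp hQ)
  obtain ⟨ξ', hξ1'⟩ := exists_nonlinear (not_comm_of_card_commutator hp hQ')
  obtain ⟨d, _, hd⟩ := IsIrrCharacter.apply_one ξ.2
  obtain ⟨d', _, hd'⟩ := IsIrrCharacter.apply_one ξ'.2
  have hd1 : d ≠ 1 := by intro h; apply hξ1; rw [hd, h]; simp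
  have hd1' : d' ≠ 1 := by intro h; apply hξ1'; rw [hd', h]; simp
  obtain ⟨a, c₂, ha, hac, hcc, hcc'⟩ := quot_degree hP hn hc N hNc hN hQ hcyc ξ.2 d hd hd1
  obtain ⟨a', c₂', ha', hac', hcc2, hcc2'⟩ :=
    quot_degree hP hn hc N' hNc' hN' hQ' hcyc' ξ'.2 d' hd' hd1'
  have haa : a = a' := by omega
  have hdd : d = d' := by rw [ha, ha', haa]
  let χ : IrrCharacter G := ⟨fun g => (ξ : G ⧸ N → ℂ) (g : G ⧸ N),
    Cfsg.Agent.Lib.Helper25.isIrrCharacter_inflation N ξ.2⟩
  let χ' : IrrCharacter G := ⟨fun g => (ξ' : G ⧸ N' → ℂ) (g : G ⧸ N'),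
    Cfsg.Agent.Lib.Helper25.isIrrCharacter_inflation N' ξ'.2⟩
  have hχ1 : (χ : G → ℂ) 1 = (d : ℂ) := hd
  have hχ1' : (χ' : G → ℂ) 1 = (d' : ℂ) := hd'
  have hχd : charDegree (χ : G → ℂ) = d := ThompsonDeg.charDegree_eq hχ1
  have hχd' : charDegree (χ' : G → ℂ) = d' := ThompsonDeg.charDegree_eq hχ1'
  obtain ⟨k, hk, hkk⟩ := hGC χ χ' (by rw [hχd]; exact hd1) (by rw [hχd, hχd', hdd])
  have hker := ker_iff_of_galois (IsIrrCharacter.isCharacter χ.2) hk hkk
  obtain ⟨K, _, hK⟩ := Cfsg.Agent.Lib.Helper25.exists_kernel (IsIrrCharacter.isCharacter χ.2)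
  have hNK : N ≤ K := by
    intro x hx
    rw [hK]
    show (ξ : G ⧸ N → ℂ) (x : G ⧸ N) = (ξ : G ⧸ N → ℂ) ((1 : G) : G ⧸ N)
    rw [(QuotientGroup.eq_one_iff x).2 hx]; rfl
  have hNK' : N' ≤ K := by
    intro x hx
    rw [hK, ← hker]
    show (ξ' : G ⧸ N' → ℂ) (x : G ⧸ N') = (ξ' : G ⧸ N' → ℂ) ((1 : G) : G ⧸ N')
    rw [(QuotientGroup.eq_one_iff x).2 hx]; rfl
  -- `K ⊓ G'` has order `p ^ 2`
  have h1 : N ≤ K ⊓ commutator G := le_inf hNK hND
  have h1' : N' ≤ K ⊓ commutator G := le_inf hNK' hND'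
  have h2 : Nat.card (K ⊓ commutator G : Subgroup G) ∣ p ^ 2 := by
    rw [← hD]; exact Subgroup.card_dvd_of_le inf_le_right
  obtain ⟨m, hm, hm'⟩ := (Nat.dvd_prime_pow hp).1 h2
  have h3 : m ≠ 1 := by
    intro h
    apply hne
    have e1 : N = K ⊓ commutator G :=
      Subgroup.eq_of_le_of_card_ge h1 (by rw [hm', h, pow_one, hN])
    have e2 : N' = K ⊓ commutator G :=
      Subgroup.eq_of_le_of_card_ge h1' (by rw [hm', h, pow_one, hN'])
    rw [e1, e2]
  have h4 : m ≠ 0 := by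
    intro h
    have h5 : p ∣ p ^ m := by rw [← hm', ← hN]; exact Subgroup.card_dvd_of_le h1
    rw [h, pow_zero] at h5
    exact hp.one_lt.ne' (Nat.dvd_one.1 h5)
  have h6 : m = 2 := by omega
  have h7 : K ⊓ commutator G = commutator G :=
    Subgroup.eq_of_le_of_card_ge inf_le_right (by rw [hD, hm', h6])
  apply hd1
  have h8 : (χ : G → ℂ) 1 = 1 := by
    apply degree_one_of_commutator_le_ker χ.2
    intro g hg
    have : g ∈ K ⊓ commutator G := by rw [h7]; exact hg
    exact (hK g).1 this.1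
  rw [hχ1] at h8
  exact_mod_cast h8

/-- **Case 2**: `G' ≤ Z(G)` has a unique subgroup of order `p`. -/
theorem case2 {p : ℕ} [Fact p.Prime] (hP : IsPGroup p G)
    (N : Subgroup G) [N.Normal] (hN : Nat.card N = p) (hND : N ≤ commutator G)
    (hDZ : commutator G ≤ Subgroup.center G)
    (huniq : ∀ N' : Subgroup G, N' ≤ commutator G → Nat.card N' = p → N' = N)
    (hD : Nat.card (commutator G) = p ^ 2)
    (hQ : Nat.card (commutator (G ⧸ N)) = p) (hcyc : IsCyclic (Subgroup.center (G ⧸ N))) :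
    False := by
  have hp : p.Prime := Fact.out
  -- a commutator whose `p`-th power is nontrivial
  have hex : ∃ x y : G, ⁅x, y⁆ ^ p ≠ 1 := by
    by_contra hall
    push Not at hall
    have hle : commutator G ≤ N := by
      rw [commutator_def, Subgroup.commutator_le]
      intro x _ y _
      by_cases h1 : ⁅x, y⁆ = 1
      · rw [h1]; exact N.one_mem
      · have ho : orderOf ⁅x, y⁆ = p := by
          have := orderOf_dvd_of_pow_eq_one (hall x y)
          rcases (Nat.dvd_prime hp).1 this with h | h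
          · exact absurd (orderOf_eq_one_iff.1 h) h1
          · exact h
        have hz : Subgroup.zpowers ⁅x, y⁆ = N := by
          apply huniq
          · rw [Subgroup.zpowers_le]
            exact commutatorElement_mem x y
          · rw [Nat.card_zpowers, ho]
        rw [← hz]
        exact Subgroup.mem_zpowers _
    have := Subgroup.card_le_of_le hle
    rw [hD, hN] at this
    nlinarith [hp.two_le]
  obtain ⟨x, y, hxy⟩ := hex
  have hPQ : IsPGroup p (G ⧸ N) := hP.to_quotient N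
  have hleQ := commutator_le_center hPQ hQ
  have hcD : ⁅x, y⁆ ∈ commutator G := commutatorElement_mem x y
  obtain ⟨z, hz⟩ : ∃ z : Subgroup.center G, (z : G) = ⁅x, y⁆ := ⟨⟨_, hDZ hcD⟩, rfl⟩
  have hrel : x * y = z • (y * x) := by
    rw [Subgroup.smul_def, smul_eq_mul, hz, commutatorElement_def]; group
  have hzp : (↑(z ^ p) : G) ≠ 1 := by
    rw [Subgroup.coe_pow, hz]; exact hxy
  have e1 := ClassThree.pow_mul_of_central z hrel p
  have e2 := ClassThree.mul_pow_of_central z hrel p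
  rw [Subgroup.smul_def, smul_eq_mul] at e1 e2
  -- `p`-th powers are central in the quotient
  have hu := pow_mem_center hQ hleQ (x : G ⧸ N)
  have hv := pow_mem_center hQ hleQ (y : G ⧸ N)
  haveI := hcyc
  obtain ⟨u, hu'⟩ : ∃ u : Subgroup.center (G ⧸ N), (u : G ⧸ N) = (x : G ⧸ N) ^ p :=
    ⟨⟨_, hu⟩, rfl⟩
  obtain ⟨v, hv'⟩ : ∃ v : Subgroup.center (G ⧸ N), (v : G ⧸ N) = (y : G ⧸ N) ^ p :=
    ⟨⟨_, hv⟩, rfl⟩
  have hPZ : IsPGroup p (Subgroup.center (G ⧸ N)) := hPQ.to_subgroup _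
  obtain ⟨i, hi⟩ := (IsPGroup.iff_orderOf.1 hPZ) u
  obtain ⟨j, hj⟩ := (IsPGroup.iff_orderOf.1 hPZ) v
  rcases le_total i j with hij | hij
  · -- `u` is a power of `v`
    have hmem : u ∈ Subgroup.zpowers v := by
      apply mem_zpowers_of_pow_eq_one_of_isCyclic (orderOf_pos v) rfl
      rw [← orderOf_dvd_iff_pow_eq_one, hi, hj]
      exact pow_dvd_pow p hij
    obtain ⟨t, ht⟩ := Subgroup.mem_zpowers_iff.1 hmem
    obtain ⟨A, hA⟩ : ∃ A : G, A = (y ^ p) ^ t := ⟨_, rfl⟩
    have h1 : ((A : G) : G ⧸ N) = ((x ^ p : G) : G ⧸ N) := by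
      have := congrArg Subtype.val ht
      rw [Subgroup.coe_zpow, hv', hu'] at this
      rw [hA, QuotientGroup.mk_zpow, QuotientGroup.mk_pow, QuotientGroup.mk_pow]
      exact this
    rw [QuotientGroup.eq] at h1
    obtain ⟨m, hm⟩ : ∃ m : G, m = A⁻¹ * x ^ p := ⟨_, rfl⟩
    have hmZ : m ∈ Subgroup.center G := by rw [hm]; exact hDZ (hND h1)
    have hm' := (Subgroup.mem_center_iff.1 hmZ) y
    have hy : A * y = y * A := by
      rw [hA]
      exact (((Commute.refl y).pow_left p).zpow_left t).eq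
    have hx : x ^ p = A * m := by rw [hm, mul_inv_cancel_left]
    have hcomm : x ^ p * y = y * x ^ p := by
      calc x ^ p * y = A * (m * y) := by rw [hx, mul_assoc]
        _ = A * (y * m) := by rw [hm']
        _ = (A * y) * m := (mul_assoc _ _ _).symm
        _ = (y * A) * m := by rw [hy]
        _ = y * x ^ p := by rw [hx, mul_assoc]
    rw [hcomm] at e1
    apply hzp
    calc (↑(z ^ p) : G) = (↑(z ^ p) : G) * (y * x ^ p) * (y * x ^ p)⁻¹ := by group
      _ = (y * x ^ p) * (y * x ^ p)⁻¹ := by rw [← e1]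
      _ = 1 := mul_inv_cancel _
  · -- `v` is a power of `u`
    have hmem : v ∈ Subgroup.zpowers u := by
      apply mem_zpowers_of_pow_eq_one_of_isCyclic (orderOf_pos u) rfl
      rw [← orderOf_dvd_iff_pow_eq_one, hi, hj]
      exact pow_dvd_pow p hij
    obtain ⟨t, ht⟩ := Subgroup.mem_zpowers_iff.1 hmem
    obtain ⟨A, hA⟩ : ∃ A : G, A = (x ^ p) ^ t := ⟨_, rfl⟩
    have h1 : ((A : G) : G ⧸ N) = ((y ^ p : G) : G ⧸ N) := by
      have := congrArg Subtype.val ht
      rw [Subgroup.coe_zpow, hv', hu'] at this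
      rw [hA, QuotientGroup.mk_zpow, QuotientGroup.mk_pow, QuotientGroup.mk_pow]
      exact this
    rw [QuotientGroup.eq] at h1
    obtain ⟨m, hm⟩ : ∃ m : G, m = A⁻¹ * y ^ p := ⟨_, rfl⟩
    have hmZ : m ∈ Subgroup.center G := by rw [hm]; exact hDZ (hND h1)
    have hm' := (Subgroup.mem_center_iff.1 hmZ) x
    have hxA : x * A = A * x := by
      rw [hA]
      exact (((Commute.refl x).pow_right p).zpow_right t).eq
    have hy : y ^ p = A * m := by rw [hm, mul_inv_cancel_left]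
    have hcomm : x * y ^ p = y ^ p * x := by
      calc x * y ^ p = (x * A) * m := by rw [hy, mul_assoc]
        _ = (A * x) * m := by rw [hxA]
        _ = A * (x * m) := mul_assoc _ _ _
        _ = A * (m * x) := by rw [hm']
        _ = y ^ p * x := by rw [hy, mul_assoc]
    rw [hcomm] at e2
    apply hzp
    calc (↑(z ^ p) : G) = (↑(z ^ p) : G) * (y ^ p * x) * (y ^ p * x)⁻¹ := by group
      _ = (y ^ p * x) * (y ^ p * x)⁻¹ := by rw [← e2]
      _ = 1 := mul_inv_cancel _

end Basic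

end Cfsg.Agent.Lib.Helper2.GCP
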