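import Mathlib
import Cfsg.Prelude.Def_Characters

/-!
# Elementary groups (`Cfsg.IsElementary`): subgroups, transport, nilpotency (helper2 library)
-/

set_option autoImplicit false

namespace Cfsg.Agent.Lib.Helper2

namespace Elementary

variable {p : ℕ}

/-- transport along an isomorphism -/
theorem of_mulEquiv {E E' : Type*} [Group E] [Group E'] (e : E ≃* E')
    (h : Cfsg.IsElementary p E) : Cfsg.IsElementary p E' := by
  obtain ⟨x, hx, hcop, k, hk⟩ := h
  refine ⟨e x, ?_, ?_, k, ?_⟩
  · rw [Subgroup.mem_center_iff] at hx ⊢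
    intro g
    have := hx (e.symm g)
    have h2 := congrArg e this
    simpa using h2
  · rw [MulEquiv.orderOf_eq]; exact hcop
  · have : Subgroup.zpowers (e x) = (Subgroup.zpowers x).map (e : E →* E') := by
      rw [MonoidHom.map_zpowers]; rfl
    rw [this, Subgroup.index_map_equiv, hk]

/-- subgroups of elementary groups are elementary -/
theorem subgroup {E : Type*} [Group E] [Finite E] (hp : p.Prime) (h : Cfsg.IsElementary p E)
    (H : Subgroup E) : Cfsg.IsElementary p H := by
  obtain ⟨x, hx, hcop, k, hk⟩ := h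
  set C := Subgroup.zpowers x with hC
  have hCcent : C ≤ Subgroup.center E := Subgroup.zpowers_le.mpr hx
  haveI hCn : C.Normal := by
    constructor
    intro c hc g
    have h1 := (Subgroup.mem_center_iff.mp (hCcent hc)) g
    have : g * c * g⁻¹ = c := by rw [h1]; group
    rw [this]; exact hc
  set D : Subgroup H := C.subgroupOf H with hD
  -- `D` is cyclic
  let f : D →* C :=
    { toFun := fun d => ⟨((d : H) : E), Subgroup.mem_subgroupOf.mp d.2⟩
      map_one' := rfl
      map_mul' := fun a b => rfl }
  have hf : Function.Injective f := by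
    intro a b hab
    have h1 : ((a : H) : E) = ((b : H) : E) := congrArg (fun c : C => (c : E)) hab
    exact Subtype.ext (Subtype.ext h1)
  haveI : IsCyclic D := isCyclic_of_injective f hf
  obtain ⟨d, hd⟩ := IsCyclic.exists_generator (α := D)
  have hDeq : Subgroup.zpowers (d : H) = D := by
    apply le_antisymm
    · exact Subgroup.zpowers_le.mpr d.2
    · intro y hy
      obtain ⟨i, hi⟩ := Subgroup.mem_zpowers_iff.mp (hd ⟨y, hy⟩)
      refine Subgroup.mem_zpowers_iff.mpr ⟨i, ?_⟩
      have := congrArg Subtype.val hi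
      simpa using this
  have hdC : ((d : H) : E) ∈ C := Subgroup.mem_subgroupOf.mp d.2
  refine ⟨(d : H), ?_, ?_, ?_⟩
  · rw [Subgroup.mem_center_iff]
    intro g
    apply Subtype.ext
    have := (Subgroup.mem_center_iff.mp (hCcent hdC)) (g : E)
    simpa using this
  · have h1 : orderOf (d : H) = orderOf ((d : H) : E) := (Subgroup.orderOf_coe (d : H)).symm
    rw [h1]
    exact Nat.Coprime.coprime_dvd_left (orderOf_dvd_of_mem_zpowers hdC) hcop
  · rw [hDeq]
    have h1 : D.index = C.relIndex H := rfl
    have h2 : C.relIndex H ∣ C.index := Subgroup.relIndex_dvd_index_of_normal C H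
    rw [hk] at h2
    obtain ⟨j, _, hj⟩ := (Nat.dvd_prime_pow hp).mp h2
    exact ⟨j, by rw [h1, hj]⟩

/-- elementary groups are nilpotent -/
theorem isNilpotent {E : Type*} [Group E] [Finite E] (hp : p.Prime)
    (h : Cfsg.IsElementary p E) : Group.IsNilpotent E := by
  obtain ⟨x, hx, hcop, k, hk⟩ := h
  haveI : Fact p.Prime := ⟨hp⟩
  set C := Subgroup.zpowers x with hC
  have hCcent : C ≤ Subgroup.center E := Subgroup.zpowers_le.mpr hx
  haveI hCn : C.Normal := by
    constructor
    intro c hc g
    have h1 := (Subgroup.mem_center_iff.mp (hCcent hc)) g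
    have : g * c * g⁻¹ = c := by rw [h1]; group
    rw [this]; exact hc
  have hQ : IsPGroup p (E ⧸ C) := IsPGroup.of_card (n := k) (by rw [← Subgroup.index_eq_card, hk])
  haveI : Group.IsNilpotent (E ⧸ C) := hQ.isNilpotent
  apply Subgroup.isNilpotent_of_ker_le_center (QuotientGroup.mk' C)
  rw [QuotientGroup.ker_mk']
  exact hCcent

end Elementary

end Cfsg.Agent.Lib.Helper2
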