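import Mathlib
import Cfsg.Agent.S0867
import Cfsg.Agent.Lib.Helper25.CosetNorm
import Cfsg.Agent.Lib.Helper25.GaloisSum
import Cfsg.Agent.Lib.Helper25.Ortho2
import Cfsg.Agent.Lib.Helper25.Codegree
import Cfsg.Agent.Lib.Helper11.CosetAvg
import Cfsg.Agent.Lib.Helper11.GaloisTwist
import Cfsg.Agent.Lib.Helper11.LinChar
import Cfsg.Agent.Lib.Helper11.Semidirect
import Cfsg.Agent.Lib.Helper7.VanishDiv
import Cfsg.Agent.Lib.Helper2.DirectProduct
import Cfsg.Agent.Lib.Helper2.RationalChars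

/-!
# The Glauberman correspondence for a cyclic group of operators (helper2 library; Isaacs 13.6)

Setting: `Γ` a finite group, `G ⊴ Γ`, `s : Γ` with `Γ = G ⟨s⟩` and `(o(s), |G|) = 1`
(`CycData G s`), `C = G ⊓ C(s)` (`Cs G s`).
-/

set_option autoImplicit false
set_option linter.unusedSectionVars false
set_option linter.style.haveILetI false
set_option linter.unusedVariables false

namespace Cfsg.Agent.Lib.Helper2.GlCyc

open Cfsg Cfsg.Agent.Lib Cfsg.Agent.Lib.Helper2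
open scoped ComplexConjugate

section DetPow

variable {K : Type*} [Group K] [Finite K]

theorem char_pow_eq_sigma {n : ℕ} (ρ : Representation ℂ K (Fin n → ℂ)) (k : ℕ) (σ : ℂ ≃+* ℂ)
    (hσ : ∀ ζ : ℂ, ζ ^ Nat.card K = 1 → σ ζ = ζ ^ k) (g : K) :
    ρ.character (g ^ k) = σ (ρ.character g) := by
  have hN : Nat.card K ≠ 0 := Nat.card_pos.ne'
  have hζ := Complex.isPrimitiveRoot_exp (Nat.card K) hN
  obtain ⟨e, he⟩ := exists_exponents ρ g _ hζ
  have h1 := he 1
  simp only [pow_one, one_mul] at h1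
  rw [he k, h1, map_sum]
  apply Finset.sum_congr rfl
  intro i _
  rw [map_pow, hσ _ hζ.pow_eq_one, ← pow_mul]

/-- The determinantal character of the Galois twist `x ↦ χ (x ^ k)`. -/
theorem detChar_comp_pow (k : ℕ) (hk : k.Coprime (Nat.card K)) {χ : K → ℂ}
    (h : IsCharacter K χ) (g : K) :
    detChar (fun x => χ (x ^ k)) g = (detChar χ g) ^ k := by
  have hN : Nat.card K ≠ 0 := Nat.card_pos.ne'
  haveI : NeZero (Nat.card K) := ⟨hN⟩
  obtain ⟨σ, hσ⟩ := Helper11.exists_ringEquiv_complex_pow (Nat.card K) k hk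
  obtain ⟨n, ρ, rfl⟩ := h
  have hfun : (fun x => ρ.character (x ^ k))
      = (Helper11.twistRep (σ : ℂ →+* ℂ) ρ).character := by
    funext x
    rw [Helper11.twistRep_character, char_pow_eq_sigma ρ k σ hσ x]
    rfl
  rw [hfun, Helper25.detChar_eq_of_rep, Helper25.detChar_eq_of_rep]
  have h1 : LinearMap.det (Helper11.twistRep (σ : ℂ →+* ℂ) ρ g) = σ (LinearMap.det (ρ g)) := by
    show LinearMap.det (Matrix.toLin' ((LinearMap.toMatrix' (ρ g)).map (σ : ℂ →+* ℂ))) = _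
    rw [LinearMap.det_toLin']
    rw [show ((LinearMap.toMatrix' (ρ g)).map (σ : ℂ →+* ℂ))
      = (σ : ℂ →+* ℂ).mapMatrix (LinearMap.toMatrix' (ρ g)) from rfl, ← RingHom.map_det,
      LinearMap.det_toMatrix']
    rfl
  show LinearMap.det (Helper11.twistRep (σ : ℂ →+* ℂ) ρ g) = (LinearMap.det (ρ g)) ^ k
  rw [h1]
  apply hσ
  have e1 : (ρ g) ^ Nat.card K = 1 := by rw [← map_pow, pow_card_eq_one', map_one]
  rw [← map_pow, e1, map_one]

theorem detOrder_dvd_card {χ : K → ℂ} (h : IsCharacter K χ) : detOrder χ ∣ Nat.card K := by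
  rw [Cfsg.Agent.S0867.detOrder_eq h]
  exact Helper7.orderOf_hom_dvd_card _

theorem detOrder_comp_pow_dvd (k : ℕ) (hk : k.Coprime (Nat.card K)) {χ : K → ℂ}
    (h : IsCharacter K χ) : detOrder (fun x => χ (x ^ k)) ∣ detOrder χ := by
  unfold detOrder
  have : detChar (fun x => χ (x ^ k)) = (detChar χ) ^ k := by
    funext g
    rw [detChar_comp_pow k hk h g]
    rfl
  rw [this]
  exact orderOf_pow_dvd k

end DetPow

section Canon

variable {Γ : Type*} [Group Γ] [Finite Γ] (G : Subgroup Γ) [hG : G.Normal]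

theorem canon_aux {ϑ : G → ℂ} (hϑ : IsIrrCharacter G ϑ)
    (hcop : Nat.Coprime G.index (Nat.card G)) :
    Nat.Coprime G.index (detOrder ϑ * charDegree ϑ) :=
  Nat.Coprime.mul_right
    (Nat.Coprime.coprime_dvd_right (detOrder_dvd_card (Helper25.isCharacter_of_irr hϑ)) hcop)
    (Nat.Coprime.coprime_dvd_right (Helper25.charDegree_dvd_card hϑ) hcop)

/-- Uniqueness of the canonical extension. -/
theorem canon_unique {ϑ : G → ℂ} (hϑ : IsIrrCharacter G ϑ)
    (hcop : Nat.Coprime G.index (Nat.card G))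
    {χ₁ χ₂ : Γ → ℂ} (h₁ : IsIrrCharacter Γ χ₁) (h₂ : IsIrrCharacter Γ χ₂)
    (hr₁ : ∀ n : G, χ₁ n = ϑ n) (hr₂ : ∀ n : G, χ₂ n = ϑ n)
    (hd₁ : Nat.Coprime G.index (detOrder χ₁)) (hd₂ : Nat.Coprime G.index (detOrder χ₂)) :
    χ₁ = χ₂ := by
  have hinv : ∀ (g : Γ) (n : G), ϑ ⟨g * n * g⁻¹, hG.conj_mem (n : Γ) n.2 g⟩ = ϑ n := by
    intro g n
    rw [← hr₁, ← hr₁]
    exact Helper25.isClassFunction_of_char (Helper25.isCharacter_of_irr h₁) _ _
  obtain ⟨χ, _, huniq⟩ := Cfsg.Agent.S0867.result G ϑ hϑ hinv (charDegree ϑ)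
    (Helper25.char_one_eq_charDegree (Helper25.isCharacter_of_irr hϑ)) (canon_aux G hϑ hcop)
  rw [huniq χ₁ h₁ hr₁ hd₁, huniq χ₂ h₂ hr₂ hd₂]

/-- Existence of the canonical extension. -/
theorem canon_exists {ϑ : G → ℂ} (hϑ : IsIrrCharacter G ϑ)
    (hcop : Nat.Coprime G.index (Nat.card G))
    (hinv : ∀ (g : Γ) (n : G), ϑ ⟨g * n * g⁻¹, hG.conj_mem (n : Γ) n.2 g⟩ = ϑ n) :
    ∃ χ : Γ → ℂ, IsIrrCharacter Γ χ ∧ (∀ n : G, χ n = ϑ n) ∧
      detOrder χ ∣ Nat.card G := by
  obtain ⟨χ, ⟨h1, h2, h3⟩, _⟩ := Cfsg.Agent.S0867.result G ϑ hϑ hinv (charDegree ϑ)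
    (Helper25.char_one_eq_charDegree (Helper25.isCharacter_of_irr hϑ)) (canon_aux G hϑ hcop)
  refine ⟨χ, h1, h2, ?_⟩
  rw [h3]
  exact detOrder_dvd_card (Helper25.isCharacter_of_irr hϑ)

/-- The canonical extension is fixed by the Galois twists `x ↦ x ^ k`, `k ≡ 1 (mod |G|)`. -/
theorem canon_pow_invariant (hcop : Nat.Coprime G.index (Nat.card G)) {χh : Γ → ℂ}
    (hχh : IsIrrCharacter Γ χh) (hres : IsIrrCharacter G (fun g : G => χh g))
    (hdet : Nat.Coprime G.index (detOrder χh))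
    (k : ℕ) (hk : k.Coprime (Nat.card Γ)) (hk1 : k ≡ 1 [MOD Nat.card G]) (x : Γ) :
    χh (x ^ k) = χh x := by
  haveI := Fintype.ofFinite Γ
  have h' : IsIrrCharacter Γ (fun x => χh (x ^ k)) := Helper11.isIrrCharacter_pow_coprime k hk hχh
  have hr' : ∀ n : G, (fun x => χh (x ^ k)) (n : Γ) = (fun g : G => χh g) n := by
    intro n
    show χh ((n : Γ) ^ k) = χh n
    have h1 : (n : Γ) ^ k = (n : Γ) ^ 1 := by
      rw [pow_eq_pow_iff_modEq]
      apply Nat.ModEq.of_dvd _ hk1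
      rw [Subgroup.orderOf_coe]
      exact orderOf_dvd_natCard n
    rw [h1, pow_one]
  have hd' : Nat.Coprime G.index (detOrder (fun x => χh (x ^ k))) :=
    Nat.Coprime.coprime_dvd_right
      (detOrder_comp_pow_dvd k hk (Helper25.isCharacter_of_irr hχh)) hdet
  have := canon_unique G hres hcop h' hχh hr' (fun n => rfl) hd' hdet
  exact congrFun this x

end Canon

section Setting

variable {Γ : Type*} [Group Γ]

/-- `Γ = G ⟨s⟩` with `o(s)` coprime to `|G|`. -/
structure CycData (G : Subgroup Γ) (s : Γ) : Prop where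
  gen : ∀ x : Γ, ∃ g ∈ G, ∃ i : ℕ, x = g * s ^ i
  cop : Nat.Coprime (orderOf s) (Nat.card G)

/-- `C_G(s)`. -/
abbrev Cs (G : Subgroup Γ) (s : Γ) : Subgroup Γ := G ⊓ Subgroup.centralizer {s}

theorem mem_Cs {G : Subgroup Γ} {s x : Γ} : x ∈ Cs G s ↔ x ∈ G ∧ x * s = s * x := by
  rw [Subgroup.mem_inf, Subgroup.mem_centralizer_iff]
  constructor
  · rintro ⟨h1, h2⟩
    exact ⟨h1, (h2 s rfl).symm⟩
  · rintro ⟨h1, h2⟩
    refine ⟨h1, ?_⟩
    intro z hz
    rw [Set.mem_singleton_iff] at hz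
    subst hz
    exact h2.symm

variable [Finite Γ] {G : Subgroup Γ} [hG : G.Normal] {s : Γ}

theorem CycData.hab (D : CycData G s) (x y : Γ) : x * y * x⁻¹ * y⁻¹ ∈ G := by
  obtain ⟨g, hg, i, rfl⟩ := D.gen x
  obtain ⟨h, hh, j, rfl⟩ := D.gen y
  rw [← QuotientGroup.eq_one_iff]
  have hg1 : ((g : Γ) : Γ ⧸ G) = 1 := (QuotientGroup.eq_one_iff g).2 hg
  have hh1 : ((h : Γ) : Γ ⧸ G) = 1 := (QuotientGroup.eq_one_iff h).2 hh
  simp only [QuotientGroup.mk_mul, QuotientGroup.mk_inv, QuotientGroup.mk_pow, hg1, hh1, one_mul]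
  group

theorem CycData.index_dvd (D : CycData G s) : G.index ∣ orderOf s := by
  have hq : ∀ y : Γ ⧸ G, y ∈ Subgroup.zpowers ((s : Γ) : Γ ⧸ G) := by
    intro y
    obtain ⟨x, rfl⟩ := QuotientGroup.mk_surjective y
    obtain ⟨g, hg, i, rfl⟩ := D.gen x
    rw [Subgroup.mem_zpowers_iff]
    refine ⟨i, ?_⟩
    rw [QuotientGroup.mk_mul, (QuotientGroup.eq_one_iff g).2 hg, one_mul, QuotientGroup.mk_pow]
    exact zpow_natCast _ _
  rw [Subgroup.index_eq_card, ← orderOf_eq_card_of_forall_mem_zpowers hq]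
  exact orderOf_map_dvd (QuotientGroup.mk' G) s

theorem CycData.cop_index (D : CycData G s) : Nat.Coprime G.index (Nat.card G) :=
  Nat.Coprime.coprime_dvd_left D.index_dvd D.cop

theorem CycData.card_dvd (D : CycData G s) : Nat.card Γ ∣ orderOf s * Nat.card G := by
  rw [← Subgroup.card_mul_index G, mul_comm]
  exact Nat.mul_dvd_mul D.index_dvd dvd_rfl

theorem CycData.hom_eq_one (D : CycData G s) (lam : Γ →* ℂˣ) (hG' : ∀ y ∈ G, lam y = 1)
    (hs : lam s = 1) : lam = 1 := by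
  apply MonoidHom.ext
  intro x
  obtain ⟨g, hg, i, rfl⟩ := D.gen x
  rw [map_mul, map_pow, hG' g hg, hs, one_pow, one_mul]
  rfl

/-- The canonical extension takes the same value on `c s^j` for all `j` prime to `o(s)`. -/
theorem canon_gen_invariant (D : CycData G s) {χh : Γ → ℂ}
    (hχh : IsIrrCharacter Γ χh) (hres : IsIrrCharacter G (fun g : G => χh g))
    (hdet : (detOrder χh).Coprime (orderOf s)) {c : Γ} (hc : c ∈ Cs G s) (j : ℕ)
    (hj : j.Coprime (orderOf s)) : χh (c * s ^ j) = χh (c * s) := by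
  obtain ⟨k, hkj, hk1⟩ := Nat.chineseRemainder D.cop j 1
  have hkn : k.Coprime (orderOf s) := by
    have := Nat.ModEq.gcd_eq hkj
    unfold Nat.Coprime
    rw [this]
    exact hj
  have hkm : k.Coprime (Nat.card G) := by
    have := Nat.ModEq.gcd_eq hk1
    unfold Nat.Coprime
    rw [this]
    exact Nat.gcd_one_left _
  have hkΓ : k.Coprime (Nat.card Γ) :=
    Nat.Coprime.coprime_dvd_right D.card_dvd (Nat.Coprime.mul_right hkn hkm)
  have hcG := (mem_Cs.1 hc).1
  have hcomm : Commute c s := (mem_Cs.1 hc).2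
  have hpow : (c * s) ^ k = c * s ^ j := by
    rw [hcomm.mul_pow]
    congr 1
    · have : c ^ k = c ^ 1 := by
        rw [pow_eq_pow_iff_modEq]
        exact Nat.ModEq.of_dvd (Subgroup.orderOf_dvd_natCard G hcG) hk1
      rw [this, pow_one]
    · rw [pow_eq_pow_iff_modEq]
      exact hkj
  rw [← hpow]
  exact canon_pow_invariant G D.cop_index hχh hres
    (Nat.Coprime.coprime_dvd_left D.index_dvd hdet.symm) k hkΓ hk1 (c * s)

end Setting

section CosetOrtho

variable {K : Type*} [Group K] [Fintype K] (N : Subgroup K) [hN : N.Normal]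

/-- Fourier expansion of a coset sum over the linear characters trivial on `N`. -/
theorem sum_coset_fourier [Fintype N] (hab : ∀ x y : K, x * y * x⁻¹ * y⁻¹ ∈ N) (f : K → ℂ)
    [Fintype (K →* ℂˣ)] [DecidablePred (fun φ : K →* ℂˣ => ∀ y ∈ N, φ y = 1)] (k : K) :
    ∑ n : N, f (k * n) =
      ((Finset.univ.filter (fun φ : K →* ℂˣ => ∀ y ∈ N, φ y = 1)).card : ℂ)⁻¹ *
        ∑ lam ∈ Finset.univ.filter (fun φ : K →* ℂˣ => ∀ y ∈ N, φ y = 1),
          ((lam k : ℂˣ) : ℂ)⁻¹ * ∑ x : K, (lam x : ℂ) * f x := by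
  classical
  set Λ := Finset.univ.filter (fun φ : K →* ℂˣ => ∀ y ∈ N, φ y = 1) with hΛ
  have hone : (1 : K →* ℂˣ) ∈ Λ := by
    rw [hΛ, Finset.mem_filter]
    exact ⟨Finset.mem_univ _, fun y _ => rfl⟩
  have hcard : (Λ.card : ℂ) ≠ 0 := by
    have : Λ.card ≠ 0 := Finset.card_ne_zero.2 ⟨1, hone⟩
    exact_mod_cast this
  have h1 : ∑ n : N, f (k * n) = ∑ x : K, if k⁻¹ * x ∈ N then f x else 0 := by
    rw [← Finset.sum_filter]
    symm
    apply Finset.sum_bij (fun (x : K) (hx : x ∈ Finset.univ.filter (fun x => k⁻¹ * x ∈ N)) =>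
      (⟨k⁻¹ * x, (Finset.mem_filter.mp hx).2⟩ : N))
    · intro x _; exact Finset.mem_univ _
    · intro x _ y _ hxy
      have := congrArg Subtype.val hxy
      simpa using this
    · intro n _
      refine ⟨k * n, ?_, ?_⟩
      · rw [Finset.mem_filter]
        refine ⟨Finset.mem_univ _, ?_⟩
        rw [inv_mul_cancel_left]; exact n.2
      · apply Subtype.ext
        simp
    · intro x _
      simp
  rw [h1]
  have h2 : ∀ x : K, (if k⁻¹ * x ∈ N then f x else 0)
      = (Λ.card : ℂ)⁻¹ * ∑ lam ∈ Λ, ((lam k : ℂˣ) : ℂ)⁻¹ * ((lam x : ℂ) * f x) := by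
    intro x
    have h3 := Helper11.sum_char_trivialOn_of_abelian_quotient N hab (k⁻¹ * x)
    rw [← hΛ] at h3
    have h4 : ∑ lam ∈ Λ, ((lam k : ℂˣ) : ℂ)⁻¹ * ((lam x : ℂ) * f x)
        = (∑ lam ∈ Λ, ((lam (k⁻¹ * x) : ℂˣ) : ℂ)) * f x := by
      rw [Finset.sum_mul]
      apply Finset.sum_congr rfl
      intro lam _
      rw [map_mul, map_inv, Units.val_mul, Units.val_inv_eq_inv_val]
      ring
    rw [h4, h3]
    by_cases hx : k⁻¹ * x ∈ N
    · rw [if_pos hx, if_pos hx]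
      field_simp
    · rw [if_neg hx, if_neg hx]
      simp
  rw [Finset.sum_congr rfl (fun x _ => h2 x), ← Finset.mul_sum, Finset.sum_comm]
  congr 1
  apply Finset.sum_congr rfl
  intro lam _
  rw [Finset.mul_sum]

/-- Coset orthogonality for two irreducible characters with different restrictions to `N`. -/
theorem sum_coset_ortho [Fintype N] (hab : ∀ x y : K, x * y * x⁻¹ * y⁻¹ ∈ N) {η η' : K → ℂ}
    (hη : IsIrrCharacter K η) (hη' : IsIrrCharacter K η')
    (hne : (fun n : N => η n) ≠ fun n : N => η' n) (k : K) :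
    ∑ n : N, η (k * n) * conj (η' (k * n)) = 0 := by
  classical
  haveI : Fintype (K →* ℂˣ) := Fintype.ofFinite _
  rw [sum_coset_fourier N hab (fun x => η x * conj (η' x)) k]
  apply mul_eq_zero_of_right
  apply Finset.sum_eq_zero
  intro lam hlam
  have hlamN : ∀ y ∈ N, lam y = 1 := (Finset.mem_filter.mp hlam).2
  have hirr : IsIrrCharacter K (fun x => (lam x : ℂ) * η x) := Helper11.isIrrCharacter_twist lam hη
  have h1 := Helper25.irr_classInner hirr hη'
  have h4 : (fun x => (lam x : ℂ) * η x) ≠ η' := by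
    intro h
    apply hne
    funext n
    have : (lam (n : K) : ℂ) * η n = η' n := congrFun h (n : K)
    rw [hlamN n n.2, Units.val_one, one_mul] at this
    exact this
  rw [if_neg h4, classInner_def] at h1
  apply mul_eq_zero_of_right
  rcases mul_eq_zero.mp h1 with h5 | h5
  · exact absurd (inv_eq_zero.mp h5) card_ne_zero_complex
  · rw [← h5]
    apply Finset.sum_congr rfl
    intro x _
    ring

end CosetOrtho

section CSums

variable {Γ : Type*} [Group Γ] [Fintype Γ] {G : Subgroup Γ} [hG : G.Normal] {s : Γ}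

theorem coset_avg' (D : CycData G s) [Fintype G] [Fintype (Cs G s)] (F : Γ → ℂ)
    (hF : ∀ a x : Γ, F (x * a * x⁻¹) = F a) :
    (Nat.card G : ℂ)⁻¹ * ∑ g : G, F ((g : Γ) * s) =
      (Nat.card (Cs G s) : ℂ)⁻¹ * ∑ c : Cs G s, F ((c : Γ) * s) := by
  classical
  have hs : s ∈ Subgroup.normalizer (G : Set Γ) := by
    rw [Subgroup.normalizer_eq_top]
    trivial
  have h := Helper11.coset_avg G s hs D.cop F hF
  rw [← Helper11.sum_subgroup_eq G (fun g => F (g * s)),
    ← Helper11.sum_subgroup_eq (G ⊓ Subgroup.centralizer {s}) (fun c => F (c * s))] at h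
  exact h

theorem sum_C_normSq (D : CycData G s) [Fintype G] [Fintype (Cs G s)] {η : Γ → ℂ}
    (hη : IsIrrCharacter Γ η) (hres : IsIrrCharacter G (fun g : G => η g)) :
    ∑ c : Cs G s, η ((c : Γ) * s) * conj (η ((c : Γ) * s)) = (Nat.card (Cs G s) : ℂ) := by
  have hcf := Helper25.isClassFunction_of_char (Helper25.isCharacter_of_irr hη)
  have hF : ∀ a x : Γ, (fun y => η y * conj (η y)) (x * a * x⁻¹)
      = (fun y => η y * conj (η y)) a := by
    intro a x
    show η (x * a * x⁻¹) * conj (η (x * a * x⁻¹)) = _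
    rw [hcf a x]
  have h := coset_avg' D (fun y => η y * conj (η y)) hF
  have h2 : ∑ g : G, (fun y => η y * conj (η y)) ((g : Γ) * s) = (Nat.card G : ℂ) := by
    rw [← Helper25.sum_coset_normSq G D.hab hη hres s]
    apply Finset.sum_congr rfl
    intro g _
    show η ((g : Γ) * s) * conj (η ((g : Γ) * s)) = η (s * g) * conj (η (s * g))
    have : η (s * g) = η ((g : Γ) * s) := by
      have h3 := hcf ((g : Γ) * s) s
      rw [← h3]
      congr 1
      group
    rw [this]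
  rw [h2, inv_mul_cancel₀ card_ne_zero_complex] at h
  have hC0 : (Nat.card (Cs G s) : ℂ) ≠ 0 := card_ne_zero_complex
  have h3 := h.symm
  rw [inv_mul_eq_iff_eq_mul₀ hC0, mul_one] at h3
  exact h3

theorem sum_C_ortho (D : CycData G s) [Fintype G] [Fintype (Cs G s)] {η η' : Γ → ℂ}
    (hη : IsIrrCharacter Γ η) (hη' : IsIrrCharacter Γ η')
    (hne : (fun g : G => η g) ≠ fun g : G => η' g) :
    ∑ c : Cs G s, η ((c : Γ) * s) * conj (η' ((c : Γ) * s)) = 0 := by
  have hcf := Helper25.isClassFunction_of_char (Helper25.isCharacter_of_irr hη)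
  have hcf' := Helper25.isClassFunction_of_char (Helper25.isCharacter_of_irr hη')
  have hF : ∀ a x : Γ, (fun y => η y * conj (η' y)) (x * a * x⁻¹)
      = (fun y => η y * conj (η' y)) a := by
    intro a x
    show η (x * a * x⁻¹) * conj (η' (x * a * x⁻¹)) = _
    rw [hcf a x, hcf' a x]
  have h := coset_avg' D (fun y => η y * conj (η' y)) hF
  have h2 : ∑ g : G, (fun y => η y * conj (η' y)) ((g : Γ) * s) = 0 := by
    rw [← sum_coset_ortho G D.hab hη hη' hne s]
    apply Finset.sum_congr rfl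
    intro g _
    show η ((g : Γ) * s) * conj (η' ((g : Γ) * s)) = η (s * g) * conj (η' (s * g))
    have e1 : η (s * g) = η ((g : Γ) * s) := by
      have h3 := hcf ((g : Γ) * s) s
      rw [← h3]
      congr 1
      group
    have e2 : η' (s * g) = η' ((g : Γ) * s) := by
      have h3 := hcf' ((g : Γ) * s) s
      rw [← h3]
      congr 1
      group
    rw [e1, e2]
  rw [h2, mul_zero] at h
  have hC0 : (Nat.card (Cs G s) : ℂ) ≠ 0 := card_ne_zero_complex
  have h3 := h.symm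
  rw [inv_mul_eq_iff_eq_mul₀ hC0, mul_zero] at h3
  exact h3

/-- Decomposition of `c ↦ χh (c t)` (`t ∈ ⟨s⟩`) along the linear characters of `⟨s⟩`. -/
theorem exists_mult [Fintype (Cs G s)] [Fintype (Subgroup.zpowers s →* ℂˣ)]
    {χh : Γ → ℂ} (hχh : IsCharacter Γ χh) {β : Cs G s → ℂ} (hβ : IsCharacter (Cs G s) β) :
    ∃ n : (Subgroup.zpowers s →* ℂˣ) → ℕ, ∀ t : Subgroup.zpowers s,
      classInner (fun c : Cs G s => χh ((c : Γ) * (t : Γ))) β
        = ∑ lam : Subgroup.zpowers s →* ℂˣ, (n lam : ℂ) * ((lam t : ℂˣ) : ℂ) := by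
  classical
  haveI : Fintype (Subgroup.zpowers s) := Fintype.ofFinite _
  have hcommZ : ∀ a b : Subgroup.zpowers s, a * b = b * a := by
    intro a b
    obtain ⟨i, hi⟩ := Subgroup.mem_zpowers_iff.1 a.2
    obtain ⟨j, hj⟩ := Subgroup.mem_zpowers_iff.1 b.2
    apply Subtype.ext
    show (a : Γ) * (b : Γ) = (b : Γ) * (a : Γ)
    rw [← hi, ← hj]
    exact ((Commute.refl s).zpow_zpow i j).eq
  have hcomm : ∀ (c : Cs G s) (t : Subgroup.zpowers s),
      Commute ((Cs G s).subtype c) ((Subgroup.zpowers s).subtype t) := by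
    intro c t
    obtain ⟨i, hi⟩ := Subgroup.mem_zpowers_iff.1 t.2
    show Commute (c : Γ) (t : Γ)
    rw [← hi]
    exact Commute.zpow_right (mem_Cs.1 c.2).2 i
  let m : Cs G s × Subgroup.zpowers s →* Γ :=
    MonoidHom.noncommCoprod (Cs G s).subtype (Subgroup.zpowers s).subtype hcomm
  have hm : ∀ p : Cs G s × Subgroup.zpowers s, m p = (p.1 : Γ) * (p.2 : Γ) := fun p => rfl
  have hΨ : IsCharacter (Cs G s × Subgroup.zpowers s) (fun p => χh (m p)) :=
    IsCharacter.comp hχh m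
  have hθ : ∀ lam : Subgroup.zpowers s →* ℂˣ,
      IsCharacter (Cs G s × Subgroup.zpowers s) (fun p => β p.1 * ((lam p.2 : ℂˣ) : ℂ)) := by
    intro lam
    have h1 : IsCharacter (Cs G s × Subgroup.zpowers s) (fun p => β p.1) :=
      IsCharacter.comp hβ (MonoidHom.fst (Cs G s) (Subgroup.zpowers s))
    have h2 : IsCharacter (Cs G s × Subgroup.zpowers s) (fun p => ((lam p.2 : ℂˣ) : ℂ)) :=
      IsCharacter.comp (Helper7.isCharacter_coeFunHom lam).1
        (MonoidHom.snd (Cs G s) (Subgroup.zpowers s))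
    exact isCharacter_mul h1 h2
  have hn := fun lam => classInner_isCharacter_nat hΨ (hθ lam)
  choose n hn using hn
  refine ⟨n, fun t => ?_⟩
  set f : Subgroup.zpowers s → ℂ :=
    fun t' => ∑ c : Cs G s, χh ((c : Γ) * (t' : Γ)) * conj (β c) with hf
  set Cc : ℂ := (Nat.card (Cs G s) : ℂ) with hCc
  set Zc : ℂ := (Nat.card (Subgroup.zpowers s) : ℂ) with hZc
  have hCc0 : Cc ≠ 0 := card_ne_zero_complex
  have hZc0 : Zc ≠ 0 := card_ne_zero_complex
  have hcard : (Nat.card (Cs G s × Subgroup.zpowers s) : ℂ) = Cc * Zc := by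
    rw [Nat.card_prod]
    push_cast
    rfl
  have hnf : ∀ lam : Subgroup.zpowers s →* ℂˣ, (n lam : ℂ) = (Cc * Zc)⁻¹ *
      ∑ t' : Subgroup.zpowers s, f t' * conj ((lam t' : ℂˣ) : ℂ) := by
    intro lam
    rw [← hn lam, classInner_def, hcard, Fintype.sum_prod_type_right]
    congr 1
    apply Finset.sum_congr rfl
    intro t' _
    show _ = (∑ c : Cs G s, χh ((c : Γ) * (t' : Γ)) * conj (β c)) * conj ((lam t' : ℂˣ) : ℂ)
    rw [Finset.sum_mul]
    apply Finset.sum_congr rfl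
    intro c _
    show χh (m (c, t')) * conj (β c * ((lam t' : ℂˣ) : ℂ)) = _
    rw [hm, map_mul]
    ring
  have hkey : ∀ t' : Subgroup.zpowers s,
      ∑ lam : Subgroup.zpowers s →* ℂˣ, conj ((lam t' : ℂˣ) : ℂ) * ((lam t : ℂˣ) : ℂ)
        = if t * t'⁻¹ = 1 then Zc else 0 := by
    intro t'
    rw [hZc, ← Helper7.sum_linChar_apply hcommZ (t * t'⁻¹)]
    apply Finset.sum_congr rfl
    intro lam _
    rw [Helper11.linChar_conj, map_mul, map_inv, Units.val_mul, mul_comm]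
    rfl
  have hlhs : classInner (fun c : Cs G s => χh ((c : Γ) * (t : Γ))) β = Cc⁻¹ * f t := rfl
  rw [hlhs]
  symm
  calc ∑ lam : Subgroup.zpowers s →* ℂˣ, (n lam : ℂ) * ((lam t : ℂˣ) : ℂ)
      = ∑ lam : Subgroup.zpowers s →* ℂˣ, ∑ t' : Subgroup.zpowers s,
          (Cc * Zc)⁻¹ * (f t' * (conj ((lam t' : ℂˣ) : ℂ) * ((lam t : ℂˣ) : ℂ))) := by
        apply Finset.sum_congr rfl
        intro lam _
        rw [hnf lam, Finset.mul_sum, Finset.sum_mul]
        apply Finset.sum_congr rfl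
        intro t' _
        ring
    _ = ∑ t' : Subgroup.zpowers s, ∑ lam : Subgroup.zpowers s →* ℂˣ,
          (Cc * Zc)⁻¹ * (f t' * (conj ((lam t' : ℂˣ) : ℂ) * ((lam t : ℂˣ) : ℂ))) :=
        Finset.sum_comm
    _ = ∑ t' : Subgroup.zpowers s, (Cc * Zc)⁻¹ * (f t' * (if t * t'⁻¹ = 1 then Zc else 0)) := by
        apply Finset.sum_congr rfl
        intro t' _
        rw [← Finset.mul_sum, ← Finset.mul_sum, hkey t']
    _ = (Cc * Zc)⁻¹ * (f t * Zc) := by
        rw [Finset.sum_eq_single t]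
        · rw [mul_inv_cancel, if_pos rfl]
        · intro t' _ hne
          have : ¬ (t * t'⁻¹ = 1) := by
            rw [mul_inv_eq_one]
            exact fun h => hne h.symm
          rw [if_neg this, mul_zero, mul_zero]
        · intro h
          exact absurd (Finset.mem_univ t) h
    _ = Cc⁻¹ * f t := by
        field_simp

theorem isPowerSum_nat_mul_pow (m : ℕ) (N : ℕ) (ζ : ℂ) (hζ : ζ ^ m = 1) :
    Helper25.IsPowerSum m (fun k => (N : ℂ) * ζ ^ k) :=
  ⟨Fin N, inferInstance, fun _ => ζ, fun _ => hζ, fun k => by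
    rw [Finset.sum_const, Finset.card_univ, Fintype.card_fin, nsmul_eq_mul]⟩

/-- The multiplicity `[χh(· s), β]` is a rational integer when `χh` is the canonical extension. -/
theorem exists_int_inner (D : CycData G s) [Fintype (Cs G s)] {χh : Γ → ℂ}
    (hχh : IsIrrCharacter Γ χh) (hres : IsIrrCharacter G (fun g : G => χh g))
    (hdet : (detOrder χh).Coprime (orderOf s)) {β : Cs G s → ℂ}
    (hβ : IsCharacter (Cs G s) β) :
    ∃ z : ℤ, classInner (fun c : Cs G s => χh ((c : Γ) * s)) β = (z : ℂ) := by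
  classical
  haveI : Fintype (Subgroup.zpowers s →* ℂˣ) := Fintype.ofFinite _
  obtain ⟨n, hn⟩ := exists_mult (G := G) (s := s) (Helper25.isCharacter_of_irr hχh) hβ
  set sZ : Subgroup.zpowers s := ⟨s, Subgroup.mem_zpowers s⟩ with hsZ
  have hord : orderOf s ≠ 0 := (orderOf_pos s).ne'
  haveI : NeZero (orderOf s) := ⟨hord⟩
  set F : ℕ → ℂ := fun k =>
    ∑ lam : Subgroup.zpowers s →* ℂˣ, (n lam : ℂ) * ((lam sZ : ℂˣ) : ℂ) ^ k with hF
  have hroot : ∀ lam : Subgroup.zpowers s →* ℂˣ, ((lam sZ : ℂˣ) : ℂ) ^ orderOf s = 1 := by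
    intro lam
    rw [← Units.val_pow_eq_pow_val, ← map_pow]
    have : sZ ^ orderOf s = 1 := by
      apply Subtype.ext
      rw [Subgroup.coe_pow]
      exact pow_orderOf_eq_one s
    rw [this, map_one, Units.val_one]
  have hFk : ∀ k : ℕ, F k = classInner (fun c : Cs G s => χh ((c : Γ) * s ^ k)) β := by
    intro k
    have h1 := hn (sZ ^ k)
    rw [Subgroup.coe_pow] at h1
    rw [h1]
    apply Finset.sum_congr rfl
    intro lam _
    rw [map_pow, Units.val_pow_eq_pow_val]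
  have hps : Helper25.IsPowerSum (orderOf s) F :=
    Helper25.IsPowerSum.finset_sum Finset.univ
      (fun lam k => (n lam : ℂ) * ((lam sZ : ℂˣ) : ℂ) ^ k)
      (fun lam _ => isPowerSum_nat_mul_pow _ _ _ (hroot lam))
  have hinv : ∀ k : ℕ, k.Coprime (orderOf s) → F k = F 1 := by
    intro k hk
    rw [hFk k, hFk 1]
    congr 1
    funext c
    rw [pow_one]
    exact canon_gen_invariant D hχh hres hdet c.2 k hk
  obtain ⟨q, hq⟩ := hps.rat_of_invariant hinv
  have hint : IsIntegral ℤ (F 1) := by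
    apply IsIntegral.sum
    intro lam _
    apply IsIntegral.mul (isIntegral_natCast _)
    apply IsIntegral.pow
    apply IsIntegral.of_pow (orderOf_pos s)
    rw [hroot lam]
    exact isIntegral_one
  obtain ⟨z, hz⟩ := exists_int_of_isIntegral_of_rat q hq hint
  refine ⟨z, ?_⟩
  rw [← hz, hFk 1, pow_one]

end CSums

section Main

variable {Γ : Type*} [Group Γ] [Fintype Γ] {G : Subgroup Γ} [hG : G.Normal] {s : Γ}

theorem phi_isClassFunction {χh : Γ → ℂ} (hcf : IsClassFunction Γ χh) :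
    IsClassFunction (Cs G s) (fun c : Cs G s => χh ((c : Γ) * s)) := by
  intro c h
  show χh ((h : Γ) * (c : Γ) * (h : Γ)⁻¹ * s) = χh ((c : Γ) * s)
  have hh : Commute (h : Γ) s := (mem_Cs.1 h.2).2
  have h2 : Commute (h : Γ)⁻¹ s := Commute.inv_left hh
  have : (h : Γ) * (c : Γ) * (h : Γ)⁻¹ * s = (h : Γ) * ((c : Γ) * s) * (h : Γ)⁻¹ := by
    calc (h : Γ) * (c : Γ) * (h : Γ)⁻¹ * s = (h : Γ) * (c : Γ) * ((h : Γ)⁻¹ * s) := by group
      _ = (h : Γ) * (c : Γ) * (s * (h : Γ)⁻¹) := by rw [h2.eq]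
      _ = (h : Γ) * ((c : Γ) * s) * (h : Γ)⁻¹ := by group
  rw [this, hcf]

/-- Isaacs 13.6, existence: `χh (c s) = ε β(c)` for a unique `β ∈ Irr(C)` and sign `ε`. -/
theorem exists_beta (D : CycData G s) [Fintype G] [Fintype (Cs G s)] {χh : Γ → ℂ}
    (hχh : IsIrrCharacter Γ χh) (hres : IsIrrCharacter G (fun g : G => χh g))
    (hdet : (detOrder χh).Coprime (orderOf s)) :
    ∃ (β : IrrCharacter (Cs G s)) (ε : ℤ), (ε = 1 ∨ ε = -1) ∧
      (∀ c : Cs G s, χh ((c : Γ) * s) = (ε : ℂ) * (β : Cs G s → ℂ) c) ∧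
      classInner (fun c : Cs G s => χh (c : Γ)) (β : Cs G s → ℂ) ≠ 0 := by
  classical
  haveI : Fintype (IrrCharacter (Cs G s)) := Fintype.ofFinite _
  set φ : Cs G s → ℂ := fun c => χh ((c : Γ) * s) with hφ
  have hχc := Helper25.isCharacter_of_irr hχh
  have hφcf : IsClassFunction (Cs G s) φ :=
    phi_isClassFunction (Helper25.isClassFunction_of_char hχc)
  have hz := fun β : IrrCharacter (Cs G s) =>
    exists_int_inner D hχh hres hdet (IsIrrCharacter.isCharacter β.2)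
  choose z hz using hz
  have hexp := classFunction_expansion φ hφcf
  have h1 : classInner φ φ = 1 := by
    rw [classInner_def, sum_C_normSq D hχh hres]
    exact inv_mul_cancel₀ card_ne_zero_complex
  have h2 : classInner φ φ = ∑ β : IrrCharacter (Cs G s), ((z β : ℤ) : ℂ) * ((z β : ℤ) : ℂ) := by
    have h3 : classInner φ φ = classInner (∑ β : IrrCharacter (Cs G s),
        classInner φ (β : Cs G s → ℂ) • (β : Cs G s → ℂ)) φ :=
      congrArg (fun f => classInner f φ) hexp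
    rw [h3, classInner_sum_left]
    apply Finset.sum_congr rfl
    intro β _
    rw [classInner_smul_left, ← classInner_conj_symm φ (β : Cs G s → ℂ), hz β,
      map_intCast]
  have hsum : ∑ β : IrrCharacter (Cs G s), z β * z β = 1 := by
    have : ((∑ β : IrrCharacter (Cs G s), z β * z β : ℤ) : ℂ) = 1 := by
      push_cast
      rw [← h2, h1]
    exact_mod_cast this
  obtain ⟨β₀, hβ₀⟩ : ∃ β₀, z β₀ ≠ 0 := by
    by_contra hcon
    push Not at hcon
    rw [Finset.sum_eq_zero (fun β _ => by rw [hcon β, mul_zero])] at hsum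
    exact zero_ne_one hsum
  have hsplit : z β₀ * z β₀ + ∑ β ∈ Finset.univ.erase β₀, z β * z β
      = ∑ β : IrrCharacter (Cs G s), z β * z β :=
    Finset.add_sum_erase Finset.univ (fun β => z β * z β) (Finset.mem_univ β₀)
  have hrest : 0 ≤ ∑ β ∈ Finset.univ.erase β₀, z β * z β :=
    Finset.sum_nonneg (fun β _ => mul_self_nonneg _)
  have hpos : 0 < z β₀ * z β₀ := mul_self_pos.2 hβ₀
  have hone : z β₀ * z β₀ = 1 := by linarith
  have hrest0 : ∑ β ∈ Finset.univ.erase β₀, z β * z β = 0 := by linarith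
  have hzero : ∀ β, β ≠ β₀ → z β = 0 := by
    intro β hne
    have := (Finset.sum_eq_zero_iff_of_nonneg (fun β _ => mul_self_nonneg (z β))).1 hrest0 β
      (Finset.mem_erase.2 ⟨hne, Finset.mem_univ β⟩)
    exact mul_self_eq_zero.1 this
  have hε : z β₀ = 1 ∨ z β₀ = -1 := mul_self_eq_one_iff.1 hone
  have hφeq : ∀ c, φ c = (z β₀ : ℂ) * (β₀ : Cs G s → ℂ) c := by
    intro c
    have h4 := congrFun hexp c
    rw [Finset.sum_apply] at h4
    rw [h4, Finset.sum_eq_single β₀]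
    · rw [Pi.smul_apply, smul_eq_mul, hz β₀]
    · intro β _ hne
      rw [Pi.smul_apply, smul_eq_mul, hz β, hzero β hne, Int.cast_zero, zero_mul]
    · intro h
      exact absurd (Finset.mem_univ _) h
  refine ⟨β₀, z β₀, hε, hφeq, ?_⟩
  haveI : Fintype (Subgroup.zpowers s →* ℂˣ) := Fintype.ofFinite _
  obtain ⟨n, hn⟩ := exists_mult (G := G) (s := s) hχc (IsIrrCharacter.isCharacter β₀.2)
  have hs1 : classInner (fun c : Cs G s => χh ((c : Γ) * s)) (β₀ : Cs G s → ℂ)
      = ∑ lam : Subgroup.zpowers s →* ℂˣ,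
        (n lam : ℂ) * ((lam ⟨s, Subgroup.mem_zpowers s⟩ : ℂˣ) : ℂ) :=
    hn ⟨s, Subgroup.mem_zpowers s⟩
  have h11 := hn 1
  have e1 : (fun c : Cs G s => χh ((c : Γ) * ((1 : Subgroup.zpowers s) : Γ)))
      = fun c : Cs G s => χh (c : Γ) := by
    funext c
    rw [Subgroup.coe_one, mul_one]
  rw [e1] at h11
  rw [h11]
  have e2 : ∑ lam : Subgroup.zpowers s →* ℂˣ, (n lam : ℂ) * ((lam 1 : ℂˣ) : ℂ)
      = ((∑ lam : Subgroup.zpowers s →* ℂˣ, n lam : ℕ) : ℂ) := by
    push_cast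
    apply Finset.sum_congr rfl
    intro lam _
    rw [map_one, Units.val_one, mul_one]
  rw [e2]
  intro h0
  have h0' : ∑ lam : Subgroup.zpowers s →* ℂˣ, n lam = 0 := by exact_mod_cast h0
  have hall : ∀ lam, n lam = 0 := fun lam => (Finset.sum_eq_zero_iff.1 h0') lam (Finset.mem_univ _)
  have hz0 : (z β₀ : ℂ) = 0 := by
    rw [← hz β₀, hs1]
    apply Finset.sum_eq_zero
    intro lam _
    rw [hall lam, Nat.cast_zero, zero_mul]
  exact hβ₀ (by exact_mod_cast hz0)

/-- Isaacs 13.6, injectivity. -/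
theorem beta_injective (D : CycData G s) [Fintype G] [Fintype (Cs G s)] {η η' : Γ → ℂ}
    (hη : IsIrrCharacter Γ η) (hη' : IsIrrCharacter Γ η') {β : Cs G s → ℂ}
    (hβ : IsIrrCharacter (Cs G s) β)
    {ε ε' : ℤ} (hε : ε = 1 ∨ ε = -1) (hε' : ε' = 1 ∨ ε' = -1)
    (h : ∀ c : Cs G s, η ((c : Γ) * s) = (ε : ℂ) * β c)
    (h' : ∀ c : Cs G s, η' ((c : Γ) * s) = (ε' : ℂ) * β c) :
    (fun g : G => η g) = fun g : G => η' g := by
  by_contra hne
  have h0 := sum_C_ortho D hη hη' hne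
  have h1 : ∑ c : Cs G s, η ((c : Γ) * s) * conj (η' ((c : Γ) * s))
      = (ε : ℂ) * (ε' : ℂ) * ∑ c : Cs G s, β c * conj (β c) := by
    rw [Finset.mul_sum]
    apply Finset.sum_congr rfl
    intro c _
    rw [h c, h' c, map_mul, map_intCast]
    ring
  have hC0 : (Nat.card (Cs G s) : ℂ) ≠ 0 := card_ne_zero_complex
  have h2 : ∑ c : Cs G s, β c * conj (β c) = (Nat.card (Cs G s) : ℂ) := by
    have := Helper25.irr_classInner hβ hβ
    rw [if_pos rfl, classInner_def, inv_mul_eq_iff_eq_mul₀ hC0, mul_one] at this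
    exact this
  rw [h1, h2] at h0
  have hεne : (ε : ℂ) ≠ 0 := by rcases hε with rfl | rfl <;> norm_num
  have hε'ne : (ε' : ℂ) ≠ 0 := by rcases hε' with rfl | rfl <;> norm_num
  exact (mul_ne_zero (mul_ne_zero hεne hε'ne) hC0) h0

/-- The restriction to `G` of twist-free irreducible characters has constant norm. -/
theorem exists_const_normSq (D : CycData G s) [Fintype G] :
    ∃ κ : ℂ, ∀ ψ : Γ → ℂ, IsIrrCharacter Γ ψ →
      (∀ lam : Γ →* ℂˣ, (∀ y ∈ G, lam y = 1) → (fun x => (lam x : ℂ) * ψ x) = ψ → lam = 1) →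
      ∑ g : G, ψ g * conj (ψ g) = κ := by
  classical
  haveI : Fintype (Γ →* ℂˣ) := Fintype.ofFinite _
  set Λ := Finset.univ.filter (fun φ : Γ →* ℂˣ => ∀ y ∈ G, φ y = 1) with hΛ
  have hone : (1 : Γ →* ℂˣ) ∈ Λ := by
    rw [hΛ, Finset.mem_filter]
    exact ⟨Finset.mem_univ _, fun y _ => rfl⟩
  refine ⟨(Λ.card : ℂ)⁻¹ * (Nat.card Γ : ℂ), fun ψ hψ hfree => ?_⟩
  have h1 : ∑ g : G, ψ g * conj (ψ g)
      = ∑ n : G, (fun x => ψ x * conj (ψ x)) ((1 : Γ) * (n : Γ)) := by
    apply Finset.sum_congr rfl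
    intro g _
    rw [one_mul]
  rw [h1, sum_coset_fourier G D.hab (fun x => ψ x * conj (ψ x)) 1, ← hΛ]
  congr 1
  have h2 : ∀ lam ∈ Λ, ((lam 1 : ℂˣ) : ℂ)⁻¹ * ∑ x : Γ, (lam x : ℂ) * (ψ x * conj (ψ x))
      = if lam = 1 then (Nat.card Γ : ℂ) else 0 := by
    intro lam hlam
    have hlamG : ∀ y ∈ G, lam y = 1 := (Finset.mem_filter.mp hlam).2
    have hirr : IsIrrCharacter Γ (fun x => (lam x : ℂ) * ψ x) :=
      Helper11.isIrrCharacter_twist lam hψ
    have h3 := Helper25.irr_classInner hirr hψ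
    rw [classInner_def] at h3
    have hΓ0 : (Nat.card Γ : ℂ) ≠ 0 := card_ne_zero_complex
    have h4 : ∑ x : Γ, (lam x : ℂ) * (ψ x * conj (ψ x))
        = ∑ g : Γ, (fun x => (lam x : ℂ) * ψ x) g * conj (ψ g) := by
      apply Finset.sum_congr rfl
      intro x _
      ring
    rw [map_one, Units.val_one, inv_one, one_mul, h4]
    by_cases h5 : lam = 1
    · rw [if_pos h5]
      have h6 : (fun x => (lam x : ℂ) * ψ x) = ψ := by
        funext x
        rw [h5]
        simp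
      rw [if_pos h6, inv_mul_eq_iff_eq_mul₀ hΓ0, mul_one] at h3
      exact h3
    · rw [if_neg h5]
      have h6 : (fun x => (lam x : ℂ) * ψ x) ≠ ψ := fun h => h5 (hfree lam hlamG h)
      rw [if_neg h6] at h3
      rcases mul_eq_zero.mp h3 with h7 | h7
      · exact absurd (inv_eq_zero.mp h7) hΓ0
      · exact h7
  rw [Finset.sum_congr rfl h2, Finset.sum_ite_eq' Λ 1, if_pos hone]

/-- An irreducible character of `Γ` not vanishing on the coset `G s` restricts irreducibly. -/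
theorem restrict_irr_of_ne_zero (D : CycData G s) [Fintype G] {ψ : Γ → ℂ}
    (hψ : IsIrrCharacter Γ ψ) {c : Γ} (hc : c ∈ G) (hne : ψ (c * s) ≠ 0) :
    IsIrrCharacter G (fun g : G => ψ g) := by
  obtain ⟨κ, hκ⟩ := exists_const_normSq D
  have hκ1 : κ = (Nat.card G : ℂ) := by
    rw [← hκ (fun _ => 1) Helper25.isIrrCharacter_one]
    · simp [Nat.card_eq_fintype_card]
    · intro lam _ h
      apply MonoidHom.ext
      intro x
      have := congrFun h x
      simp only [mul_one] at this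
      apply Units.ext
      rw [this]
      rfl
  have h2 := hκ ψ hψ (by
    intro lam hlamG h
    have h3 : (lam (c * s) : ℂ) * ψ (c * s) = ψ (c * s) := congrFun h (c * s)
    have h4 : ((lam (c * s) : ℂˣ) : ℂ) = 1 := by
      have := mul_right_cancel₀ hne (h3.trans (one_mul _).symm)
      exact this
    have h5 : lam s = 1 := by
      apply Units.ext
      rw [map_mul, hlamG c hc, one_mul] at h4
      rw [h4]
      rfl
    exact D.hom_eq_one lam hlamG h5)
  apply isIrrCharacter_of_classInner_self_eq_one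
    (IsCharacter.restrict (Helper25.isCharacter_of_irr hψ) G)
  rw [classInner_def, h2, hκ1]
  exact inv_mul_cancel₀ card_ne_zero_complex

/-- Isaacs 13.6, surjectivity. -/
theorem exists_chi (D : CycData G s) [Fintype G] [Fintype (Cs G s)]
    (β : IrrCharacter (Cs G s)) :
    ∃ (χh : Γ → ℂ) (ε : ℤ), IsIrrCharacter Γ χh ∧ IsIrrCharacter G (fun g : G => χh g) ∧
      (detOrder χh).Coprime (orderOf s) ∧ (ε = 1 ∨ ε = -1) ∧
      ∀ c : Cs G s, χh ((c : Γ) * s) = (ε : ℂ) * (β : Cs G s → ℂ) c := by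
  classical
  haveI : Fintype (IrrCharacter Γ) := Fintype.ofFinite _
  have hC0 : (Nat.card (Cs G s) : ℂ) ≠ 0 := card_ne_zero_complex
  have hstep_a : ∃ ψ : IrrCharacter Γ,
      classInner (fun c : Cs G s => (ψ : Γ → ℂ) ((c : Γ) * s)) (β : Cs G s → ℂ) ≠ 0 := by
    by_contra hcon
    push Not at hcon
    have hcount : ∀ c : Cs G s,
        ∑ ψ : IrrCharacter Γ, (ψ : Γ → ℂ) ((c : Γ) * s) * conj ((ψ : Γ → ℂ) s)
          = (Nat.card {k : Γ // k * s * k⁻¹ = (c : Γ) * s} : ℂ) :=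
      fun c => Helper25.second_orthogonality_count ((c : Γ) * s) s
    have hempty : ∀ c : Cs G s, c ≠ 1 →
        (Nat.card {k : Γ // k * s * k⁻¹ = (c : Γ) * s} : ℂ) = 0 := by
      intro c hc
      have : IsEmpty {k : Γ // k * s * k⁻¹ = (c : Γ) * s} := by
        constructor
        rintro ⟨k, hk⟩
        apply hc
        have h1 : k * ((1 : Γ) * s) * k⁻¹ = (c : Γ) * s := by
          rw [one_mul]
          exact hk
        have h2 := Helper11.conj_eq_of_coprime_parts G s D.cop (c := 1) (c₀ := (c : Γ)) (y := k)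
          (one_mem G) (mem_Cs.1 c.2).1 (by rw [one_mul, mul_one]) (mem_Cs.1 c.2).2 h1
        rw [h2] at hk
        apply Subtype.ext
        have h3 : (1 : Γ) * s = (c : Γ) * s := by
          rw [one_mul]
          exact hk
        exact (mul_right_cancel h3).symm
      rw [Nat.card_of_isEmpty, Nat.cast_zero]
    have hT : ∑ c : Cs G s, conj ((β : Cs G s → ℂ) c) *
        ∑ ψ : IrrCharacter Γ, (ψ : Γ → ℂ) ((c : Γ) * s) * conj ((ψ : Γ → ℂ) s)
        = conj ((β : Cs G s → ℂ) 1) *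
          (Nat.card {k : Γ // k * s * k⁻¹ = ((1 : Cs G s) : Γ) * s} : ℂ) := by
      rw [Finset.sum_eq_single (1 : Cs G s)]
      · rw [hcount 1]
      · intro c _ hc
        rw [hcount c, hempty c hc, mul_zero]
      · intro h
        exact absurd (Finset.mem_univ _) h
    have hT0 : ∑ c : Cs G s, conj ((β : Cs G s → ℂ) c) *
        ∑ ψ : IrrCharacter Γ, (ψ : Γ → ℂ) ((c : Γ) * s) * conj ((ψ : Γ → ℂ) s) = 0 := by
      simp_rw [Finset.mul_sum]
      rw [Finset.sum_comm]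
      apply Finset.sum_eq_zero
      intro ψ _
      have h3 := hcon ψ
      rw [classInner_def] at h3
      have h4 : ∑ c : Cs G s, (ψ : Γ → ℂ) ((c : Γ) * s) * conj ((β : Cs G s → ℂ) c) = 0 := by
        rcases mul_eq_zero.1 h3 with h | h
        · exact absurd (inv_eq_zero.1 h) hC0
        · exact h
      calc ∑ c : Cs G s, conj ((β : Cs G s → ℂ) c) *
            ((ψ : Γ → ℂ) ((c : Γ) * s) * conj ((ψ : Γ → ℂ) s))
          = conj ((ψ : Γ → ℂ) s) *
            ∑ c : Cs G s, (ψ : Γ → ℂ) ((c : Γ) * s) * conj ((β : Cs G s → ℂ) c) := by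
            rw [Finset.mul_sum]
            apply Finset.sum_congr rfl
            intro c _
            ring
        _ = 0 := by rw [h4, mul_zero]
    rw [hT] at hT0
    have hb1 : conj ((β : Cs G s → ℂ) 1) ≠ 0 := by
      rw [Ne, map_eq_zero]
      exact IsIrrCharacter.apply_one_ne_zero β.2
    have hN1 : (Nat.card {k : Γ // k * s * k⁻¹ = ((1 : Cs G s) : Γ) * s} : ℂ) ≠ 0 := by
      haveI : Nonempty {k : Γ // k * s * k⁻¹ = ((1 : Cs G s) : Γ) * s} := ⟨⟨1, by simp⟩⟩
      exact_mod_cast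
        (Nat.card_pos (α := {k : Γ // k * s * k⁻¹ = ((1 : Cs G s) : Γ) * s})).ne'
    exact (mul_ne_zero hb1 hN1) hT0
  obtain ⟨ψ, hψne⟩ := hstep_a
  obtain ⟨c, hc⟩ : ∃ c : Cs G s, (ψ : Γ → ℂ) ((c : Γ) * s) ≠ 0 := by
    by_contra hcon
    push Not at hcon
    apply hψne
    rw [classInner_def, Finset.sum_eq_zero (fun c _ => by rw [hcon c, zero_mul]), mul_zero]
  have hresψ := restrict_irr_of_ne_zero D ψ.2 (mem_Cs.1 c.2).1 hc
  have hinv : ∀ (g : Γ) (n : G),
      (fun g : G => (ψ : Γ → ℂ) g) ⟨g * n * g⁻¹, hG.conj_mem (n : Γ) n.2 g⟩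
        = (fun g : G => (ψ : Γ → ℂ) g) n := by
    intro g n
    exact Helper25.isClassFunction_of_char (Helper25.isCharacter_of_irr ψ.2) _ _
  obtain ⟨χ₀, hχ₀, hχ₀r, hχ₀d⟩ := canon_exists G hresψ D.cop_index hinv
  have hχ₀res : IsIrrCharacter G (fun g : G => χ₀ g) := by
    have : (fun g : G => χ₀ g) = fun g : G => (ψ : Γ → ℂ) g := funext hχ₀r
    rw [this]
    exact hresψ
  have hdet₀ : (detOrder χ₀).Coprime (orderOf s) :=
    Nat.Coprime.coprime_dvd_left hχ₀d D.cop.symm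
  obtain ⟨μ, hμG, hμ⟩ :=
    Helper25.exists_hom_of_two_extensions G hresψ hχ₀ ψ.2 hχ₀r (fun n => rfl)
  obtain ⟨β₀, ε, hε, hval, _⟩ := exists_beta D hχ₀ hχ₀res hdet₀
  refine ⟨χ₀, ε, hχ₀, hχ₀res, hdet₀, hε, ?_⟩
  have hβeq : β₀ = β := by
    by_contra hne
    apply hψne
    have h5 : (fun c : Cs G s => (ψ : Γ → ℂ) ((c : Γ) * s))
        = (((μ s : ℂˣ) : ℂ) * (ε : ℂ)) • (β₀ : Cs G s → ℂ) := by
      funext c
      have hμc : μ (c : Γ) = 1 := hμG ⟨(c : Γ), (mem_Cs.1 c.2).1⟩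
      rw [hμ, Pi.mul_apply, Helper7.coeFunHom_apply, map_mul, hμc, one_mul, hval c,
        Pi.smul_apply, smul_eq_mul]
      ring
    rw [h5, classInner_smul_left, classInner_irrCharacter_ne hne, mul_zero]
  rw [← hβeq]
  exact hval

end Main

section Assembly

variable {Γ : Type*} [Group Γ] [Finite Γ]

theorem exists_pow_of_zpowers_eq {s₀ s : Γ} (h : Subgroup.zpowers s = Subgroup.zpowers s₀) :
    ∃ j : ℕ, j.Coprime (orderOf s₀) ∧ s = s₀ ^ j := by
  have hs : s ∈ Subgroup.zpowers s₀ := by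
    rw [← h]
    exact Subgroup.mem_zpowers s
  rw [← mem_powers_iff_mem_zpowers, Submonoid.mem_powers_iff] at hs
  obtain ⟨j, hj⟩ := hs
  refine ⟨j, ?_, hj.symm⟩
  have h1 : Nat.card (Subgroup.zpowers s) = Nat.card (Subgroup.zpowers s₀) := by rw [h]
  rw [Nat.card_zpowers, Nat.card_zpowers, ← hj, orderOf_pow s₀, Nat.div_eq_self] at h1
  rcases h1 with h1 | h1
  · exact absurd h1 (orderOf_pos s₀).ne'
  · exact Nat.Coprime.symm h1

theorem normal_of_sup_eq_top (G S : Subgroup Γ) (hnorm : ∀ s ∈ S, ∀ g ∈ G, s * g * s⁻¹ ∈ G)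
    (htop : G ⊔ S = ⊤) : G.Normal := by
  have hle : G ⊔ S ≤ Subgroup.normalizer (G : Set Γ) := by
    apply sup_le Subgroup.le_normalizer
    intro s hs
    rw [Subgroup.mem_normalizer_iff]
    intro h
    constructor
    · exact hnorm s hs h
    · intro hh
      have := hnorm s⁻¹ (S.inv_mem hs) _ hh
      have e : s⁻¹ * (s * h * s⁻¹) * s⁻¹⁻¹ = h := by group
      rw [e] at this
      exact this
  apply Subgroup.normalizer_eq_top_iff.1
  rw [eq_top_iff, ← htop]
  exact hle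

theorem cycData_of_sup_eq_top (G : Subgroup Γ) [hG : G.Normal] (s₀ : Γ)
    (htop : G ⊔ Subgroup.zpowers s₀ = ⊤) (hcop : (Nat.card G).Coprime (orderOf s₀)) :
    CycData G s₀ := by
  refine ⟨fun x => ?_, hcop.symm⟩
  have hx : x ∈ ((G ⊔ Subgroup.zpowers s₀ : Subgroup Γ) : Set Γ) := by
    rw [htop]
    trivial
  rw [Subgroup.normal_mul, Set.mem_mul] at hx
  obtain ⟨g, hg, t, ht, rfl⟩ := hx
  have ht' : t ∈ Subgroup.zpowers s₀ := ht
  rw [← mem_powers_iff_mem_zpowers, Submonoid.mem_powers_iff] at ht'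
  obtain ⟨i, rfl⟩ := ht'
  exact ⟨g, hg, i, rfl⟩

theorem centralizer_zpowers (s₀ : Γ) :
    Subgroup.centralizer (Subgroup.zpowers s₀ : Set Γ) = Subgroup.centralizer {s₀} := by
  ext x
  rw [Subgroup.mem_centralizer_iff, Subgroup.mem_centralizer_iff]
  constructor
  · intro h y hy
    rw [Set.mem_singleton_iff] at hy
    subst hy
    exact h y (Subgroup.mem_zpowers y)
  · intro h y hy
    have hy' : y ∈ Subgroup.zpowers s₀ := hy
    obtain ⟨i, rfl⟩ := Subgroup.mem_zpowers_iff.1 hy'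
    have h1 : Commute s₀ x := h s₀ rfl
    exact (h1.zpow_left i).eq

end Assembly

end Cfsg.Agent.Lib.Helper2.GlCyc
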