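import Mathlib
import Cfsg.Agent.Lib.Helper2.GlaubermanCyclic
import Cfsg.Agent.Lib.Helper11.Clifford2
import Cfsg.Agent.Lib.Helper24.Loc
import Cfsg.Agent.Lib.Helper25.EvenDegree

/-!
# The Glauberman correspondence for a `p`-group of operators (helper2 library; Isaacs 13.14)
-/

set_option autoImplicit false
set_option linter.unusedSectionVars false
set_option linter.style.haveILetI false
set_option linter.unusedVariables false

namespace Cfsg.Agent.Lib.Helper2.GlPG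

open Cfsg Cfsg.Agent.Lib Cfsg.Agent.Lib.Helper2 Cfsg.Agent.Lib.Helper2.GlCyc
open scoped ComplexConjugate

section General

variable {Γ : Type*} [Group Γ]

/-- instance-free inner product -/
noncomputable def cinn {H : Type*} [Group H] [Finite H] (φ ψ : H → ℂ) : ℂ :=
  haveI := Fintype.ofFinite H
  classInner φ ψ

theorem cinn_eq {H : Type*} [Group H] [Fintype H] (φ ψ : H → ℂ) : cinn φ ψ = classInner φ ψ := by
  unfold cinn
  congr
  apply Subsingleton.elim

/-- invariance of a function on `H` under conjugation by `x`. -/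
def InvUnder (H : Subgroup Γ) (x : Γ) (χ : H → ℂ) : Prop :=
  ∀ g g' : H, (g' : Γ) = x * g * x⁻¹ → χ g' = χ g

/-- the subgroup of elements normalising `H` and fixing `χ`. -/
def invSubgroup (H : Subgroup Γ) (χ : H → ℂ) : Subgroup Γ where
  carrier := {x | x ∈ Subgroup.normalizer (H : Set Γ) ∧ InvUnder H x χ}
  one_mem' := ⟨one_mem _, fun g g' h => by
    have : g' = g := Subtype.ext (by rw [h]; group)
    rw [this]⟩
  mul_mem' := by
    rintro x y ⟨hx, hx'⟩ ⟨hy, hy'⟩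
    refine ⟨mul_mem hx hy, fun g g' h => ?_⟩
    have hg₁ : y * g * y⁻¹ ∈ H := (Subgroup.mem_normalizer_iff.1 hy g).1 g.2
    have h1 := hy' g ⟨y * g * y⁻¹, hg₁⟩ rfl
    have h2 := hx' ⟨y * g * y⁻¹, hg₁⟩ g' (by
      show (g' : Γ) = x * (y * g * y⁻¹) * x⁻¹
      rw [h]; group)
    rw [h2, h1]
  inv_mem' := by
    rintro x ⟨hx, hx'⟩
    refine ⟨inv_mem hx, fun g g' h => ?_⟩
    have := hx' g' g (by rw [h]; group)
    exact this.symm

theorem mem_invSubgroup {H : Subgroup Γ} {χ : H → ℂ} {x : Γ} :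
    x ∈ invSubgroup H χ ↔ x ∈ Subgroup.normalizer (H : Set Γ) ∧ InvUnder H x χ := Iff.rfl

theorem le_invSubgroup {H : Subgroup Γ} {χ : H → ℂ} (hχ : IsClassFunction H χ) :
    H ≤ invSubgroup H χ := by
  intro x hx
  refine ⟨Subgroup.le_normalizer hx, fun g g' h => ?_⟩
  have : g' = ⟨x, hx⟩ * g * ⟨x, hx⟩⁻¹ := Subtype.ext h
  rw [this]
  exact hχ g ⟨x, hx⟩

/-- restriction to a subgroup `C ≤ H` -/
def res {H C : Subgroup Γ} (hCH : C ≤ H) (χ : H → ℂ) : C → ℂ := fun c => χ ⟨c, hCH c.2⟩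

theorem res_apply {H C : Subgroup Γ} (hCH : C ≤ H) (χ : H → ℂ) (c : C) :
    res hCH χ c = χ ⟨c, hCH c.2⟩ := rfl

theorem res_isCharacter {H C : Subgroup Γ} (hCH : C ≤ H) {χ : H → ℂ} (hχ : IsCharacter H χ) :
    IsCharacter C (res hCH χ) :=
  IsCharacter.comp hχ (Subgroup.inclusion hCH)

theorem res_isClassFunction {H C : Subgroup Γ} (hCH : C ≤ H) {χ : H → ℂ}
    (hχ : IsClassFunction H χ) : IsClassFunction C (res hCH χ) := by
  intro g h
  exact hχ ⟨g, hCH g.2⟩ ⟨h, hCH h.2⟩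

/-- conjugation by a normalising element as an automorphism of `H`. -/
def conjE (H : Subgroup Γ) (x : Γ) (hx : x ∈ Subgroup.normalizer (H : Set Γ)) : H ≃* H where
  toFun h := ⟨x * h * x⁻¹, (Subgroup.mem_normalizer_iff.1 hx h).1 h.2⟩
  invFun h := ⟨x⁻¹ * h * x, by
    have := (Subgroup.mem_normalizer_iff.1 (inv_mem hx) h).1 h.2
    rwa [inv_inv] at this⟩
  left_inv h := by
    apply Subtype.ext
    show x⁻¹ * (x * h * x⁻¹) * x = h
    group
  right_inv h := by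
    apply Subtype.ext
    show x * (x⁻¹ * h * x) * x⁻¹ = h
    group
  map_mul' a b := by
    apply Subtype.ext
    show x * (a * b) * x⁻¹ = (x * a * x⁻¹) * (x * b * x⁻¹)
    group

theorem conjE_coe (H : Subgroup Γ) (x : Γ) (hx : x ∈ Subgroup.normalizer (H : Set Γ)) (h : H) :
    ((conjE H x hx h : H) : Γ) = x * h * x⁻¹ := rfl

/-- the conjugate function `g ↦ χ (x g x⁻¹)`. -/
def cj (H : Subgroup Γ) (x : Γ) (hx : x ∈ Subgroup.normalizer (H : Set Γ)) (χ : H → ℂ) : H → ℂ :=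
  fun h => χ (conjE H x hx h)

theorem invUnder_iff_cj_eq (H : Subgroup Γ) (x : Γ) (hx : x ∈ Subgroup.normalizer (H : Set Γ))
    (χ : H → ℂ) : InvUnder H x χ ↔ cj H x hx χ = χ := by
  constructor
  · intro h
    funext g
    exact h g (conjE H x hx g) rfl
  · intro h g g' hg
    have : g' = conjE H x hx g := Subtype.ext hg
    rw [this]
    exact congrFun h g

theorem cj_isIrr [Finite Γ] (H : Subgroup Γ) (x : Γ) (hx : x ∈ Subgroup.normalizer (H : Set Γ))
    {χ : H → ℂ} (hχ : IsIrrCharacter H χ) : IsIrrCharacter H (cj H x hx χ) :=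
  Helper11.isIrrCharacter_comp_equiv (conjE H x hx) hχ

theorem cinn_cj [Finite Γ] (H : Subgroup Γ) (x : Γ) (hx : x ∈ Subgroup.normalizer (H : Set Γ))
    (φ ψ : H → ℂ) : cinn (cj H x hx φ) (cj H x hx ψ) = cinn φ ψ := by
  haveI := Fintype.ofFinite H
  rw [cinn_eq, cinn_eq, classInner_def, classInner_def]
  congr 1
  exact Equiv.sum_comp (conjE H x hx).toEquiv (fun g => φ g * conj (ψ g))

theorem res_cj {H C : Subgroup Γ} (hCH : C ≤ H) (x : Γ)
    (hx : x ∈ Subgroup.normalizer (H : Set Γ)) (hx' : x ∈ Subgroup.normalizer (C : Set Γ))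
    (χ : H → ℂ) : res hCH (cj H x hx χ) = cj C x hx' (res hCH χ) := by
  funext c
  rfl

end General

section ModP

variable {p : ℕ} {M : Ideal Cfsg.AlgInt}

theorem dvd_of_memLocalIdeal_intCast (hM : Cfsg.IsPModular p M) (k : ℤ)
    (h : Cfsg.MemLocalIdeal M (k : ℂ)) : (p : ℤ) ∣ k := by
  rw [Int.natCast_dvd]
  apply (Helper24.memLocalIdeal_natCast_iff hM _).1
  rw [Nat.cast_natAbs]
  rcases abs_choice k with h1 | h1
  · rw [h1]; exact h
  · rw [h1, Int.cast_neg]; exact Helper24.memLocalIdeal_neg h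

theorem not_dvd_of_modEq_unit (hp : p.Prime) {m : ℕ} {ε : ℤ} (hε : ε = 1 ∨ ε = -1)
    (h : (m : ℤ) ≡ ε [ZMOD p]) : ¬ p ∣ m := by
  intro hd
  have h1 : (p : ℤ) ∣ ε - m := Int.modEq_iff_dvd.1 h
  have h2 : (p : ℤ) ∣ (m : ℤ) := by exact_mod_cast hd
  have h3 : (p : ℤ) ∣ ε := by
    have := dvd_add h1 h2
    rwa [sub_add_cancel] at this
  have h4 : (p : ℤ) ∣ 1 := by
    rcases hε with rfl | rfl
    · exact h3
    · rwa [dvd_neg] at h3
  have h5 : p ∣ 1 := by exact_mod_cast h4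
  exact hp.one_lt.ne' (Nat.dvd_one.1 h5)

theorem dvd_of_modEq_zero {m : ℕ} (h : (m : ℤ) ≡ 0 [ZMOD p]) : p ∣ m := by
  have h1 : (p : ℤ) ∣ (m : ℤ) := Int.modEq_zero_iff_dvd.1 h
  exact_mod_cast h1

end ModP

section Transport

open Classical

variable {Γ : Type*} [Group Γ] [Fintype Γ] (G : Subgroup Γ) (s : Γ)

/-- `K = G ⟨s⟩`. -/
abbrev Ksub : Subgroup Γ := G ⊔ Subgroup.zpowers s

/-- `G` inside `K`. -/
abbrev G' : Subgroup ↥(Ksub G s) := G.subgroupOf (Ksub G s)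

/-- `s` inside `K`. -/
def s' : ↥(Ksub G s) := ⟨s, Subgroup.mem_sup_right (Subgroup.mem_zpowers s)⟩

/-- `G' ≃* G`. -/
def eG : G' G s ≃* G := Subgroup.subgroupOfEquivOfLe le_sup_left

theorem eG_coe (g : G' G s) : ((eG G s g : G) : Γ) = ((g : ↥(Ksub G s)) : Γ) := rfl

/-- `C_{G'}(s') ≃* C_G(s)`. -/
def eE : Cs (G' G s) (s' G s) ≃* Cs G s where
  toFun c := ⟨((c : ↥(Ksub G s)) : Γ), mem_Cs.2 ⟨Subgroup.mem_subgroupOf.1 (mem_Cs.1 c.2).1,
    congrArg Subtype.val (mem_Cs.1 c.2).2⟩⟩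
  invFun c := ⟨⟨(c : Γ), Subgroup.mem_sup_left (mem_Cs.1 c.2).1⟩,
    mem_Cs.2 ⟨Subgroup.mem_subgroupOf.2 (mem_Cs.1 c.2).1, Subtype.ext (mem_Cs.1 c.2).2⟩⟩
  left_inv c := rfl
  right_inv c := rfl
  map_mul' a b := rfl

theorem eE_coe (c : Cs (G' G s) (s' G s)) :
    ((eE G s c : Cs G s) : Γ) = (((c : ↥(Ksub G s))) : Γ) := rfl

variable {G s}

theorem G'_normal (hs : s ∈ Subgroup.normalizer (G : Set Γ)) : (G' G s).Normal := by
  rw [Subgroup.normal_subgroupOf_iff_le_normalizer le_sup_left]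
  exact sup_le Subgroup.le_normalizer (by rw [Subgroup.zpowers_le]; exact hs)

theorem orderOf_s' : orderOf (s' G s) = orderOf s := Subgroup.orderOf_mk _ _

theorem cycData' (hs : s ∈ Subgroup.normalizer (G : Set Γ))
    (hcop : Nat.Coprime (orderOf s) (Nat.card G)) : CycData (G' G s) (s' G s) := by
  have hzle : Subgroup.zpowers s ≤ Subgroup.normalizer (G : Set Γ) := by
    rw [Subgroup.zpowers_le]; exact hs
  refine ⟨fun x => ?_, ?_⟩
  · have hx : (x : Γ) ∈ ((G ⊔ Subgroup.zpowers s : Subgroup Γ) : Set Γ) := x.2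
    rw [Subgroup.coe_mul_of_right_le_normalizer_left G (Subgroup.zpowers s) hzle] at hx
    obtain ⟨g, hg, w, hw, hgw⟩ := hx
    have hw' : w ∈ Subgroup.zpowers s := hw
    rw [← mem_powers_iff_mem_zpowers, Submonoid.mem_powers_iff] at hw'
    obtain ⟨i, rfl⟩ := hw'
    refine ⟨⟨g, Subgroup.mem_sup_left hg⟩, Subgroup.mem_subgroupOf.2 hg, i, ?_⟩
    apply Subtype.ext
    show (x : Γ) = g * s ^ i
    exact hgw.symm
  · rw [orderOf_s', Nat.card_congr (eG G s).toEquiv]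
    exact hcop

theorem inv_transport (hs : s ∈ Subgroup.normalizer (G : Set Γ)) {χ : G → ℂ}
    (hcf : IsClassFunction G χ) (hinv : InvUnder G s χ)
    (x : ↥(Ksub G s)) (n n' : G' G s)
    (hn : (n' : ↥(Ksub G s)) = x * n * x⁻¹) : χ (eG G s n') = χ (eG G s n) := by
  have hK : Ksub G s ≤ invSubgroup G χ :=
    sup_le (le_invSubgroup hcf) (by rw [Subgroup.zpowers_le]; exact ⟨hs, hinv⟩)
  have hx := (hK x.2).2
  apply hx (eG G s n) (eG G s n')
  rw [eG_coe, eG_coe, hn]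
  rfl

/-- the canonical extension of (the transport of) an `s`-invariant `χ ∈ Irr(G)` to `G⟨s⟩`. -/
theorem exists_canon' (hs : s ∈ Subgroup.normalizer (G : Set Γ))
    (hcop : Nat.Coprime (orderOf s) (Nat.card G)) {χ : G → ℂ} (hχ : IsIrrCharacter G χ)
    (hinv : InvUnder G s χ) :
    ∃ χh : ↥(Ksub G s) → ℂ, IsIrrCharacter ↥(Ksub G s) χh ∧
      (∀ g : G' G s, χh g = χ (eG G s g)) ∧ (detOrder χh).Coprime (orderOf (s' G s)) := by
  haveI := G'_normal hs
  have D := cycData' hs hcop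
  have hχ' : IsIrrCharacter (G' G s) (fun g => χ (eG G s g)) :=
    Helper11.isIrrCharacter_comp_equiv (eG G s) hχ
  have hcf := Helper25.isClassFunction_of_char (Helper25.isCharacter_of_irr hχ)
  obtain ⟨χh, h1, h2, h3⟩ := canon_exists (G' G s) hχ' D.cop_index
    (fun x n => inv_transport hs hcf hinv x n _ rfl)
  exact ⟨χh, h1, h2, Nat.Coprime.coprime_dvd_left h3 D.cop.symm⟩

variable {p : ℕ}

/-- the multiplicities of the constituents of `χ_C` modulo `p`. -/
theorem mult_congr (hp : p.Prime) (hs : s ∈ Subgroup.normalizer (G : Set Γ)) (a : ℕ)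
    (hord : orderOf s = p ^ a) {χ : G → ℂ} {χh : ↥(Ksub G s) → ℂ}
    (hχh : IsIrrCharacter ↥(Ksub G s) χh) (hext : ∀ g : G' G s, χh g = χ (eG G s g))
    (β₀' : IrrCharacter (Cs (G' G s) (s' G s))) (ε : ℤ)
    (hval : ∀ c : Cs (G' G s) (s' G s),
      χh ((c : ↥(Ksub G s)) * s' G s) = (ε : ℂ) * (β₀' : Cs (G' G s) (s' G s) → ℂ) c)
    (β : IrrCharacter (Cs G s)) :
    ∃ m : ℕ, cinn (res (inf_le_left : Cs G s ≤ G) χ) (β : Cs G s → ℂ) = (m : ℂ) ∧
      (m : ℤ) ≡ (if (fun c => (β : Cs G s → ℂ) (eE G s c)) = (β₀' : Cs (G' G s) (s' G s) → ℂ)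
        then ε else 0) [ZMOD p] := by
  haveI := G'_normal hs
  haveI : Fintype (Cs G s) := Fintype.ofFinite _
  haveI : Fintype (Cs (G' G s) (s' G s)) := Fintype.ofFinite _
  haveI : Fintype (Subgroup.zpowers (s' G s) →* ℂˣ) := Fintype.ofFinite _
  set β' : Cs (G' G s) (s' G s) → ℂ := fun c => (β : Cs G s → ℂ) (eE G s c) with hβ'
  have hβ'irr : IsIrrCharacter (Cs (G' G s) (s' G s)) β' :=
    Helper11.isIrrCharacter_comp_equiv (eE G s) β.2
  obtain ⟨n, hn⟩ := exists_mult (G := G' G s) (s := s' G s) (Helper25.isCharacter_of_irr hχh)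
    (IsIrrCharacter.isCharacter hβ'irr)
  refine ⟨∑ lam : Subgroup.zpowers (s' G s) →* ℂˣ, n lam, ?_, ?_⟩
  · -- the multiplicity
    have h1 := hn 1
    have e1 : (fun c : Cs (G' G s) (s' G s) =>
        χh ((c : ↥(Ksub G s)) * ((1 : Subgroup.zpowers (s' G s)) : ↥(Ksub G s))))
        = fun c : Cs (G' G s) (s' G s) =>
          res (inf_le_left : Cs G s ≤ G) χ (eE G s c) := by
      funext c
      rw [Subgroup.coe_one, mul_one]
      exact hext ⟨(c : ↥(Ksub G s)), (mem_Cs.1 c.2).1⟩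
    rw [e1] at h1
    have h2 : classInner (fun c : Cs (G' G s) (s' G s) =>
        res (inf_le_left : Cs G s ≤ G) χ (eE G s c)) β'
        = classInner (res (inf_le_left : Cs G s ≤ G) χ) (β : Cs G s → ℂ) := by
      rw [classInner_def, classInner_def, Nat.card_congr (eE G s).toEquiv]
      congr 1
      exact Equiv.sum_comp (eE G s).toEquiv
        (fun c => res (inf_le_left : Cs G s ≤ G) χ c * conj ((β : Cs G s → ℂ) c))
    rw [cinn_eq, ← h2, h1]
    push_cast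
    apply Finset.sum_congr rfl
    intro lam _
    rw [map_one, Units.val_one, mul_one]
  · -- the congruence
    obtain ⟨M, hM⟩ := Helper25.exists_isPModular p hp
    set sZ : Subgroup.zpowers (s' G s) := ⟨s' G s, Subgroup.mem_zpowers _⟩ with hsZ
    have hs1 : classInner (fun c : Cs (G' G s) (s' G s) => χh ((c : ↥(Ksub G s)) * s' G s)) β'
        = ∑ lam : Subgroup.zpowers (s' G s) →* ℂˣ, (n lam : ℂ) * ((lam sZ : ℂˣ) : ℂ) := hn sZ
    have hroot : ∀ lam : Subgroup.zpowers (s' G s) →* ℂˣ,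
        ((lam sZ : ℂˣ) : ℂ) ^ (p ^ a) = 1 := by
      intro lam
      rw [← Units.val_pow_eq_pow_val, ← map_pow]
      have : sZ ^ (p ^ a) = 1 := by
        apply Subtype.ext
        rw [Subgroup.coe_pow]
        show (s' G s) ^ (p ^ a) = 1
        rw [← hord, ← orderOf_s' (G := G) (s := s)]
        exact pow_orderOf_eq_one _
      rw [this, map_one, Units.val_one]
    have hgen : ∀ z' : ℤ,
        classInner (fun c : Cs (G' G s) (s' G s) => χh ((c : ↥(Ksub G s)) * s' G s)) β'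
          = (z' : ℂ) →
        ((∑ lam : Subgroup.zpowers (s' G s) →* ℂˣ, n lam : ℕ) : ℤ) ≡ z' [ZMOD p] := by
      intro z' hz
      have hmem : Cfsg.MemLocalIdeal M
          (((∑ lam : Subgroup.zpowers (s' G s) →* ℂˣ, n lam : ℕ) : ℂ) - (z' : ℂ)) := by
        rw [← hz, hs1]
        push_cast
        rw [← Finset.sum_sub_distrib]
        apply Helper24.memLocalIdeal_sum hM
        intro lam _
        have h3 : (n lam : ℂ) - (n lam : ℂ) * ((lam sZ : ℂˣ) : ℂ)
            = (n lam : ℂ) * (-(((lam sZ : ℂˣ) : ℂ) - 1)) := by ring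
        rw [h3]
        exact Helper24.memLocalIdeal_mul_left hM (Helper24.memLocalRing_natCast hM _)
          (Helper24.memLocalIdeal_neg
            (Helper24.memLocalIdeal_sub_one_of_pow_eq_one hM (hroot lam)))
      have hdvd : (p : ℤ) ∣
          ((∑ lam : Subgroup.zpowers (s' G s) →* ℂˣ, n lam : ℕ) : ℤ) - z' := by
        apply dvd_of_memLocalIdeal_intCast hM
        push_cast
        push_cast at hmem
        exact hmem
      exact (Int.modEq_iff_dvd.2 hdvd).symm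
    have e2 : (fun c : Cs (G' G s) (s' G s) => χh ((c : ↥(Ksub G s)) * s' G s))
        = (ε : ℂ) • (β₀' : Cs (G' G s) (s' G s) → ℂ) := by
      funext c
      rw [hval c, Pi.smul_apply, smul_eq_mul]
    by_cases h : β' = (β₀' : Cs (G' G s) (s' G s) → ℂ)
    · rw [if_pos h]
      apply hgen
      rw [e2, classInner_smul_left, Helper25.irr_classInner β₀'.2 hβ'irr, if_pos h.symm, mul_one]
    · rw [if_neg h]
      apply hgen
      rw [e2, classInner_smul_left, Helper25.irr_classInner β₀'.2 hβ'irr,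
        if_neg (fun h' => h h'.symm), mul_zero, Int.cast_zero]

end Transport

section GlPDef

open Classical

variable {Γ : Type*} [Group Γ] [Finite Γ]

/-- The `p`-group Glauberman correspondence between the `Inv`-invariant irreducible characters
of `G` and the irreducible characters of `C ≤ G`, in terms of multiplicities modulo `p`. -/
structure GlP (p : ℕ) (G C : Subgroup Γ) (hCG : C ≤ G) (Inv : (G → ℂ) → Prop) : Prop where
  ex : ∀ χ : IrrCharacter G, Inv χ → ∃ (β₀ : IrrCharacter C) (ε : ℤ), (ε = 1 ∨ ε = -1) ∧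
      ∀ β : IrrCharacter C, ∃ m : ℕ, cinn (res hCG χ) (β : C → ℂ) = (m : ℂ) ∧
        (m : ℤ) ≡ (if β = β₀ then ε else 0) [ZMOD p]
  inj : ∀ χ χ' : IrrCharacter G, Inv χ → Inv χ' → ∀ β : IrrCharacter C, ∀ m m' : ℕ,
      cinn (res hCG χ) (β : C → ℂ) = (m : ℂ) → ¬ p ∣ m →
      cinn (res hCG χ') (β : C → ℂ) = (m' : ℂ) → ¬ p ∣ m' → χ = χ'
  surj : ∀ β : IrrCharacter C, ∃ χ : IrrCharacter G, Inv χ ∧ ∃ m : ℕ,
      cinn (res hCG χ) (β : C → ℂ) = (m : ℂ) ∧ ¬ p ∣ m

/-- a constituent with multiplicity prime to `p` is the distinguished one. -/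
theorem eq_of_not_dvd {p : ℕ} {G C : Subgroup Γ} {hCG : C ≤ G} {χ : G → ℂ}
    {β₀ : IrrCharacter C} {ε : ℤ}
    (h : ∀ β : IrrCharacter C, ∃ m : ℕ, cinn (res hCG χ) (β : C → ℂ) = (m : ℂ) ∧
        (m : ℤ) ≡ (if β = β₀ then ε else 0) [ZMOD p])
    {β : IrrCharacter C} {m : ℕ} (hm : cinn (res hCG χ) (β : C → ℂ) = (m : ℂ))
    (hpm : ¬ p ∣ m) : β = β₀ := by
  by_contra hne
  obtain ⟨m', hm', hcong⟩ := h β
  have : m' = m := by exact_mod_cast hm'.symm.trans hm
  rw [if_neg hne, this] at hcong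
  exact hpm (dvd_of_modEq_zero hcong)

theorem modEq_of_not_dvd {p : ℕ} {G C : Subgroup Γ} {hCG : C ≤ G} {χ : G → ℂ}
    {β₀ : IrrCharacter C} {ε : ℤ}
    (h : ∀ β : IrrCharacter C, ∃ m : ℕ, cinn (res hCG χ) (β : C → ℂ) = (m : ℂ) ∧
        (m : ℤ) ≡ (if β = β₀ then ε else 0) [ZMOD p])
    {m : ℕ} (hm : cinn (res hCG χ) (β₀ : C → ℂ) = (m : ℂ)) : (m : ℤ) ≡ ε [ZMOD p] := by
  obtain ⟨m', hm', hcong⟩ := h β₀
  have : m' = m := by exact_mod_cast hm'.symm.trans hm
  rw [if_pos rfl, this] at hcong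
  exact hcong

end GlPDef

section Base

open Classical

variable {Γ : Type*} [Group Γ] [Fintype Γ] {p : ℕ}

/-- The correspondence for a cyclic `p`-group of operators `⟨s⟩`. -/
theorem base_cyclic (hp : p.Prime) (G : Subgroup Γ) (s : Γ)
    (hs : s ∈ Subgroup.normalizer (G : Set Γ)) (a : ℕ) (hord : orderOf s = p ^ a)
    (hcop : Nat.Coprime (orderOf s) (Nat.card G)) :
    GlP p G (Cs G s) inf_le_left (fun χ => InvUnder G s χ) := by
  haveI := G'_normal hs
  haveI : Fintype (G' G s) := Fintype.ofFinite _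
  haveI : Fintype (Cs (G' G s) (s' G s)) := Fintype.ofFinite _
  have D := cycData' hs hcop
  -- common construction
  have hcons : ∀ χ : IrrCharacter G, InvUnder G s χ →
      ∃ (χh : ↥(Ksub G s) → ℂ) (β₀' : IrrCharacter (Cs (G' G s) (s' G s))) (ε : ℤ),
        IsIrrCharacter ↥(Ksub G s) χh ∧ (∀ g : G' G s, χh g = (χ : G → ℂ) (eG G s g)) ∧
        (ε = 1 ∨ ε = -1) ∧ ∀ c : Cs (G' G s) (s' G s),
          χh ((c : ↥(Ksub G s)) * s' G s) = (ε : ℂ) * (β₀' : Cs (G' G s) (s' G s) → ℂ) c := by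
    intro χ hinv
    obtain ⟨χh, h1, h2, h3⟩ := exists_canon' hs hcop χ.2 hinv
    have hres : IsIrrCharacter (G' G s) (fun g : G' G s => χh g) := by
      rw [funext h2]
      exact Helper11.isIrrCharacter_comp_equiv (eG G s) χ.2
    obtain ⟨β₀', ε, hε, hval, _⟩ := exists_beta D h1 hres h3
    exact ⟨χh, β₀', ε, h1, h2, hε, hval⟩
  refine ⟨?_, ?_, ?_⟩
  · intro χ hinv
    obtain ⟨χh, β₀', ε, h1, h2, hε, hval⟩ := hcons χ hinv
    refine ⟨⟨fun c => (β₀' : Cs (G' G s) (s' G s) → ℂ) ((eE G s).symm c),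
      Helper11.isIrrCharacter_comp_equiv (eE G s).symm β₀'.2⟩, ε, hε, fun β => ?_⟩
    obtain ⟨m, hm, hcong⟩ := mult_congr hp hs a hord h1 h2 β₀' ε hval β
    refine ⟨m, hm, ?_⟩
    by_cases h : β = ⟨fun c => (β₀' : Cs (G' G s) (s' G s) → ℂ) ((eE G s).symm c),
      Helper11.isIrrCharacter_comp_equiv (eE G s).symm β₀'.2⟩
    · rw [if_pos h]
      have h' : (fun c => (β : Cs G s → ℂ) (eE G s c)) = (β₀' : Cs (G' G s) (s' G s) → ℂ) := by
        rw [h]
        funext c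
        show (β₀' : Cs (G' G s) (s' G s) → ℂ) ((eE G s).symm (eE G s c)) = _
        rw [MulEquiv.symm_apply_apply]
      rw [if_pos h'] at hcong
      exact hcong
    · rw [if_neg h]
      have h' : ¬ (fun c => (β : Cs G s → ℂ) (eE G s c))
          = (β₀' : Cs (G' G s) (s' G s) → ℂ) := by
        intro h'
        apply h
        apply Subtype.ext
        funext c
        show (β : Cs G s → ℂ) c = (β₀' : Cs (G' G s) (s' G s) → ℂ) ((eE G s).symm c)
        rw [← h']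
        show (β : Cs G s → ℂ) c = (β : Cs G s → ℂ) (eE G s ((eE G s).symm c))
        rw [MulEquiv.apply_symm_apply]
      rw [if_neg h'] at hcong
      exact hcong
  · intro χ χ' hinv hinv' β m m' hm hpm hm' hpm'
    obtain ⟨χh, β₀', ε, h1, h2, hε, hval⟩ := hcons χ hinv
    obtain ⟨χh', β₀'', ε', h1', h2', hε', hval'⟩ := hcons χ' hinv'
    have hβ'irr : IsIrrCharacter (Cs (G' G s) (s' G s))
        (fun c => (β : Cs G s → ℂ) (eE G s c)) :=
      Helper11.isIrrCharacter_comp_equiv (eE G s) β.2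
    have e1 : (fun c => (β : Cs G s → ℂ) (eE G s c)) = (β₀' : Cs (G' G s) (s' G s) → ℂ) := by
      by_contra hne
      obtain ⟨m₁, hm₁, hcong⟩ := mult_congr hp hs a hord h1 h2 β₀' ε hval β
      have : m₁ = m := by exact_mod_cast hm₁.symm.trans hm
      rw [if_neg hne, this] at hcong
      exact hpm (dvd_of_modEq_zero hcong)
    have e2 : (fun c => (β : Cs G s → ℂ) (eE G s c))
        = (β₀'' : Cs (G' G s) (s' G s) → ℂ) := by
      by_contra hne
      obtain ⟨m₁, hm₁, hcong⟩ := mult_congr hp hs a hord h1' h2' β₀'' ε' hval' β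
      have : m₁ = m' := by exact_mod_cast hm₁.symm.trans hm'
      rw [if_neg hne, this] at hcong
      exact hpm' (dvd_of_modEq_zero hcong)
    rw [← e1] at hval
    rw [← e2] at hval'
    have h3 := beta_injective D h1 h1' hβ'irr hε hε' hval hval'
    apply Subtype.ext
    funext g
    have h4 : χh (((eG G s).symm g : G' G s) : ↥(Ksub G s))
        = χh' (((eG G s).symm g : G' G s) : ↥(Ksub G s)) := congrFun h3 ((eG G s).symm g)
    rw [h2, h2', MulEquiv.apply_symm_apply] at h4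
    exact h4
  · intro β
    have hβ'irr : IsIrrCharacter (Cs (G' G s) (s' G s))
        (fun c => (β : Cs G s → ℂ) (eE G s c)) :=
      Helper11.isIrrCharacter_comp_equiv (eE G s) β.2
    obtain ⟨χh, ε, hχh, hres, hdet, hε, hval⟩ := exists_chi D ⟨_, hβ'irr⟩
    have hχirr : IsIrrCharacter G (fun g : G => χh (((eG G s).symm g : G' G s) : ↥(Ksub G s))) :=
      Helper11.isIrrCharacter_comp_equiv (eG G s).symm hres
    have hext : ∀ g : G' G s, χh g
        = (fun g : G => χh (((eG G s).symm g : G' G s) : ↥(Ksub G s))) (eG G s g) := by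
      intro g
      show χh g = χh (((eG G s).symm (eG G s g) : G' G s) : ↥(Ksub G s))
      rw [MulEquiv.symm_apply_apply]
    have hcf := Helper25.isClassFunction_of_char (Helper25.isCharacter_of_irr hχh)
    refine ⟨⟨_, hχirr⟩, ?_, ?_⟩
    · intro g g' hg
      show χh (((eG G s).symm g' : G' G s) : ↥(Ksub G s))
        = χh (((eG G s).symm g : G' G s) : ↥(Ksub G s))
      have e3 : (((eG G s).symm g' : G' G s) : ↥(Ksub G s))
          = s' G s * (((eG G s).symm g : G' G s) : ↥(Ksub G s)) * (s' G s)⁻¹ := by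
        apply Subtype.ext
        have h5 : ∀ x : G, ((((eG G s).symm x : G' G s) : ↥(Ksub G s)) : Γ) = (x : Γ) := by
          intro x
          rw [← eG_coe, MulEquiv.apply_symm_apply]
        show ((((eG G s).symm g' : G' G s) : ↥(Ksub G s)) : Γ)
          = s * ((((eG G s).symm g : G' G s) : ↥(Ksub G s)) : Γ) * s⁻¹
        rw [h5, h5]
        exact hg
      rw [e3]
      exact hcf _ _
    · obtain ⟨m, hm, hcong⟩ := mult_congr
        (χ := fun g : G => χh (((eG G s).symm g : G' G s) : ↥(Ksub G s)))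
        hp hs a hord hχh hext ⟨_, hβ'irr⟩ ε hval β
      rw [if_pos rfl] at hcong
      exact ⟨m, hm, not_dvd_of_modEq_unit hp hε hcong⟩

end Base

section Step

open Classical

variable {Γ : Type*} [Group Γ] [Finite Γ] {p : ℕ}

theorem mem_normalizer_of_conj_mem {H : Subgroup Γ} {x : Γ} (h1 : ∀ h ∈ H, x * h * x⁻¹ ∈ H)
    (h2 : ∀ h ∈ H, x⁻¹ * h * x ∈ H) : x ∈ Subgroup.normalizer (H : Set Γ) := by
  rw [Subgroup.mem_normalizer_iff]
  intro h
  constructor
  · exact h1 h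
  · intro hh
    have := h2 _ hh
    have e : x⁻¹ * (x * h * x⁻¹) * x = h := by group
    rwa [e] at this

theorem conj_mem_of_mem_normalizer {H : Subgroup Γ} {x : Γ}
    (hx : x ∈ Subgroup.normalizer (H : Set Γ)) {h : Γ} (hh : h ∈ H) : x * h * x⁻¹ ∈ H :=
  (Subgroup.mem_normalizer_iff.1 hx h).1 hh

theorem conj_inv_mem_of_mem_normalizer {H : Subgroup Γ} {x : Γ}
    (hx : x ∈ Subgroup.normalizer (H : Set Γ)) {h : Γ} (hh : h ∈ H) : x⁻¹ * h * x ∈ H := by
  have := (Subgroup.mem_normalizer_iff.1 (inv_mem hx) h).1 hh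
  rwa [inv_inv] at this

/-- an element normalising `G` and `T` normalises `C_G(T)`. -/
theorem mem_normalizer_inf_centralizer {G T : Subgroup Γ} {x : Γ}
    (hG : x ∈ Subgroup.normalizer (G : Set Γ)) (hT : x ∈ Subgroup.normalizer (T : Set Γ)) :
    x ∈ Subgroup.normalizer ((G ⊓ Subgroup.centralizer (T : Set Γ) : Subgroup Γ) : Set Γ) := by
  have key : ∀ y : Γ, y ∈ Subgroup.normalizer (G : Set Γ) → y ∈ Subgroup.normalizer (T : Set Γ) →
      ∀ h ∈ G ⊓ Subgroup.centralizer (T : Set Γ),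
        y * h * y⁻¹ ∈ G ⊓ Subgroup.centralizer (T : Set Γ) := by
    intro y hyG hyT h hh
    rw [Subgroup.mem_inf] at hh ⊢
    refine ⟨conj_mem_of_mem_normalizer hyG hh.1, ?_⟩
    rw [Subgroup.mem_centralizer_iff]
    intro t ht
    have ht' : y⁻¹ * t * y ∈ T := conj_inv_mem_of_mem_normalizer hyT ht
    have hc := (Subgroup.mem_centralizer_iff.1 hh.2) _ ht'
    calc t * (y * h * y⁻¹) = y * ((y⁻¹ * t * y) * h) * y⁻¹ := by group
      _ = y * (h * (y⁻¹ * t * y)) * y⁻¹ := by rw [hc]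
      _ = y * h * y⁻¹ * t := by group
  apply mem_normalizer_of_conj_mem (key x hG hT)
  intro h hh
  have := key x⁻¹ (inv_mem hG) (inv_mem hT) h hh
  rwa [inv_inv] at this

/-- composition of multiplicities through an intermediate subgroup -/
theorem cinn_res_trans {G D C : Subgroup Γ} (hDG : D ≤ G) (hCD : C ≤ D) {χ : G → ℂ}
    (hχ : IsCharacter G χ) (β : C → ℂ) [Fintype (IrrCharacter D)] :
    cinn (res (hCD.trans hDG) χ) β = ∑ ψ : IrrCharacter D,
      cinn (res hDG χ) (ψ : D → ℂ) * cinn (res hCD (ψ : D → ℂ)) β := by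
  haveI := Fintype.ofFinite D
  haveI := Fintype.ofFinite C
  have hcf : IsClassFunction D (res hDG χ) :=
    res_isClassFunction hDG (Helper25.isClassFunction_of_char hχ)
  have hexp := classFunction_expansion (res hDG χ) hcf
  have h1 : res (hCD.trans hDG) χ = ∑ ψ : IrrCharacter D,
      classInner (res hDG χ) (ψ : D → ℂ) • res hCD (ψ : D → ℂ) := by
    funext c
    have h2 := congrFun hexp ⟨c, hCD c.2⟩
    rw [Finset.sum_apply] at h2
    rw [Finset.sum_apply]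
    exact h2
  rw [cinn_eq, h1, classInner_sum_left]
  apply Finset.sum_congr rfl
  intro ψ _
  rw [classInner_smul_left, cinn_eq, cinn_eq]

variable (hp : p.Prime) (G T : Subgroup Γ) (s : Γ)
  (hGs : s ∈ Subgroup.normalizer (G : Set Γ)) (hTs : s ∈ Subgroup.normalizer (T : Set Γ))
  (D C : Subgroup Γ) (hDs : s ∈ Subgroup.normalizer (D : Set Γ))
  (hCs : ∀ c ∈ C, s * c * s⁻¹ = c)
  (hDG : D ≤ G) (hCD : C ≤ D)
  (IH₁ : GlP p G D hDG (fun χ => ∀ t ∈ T, InvUnder G t χ))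
  (IH₂ : GlP p D C hCD (fun ψ => InvUnder D s ψ))

include hp hGs hDs hCs IH₁ IH₂ in
theorem step_core (χ : IrrCharacter G) (hχT : ∀ t ∈ T, InvUnder G t χ)
    (hχs : InvUnder G s χ) :
    ∃ (ψ₀ : IrrCharacter D) (β₀ : IrrCharacter C) (ε : ℤ), (ε = 1 ∨ ε = -1) ∧
      InvUnder D s ψ₀ ∧
      (∃ m₁ : ℕ, cinn (res hDG χ) (ψ₀ : D → ℂ) = (m₁ : ℂ) ∧ ¬ p ∣ m₁) ∧
      (∃ m₂ : ℕ, cinn (res hCD (ψ₀ : D → ℂ)) (β₀ : C → ℂ) = (m₂ : ℂ) ∧ ¬ p ∣ m₂) ∧
      ∀ β : IrrCharacter C, ∃ m : ℕ, cinn (res (hCD.trans hDG) χ) (β : C → ℂ) = (m : ℂ) ∧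
        (m : ℤ) ≡ (if β = β₀ then ε else 0) [ZMOD p] := by
  haveI : Fintype (IrrCharacter D) := Fintype.ofFinite _
  obtain ⟨ψ₀, ε₁, hε₁, h₁⟩ := IH₁.ex χ hχT
  -- ψ₀ is s-invariant
  have hψ₀s : InvUnder D s ψ₀ := by
    rw [invUnder_iff_cj_eq D s hDs]
    set ψ₁ : IrrCharacter D := ⟨cj D s hDs ψ₀, cj_isIrr D s hDs ψ₀.2⟩ with hψ₁
    have hχeq : cj G s hGs χ = χ := (invUnder_iff_cj_eq G s hGs χ).1 hχs
    have e1 : cinn (res hDG χ) (ψ₁ : D → ℂ) = cinn (res hDG χ) (ψ₀ : D → ℂ) := by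
      have : res hDG (χ : G → ℂ) = cj D s hDs (res hDG χ) := by
        conv_lhs => rw [← hχeq]
        exact res_cj hDG s hGs hDs χ
      conv_lhs => rw [this]
      exact cinn_cj D s hDs _ _
    obtain ⟨m, hm, hcong⟩ := h₁ ψ₀
    rw [if_pos rfl] at hcong
    have hpm : ¬ p ∣ m := not_dvd_of_modEq_unit hp hε₁ hcong
    have : ψ₁ = ψ₀ := eq_of_not_dvd h₁ (e1.trans hm) hpm
    exact congrArg Subtype.val this
  obtain ⟨β₀, ε₂, hε₂, h₂⟩ := IH₂.ex ψ₀ hψ₀s
  have hε : ε₁ * ε₂ = 1 ∨ ε₁ * ε₂ = -1 := by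
    rcases hε₁ with rfl | rfl <;> rcases hε₂ with rfl | rfl <;> simp
  refine ⟨ψ₀, β₀, ε₁ * ε₂, hε, hψ₀s, ?_, ?_, ?_⟩
  · obtain ⟨m, hm, hcong⟩ := h₁ ψ₀
    rw [if_pos rfl] at hcong
    exact ⟨m, hm, not_dvd_of_modEq_unit hp hε₁ hcong⟩
  · obtain ⟨m, hm, hcong⟩ := h₂ β₀
    rw [if_pos rfl] at hcong
    exact ⟨m, hm, not_dvd_of_modEq_unit hp hε₂ hcong⟩
  · intro β
    choose m₁ hm₁ hc₁ using h₁
    have hm₂ : ∀ ψ : IrrCharacter D, ∃ m : ℕ,
        cinn (res hCD (ψ : D → ℂ)) (β : C → ℂ) = (m : ℂ) := by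
      intro ψ
      haveI := Fintype.ofFinite C
      rw [cinn_eq]
      exact classInner_isCharacter_nat (res_isCharacter hCD (IsIrrCharacter.isCharacter ψ.2))
        (IsIrrCharacter.isCharacter β.2)
    choose m₂ hm₂ using hm₂
    refine ⟨∑ ψ : IrrCharacter D, m₁ ψ * m₂ ψ, ?_, ?_⟩
    · rw [cinn_res_trans hDG hCD (IsIrrCharacter.isCharacter χ.2)]
      push_cast
      apply Finset.sum_congr rfl
      intro ψ _
      rw [hm₁ ψ, hm₂ ψ]
    · obtain ⟨m, hm, hcong⟩ := h₂ β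
      have hmm : m₂ ψ₀ = m := by exact_mod_cast (hm₂ ψ₀).symm.trans hm
      have hsplit := Finset.add_sum_erase Finset.univ (fun ψ => m₁ ψ * m₂ ψ) (Finset.mem_univ ψ₀)
      have hrest : (p : ℤ) ∣ ((∑ ψ ∈ Finset.univ.erase ψ₀, m₁ ψ * m₂ ψ : ℕ) : ℤ) := by
        push_cast
        apply Finset.dvd_sum
        intro ψ hψ
        have hne : ψ ≠ ψ₀ := (Finset.mem_erase.1 hψ).1
        have := hc₁ ψ
        rw [if_neg hne] at this
        exact Dvd.dvd.mul_right (Int.modEq_zero_iff_dvd.1 this) _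
      have h0 : ((∑ ψ : IrrCharacter D, m₁ ψ * m₂ ψ : ℕ) : ℤ)
          ≡ (m₁ ψ₀ : ℤ) * (m₂ ψ₀ : ℤ) [ZMOD p] := by
        rw [← hsplit]
        push_cast
        have h3 : ((∑ ψ ∈ Finset.univ.erase ψ₀, (m₁ ψ : ℤ) * (m₂ ψ : ℤ)) : ℤ) ≡ 0 [ZMOD p] := by
          apply Int.modEq_zero_iff_dvd.2
          have := hrest
          push_cast at this
          exact this
        have := Int.ModEq.add (Int.ModEq.refl ((m₁ ψ₀ : ℤ) * (m₂ ψ₀ : ℤ))) h3
        rwa [add_zero] at this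
      have h4 := hc₁ ψ₀
      rw [if_pos rfl] at h4
      rw [hmm] at h0
      have h5 := Int.ModEq.mul h4 hcong
      have h6 := h0.trans h5
      by_cases hβ : β = β₀
      · rw [if_pos hβ] at h6
        rw [if_pos hβ]
        exact h6
      · rw [if_neg hβ, mul_zero] at h6
        rw [if_neg hβ]
        exact h6

include hp hGs hTs hDs hCs IH₁ IH₂ in
/-- The inductive step: from `T` and `⟨s⟩` to `T ⟨s⟩`. -/
theorem glP_step :
    GlP p G C (hCD.trans hDG) (fun χ => (∀ t ∈ T, InvUnder G t χ) ∧ InvUnder G s χ) := by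
  refine ⟨?_, ?_, ?_⟩
  · rintro χ ⟨hχT, hχs⟩
    obtain ⟨ψ₀, β₀, ε, hε, _, _, _, hall⟩ :=
      step_core hp G T s hGs D C hDs hCs hDG hCD IH₁ IH₂ χ hχT hχs
    exact ⟨β₀, ε, hε, hall⟩
  · rintro χ χ' ⟨hχT, hχs⟩ ⟨hχ'T, hχ's⟩ β m m' hm hpm hm' hpm'
    obtain ⟨ψ₀, β₀, ε, hε, hψ₀s, ⟨m₁, hm₁, hpm₁⟩, ⟨m₂, hm₂, hpm₂⟩, hall⟩ :=
      step_core hp G T s hGs D C hDs hCs hDG hCD IH₁ IH₂ χ hχT hχs
    obtain ⟨ψ₀', β₀', ε', hε', hψ₀s', ⟨m₁', hm₁', hpm₁'⟩, ⟨m₂', hm₂', hpm₂'⟩, hall'⟩ :=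
      step_core hp G T s hGs D C hDs hCs hDG hCD IH₁ IH₂ χ' hχ'T hχ's
    have hβ : β = β₀ := eq_of_not_dvd hall hm hpm
    have hβ' : β = β₀' := eq_of_not_dvd hall' hm' hpm'
    have hψ : ψ₀ = ψ₀' := by
      rw [← hβ] at hm₂
      rw [← hβ'] at hm₂'
      exact IH₂.inj ψ₀ ψ₀' hψ₀s hψ₀s' β m₂ m₂' hm₂ hpm₂ hm₂' hpm₂'
    rw [← hψ] at hm₁'
    exact IH₁.inj χ χ' hχT hχ'T ψ₀ m₁ m₁' hm₁ hpm₁ hm₁' hpm₁'
  · intro β
    obtain ⟨ψ, hψs, m₂, hm₂, hpm₂⟩ := IH₂.surj β
    obtain ⟨χ, hχT, m₁, hm₁, hpm₁⟩ := IH₁.surj ψ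
    -- χ is s-invariant
    have hχs : InvUnder G s χ := by
      rw [invUnder_iff_cj_eq G s hGs]
      set χ₁ : IrrCharacter G := ⟨cj G s hGs χ, cj_isIrr G s hGs χ.2⟩ with hχ₁
      have hχ₁T : ∀ t ∈ T, InvUnder G t (χ₁ : G → ℂ) := by
        intro t ht g g' hg
        show (χ : G → ℂ) (conjE G s hGs g') = (χ : G → ℂ) (conjE G s hGs g)
        apply hχT (s * t * s⁻¹) (conj_mem_of_mem_normalizer hTs ht)
        rw [conjE_coe, conjE_coe, hg]
        group
      have e1 : cinn (res hDG (χ₁ : G → ℂ)) (ψ : D → ℂ) = (m₁ : ℂ) := by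
        have hψeq : cj D s hDs ψ = ψ := (invUnder_iff_cj_eq D s hDs ψ).1 hψs
        have : res hDG (χ₁ : G → ℂ) = cj D s hDs (res hDG χ) := res_cj hDG s hGs hDs χ
        rw [this]
        conv_lhs => rw [← hψeq]
        rw [cinn_cj D s hDs]
        exact hm₁
      have := IH₁.inj χ₁ χ hχ₁T hχT ψ m₁ m₁ e1 hpm₁ hm₁ hpm₁
      exact congrArg Subtype.val this
    refine ⟨χ, ⟨hχT, hχs⟩, ?_⟩
    obtain ⟨ψ₀, β₀, ε, hε, hψ₀s, ⟨m₁', hm₁', hpm₁'⟩, ⟨m₂', hm₂', hpm₂'⟩, hall⟩ :=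
      step_core hp G T s hGs D C hDs hCs hDG hCD IH₁ IH₂ χ hχT hχs
    have hψ : ψ = ψ₀ := by
      obtain ⟨ψ₁, ε₁, _, h⟩ := IH₁.ex χ hχT
      rw [eq_of_not_dvd h hm₁ hpm₁, eq_of_not_dvd h hm₁' hpm₁']
    have hβ : β = β₀ := by
      obtain ⟨β₁, ε₁, _, h⟩ := IH₂.ex ψ₀ hψ₀s
      rw [hψ] at hm₂
      rw [eq_of_not_dvd h hm₂ hpm₂, eq_of_not_dvd h hm₂' hpm₂']
    obtain ⟨m, hm, hcong⟩ := hall β
    rw [if_pos hβ] at hcong
    exact ⟨m, hm, not_dvd_of_modEq_unit hp hε hcong⟩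

end Step

section Final

open Classical

variable {Γ : Type*} [Group Γ] [Fintype Γ] {p : ℕ}

theorem GlP.congr_inv {G C : Subgroup Γ} {hCG : C ≤ G} {Inv Inv' : (G → ℂ) → Prop}
    (h : ∀ χ : IrrCharacter G, Inv χ ↔ Inv' χ) (H : GlP p G C hCG Inv) :
    GlP p G C hCG Inv' := by
  refine ⟨?_, ?_, ?_⟩
  · intro χ hχ
    exact H.ex χ ((h χ).2 hχ)
  · intro χ χ' hχ hχ'
    exact H.inj χ χ' ((h χ).2 hχ) ((h χ').2 hχ')
  · intro β
    obtain ⟨χ, hχ, hm⟩ := H.surj β
    exact ⟨χ, (h χ).1 hχ, hm⟩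

/-- a non-cyclic `p`-group is `T ⟨s⟩` with `T` a proper normal subgroup. -/
theorem exists_maximal_normal (hp : p.Prime) (S : Subgroup Γ) (hS : IsPGroup p S)
    (hnc : ¬ IsCyclic S) :
    ∃ (T : Subgroup Γ) (s : Γ), T ≤ S ∧ s ∈ S ∧ S ≤ Subgroup.normalizer (T : Set Γ) ∧
      Nat.card T < Nat.card S ∧ T ⊔ Subgroup.zpowers s = S := by
  haveI : Fact p.Prime := ⟨hp⟩
  obtain ⟨k, hk⟩ := hS.exists_card_eq
  have hk0 : k ≠ 0 := by
    rintro rfl
    rw [pow_zero] at hk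
    apply hnc
    haveI : Subsingleton S := Finite.card_le_one_iff_subsingleton.1 hk.le
    exact isCyclic_of_subsingleton
  obtain ⟨j, rfl⟩ := Nat.exists_eq_succ_of_ne_zero hk0
  obtain ⟨T₀, hT₀⟩ := Sylow.exists_subgroup_card_pow_prime p
    (show p ^ j ∣ Nat.card S by rw [hk]; exact pow_dvd_pow p (Nat.le_succ j))
  have hidx : T₀.index = p := by
    have h1 := Subgroup.card_mul_index T₀
    rw [hT₀, hk, pow_succ] at h1
    exact Nat.eq_of_mul_eq_mul_left (pow_pos hp.pos j) h1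
  haveI hT₀n : T₀.Normal := by
    apply Subgroup.normal_of_index_eq_minFac_card
    rw [hidx, hk, hp.pow_minFac (Nat.succ_ne_zero j)]
  have hcardT : Nat.card (T₀.map S.subtype) = p ^ j := by
    rw [Subgroup.card_map_of_injective S.subtype_injective, hT₀]
  have hlt : p ^ j < p ^ (j + 1) := Nat.pow_lt_pow_right hp.one_lt (Nat.lt_succ_self j)
  have hne : T₀ ≠ ⊤ := by
    intro h
    rw [← Subgroup.index_eq_one, hidx] at h
    exact hp.one_lt.ne' h
  obtain ⟨s₀, hs₀⟩ : ∃ s₀ : S, s₀ ∉ T₀ := by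
    by_contra hcon
    push Not at hcon
    exact hne (eq_top_iff.2 (fun x _ => hcon x))
  have hsT : (s₀ : Γ) ∉ T₀.map S.subtype := by
    intro h
    obtain ⟨y, hy, hys⟩ := Subgroup.mem_map.1 h
    have : y = s₀ := Subtype.ext hys
    rw [this] at hy
    exact hs₀ hy
  refine ⟨T₀.map S.subtype, (s₀ : Γ), Subgroup.map_subtype_le T₀, s₀.2, ?_, ?_, ?_⟩
  · intro x hx
    have key : ∀ y ∈ S, ∀ t ∈ T₀.map S.subtype, y * t * y⁻¹ ∈ T₀.map S.subtype := by
      intro y hy t ht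
      obtain ⟨t₀, ht₀, rfl⟩ := Subgroup.mem_map.1 ht
      exact Subgroup.mem_map.2 ⟨⟨y, hy⟩ * t₀ * ⟨y, hy⟩⁻¹, hT₀n.conj_mem t₀ ht₀ ⟨y, hy⟩, rfl⟩
    apply mem_normalizer_of_conj_mem (key x hx)
    intro t ht
    have := key x⁻¹ (S.inv_mem hx) t ht
    rwa [inv_inv] at this
  · rw [hcardT, hk]
    exact hlt
  · have hle : T₀.map S.subtype ⊔ Subgroup.zpowers (s₀ : Γ) ≤ S :=
      sup_le (Subgroup.map_subtype_le T₀) (by rw [Subgroup.zpowers_le]; exact s₀.2)
    apply Subgroup.eq_of_le_of_card_ge hle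
    have h1 : Nat.card (T₀.map S.subtype) ∣
        Nat.card ↥(T₀.map S.subtype ⊔ Subgroup.zpowers (s₀ : Γ)) :=
      Subgroup.card_dvd_of_le le_sup_left
    have h2 : Nat.card ↥(T₀.map S.subtype ⊔ Subgroup.zpowers (s₀ : Γ)) ∣ Nat.card S :=
      Subgroup.card_dvd_of_le hle
    rw [hk] at h2 ⊢
    obtain ⟨i, hi, hi'⟩ := (Nat.dvd_prime_pow hp).1 h2
    rw [hi'] at h1 ⊢
    rw [hcardT] at h1
    have hji : j ≤ i := (Nat.pow_dvd_pow_iff_le_right hp.one_lt).1 h1
    rcases Nat.lt_or_ge j i with hlt' | hge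
    · have : i = j + 1 := le_antisymm hi hlt'
      rw [this]
    · exfalso
      have hij : i = j := le_antisymm hge hji
      have hTU : T₀.map S.subtype = T₀.map S.subtype ⊔ Subgroup.zpowers (s₀ : Γ) := by
        apply Subgroup.eq_of_le_of_card_ge le_sup_left
        rw [hi', hcardT, hij]
      apply hsT
      rw [hTU]
      exact Subgroup.mem_sup_right (Subgroup.mem_zpowers _)

/-- Isaacs 13.14: the Glauberman correspondence for a `p`-group of operators. -/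
theorem glP_pgroup (hp : p.Prime) : ∀ (n : ℕ) (S : Subgroup Γ), Nat.card S = n → IsPGroup p S →
    ∀ (G : Subgroup Γ), S ≤ Subgroup.normalizer (G : Set Γ) →
    (Nat.card G).Coprime (Nat.card S) →
    ∀ (C : Subgroup Γ) (hC : C = G ⊓ Subgroup.centralizer (S : Set Γ)) (hCG : C ≤ G),
      GlP p G C hCG (fun χ => ∀ x ∈ S, InvUnder G x χ) := by
  intro n
  induction n using Nat.strong_induction_on with
  | _ n ih =>
  intro S hn hS G hnorm hcop C hC hCG
  haveI : Fact p.Prime := ⟨hp⟩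
  -- invariance under a subgroup generated by pieces
  have hinvle : ∀ (χ : IrrCharacter G) (U : Subgroup Γ), U ≤ S →
      (U ≤ invSubgroup G (χ : G → ℂ) ↔ ∀ x ∈ U, InvUnder G x χ) := by
    intro χ U hU
    constructor
    · intro h x hx
      exact (h hx).2
    · intro h x hx
      exact ⟨hnorm (hU hx), h x hx⟩
  -- p-power order of elements of S
  have hordS : ∀ x ∈ S, ∃ a : ℕ, orderOf x = p ^ a := by
    intro x hx
    obtain ⟨k, hk⟩ := hS ⟨x, hx⟩
    have h1 : x ^ (p ^ k) = 1 := by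
      have := congrArg Subtype.val hk
      rwa [Subgroup.coe_pow] at this
    obtain ⟨a, _, ha⟩ := (Nat.dvd_prime_pow hp).1 (orderOf_dvd_of_pow_eq_one h1)
    exact ⟨a, ha⟩
  have hcopS : ∀ x ∈ S, ∀ H : Subgroup Γ, H ≤ G → Nat.Coprime (orderOf x) (Nat.card H) := by
    intro x hx H hH
    have h1 : orderOf x ∣ Nat.card S := by
      have := orderOf_dvd_natCard (⟨x, hx⟩ : S)
      rwa [Subgroup.orderOf_mk] at this
    exact Nat.Coprime.coprime_dvd_left h1
      (Nat.Coprime.coprime_dvd_right (Subgroup.card_dvd_of_le hH) hcop.symm)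
  by_cases hcyc : IsCyclic S
  · obtain ⟨s, hsS, hzp⟩ : ∃ s ∈ S, Subgroup.zpowers s = S := by
      obtain ⟨s₀, hs₀⟩ := hcyc.exists_generator
      refine ⟨(s₀ : Γ), s₀.2, ?_⟩
      ext x
      constructor
      · intro hx
        obtain ⟨i, rfl⟩ := Subgroup.mem_zpowers_iff.1 hx
        exact S.zpow_mem s₀.2 i
      · intro hx
        obtain ⟨i, hi⟩ := Subgroup.mem_zpowers_iff.1 (hs₀ ⟨x, hx⟩)
        rw [Subgroup.mem_zpowers_iff]
        refine ⟨i, ?_⟩
        have := congrArg Subtype.val hi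
        rw [Subgroup.coe_zpow] at this
        exact this
    obtain ⟨a, ha⟩ := hordS s hsS
    have hbase := base_cyclic hp G s (hnorm hsS) a ha (hcopS s hsS G le_rfl)
    have hC' : C = Cs G s := by
      rw [hC]
      conv_lhs => rw [← hzp]
      rw [centralizer_zpowers]
    subst hC'
    refine GlP.congr_inv (fun χ => ?_) hbase
    constructor
    · intro h
      rw [← hinvle χ S le_rfl]
      conv_lhs => rw [← hzp]
      rw [Subgroup.zpowers_le]
      exact ⟨hnorm hsS, h⟩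
    · intro h
      exact h s hsS
  · obtain ⟨T, s, hTS, hsS, hTn, hTlt, hTs⟩ := exists_maximal_normal hp S hS hcyc
    set D : Subgroup Γ := G ⊓ Subgroup.centralizer (T : Set Γ) with hD
    have hDG : D ≤ G := inf_le_left
    have hGs : s ∈ Subgroup.normalizer (G : Set Γ) := hnorm hsS
    have hTsn : s ∈ Subgroup.normalizer (T : Set Γ) := hTn hsS
    have hDs : s ∈ Subgroup.normalizer (D : Set Γ) := mem_normalizer_inf_centralizer hGs hTsn
    have IH₁ : GlP p G D hDG (fun χ => ∀ t ∈ T, InvUnder G t χ) := by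
      apply ih (Nat.card T) (by rw [← hn]; exact hTlt) T rfl (hS.to_le hTS) G
        (hTS.trans hnorm)
        (Nat.Coprime.coprime_dvd_right (Subgroup.card_dvd_of_le hTS) hcop) D hD hDG
    obtain ⟨a, ha⟩ := hordS s hsS
    have IH₂ : GlP p D (Cs D s) inf_le_left (fun ψ => InvUnder D s ψ) :=
      base_cyclic hp D s hDs a ha (hcopS s hsS D hDG)
    have hCs : ∀ c ∈ Cs D s, s * c * s⁻¹ = c := by
      intro c hc
      have := (mem_Cs.1 hc).2
      rw [← this]
      group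
    have hstep := glP_step hp G T s hGs hTsn D (Cs D s) hDs hCs hDG inf_le_left IH₁ IH₂
    have hC' : C = Cs D s := by
      rw [hC]
      ext x
      rw [Subgroup.mem_inf, mem_Cs, hD, Subgroup.mem_inf]
      constructor
      · rintro ⟨h1, h2⟩
        refine ⟨⟨h1, ?_⟩, ?_⟩
        · rw [Subgroup.mem_centralizer_iff] at h2 ⊢
          exact fun t ht => h2 t (hTS ht)
        · rw [Subgroup.mem_centralizer_iff] at h2
          exact (h2 s hsS).symm
      · rintro ⟨⟨h1, h2⟩, h3⟩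
        refine ⟨h1, ?_⟩
        have hle : S ≤ Subgroup.centralizer ({x} : Set Γ) := by
          rw [← hTs]
          apply sup_le
          · intro t ht
            rw [Subgroup.mem_centralizer_iff]
            intro y hy
            rw [Set.mem_singleton_iff] at hy
            subst hy
            rw [Subgroup.mem_centralizer_iff] at h2
            exact (h2 t ht).symm
          · rw [Subgroup.zpowers_le, Subgroup.mem_centralizer_iff]
            intro y hy
            rw [Set.mem_singleton_iff] at hy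
            subst hy
            exact h3
        rw [Subgroup.mem_centralizer_iff]
        intro y hy
        have := hle hy
        rw [Subgroup.mem_centralizer_iff] at this
        exact (this x rfl).symm
    subst hC'
    refine GlP.congr_inv (fun χ => ?_) hstep
    constructor
    · rintro ⟨h1, h2⟩
      rw [← hinvle χ S le_rfl, ← hTs]
      apply sup_le
      · exact (hinvle χ T hTS).2 h1
      · rw [Subgroup.zpowers_le]
        exact ⟨hGs, h2⟩
    · intro h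
      exact ⟨fun t ht => h t (hTS ht), h s hsS⟩

end Final

end Cfsg.Agent.Lib.Helper2.GlPG
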