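import Mathlib
import Cfsg.Agent.Lib.Helper2.GlaubermanPGroup
import Cfsg.Agent.Lib.Helper2.Expansion
import Cfsg.Agent.Lib.Helper1.Coprime
import Cfsg.Agent.Lib.Helper9.Transfer
import Cfsg.Agent.Lib.Helper17.PResidual
import Cfsg.Agent.Lib.Helper25.Linear

/-!
# The Glauberman correspondence for a solvable group of operators (helper2 library; Isaacs 13.1)
and the count of invariant conjugacy classes (Isaacs 13.10).
-/

set_option autoImplicit false
set_option linter.unusedSectionVars false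
set_option linter.style.haveILetI false
set_option linter.unusedVariables false

namespace Cfsg.Agent.Lib.Helper2.GlSolv

open Cfsg Cfsg.Agent.Lib Cfsg.Agent.Lib.Helper2 Cfsg.Agent.Lib.Helper2.GlPG

section Corr

open Classical

variable {Γ : Type*} [Group Γ] [Fintype Γ]

/-- conjugate of an irreducible character by a normalising element -/
noncomputable def cjI (H : Subgroup Γ) (x : Γ) (hx : x ∈ Subgroup.normalizer (H : Set Γ))
    (χ : IrrCharacter H) : IrrCharacter H :=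
  ⟨cj H x hx (χ : H → ℂ), cj_isIrr H x hx χ.2⟩

theorem cjI_eq_self_iff (H : Subgroup Γ) (x : Γ) (hx : x ∈ Subgroup.normalizer (H : Set Γ))
    (χ : IrrCharacter H) : cjI H x hx χ = χ ↔ InvUnder H x (χ : H → ℂ) := by
  rw [invUnder_iff_cj_eq H x hx]
  constructor
  · intro h
    exact congrArg Subtype.val h
  · intro h
    exact Subtype.ext h

/-- invariance under a subgroup is preserved by conjugating with a normalising element -/
theorem inv_cj {G T : Subgroup Γ} {y : Γ} (hyG : y ∈ Subgroup.normalizer (G : Set Γ))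
    (hyT : y ∈ Subgroup.normalizer (T : Set Γ)) {χ : G → ℂ}
    (hχ : ∀ t ∈ T, InvUnder G t χ) : ∀ t ∈ T, InvUnder G t (cj G y hyG χ) := by
  intro t ht g g' hg
  have ht' : y * t * y⁻¹ ∈ T := conj_mem_of_mem_normalizer hyT ht
  show χ (conjE G y hyG g') = χ (conjE G y hyG g)
  apply hχ _ ht'
  rw [conjE_coe, conjE_coe, hg]
  group

/-- The Glauberman correspondence data for a group `S` of operators. -/
structure GlS (S G C : Subgroup Γ) (π : IrrCharacter G → IrrCharacter C) : Prop where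
  inj : ∀ χ χ' : IrrCharacter G, (∀ x ∈ S, InvUnder G x (χ : G → ℂ)) →
    (∀ x ∈ S, InvUnder G x (χ' : G → ℂ)) → π χ = π χ' → χ = χ'
  surj : ∀ β : IrrCharacter C, ∃ χ : IrrCharacter G, (∀ x ∈ S, InvUnder G x (χ : G → ℂ)) ∧ π χ = β
  equi : ∀ (y : Γ) (hyG : y ∈ Subgroup.normalizer (G : Set Γ))
    (hyS : y ∈ Subgroup.normalizer (S : Set Γ)) (hyC : y ∈ Subgroup.normalizer (C : Set Γ))
    (χ : IrrCharacter G), (∀ x ∈ S, InvUnder G x (χ : G → ℂ)) →
      π (cjI G y hyG χ) = cjI C y hyC (π χ)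

theorem GlS.inv_image {S G C : Subgroup Γ} {π : IrrCharacter G → IrrCharacter C}
    (h : GlS S G C π) {U : Subgroup Γ}
    (hUG : U ≤ Subgroup.normalizer (G : Set Γ)) (hUS : U ≤ Subgroup.normalizer (S : Set Γ))
    (hUC : U ≤ Subgroup.normalizer (C : Set Γ)) {χ : IrrCharacter G}
    (hχS : ∀ x ∈ S, InvUnder G x (χ : G → ℂ)) (hχU : ∀ x ∈ U, InvUnder G x (χ : G → ℂ)) :
    ∀ x ∈ U, InvUnder C x (π χ : C → ℂ) := by
  intro x hx
  rw [← cjI_eq_self_iff C x (hUC hx)]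
  rw [← h.equi x (hUG hx) (hUS hx) (hUC hx) χ hχS]
  congr 1
  exact (cjI_eq_self_iff G x (hUG hx) χ).2 (hχU x hx)

theorem GlS.inv_preimage {S G C : Subgroup Γ} {π : IrrCharacter G → IrrCharacter C}
    (h : GlS S G C π) {U : Subgroup Γ}
    (hUG : U ≤ Subgroup.normalizer (G : Set Γ)) (hUS : U ≤ Subgroup.normalizer (S : Set Γ))
    (hUC : U ≤ Subgroup.normalizer (C : Set Γ)) {χ : IrrCharacter G}
    (hχS : ∀ x ∈ S, InvUnder G x (χ : G → ℂ)) (hβU : ∀ x ∈ U, InvUnder C x (π χ : C → ℂ)) :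
    ∀ x ∈ U, InvUnder G x (χ : G → ℂ) := by
  intro x hx
  rw [← cjI_eq_self_iff G x (hUG hx)]
  apply h.inj _ _ (inv_cj (hUG hx) (hUS hx) hχS) hχS
  rw [h.equi x (hUG hx) (hUS hx) (hUC hx) χ hχS]
  exact (cjI_eq_self_iff C x (hUC hx) _).2 (hβU x hx)

/-- the multiplicity-prime-to-`p` predicate -/
def Qp (p : ℕ) {D C : Subgroup Γ} (hCD : C ≤ D) (ψ : IrrCharacter D) (β : IrrCharacter C) : Prop :=
  ∃ m : ℕ, cinn (res hCD (ψ : D → ℂ)) (β : C → ℂ) = (m : ℂ) ∧ ¬ p ∣ m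

/-- the `p`-group Glauberman map -/
noncomputable def piP (p : ℕ) {D C : Subgroup Γ} (hCD : C ≤ D) (ψ : IrrCharacter D) :
    IrrCharacter C :=
  haveI : Nonempty (IrrCharacter C) := ⟨Helper25.irrOne C⟩
  Classical.epsilon (Qp p hCD ψ)

theorem piP_spec {p : ℕ} (hp : p.Prime) {D C : Subgroup Γ} {hCD : C ≤ D}
    {Inv : (D → ℂ) → Prop} (H : GlP p D C hCD Inv) {ψ : IrrCharacter D} (hψ : Inv ψ) :
    Qp p hCD ψ (piP p hCD ψ) := by
  obtain ⟨β₀, ε, hε, hall⟩ := H.ex ψ hψ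
  obtain ⟨m, hm, hcong⟩ := hall β₀
  rw [if_pos rfl] at hcong
  have hpm : ¬ p ∣ m := not_dvd_of_modEq_unit hp hε hcong
  haveI : Nonempty (IrrCharacter C) := ⟨Helper25.irrOne C⟩
  exact Classical.epsilon_spec (p := Qp p hCD ψ) ⟨β₀, m, hm, hpm⟩

theorem piP_unique {p : ℕ} (hp : p.Prime) {D C : Subgroup Γ} {hCD : C ≤ D}
    {Inv : (D → ℂ) → Prop} (H : GlP p D C hCD Inv) {ψ : IrrCharacter D} (hψ : Inv ψ)
    {β : IrrCharacter C} (hβ : Qp p hCD ψ β) : β = piP p hCD ψ := by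
  obtain ⟨β₀, ε, hε, hall⟩ := H.ex ψ hψ
  obtain ⟨m, hm, hpm⟩ := hβ
  obtain ⟨m', hm', hpm'⟩ := piP_spec hp H hψ
  rw [eq_of_not_dvd hall hm hpm, eq_of_not_dvd hall hm' hpm']

theorem closure_conj_mem {X : Set Γ} {y : Γ} (hX : ∀ x ∈ X, y * x * y⁻¹ ∈ X) :
    ∀ h ∈ Subgroup.closure X, y * h * y⁻¹ ∈ Subgroup.closure X := by
  intro h hh
  induction hh using Subgroup.closure_induction with
  | mem x hx => exact Subgroup.subset_closure (hX x hx)
  | one => simp
  | mul a b _ _ iha ihb =>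
    have : y * (a * b) * y⁻¹ = (y * a * y⁻¹) * (y * b * y⁻¹) := by group
    rw [this]; exact Subgroup.mul_mem _ iha ihb
  | inv a _ iha =>
    have : y * a⁻¹ * y⁻¹ = (y * a * y⁻¹)⁻¹ := by group
    rw [this]; exact Subgroup.inv_mem _ iha

/-- a nontrivial solvable group is `T P` with `T = O^p` a proper characteristic subgroup and
`P` a Sylow `p`-subgroup. -/
theorem exists_residual (S : Subgroup Γ) (hsolv : Group.IsSolvable S) (hne : S ≠ ⊥) :
    ∃ (p : ℕ) (T P : Subgroup Γ), p.Prime ∧ T ≤ S ∧ P ≤ S ∧ IsPGroup p P ∧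
      Nat.card T < Nat.card S ∧ T ⊔ P = S ∧
      (∀ y ∈ Subgroup.normalizer (S : Set Γ), y ∈ Subgroup.normalizer (T : Set Γ)) := by
  haveI : Nontrivial S := (Subgroup.nontrivial_iff_ne_bot S).2 hne
  have hlt := Group.IsSolvable.commutator_lt_top_of_nontrivial S
  have hidx : (commutator S).index ≠ 1 := by
    rw [Ne, Subgroup.index_eq_one]
    exact hlt.ne
  obtain ⟨p, hp, hpd⟩ := Nat.exists_prime_and_dvd hidx
  haveI : Fact p.Prime := ⟨hp⟩
  obtain ⟨P₀⟩ : Nonempty (Sylow p S) := inferInstance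
  have hres : pResidual p S ≠ ⊤ := by
    intro h
    have h1 := (Helper9.pResidual_eq_top_iff_sylow_le_commutator P₀).1 h
    have h2 : (commutator S).index ∣ (P₀ : Subgroup S).index := Subgroup.index_dvd_of_le h1
    exact P₀.not_dvd_index (dvd_trans hpd h2)
  refine ⟨p, (pResidual p S).map S.subtype, (P₀ : Subgroup S).map S.subtype, hp,
    Subgroup.map_subtype_le _, Subgroup.map_subtype_le _, ?_, ?_, ?_, ?_⟩
  · exact P₀.2.map S.subtype
  · rw [Subgroup.card_map_of_injective S.subtype_injective]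
    exact lt_of_le_of_ne (Subgroup.card_le_card_group _)
      (fun h => hres ((Subgroup.card_eq_iff_eq_top _).1 h))
  · rw [← Subgroup.map_sup, sup_comm, Helper17.sylow_sup_pResidual P₀, ← MonoidHom.range_eq_map,
      Subgroup.range_subtype]
  · intro y hy
    rw [Helper17.map_subtype_pResidual]
    have key : ∀ z ∈ Subgroup.normalizer (S : Set Γ),
        ∀ h ∈ Subgroup.closure {x : Γ | x ∈ S ∧ (orderOf x).Coprime p},
          z * h * z⁻¹ ∈ Subgroup.closure {x : Γ | x ∈ S ∧ (orderOf x).Coprime p} := by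
      intro z hz
      apply closure_conj_mem
      rintro x ⟨hxS, hxo⟩
      refine ⟨conj_mem_of_mem_normalizer hz hxS, ?_⟩
      have : orderOf (z * x * z⁻¹) = orderOf x := (MulAut.conj z).orderOf_eq x
      rw [this]
      exact hxo
    apply mem_normalizer_of_conj_mem (key y hy)
    intro h hh
    have := key y⁻¹ (inv_mem hy) h hh
    rwa [inv_inv] at this

/-- Isaacs 13.1: the Glauberman correspondence for a solvable group of operators. -/
theorem glS_solvable : ∀ (n : ℕ) (S : Subgroup Γ), Nat.card S = n → Group.IsSolvable S →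
    ∀ (G : Subgroup Γ), S ≤ Subgroup.normalizer (G : Set Γ) →
    (Nat.card G).Coprime (Nat.card S) →
    ∀ (C : Subgroup Γ), C = G ⊓ Subgroup.centralizer (S : Set Γ) →
      ∃ π : IrrCharacter G → IrrCharacter C, GlS S G C π := by
  intro n
  induction n using Nat.strong_induction_on with
  | _ n ih =>
  intro S hn hsolv G hnorm hcop C hC
  by_cases hbot : S = ⊥
  · -- trivial group of operators
    have hCG : C = G := by
      rw [hC, hbot]
      apply le_antisymm inf_le_left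
      intro g hg
      refine Subgroup.mem_inf.2 ⟨hg, ?_⟩
      rw [Subgroup.mem_centralizer_iff]
      intro h hh
      have h1 : h = 1 := by simpa using hh
      rw [h1, one_mul, mul_one]
    subst hCG
    refine ⟨id, ⟨fun χ χ' _ _ h => h, fun β => ⟨β, ?_, rfl⟩, fun y hyG hyS hyC χ _ => rfl⟩⟩
    intro x hx
    rw [hbot, Subgroup.mem_bot] at hx
    rw [hx]
    exact (one_mem (invSubgroup C (β : C → ℂ))).2
  · obtain ⟨p, T, P, hp, hTS, hPS, hPp, hTlt, hTP, hTchar⟩ := exists_residual S hsolv hbot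
    haveI : Fact p.Prime := ⟨hp⟩
    have hST : S ≤ Subgroup.normalizer (T : Set Γ) :=
      fun y hy => hTchar y (Subgroup.le_normalizer hy)
    have hTsolv : Group.IsSolvable T :=
      Group.isSolvable_of_isSolvable_injective (f := Subgroup.inclusion hTS)
        (Subgroup.inclusion_injective hTS)
    have hTnorm : T ≤ Subgroup.normalizer (G : Set Γ) := hTS.trans hnorm
    have hTcop : (Nat.card G).Coprime (Nat.card T) :=
      Nat.Coprime.coprime_dvd_right (Subgroup.card_dvd_of_le hTS) hcop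
    obtain ⟨D, hD⟩ : ∃ D : Subgroup Γ, D = G ⊓ Subgroup.centralizer (T : Set Γ) := ⟨_, rfl⟩
    have hDG : D ≤ G := by rw [hD]; exact inf_le_left
    obtain ⟨πT, hπT⟩ := ih (Nat.card T) (by rw [← hn]; exact hTlt) T rfl hTsolv G hTnorm hTcop D hD
    have hSD : S ≤ Subgroup.normalizer (D : Set Γ) := by
      intro y hy
      rw [hD]
      exact mem_normalizer_inf_centralizer (hnorm hy) (hST hy)
    have hCD' : C = D ⊓ Subgroup.centralizer (P : Set Γ) := by
      rw [hC, hD]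
      ext x
      simp only [Subgroup.mem_inf, Subgroup.mem_centralizer_iff]
      constructor
      · rintro ⟨hxG, hxS⟩
        exact ⟨⟨hxG, fun t ht => hxS t (hTS ht)⟩, fun q hq => hxS q (hPS hq)⟩
      · rintro ⟨⟨hxG, hxT⟩, hxP⟩
        refine ⟨hxG, ?_⟩
        have hle : T ⊔ P ≤ Subgroup.centralizer ({x} : Set Γ) := by
          apply sup_le
          · intro t ht
            rw [Subgroup.mem_centralizer_iff]
            intro h hh
            rw [Set.mem_singleton_iff.1 hh]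
            exact (hxT t ht).symm
          · intro t ht
            rw [Subgroup.mem_centralizer_iff]
            intro h hh
            rw [Set.mem_singleton_iff.1 hh]
            exact (hxP t ht).symm
        intro s hs
        have hs' : s ∈ T ⊔ P := by rw [hTP]; exact hs
        have := hle hs'
        rw [Subgroup.mem_centralizer_iff] at this
        exact (this x (Set.mem_singleton x)).symm
    have hCD : C ≤ D := by rw [hCD']; exact inf_le_left
    have hPD : P ≤ Subgroup.normalizer (D : Set Γ) := hPS.trans hSD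
    have hDPcop : (Nat.card D).Coprime (Nat.card P) :=
      Nat.Coprime.coprime_dvd_left (Subgroup.card_dvd_of_le hDG)
        (Nat.Coprime.coprime_dvd_right (Subgroup.card_dvd_of_le hPS) hcop)
    have HP0 := glP_pgroup hp (Nat.card P) P rfl hPp D hPD hDPcop C hCD' hCD
    have HP : GlP p D C hCD (fun ψ => ∀ x ∈ S, InvUnder D x ψ) := by
      apply GlP.congr_inv _ HP0
      intro ψ
      constructor
      · intro h
        have hle : T ⊔ P ≤ invSubgroup D (ψ : D → ℂ) := by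
          apply sup_le
          · intro t ht
            refine ⟨hSD (hTS ht), fun g g' hg => ?_⟩
            have hg2 : (g : Γ) ∈ G ⊓ Subgroup.centralizer (T : Set Γ) := by
              rw [← hD]; exact g.2
            have hc : t * (g : Γ) = (g : Γ) * t :=
              (Subgroup.mem_centralizer_iff.1 (Subgroup.mem_inf.1 hg2).2) t ht
            have : g' = g := by
              apply Subtype.ext
              rw [hg, hc, mul_inv_cancel_right]
            rw [this]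
          · intro q hq
            exact ⟨hPD hq, h q hq⟩
        intro x hx
        have hx' : x ∈ T ⊔ P := by rw [hTP]; exact hx
        exact (hle hx').2
      · intro h x hx
        exact h x (hPS hx)
    have hinvD : ∀ χ : IrrCharacter G, (∀ x ∈ S, InvUnder G x (χ : G → ℂ)) →
        ∀ x ∈ S, InvUnder D x (πT χ : D → ℂ) :=
      fun χ hχ => hπT.inv_image hnorm hST hSD (fun x hx => hχ x (hTS hx)) hχ
    obtain ⟨π, hπ⟩ : ∃ π : IrrCharacter G → IrrCharacter C, ∀ χ, π χ = piP p hCD (πT χ) :=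
      ⟨_, fun _ => rfl⟩
    refine ⟨π, ?_, ?_, ?_⟩
    · intro χ χ' hχ hχ' heq
      have hχT : ∀ x ∈ T, InvUnder G x (χ : G → ℂ) := fun x hx => hχ x (hTS hx)
      have hχT' : ∀ x ∈ T, InvUnder G x (χ' : G → ℂ) := fun x hx => hχ' x (hTS hx)
      apply hπT.inj χ χ' hχT hχT'
      obtain ⟨m, hm, hpm⟩ := piP_spec hp HP (hinvD χ hχ)
      obtain ⟨m', hm', hpm'⟩ := piP_spec hp HP (hinvD χ' hχ')
      rw [hπ, hπ] at heq
      rw [← heq] at hm'
      exact HP.inj (πT χ) (πT χ') (hinvD χ hχ) (hinvD χ' hχ') _ m m' hm hpm hm' hpm'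
    · intro β
      obtain ⟨ψ, hψS, m, hm, hpm⟩ := HP.surj β
      obtain ⟨χ, hχT, hχψ⟩ := hπT.surj ψ
      have hχS : ∀ x ∈ S, InvUnder G x (χ : G → ℂ) :=
        hπT.inv_preimage hnorm hST hSD hχT (by rw [hχψ]; exact hψS)
      refine ⟨χ, hχS, ?_⟩
      rw [hπ, hχψ]
      exact (piP_unique hp HP hψS ⟨m, hm, hpm⟩).symm
    · intro y hyG hyS hyC χ hχ
      have hyT : y ∈ Subgroup.normalizer (T : Set Γ) := hTchar y hyS
      have hyD : y ∈ Subgroup.normalizer (D : Set Γ) := by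
        rw [hD]
        exact mem_normalizer_inf_centralizer hyG hyT
      have hχT : ∀ x ∈ T, InvUnder G x (χ : G → ℂ) := fun x hx => hχ x (hTS hx)
      rw [hπ, hπ, hπT.equi y hyG hyT hyD χ hχT]
      have hψS := hinvD χ hχ
      have hψS' : ∀ x ∈ S, InvUnder D x (cjI D y hyD (πT χ) : D → ℂ) := inv_cj hyD hyS hψS
      symm
      apply piP_unique hp HP hψS'
      obtain ⟨m, hm, hpm⟩ := piP_spec hp HP hψS
      refine ⟨m, ?_, hpm⟩
      rw [← hm]
      show cinn (res hCD (cj D y hyD (πT χ : D → ℂ))) (cj C y hyC (piP p hCD (πT χ) : C → ℂ)) = _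
      rw [res_cj hCD y hyD hyC, cinn_cj]

/-- the count of invariant irreducible characters. -/
theorem card_inv_irr {S G C : Subgroup Γ} {π : IrrCharacter G → IrrCharacter C}
    (h : GlS S G C π) :
    Nat.card {χ : IrrCharacter G // ∀ s ∈ S, ∀ g g' : G, (g' : Γ) = s * g * s⁻¹ →
      (χ : G → ℂ) g' = (χ : G → ℂ) g} = Nat.card (IrrCharacter C) := by
  apply Nat.card_eq_of_bijective (fun χ => π χ.1)
  constructor
  · rintro ⟨χ, hχ⟩ ⟨χ', hχ'⟩ heq
    apply Subtype.ext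
    exact h.inj χ χ' hχ hχ' heq
  · intro β
    obtain ⟨χ, hχ, hχβ⟩ := h.surj β
    exact ⟨⟨χ, hχ⟩, hχβ⟩

end Corr

section Classes

variable {Γ : Type*} [Group Γ] [Finite Γ]

/-- conjugation action of a subgroup on a set it normalises -/
@[reducible]
def conjSetAction (N : Subgroup Γ) (X : Set Γ) (h : N ≤ Subgroup.normalizer X) :
    MulAction N X where
  smul n y := ⟨(n : Γ) * (y : Γ) * (n : Γ)⁻¹,
    (Subgroup.mem_set_normalizer_iff.1 (h n.2) (y : Γ)).1 y.2⟩
  one_smul y := by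
    apply Subtype.ext
    show ((1 : N) : Γ) * (y : Γ) * ((1 : N) : Γ)⁻¹ = y
    simp
  mul_smul a b y := by
    apply Subtype.ext
    show ((a * b : N) : Γ) * (y : Γ) * ((a * b : N) : Γ)⁻¹ =
      (a : Γ) * ((b : Γ) * (y : Γ) * (b : Γ)⁻¹) * (a : Γ)⁻¹
    simp [mul_assoc]

theorem le_normalizer_set {A : Subgroup Γ} {X : Set Γ}
    (h : ∀ a ∈ A, ∀ y ∈ X, a * y * a⁻¹ ∈ X) : A ≤ Subgroup.normalizer X := by
  intro a ha
  rw [Subgroup.mem_set_normalizer_iff]
  intro y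
  constructor
  · exact h a ha y
  · intro hy
    have := h a⁻¹ (inv_mem ha) _ hy
    have e : a⁻¹ * (a * y * a⁻¹) * a⁻¹⁻¹ = y := by group
    rwa [e] at this

/-- the `G`-class of `x` as a subset of `Γ`. -/
def clsSet (G : Subgroup Γ) (x : Γ) : Set Γ := {y | ∃ g ∈ G, y = g * x * g⁻¹}

/-- Glauberman's lemma applied to an invariant conjugacy class (Isaacs 13.8–13.10). -/
theorem fixed_class_core (S G : Subgroup Γ) (hnorm : S ≤ Subgroup.normalizer (G : Set Γ))
    (hcop : (Nat.card S).Coprime (Nat.card G)) (hsolv : Group.IsSolvable S) (x : Γ)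
    (hx : ∀ s ∈ S, ∃ g ∈ G, s * x * s⁻¹ = g * x * g⁻¹) :
    (∃ g ∈ G, g * x * g⁻¹ ∈ Subgroup.centralizer (S : Set Γ)) ∧
    (∀ c c' : Γ, c ∈ clsSet G x → c' ∈ clsSet G x → c ∈ Subgroup.centralizer (S : Set Γ) →
      c' ∈ Subgroup.centralizer (S : Set Γ) →
      ∃ k ∈ G ⊓ Subgroup.centralizer (S : Set Γ), k * c * k⁻¹ = c') := by
  have hA : Helper1.CoprimeAct S G := ⟨hnorm, hcop, Or.inl hsolv⟩
  have hSX : S ≤ Subgroup.normalizer (clsSet G x) := by
    apply le_normalizer_set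
    rintro s hs y ⟨g, hg, rfl⟩
    obtain ⟨g₀, hg₀, he⟩ := hx s hs
    refine ⟨s * g * s⁻¹ * g₀, mul_mem (conj_mem_of_mem_normalizer (hnorm hs) hg) hg₀, ?_⟩
    calc s * (g * x * g⁻¹) * s⁻¹ = (s * g * s⁻¹) * (s * x * s⁻¹) * (s * g * s⁻¹)⁻¹ := by group
      _ = (s * g * s⁻¹) * (g₀ * x * g₀⁻¹) * (s * g * s⁻¹)⁻¹ := by rw [he]
      _ = s * g * s⁻¹ * g₀ * x * (s * g * s⁻¹ * g₀)⁻¹ := by group
  have hGX : G ≤ Subgroup.normalizer (clsSet G x) := by
    apply le_normalizer_set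
    rintro a ha y ⟨g, hg, rfl⟩
    refine ⟨a * g, mul_mem ha hg, ?_⟩
    group
  have hle : S ⊔ G ≤ Subgroup.normalizer (clsSet G x) := sup_le hSX hGX
  letI : MulAction ↥(S ⊔ G) (clsSet G x) := conjSetAction (S ⊔ G) (clsSet G x) hle
  have hsm : ∀ (k : ↥(S ⊔ G)) (y : clsSet G x), ((k • y : clsSet G x) : Γ) =
      (k : Γ) * (y : Γ) * (k : Γ)⁻¹ := fun k y => rfl
  haveI := hA.normal
  haveI : Nonempty (clsSet G x) := ⟨⟨x, 1, one_mem G, by simp⟩⟩
  have htrans : MulAction.IsPretransitive (G.subgroupOf (S ⊔ G)) (clsSet G x) := by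
    constructor
    rintro ⟨y₁, g₁, hg₁, rfl⟩ ⟨y₂, g₂, hg₂, rfl⟩
    have hk : g₂ * g₁⁻¹ ∈ G := mul_mem hg₂ (inv_mem hg₁)
    refine ⟨⟨⟨g₂ * g₁⁻¹, Subgroup.mem_sup_right hk⟩, Subgroup.mem_subgroupOf.2 hk⟩, ?_⟩
    apply Subtype.ext
    show (g₂ * g₁⁻¹) * (g₁ * x * g₁⁻¹) * (g₂ * g₁⁻¹)⁻¹ = g₂ * x * g₂⁻¹
    group
  constructor
  · obtain ⟨⟨y, g, hg, rfl⟩, hy⟩ := Helper1.glauberman_exists (G.subgroupOf (S ⊔ G))
      (S.subgroupOf (S ⊔ G)) hA.complement hA.hall hA.solvable htrans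
    refine ⟨g, hg, ?_⟩
    rw [Subgroup.mem_centralizer_iff]
    intro s hs
    have h1 := hy ⟨s, Subgroup.mem_sup_left hs⟩ (Subgroup.mem_subgroupOf.2 hs)
    have h2 : s * (g * x * g⁻¹) * s⁻¹ = g * x * g⁻¹ := congrArg Subtype.val h1
    calc s * (g * x * g⁻¹) = (s * (g * x * g⁻¹) * s⁻¹) * s := by group
      _ = g * x * g⁻¹ * s := by rw [h2]
  · intro c c' hc hc' hcS hcS'
    have hfix : ∀ (d : Γ) (hd : d ∈ clsSet G x), d ∈ Subgroup.centralizer (S : Set Γ) →
        ∀ h ∈ S.subgroupOf (S ⊔ G), h • (⟨d, hd⟩ : clsSet G x) = ⟨d, hd⟩ := by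
      intro d hd hdS h hh
      apply Subtype.ext
      rw [hsm]
      show (h : Γ) * d * (h : Γ)⁻¹ = d
      have := (Subgroup.mem_centralizer_iff.1 hdS) (h : Γ) (Subgroup.mem_subgroupOf.1 hh)
      rw [this, mul_inv_cancel_right]
    obtain ⟨k, hk, hkc⟩ := Helper1.glauberman_conj (G.subgroupOf (S ⊔ G))
      (S.subgroupOf (S ⊔ G)) hA.complement hA.hall hA.solvable htrans ⟨c, hc⟩ ⟨c', hc'⟩
      (hfix c hc hcS) (hfix c' hc' hcS')
    refine ⟨(k : Γ), Subgroup.mem_inf.2 ⟨Subgroup.mem_subgroupOf.1 (Subgroup.mem_inf.1 hk).1, ?_⟩,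
      ?_⟩
    · rw [Subgroup.mem_centralizer_iff]
      intro s hs
      have := (Subgroup.mem_centralizer_iff.1 (Subgroup.mem_inf.1 hk).2)
        ⟨s, Subgroup.mem_sup_left hs⟩ (Subgroup.mem_subgroupOf.2 hs)
      exact congrArg Subtype.val this
    · have := congrArg Subtype.val hkc
      rw [hsm] at this
      exact this

/-- Isaacs 13.10: the invariant classes of `G` correspond to the classes of `C_G(S)`. -/
theorem card_inv_classes (S G C : Subgroup Γ) (hnorm : S ≤ Subgroup.normalizer (G : Set Γ))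
    (hcop : (Nat.card S).Coprime (Nat.card G)) (hsolv : Group.IsSolvable S)
    (hC : C = G ⊓ Subgroup.centralizer (S : Set Γ)) :
    Nat.card {K : ConjClasses G // ∀ s ∈ S, ∀ g g' : G, (g' : Γ) = s * g * s⁻¹ →
      ConjClasses.mk g = K → ConjClasses.mk g' = K} = Nat.card (ConjClasses C) := by
  have hCG : C ≤ G := by rw [hC]; exact inf_le_left
  have hCS : ∀ c ∈ C, c ∈ Subgroup.centralizer (S : Set Γ) := by
    intro c hc
    rw [hC] at hc
    exact (Subgroup.mem_inf.1 hc).2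
  -- invariance of the class of an element of `C`
  have hinv : ∀ c : C, ∀ s ∈ S, ∀ g g' : G, (g' : Γ) = s * g * s⁻¹ →
      ConjClasses.mk g = ConjClasses.mk (Subgroup.inclusion hCG c) →
      ConjClasses.mk g' = ConjClasses.mk (Subgroup.inclusion hCG c) := by
    intro c s hs g g' hg hgc
    rw [ConjClasses.mk_eq_mk_iff_isConj, isConj_iff] at hgc ⊢
    obtain ⟨h, hh⟩ := hgc
    refine ⟨⟨s * h * s⁻¹, conj_mem_of_mem_normalizer (hnorm hs) h.2⟩, ?_⟩
    apply Subtype.ext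
    have e1 : (h : Γ) * g * (h : Γ)⁻¹ = c := congrArg Subtype.val hh
    have e2 : s * (c : Γ) = (c : Γ) * s := (Subgroup.mem_centralizer_iff.1 (hCS c c.2)) s hs
    show s * h * s⁻¹ * (g' : Γ) * (s * h * s⁻¹)⁻¹ = c
    rw [hg]
    calc s * h * s⁻¹ * (s * g * s⁻¹) * (s * h * s⁻¹)⁻¹ = s * ((h : Γ) * g * (h : Γ)⁻¹) * s⁻¹ := by
          group
      _ = s * (c : Γ) * s⁻¹ := by rw [e1]
      _ = c := by rw [e2, mul_inv_cancel_right]
  have hinv' : ∀ κ : ConjClasses C, ∀ s ∈ S, ∀ g g' : G, (g' : Γ) = s * g * s⁻¹ →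
      ConjClasses.mk g = ConjClasses.map (Subgroup.inclusion hCG) κ →
      ConjClasses.mk g' = ConjClasses.map (Subgroup.inclusion hCG) κ := by
    intro κ
    obtain ⟨c, rfl⟩ := ConjClasses.exists_rep κ
    exact hinv c
  symm
  apply Nat.card_eq_of_bijective
    (fun κ : ConjClasses C => (⟨ConjClasses.map (Subgroup.inclusion hCG) κ, hinv' κ⟩ :
      {K : ConjClasses G // ∀ s ∈ S, ∀ g g' : G, (g' : Γ) = s * g * s⁻¹ →
        ConjClasses.mk g = K → ConjClasses.mk g' = K}))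
  constructor
  · intro κ₁ κ₂ heq
    obtain ⟨c₁, rfl⟩ := ConjClasses.exists_rep κ₁
    obtain ⟨c₂, rfl⟩ := ConjClasses.exists_rep κ₂
    have h1 : ConjClasses.mk (Subgroup.inclusion hCG c₁) =
        ConjClasses.mk (Subgroup.inclusion hCG c₂) := congrArg Subtype.val heq
    rw [ConjClasses.mk_eq_mk_iff_isConj, isConj_iff] at h1
    obtain ⟨h, hh⟩ := h1
    have e1 : (h : Γ) * c₁ * (h : Γ)⁻¹ = c₂ := congrArg Subtype.val hh
    have hx : ∀ s ∈ S, ∃ g ∈ G, s * (c₁ : Γ) * s⁻¹ = g * (c₁ : Γ) * g⁻¹ := by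
      intro s hs
      refine ⟨1, one_mem G, ?_⟩
      have e2 : s * (c₁ : Γ) = (c₁ : Γ) * s := (Subgroup.mem_centralizer_iff.1 (hCS c₁ c₁.2)) s hs
      rw [e2, mul_inv_cancel_right]
      simp
    obtain ⟨k, hk, hkc⟩ := (fixed_class_core S G hnorm hcop hsolv (c₁ : Γ) hx).2 c₁ c₂
      ⟨1, one_mem G, by simp⟩ ⟨h, h.2, e1.symm⟩ (hCS c₁ c₁.2) (hCS c₂ c₂.2)
    rw [← hC] at hk
    rw [ConjClasses.mk_eq_mk_iff_isConj, isConj_iff]
    exact ⟨⟨k, hk⟩, Subtype.ext hkc⟩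
  · rintro ⟨K, hK⟩
    obtain ⟨x, rfl⟩ := ConjClasses.exists_rep K
    have hx : ∀ s ∈ S, ∃ g ∈ G, s * (x : Γ) * s⁻¹ = g * (x : Γ) * g⁻¹ := by
      intro s hs
      have h1 := hK s hs x ⟨s * x * s⁻¹, conj_mem_of_mem_normalizer (hnorm hs) x.2⟩ rfl rfl
      rw [ConjClasses.mk_eq_mk_iff_isConj, isConj_iff] at h1
      obtain ⟨h, hh⟩ := h1
      have e1 : (h : Γ) * (s * x * s⁻¹) * (h : Γ)⁻¹ = x := congrArg Subtype.val hh
      refine ⟨(h : Γ)⁻¹, inv_mem h.2, ?_⟩
      have e3 : (h : Γ)⁻¹ * (x : Γ) * (h : Γ)⁻¹⁻¹ =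
          (h : Γ)⁻¹ * ((h : Γ) * (s * x * s⁻¹) * (h : Γ)⁻¹) * (h : Γ)⁻¹⁻¹ := by rw [e1]
      rw [e3]
      group
    obtain ⟨g, hg, hgS⟩ := (fixed_class_core S G hnorm hcop hsolv (x : Γ) hx).1
    have hgG : g * (x : Γ) * g⁻¹ ∈ G := mul_mem (mul_mem hg x.2) (inv_mem hg)
    have hgC : g * (x : Γ) * g⁻¹ ∈ C := by
      rw [hC]
      exact Subgroup.mem_inf.2 ⟨hgG, hgS⟩
    refine ⟨ConjClasses.mk ⟨g * (x : Γ) * g⁻¹, hgC⟩, ?_⟩
    apply Subtype.ext
    show ConjClasses.mk (Subgroup.inclusion hCG ⟨g * (x : Γ) * g⁻¹, hgC⟩) = ConjClasses.mk x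
    rw [ConjClasses.mk_eq_mk_iff_isConj, isConj_iff]
    refine ⟨⟨g⁻¹, inv_mem hg⟩, ?_⟩
    apply Subtype.ext
    show g⁻¹ * (g * (x : Γ) * g⁻¹) * g⁻¹⁻¹ = x
    group

end Classes

end Cfsg.Agent.Lib.Helper2.GlSolv
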