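import Mathlib
import Cfsg.Agent.Lib.Helper2.GlaubermanSolvable
import Cfsg.Agent.Lib.Helper11.Clifford2
import Cfsg.Agent.Lib.Helper24.CliffordGeneral

/-!
# Relative character theory for subgroups `N ≤ G` of an ambient finite group (helper2 library)

Clifford theory for a pair of subgroups `N ≤ G` of `Γ` with `G` normalising `N`, phrased with
`res`, `cj`, `cinn`, `InvUnder`; Glauberman's lemma for an action through a quotient.
-/

set_option autoImplicit false
set_option linter.unusedSectionVars false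
set_option linter.style.haveILetI false
set_option linter.unusedVariables false

namespace Cfsg.Agent.Lib.Helper2.Rel

open Cfsg Cfsg.Agent.Lib Cfsg.Agent.Lib.Helper2 Cfsg.Agent.Lib.Helper2.GlPG
  Cfsg.Agent.Lib.Helper2.GlSolv
open scoped ComplexConjugate

universe u

section GlaubermanQuot

/-- Glauberman's lemma for an action in which a normal subgroup `M ≤ K` acts trivially and only
`|K : M|` is coprime to the order of `H`. -/
theorem glauberman_quot {𝔊 : Type u} [Group 𝔊] [Finite 𝔊] {X : Type*} [MulAction 𝔊 X]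
    [Nonempty X] (M K H : Subgroup 𝔊) [hM : M.Normal] [hK : K.Normal] (hMK : M ≤ K)
    (htop : K ⊔ H = ⊤) (htriv : ∀ m ∈ M, ∀ x : X, m • x = x)
    (hcop : (M.relIndex K).Coprime (Nat.card H))
    (hsolv : Group.IsSolvable (K.map (QuotientGroup.mk' M)) ∨ Group.IsSolvable (𝔊 ⧸ K))
    (htrans : ∀ x y : X, ∃ k ∈ K, k • x = y) :
    ∃ x : X, ∀ h ∈ H, h • x = x := by
  classical
  -- `K ⊓ H ≤ M`
  have hKH : ∀ x ∈ K, x ∈ H → x ∈ M := by
    intro x hxK hxH
    haveI : (M.subgroupOf K).Normal := hM.subgroupOf K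
    have h1 : orderOf (QuotientGroup.mk' (M.subgroupOf K) ⟨x, hxK⟩) ∣ M.relIndex K := by
      have := orderOf_dvd_natCard (QuotientGroup.mk' (M.subgroupOf K) ⟨x, hxK⟩)
      rwa [← Subgroup.index_eq_card] at this
    have h2 : orderOf (QuotientGroup.mk' (M.subgroupOf K) ⟨x, hxK⟩) ∣ Nat.card H := by
      refine dvd_trans (orderOf_map_dvd _ _) ?_
      have e : orderOf (⟨x, hxK⟩ : K) = orderOf (⟨x, hxH⟩ : H) := by
        rw [← Subgroup.orderOf_coe, ← Subgroup.orderOf_coe (⟨x, hxH⟩ : H)]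
      rw [e]
      exact orderOf_dvd_natCard _
    have h3 : orderOf (QuotientGroup.mk' (M.subgroupOf K) ⟨x, hxK⟩) = 1 :=
      Nat.Coprime.eq_one_of_dvd (Nat.Coprime.coprime_dvd_left h1 hcop) h2
    have h4 := orderOf_eq_one_iff.1 h3
    have h5 : (⟨x, hxK⟩ : K) ∈ M.subgroupOf K := (QuotientGroup.eq_one_iff _).1 h4
    exact Subgroup.mem_subgroupOf.1 h5
  have hker : M ≤ (MulAction.toPermHom 𝔊 X).ker := by
    intro m hm
    rw [MonoidHom.mem_ker]
    ext x
    exact htriv m hm x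
  letI : MulAction (𝔊 ⧸ M) X :=
    MulAction.compHom X (QuotientGroup.lift M (MulAction.toPermHom 𝔊 X) hker)
  have hsm : ∀ (a : 𝔊) (x : X), (QuotientGroup.mk a : 𝔊 ⧸ M) • x = a • x := fun a x => rfl
  haveI hKn : (K.map (QuotientGroup.mk' M)).Normal := hK.map _ (QuotientGroup.mk'_surjective M)
  have hc : Subgroup.IsComplement' (K.map (QuotientGroup.mk' M)) (H.map (QuotientGroup.mk' M)) := by
    apply Subgroup.isComplement'_of_disjoint_and_mul_eq_univ
    · rw [Subgroup.disjoint_def]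
      intro q hqK hqH
      obtain ⟨k, hk, rfl⟩ := Subgroup.mem_map.1 hqK
      obtain ⟨h, hh, hkh⟩ := Subgroup.mem_map.1 hqH
      have h1 : k⁻¹ * h ∈ M := QuotientGroup.eq.1 hkh.symm
      have hhK : h ∈ K := by
        have := mul_mem hk (hMK h1)
        simpa using this
      have hhM : h ∈ M := hKH h hhK hh
      have hkM : k ∈ M := by
        have := mul_mem hhM (inv_mem h1)
        simpa using this
      exact (QuotientGroup.eq_one_iff k).2 hkM
    · rw [Set.eq_univ_iff_forall]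
      intro q
      obtain ⟨a, rfl⟩ := QuotientGroup.mk'_surjective M q
      have ha : a ∈ K ⊔ H := by rw [htop]; trivial
      obtain ⟨k, hk, h, hh, rfl⟩ := Subgroup.mem_sup_of_normal_left.1 ha
      rw [Set.mem_mul]
      exact ⟨QuotientGroup.mk' M k, Subgroup.mem_map_of_mem _ hk, QuotientGroup.mk' M h,
        Subgroup.mem_map_of_mem _ hh, (map_mul _ _ _).symm⟩
  have hidx : (K.map (QuotientGroup.mk' M)).index = K.index :=
    Subgroup.index_map_eq K (QuotientGroup.mk'_surjective M)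
      (by rw [QuotientGroup.ker_mk']; exact hMK)
  have hcard : Nat.card (K.map (QuotientGroup.mk' M)) = M.relIndex K := by
    have h1 := Subgroup.card_mul_index (K.map (QuotientGroup.mk' M))
    rw [hidx, ← Subgroup.index_eq_card, ← Subgroup.relIndex_mul_index hMK] at h1
    exact Nat.eq_of_mul_eq_mul_right (Nat.pos_of_ne_zero Subgroup.index_ne_zero_of_finite) h1
  have hdvd : K.index ∣ Nat.card H := by
    have h1 : K.index = K.relIndex H := by
      rw [← Subgroup.relIndex_top_right, ← htop, Subgroup.relIndex_sup_left]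
    rw [h1]
    exact Subgroup.index_dvd_card _
  have hcop' : (Nat.card (K.map (QuotientGroup.mk' M))).Coprime
      (K.map (QuotientGroup.mk' M)).index := by
    rw [hcard, hidx]
    exact Nat.Coprime.coprime_dvd_right hdvd hcop
  have hsolv' : Group.IsSolvable (K.map (QuotientGroup.mk' M)) ∨
      Group.IsSolvable ((𝔊 ⧸ M) ⧸ K.map (QuotientGroup.mk' M)) := by
    rcases hsolv with h | h
    · exact Or.inl h
    · right
      exact Group.isSolvable_of_isSolvable_injective
        (f := (QuotientGroup.quotientQuotientEquivQuotient M K hMK).toMonoidHom)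
        (QuotientGroup.quotientQuotientEquivQuotient M K hMK).injective
  have htrans' : MulAction.IsPretransitive (K.map (QuotientGroup.mk' M)) X := by
    constructor
    intro x y
    obtain ⟨k, hk, hky⟩ := htrans x y
    exact ⟨⟨QuotientGroup.mk' M k, Subgroup.mem_map_of_mem _ hk⟩, hky⟩
  obtain ⟨x, hx⟩ := Helper1.glauberman_exists (K.map (QuotientGroup.mk' M))
    (H.map (QuotientGroup.mk' M)) hc hcop' hsolv' htrans'
  exact ⟨x, fun h hh => hx (QuotientGroup.mk' M h) (Subgroup.mem_map_of_mem _ hh)⟩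

end GlaubermanQuot

section Transport

variable {Γ : Type*} [Group Γ] [Fintype Γ] {N G : Subgroup Γ}

/-- pull a function on `N` back to `N.subgroupOf G` -/
def pb (G : Subgroup Γ) (θ : N → ℂ) : N.subgroupOf G → ℂ :=
  fun n => θ ⟨((n : G) : Γ), Subgroup.mem_subgroupOf.1 n.2⟩

theorem pb_eq (hNG : N ≤ G) (θ : N → ℂ) :
    pb G θ = θ ∘ (Subgroup.subgroupOfEquivOfLe hNG) := rfl

theorem pb_irr (hNG : N ≤ G) {θ : N → ℂ} (hθ : IsIrrCharacter N θ) :
    IsIrrCharacter (N.subgroupOf G) (pb G θ) := by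
  rw [pb_eq hNG]
  exact Helper11.isIrrCharacter_comp_equiv _ hθ

theorem classInner_pb (hNG : N ≤ G) (f g : N → ℂ) [Fintype N] [Fintype (N.subgroupOf G)] :
    classInner (pb G f) (pb G g) = classInner f g := by
  rw [classInner_def, classInner_def,
    Nat.card_congr (Subgroup.subgroupOfEquivOfLe hNG).toEquiv]
  congr 1
  exact Fintype.sum_equiv (Subgroup.subgroupOfEquivOfLe hNG).toEquiv _ _ (fun n => rfl)

theorem classInner_pb_cinn (hNG : N ≤ G) (f g : N → ℂ) [Fintype (N.subgroupOf G)] :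
    classInner (pb G f) (pb G g) = cinn f g := by
  haveI := Fintype.ofFinite N
  rw [classInner_pb hNG, cinn_eq]

end Transport

section Clifford

open Classical

variable {Γ : Type*} [Group Γ] [Fintype Γ] {N G : Subgroup Γ}

/-- Clifford: the irreducible constituents of the restriction to `N` are `G`-conjugate. -/
theorem rel_clifford_conj (hNG : N ≤ G) (hGN : G ≤ Subgroup.normalizer (N : Set Γ))
    (χ : IrrCharacter G) (θ φ : IrrCharacter N)
    (h1 : cinn (res hNG (χ : G → ℂ)) (θ : N → ℂ) ≠ 0)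
    (h2 : cinn (res hNG (χ : G → ℂ)) (φ : N → ℂ) ≠ 0) :
    ∃ (g : Γ) (hg : g ∈ G), (φ : N → ℂ) = cj N g (hGN hg) (θ : N → ℂ) := by
  haveI : (N.subgroupOf G).Normal := (Subgroup.normal_subgroupOf_iff_le_normalizer hNG).2 hGN
  haveI : Fintype G := Fintype.ofFinite _
  haveI : Fintype (N.subgroupOf G) := Fintype.ofFinite _
  have hres : (fun h : N.subgroupOf G => (χ : G → ℂ) h) = pb G (res hNG (χ : G → ℂ)) := rfl
  have h1' : classInner (fun h : N.subgroupOf G => (χ : G → ℂ) h) (pb G (θ : N → ℂ)) ≠ 0 := by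
    rw [hres, classInner_pb_cinn hNG]
    exact h1
  have h2' : classInner (fun h : N.subgroupOf G => (χ : G → ℂ) h) (pb G (φ : N → ℂ)) ≠ 0 := by
    rw [hres, classInner_pb_cinn hNG]
    exact h2
  obtain ⟨g, hg⟩ := Helper11.clifford_conj (N.subgroupOf G) χ.2 (pb_irr hNG θ.2)
    (pb_irr hNG φ.2) h1' h2'
  refine ⟨(g : Γ), g.2, ?_⟩
  funext n
  exact congrFun hg ⟨⟨n, hNG n.2⟩, Subgroup.mem_subgroupOf.2 n.2⟩

/-- every irreducible character of a subgroup lies under an irreducible character. -/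
theorem exists_irr_over' {K : Type*} [Group K] [Fintype K] (H : Subgroup K) [Fintype H]
    (ξ : IrrCharacter H) :
    ∃ χ : IrrCharacter K, classInner (fun h : H => (χ : K → ℂ) h) (ξ : H → ℂ) ≠ 0 := by
  have : Fintype (IrrCharacter K) := Fintype.ofFinite _
  by_contra hcon
  push Not at hcon
  have hexp := classFunction_expansion (Cfsg.indFun H (ξ : H → ℂ)) (indFun_isClassFunction H _)
  have h0 : ∀ χ : IrrCharacter K,
      classInner (Cfsg.indFun H (ξ : H → ℂ)) (χ : K → ℂ) = 0 := by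
    intro χ
    rw [frobenius_reciprocity H _ _ (IrrCharacter.isClassFunction χ), ← classInner_conj_symm,
      hcon χ, map_zero]
  simp only [h0, zero_smul, Finset.sum_const_zero] at hexp
  have h1 := congrFun hexp 1
  rw [indFun_apply_one] at h1
  have h2 : (H.index : ℂ) ≠ 0 := by
    exact_mod_cast (Subgroup.index_ne_zero_of_finite (H := H))
  exact (mul_ne_zero h2 (IsIrrCharacter.apply_one_ne_zero ξ.2)) h1

theorem rel_exists_over (hNG : N ≤ G) (θ : IrrCharacter N) :
    ∃ χ : IrrCharacter G, cinn (res hNG (χ : G → ℂ)) (θ : N → ℂ) ≠ 0 := by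
  haveI : Fintype G := Fintype.ofFinite _
  haveI : Fintype (N.subgroupOf G) := Fintype.ofFinite _
  obtain ⟨χ, hχ⟩ := exists_irr_over' (N.subgroupOf G) ⟨pb G (θ : N → ℂ), pb_irr hNG θ.2⟩
  refine ⟨χ, ?_⟩
  have hres : (fun h : N.subgroupOf G => (χ : G → ℂ) h) = pb G (res hNG (χ : G → ℂ)) := rfl
  rw [hres] at hχ
  have := classInner_pb_cinn hNG (res hNG (χ : G → ℂ)) (θ : N → ℂ)
  rw [← this]
  exact hχ

/-- lying over is transitive. -/
theorem cinn_res_ne_zero_trans {T : Subgroup Γ} (hNT : N ≤ T) (hTG : T ≤ G) (χ : IrrCharacter G)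
    (ψ : IrrCharacter T) (θ : IrrCharacter N)
    (h1 : cinn (res hTG (χ : G → ℂ)) (ψ : T → ℂ) ≠ 0)
    (h2 : cinn (res hNT (ψ : T → ℂ)) (θ : N → ℂ) ≠ 0) :
    cinn (res (hNT.trans hTG) (χ : G → ℂ)) (θ : N → ℂ) ≠ 0 := by
  haveI : Fintype (IrrCharacter T) := Fintype.ofFinite _
  haveI : Fintype T := Fintype.ofFinite _
  haveI : Fintype N := Fintype.ofFinite _
  rw [cinn_res_trans hTG hNT (IsIrrCharacter.isCharacter χ.2)]
  have hm₁ : ∀ ψ' : IrrCharacter T, ∃ m : ℕ,
      cinn (res hTG (χ : G → ℂ)) (ψ' : T → ℂ) = (m : ℂ) := by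
    intro ψ'
    rw [cinn_eq]
    exact classInner_isCharacter_nat (res_isCharacter hTG (IsIrrCharacter.isCharacter χ.2))
      (IsIrrCharacter.isCharacter ψ'.2)
  have hm₂ : ∀ ψ' : IrrCharacter T, ∃ m : ℕ,
      cinn (res hNT (ψ' : T → ℂ)) (θ : N → ℂ) = (m : ℂ) := by
    intro ψ'
    rw [cinn_eq]
    exact classInner_isCharacter_nat (res_isCharacter hNT (IsIrrCharacter.isCharacter ψ'.2))
      (IsIrrCharacter.isCharacter θ.2)
  choose m₁ hm₁ using hm₁
  choose m₂ hm₂ using hm₂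
  have hsum : ∑ ψ' : IrrCharacter T, cinn (res hTG (χ : G → ℂ)) (ψ' : T → ℂ) *
      cinn (res hNT (ψ' : T → ℂ)) (θ : N → ℂ) = ((∑ ψ' : IrrCharacter T, m₁ ψ' * m₂ ψ' : ℕ) : ℂ) := by
    push_cast
    apply Finset.sum_congr rfl
    intro ψ' _
    rw [hm₁ ψ', hm₂ ψ']
  rw [hsum]
  intro h0
  have h0' : ∑ ψ' : IrrCharacter T, m₁ ψ' * m₂ ψ' = 0 := by exact_mod_cast h0
  have h3 := (Finset.sum_eq_zero_iff.1 h0') ψ (Finset.mem_univ _)
  rcases Nat.mul_eq_zero.1 h3 with h | h
  · apply h1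
    rw [hm₁ ψ, h, Nat.cast_zero]
  · apply h2
    rw [hm₂ ψ, h, Nat.cast_zero]

/-- over a `G`-invariant `θ`, the restriction to `N` has no other constituent. -/
theorem rel_homogeneous (hNG : N ≤ G) (hGN : G ≤ Subgroup.normalizer (N : Set Γ))
    (χ : IrrCharacter G) (θ : IrrCharacter N)
    (hinv : ∀ g ∈ G, InvUnder N g (θ : N → ℂ))
    (h1 : cinn (res hNG (χ : G → ℂ)) (θ : N → ℂ) ≠ 0) (φ : IrrCharacter N)
    (h2 : cinn (res hNG (χ : G → ℂ)) (φ : N → ℂ) ≠ 0) : φ = θ := by
  obtain ⟨g, hg, hφ⟩ := rel_clifford_conj hNG hGN χ θ φ h1 h2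
  apply Subtype.ext
  rw [hφ]
  exact (invUnder_iff_cj_eq N g (hGN hg) _).1 (hinv g hg)

/-- The Clifford correspondence: an irreducible character of a subgroup `T` containing the
inertia group of `θ`, lying over `θ`, lies under a unique irreducible character of `G`. -/
theorem rel_clifford_corr (hNG : N ≤ G) (hGN : G ≤ Subgroup.normalizer (N : Set Γ))
    (θ : IrrCharacter N) (T : Subgroup Γ) (hNT : N ≤ T) (hTG : T ≤ G)
    (hT : ∀ g ∈ G, InvUnder N g (θ : N → ℂ) → g ∈ T)
    (ψ : IrrCharacter T) (hψ : cinn (res hNT (ψ : T → ℂ)) (θ : N → ℂ) ≠ 0) :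
    ∃ χ : IrrCharacter G, cinn (res hTG (χ : G → ℂ)) (ψ : T → ℂ) ≠ 0 ∧
      ∀ χ' : IrrCharacter G, cinn (res hTG (χ' : G → ℂ)) (ψ : T → ℂ) ≠ 0 → χ' = χ := by
  haveI : (N.subgroupOf G).Normal := (Subgroup.normal_subgroupOf_iff_le_normalizer hNG).2 hGN
  haveI : Fintype G := Fintype.ofFinite _
  haveI : Fintype (N.subgroupOf G) := Fintype.ofFinite _
  haveI : Fintype (T.subgroupOf G) := Fintype.ofFinite _
  have hHT : N.subgroupOf G ≤ T.subgroupOf G := fun x hx =>
    Subgroup.mem_subgroupOf.2 (hNT (Subgroup.mem_subgroupOf.1 hx))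
  have hT' : ∀ g : G, Helper11.conjFn (N.subgroupOf G) g (pb G (θ : N → ℂ)) = pb G (θ : N → ℂ) →
      g ∈ T.subgroupOf G := by
    intro g hg
    rw [Subgroup.mem_subgroupOf]
    apply hT g g.2
    intro n n' hn
    have h3 := congrFun hg ⟨⟨n, hNG n.2⟩, Subgroup.mem_subgroupOf.2 n.2⟩
    have h4 : (θ : N → ℂ) n' = Helper11.conjFn (N.subgroupOf G) g (pb G (θ : N → ℂ))
        ⟨⟨n, hNG n.2⟩, Subgroup.mem_subgroupOf.2 n.2⟩ := by
      have : n' = ⟨(g : Γ) * n * (g : Γ)⁻¹, by rw [← hn]; exact n'.2⟩ := Subtype.ext hn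
      rw [this]
      rfl
    rw [h4, h3]
    rfl
  have hc : classInner (Helper24.resTo (N.subgroupOf G) (T.subgroupOf G) hHT
      (pb G (ψ : T → ℂ))) (pb G (θ : N → ℂ)) ≠ 0 := by
    have e : Helper24.resTo (N.subgroupOf G) (T.subgroupOf G) hHT (pb G (ψ : T → ℂ)) =
        pb G (res hNT (ψ : T → ℂ)) := rfl
    rw [e, classInner_pb_cinn hNG]
    exact hψ
  have hirr := (Helper24.clifford_general (N.subgroupOf G) (T.subgroupOf G) (pb G (θ : N → ℂ))
    (pb_irr hNG θ.2) hT' hHT (pb G (ψ : T → ℂ)) (pb G (ψ : T → ℂ)) (pb_irr hTG ψ.2)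
    (pb_irr hTG ψ.2) hc hc).1
  -- Frobenius reciprocity in relative form
  have hfr : ∀ χ' : IrrCharacter G,
      classInner (Cfsg.indFun (T.subgroupOf G) (pb G (ψ : T → ℂ))) (χ' : G → ℂ) =
        conj (cinn (res hTG (χ' : G → ℂ)) (ψ : T → ℂ)) := by
    intro χ'
    rw [frobenius_reciprocity (T.subgroupOf G) _ _ (IrrCharacter.isClassFunction χ')]
    have e : (fun h : T.subgroupOf G => (χ' : G → ℂ) h) = pb G (res hTG (χ' : G → ℂ)) := rfl
    rw [e, classInner_pb_cinn hTG]
    haveI : Fintype T := Fintype.ofFinite _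
    rw [cinn_eq, cinn_eq, classInner_conj_symm]
  refine ⟨⟨_, hirr⟩, ?_, ?_⟩
  · intro h0
    have h1 := hfr ⟨_, hirr⟩
    rw [h0, map_zero] at h1
    have h2 := classInner_irrCharacter_self (⟨_, hirr⟩ : IrrCharacter G)
    rw [h1] at h2
    exact zero_ne_one h2
  · intro χ' hχ'
    have h1 := hfr χ'
    have h2 : classInner (Cfsg.indFun (T.subgroupOf G) (pb G (ψ : T → ℂ))) (χ' : G → ℂ) ≠ 0 := by
      rw [h1]
      exact fun h => hχ' ((map_eq_zero _).1 h)
    apply Subtype.ext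
    exact (Helper11.eq_of_irr_of_classInner_ne_zero hirr χ'.2 h2).symm

end Clifford

section Action

variable {Γ : Type*} [Group Γ]

/-- the conjugation action of a subgroup on the functions on a subgroup it normalises:
`(a • f) n = f (a⁻¹ n a)`. -/
@[reducible]
def conjFunAction (A N : Subgroup Γ) (h : A ≤ Subgroup.normalizer (N : Set Γ)) :
    MulAction A (N → ℂ) where
  smul a f := cj N (a : Γ)⁻¹ (h (inv_mem a.2)) f
  one_smul f := by
    funext n
    show f (conjE N ((1 : A) : Γ)⁻¹ _ n) = f n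
    congr 1
    apply Subtype.ext
    rw [conjE_coe]
    simp
  mul_smul a b f := by
    funext n
    show f (conjE N ((a * b : A) : Γ)⁻¹ _ n) =
      f (conjE N (b : Γ)⁻¹ _ (conjE N (a : Γ)⁻¹ _ n))
    congr 1
    apply Subtype.ext
    rw [conjE_coe, conjE_coe, conjE_coe]
    simp [mul_assoc]

theorem conjFunAction_smul (A N : Subgroup Γ) (h : A ≤ Subgroup.normalizer (N : Set Γ))
    (a : A) (f : N → ℂ) :
    (conjFunAction A N h).smul a f = cj N (a : Γ)⁻¹ (h (inv_mem a.2)) f := rfl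

end Action

section InvConstituent

open Classical

variable {Γ : Type*} [Group Γ] [Fintype Γ]

theorem le_normalizer_of_conj {S G : Subgroup Γ} (h : ∀ s ∈ S, ∀ g ∈ G, s * g * s⁻¹ ∈ G) :
    S ≤ Subgroup.normalizer (G : Set Γ) := by
  intro s hs
  apply mem_normalizer_of_conj_mem (h s hs)
  intro g hg
  have := h s⁻¹ (inv_mem hs) g hg
  rwa [inv_inv] at this

/-- the restriction of an irreducible character has an irreducible constituent. -/
theorem rel_exists_constituent {N G : Subgroup Γ} (hNG : N ≤ G) (χ : IrrCharacter G) :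
    ∃ θ : IrrCharacter N, cinn (res hNG (χ : G → ℂ)) (θ : N → ℂ) ≠ 0 := by
  haveI : Fintype N := Fintype.ofFinite _
  haveI : Fintype (IrrCharacter N) := Fintype.ofFinite _
  by_contra hcon
  push Not at hcon
  have hcf : IsClassFunction N (res hNG (χ : G → ℂ)) :=
    res_isClassFunction hNG (IrrCharacter.isClassFunction χ)
  have hexp := classFunction_expansion (res hNG (χ : G → ℂ)) hcf
  have h0 : ∀ θ : IrrCharacter N, classInner (res hNG (χ : G → ℂ)) (θ : N → ℂ) = 0 := by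
    intro θ
    rw [← cinn_eq]
    exact hcon θ
  simp only [h0, zero_smul, Finset.sum_const_zero] at hexp
  have h1 := congrFun hexp 1
  exact IsIrrCharacter.apply_one_ne_zero χ.2 h1

/-- Isaacs 13.27: an invariant irreducible character has an invariant irreducible constituent
on an invariant normal subgroup of coprime index. -/
theorem exists_inv_constituent (G S N : Subgroup Γ)
    (hSG : S ≤ Subgroup.normalizer (G : Set Γ)) (hNG : N ≤ G)
    [hNn : (N.subgroupOf G).Normal] (hSN : S ≤ Subgroup.normalizer (N : Set Γ))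
    (hcop : (N.relIndex G).Coprime (Nat.card S))
    (hsolv : Group.IsSolvable S ∨ Group.IsSolvable (G ⧸ N.subgroupOf G))
    (χ : IrrCharacter G) (hinv : ∀ s ∈ S, InvUnder G s (χ : G → ℂ)) :
    ∃ θ : IrrCharacter N, cinn (res hNG (χ : G → ℂ)) (θ : N → ℂ) ≠ 0 ∧
      ∀ s ∈ S, InvUnder N s (θ : N → ℂ) := by
  have hGN : G ≤ Subgroup.normalizer (N : Set Γ) :=
    (Subgroup.normal_subgroupOf_iff_le_normalizer hNG).1 hNn
  obtain ⟨A, hA⟩ : ∃ A : Subgroup Γ, A = G ⊔ S := ⟨_, rfl⟩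
  have hGA : G ≤ A := by rw [hA]; exact le_sup_left
  have hSA : S ≤ A := by rw [hA]; exact le_sup_right
  have hAN : A ≤ Subgroup.normalizer (N : Set Γ) := by rw [hA]; exact sup_le hGN hSN
  have hAG : A ≤ Subgroup.normalizer (G : Set Γ) := by
    rw [hA]; exact sup_le Subgroup.le_normalizer hSG
  have hχA : ∀ a ∈ A, InvUnder G a (χ : G → ℂ) := by
    have hle : A ≤ invSubgroup G (χ : G → ℂ) := by
      rw [hA]
      exact sup_le (le_invSubgroup (IrrCharacter.isClassFunction χ))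
        (fun s hs => ⟨hSG hs, hinv s hs⟩)
    exact fun a ha => (hle ha).2
  letI act : MulAction A (N → ℂ) := conjFunAction A N hAN
  have hsmul : ∀ (a : A) (f : N → ℂ), a • f = cj N (a : Γ)⁻¹ (hAN (inv_mem a.2)) f :=
    fun a f => rfl
  let X : SubMulAction A (N → ℂ) :=
    { carrier := {f | IsIrrCharacter N f ∧ cinn (res hNG (χ : G → ℂ)) f ≠ 0}
      smul_mem' := by
        rintro c f ⟨hf1, hf2⟩
        rw [hsmul]
        refine ⟨cj_isIrr N _ _ hf1, ?_⟩
        have hcjχ : cj G (c : Γ)⁻¹ (hAG (inv_mem c.2)) (χ : G → ℂ) = (χ : G → ℂ) :=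
          (invUnder_iff_cj_eq G _ _ _).1 (hχA _ (inv_mem c.2))
        have e : res hNG (χ : G → ℂ) =
            cj N (c : Γ)⁻¹ (hAN (inv_mem c.2)) (res hNG (χ : G → ℂ)) := by
          conv_lhs => rw [← hcjχ]
          exact res_cj hNG _ _ _ _
        rw [e, cinn_cj]
        exact hf2 }
  have hXmem : ∀ x : X, IsIrrCharacter N (x : N → ℂ) ∧
      cinn (res hNG (χ : G → ℂ)) (x : N → ℂ) ≠ 0 := fun x => x.2
  haveI : Nonempty X := by
    obtain ⟨θ, hθ⟩ := rel_exists_constituent hNG χ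
    exact ⟨⟨(θ : N → ℂ), θ.2, hθ⟩⟩
  haveI hMn : (N.subgroupOf A).Normal :=
    (Subgroup.normal_subgroupOf_iff_le_normalizer (hNG.trans hGA)).2 hAN
  haveI hKn : (G.subgroupOf A).Normal :=
    (Subgroup.normal_subgroupOf_iff_le_normalizer hGA).2 hAG
  have hMK : N.subgroupOf A ≤ G.subgroupOf A := fun x hx =>
    Subgroup.mem_subgroupOf.2 (hNG (Subgroup.mem_subgroupOf.1 hx))
  have htop : G.subgroupOf A ⊔ S.subgroupOf A = ⊤ := by
    rw [← Subgroup.subgroupOf_sup hGA hSA, ← hA, Subgroup.subgroupOf_self]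
  have htriv : ∀ m ∈ N.subgroupOf A, ∀ x : X, m • x = x := by
    intro m hm x
    apply Subtype.ext
    show m • (x : N → ℂ) = (x : N → ℂ)
    rw [hsmul]
    have hcf : IsClassFunction N (x : N → ℂ) :=
      Helper25.isClassFunction_of_char (Helper25.isCharacter_of_irr (hXmem x).1)
    have hmem : (m : Γ)⁻¹ ∈ N := inv_mem (Subgroup.mem_subgroupOf.1 hm)
    exact (invUnder_iff_cj_eq N _ _ _).1 (le_invSubgroup hcf hmem).2
  have hcop' : ((N.subgroupOf A).relIndex (G.subgroupOf A)).Coprime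
      (Nat.card (S.subgroupOf A)) := by
    rw [Subgroup.relIndex_subgroupOf hGA,
      Nat.card_congr (Subgroup.subgroupOfEquivOfLe hSA).toEquiv]
    exact hcop
  have hsolv' : Group.IsSolvable ((G.subgroupOf A).map (QuotientGroup.mk' (N.subgroupOf A))) ∨
      Group.IsSolvable (A ⧸ G.subgroupOf A) := by
    rcases hsolv with h | h
    · right
      apply Group.isSolvable_of_surjective
        (f := (QuotientGroup.mk' (G.subgroupOf A)).comp (Subgroup.inclusion hSA))
      intro q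
      obtain ⟨a, rfl⟩ := QuotientGroup.mk'_surjective (G.subgroupOf A) q
      have ha : a ∈ G.subgroupOf A ⊔ S.subgroupOf A := by rw [htop]; trivial
      obtain ⟨k, hk, h', hh', rfl⟩ := Subgroup.mem_sup_of_normal_left.1 ha
      refine ⟨⟨(h' : Γ), Subgroup.mem_subgroupOf.1 hh'⟩, ?_⟩
      have hk1 : (QuotientGroup.mk' (G.subgroupOf A)) k = 1 := (QuotientGroup.eq_one_iff k).2 hk
      rw [map_mul, hk1, one_mul]
      rfl
    · left
      have hker : N.subgroupOf G ≤
          ((QuotientGroup.mk' (N.subgroupOf A)).comp (Subgroup.inclusion hGA)).ker := by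
        intro n hn
        rw [MonoidHom.mem_ker, MonoidHom.comp_apply, QuotientGroup.mk'_apply,
          QuotientGroup.eq_one_iff]
        exact Subgroup.mem_subgroupOf.2 (Subgroup.mem_subgroupOf.1 hn)
      have hle : (G.subgroupOf A).map (QuotientGroup.mk' (N.subgroupOf A)) ≤
          (QuotientGroup.lift (N.subgroupOf G)
            ((QuotientGroup.mk' (N.subgroupOf A)).comp (Subgroup.inclusion hGA)) hker).range := by
        intro q hq
        obtain ⟨k, hk, rfl⟩ := Subgroup.mem_map.1 hq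
        refine ⟨QuotientGroup.mk ⟨(k : Γ), Subgroup.mem_subgroupOf.1 hk⟩, ?_⟩
        rfl
      haveI : Group.IsSolvable (QuotientGroup.lift (N.subgroupOf G)
          ((QuotientGroup.mk' (N.subgroupOf A)).comp (Subgroup.inclusion hGA)) hker).range :=
        Group.isSolvable_of_surjective (MonoidHom.rangeRestrict_surjective _)
      exact Group.isSolvable_of_isSolvable_injective (f := Subgroup.inclusion hle)
        (Subgroup.inclusion_injective hle)
  have htrans : ∀ x y : X, ∃ k ∈ G.subgroupOf A, k • x = y := by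
    intro x y
    obtain ⟨g, hg, hφ⟩ := rel_clifford_conj hNG hGN χ ⟨(x : N → ℂ), (hXmem x).1⟩
      ⟨(y : N → ℂ), (hXmem y).1⟩ (hXmem x).2 (hXmem y).2
    refine ⟨⟨g⁻¹, hGA (inv_mem hg)⟩, Subgroup.mem_subgroupOf.2 (inv_mem hg), ?_⟩
    apply Subtype.ext
    show (⟨g⁻¹, hGA (inv_mem hg)⟩ : A) • (x : N → ℂ) = (y : N → ℂ)
    rw [hsmul]
    have hφ' : (y : N → ℂ) = cj N g (hGN hg) (x : N → ℂ) := hφ
    rw [hφ']
    funext n
    show (x : N → ℂ) (conjE N (g⁻¹)⁻¹ _ n) = (x : N → ℂ) (conjE N g _ n)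
    apply congrArg (x : N → ℂ)
    apply Subtype.ext
    rw [conjE_coe, conjE_coe, inv_inv]
  obtain ⟨x, hx⟩ := glauberman_quot (N.subgroupOf A) (G.subgroupOf A) (S.subgroupOf A) hMK htop
    htriv hcop' hsolv' htrans
  refine ⟨⟨(x : N → ℂ), (hXmem x).1⟩, (hXmem x).2, ?_⟩
  intro s hs
  have h1 := hx ⟨s⁻¹, hSA (inv_mem hs)⟩ (Subgroup.mem_subgroupOf.2 (inv_mem hs))
  have h2 : (⟨s⁻¹, hSA (inv_mem hs)⟩ : A) • (x : N → ℂ) = (x : N → ℂ) :=
    congrArg Subtype.val h1
  rw [hsmul] at h2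
  have h3 := (invUnder_iff_cj_eq N _ _ _).2 h2
  have h4 : ((⟨s⁻¹, hSA (inv_mem hs)⟩ : A) : Γ)⁻¹ = s := inv_inv s
  rwa [h4] at h3

end InvConstituent

end Cfsg.Agent.Lib.Helper2.Rel
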