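import Mathlib
import Cfsg.Agent.Lib.Helper2.GlaubermanSolvable
import Cfsg.Agent.Lib.Helper2.RelChar
import Cfsg.Agent.Lib.Helper25.Codegree

/-!
# The Glauberman correspondence and normal subgroups (helper2 library; Isaacs 13.29, 13.31)

For a solvable group `S` of operators of order prime to `|G|` and an `S`-invariant normal subgroup
`N` of `G`, the Glauberman maps of `G` and of `N` are compatible with "lying over".  Hence every
`S`-invariant irreducible character of `N` lies under an `S`-invariant irreducible character of `G`.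
-/

set_option autoImplicit false
set_option linter.unusedSectionVars false
set_option linter.style.haveILetI false
set_option linter.unusedVariables false

namespace Cfsg.Agent.Lib.Helper2.GlPair

open Cfsg Cfsg.Agent.Lib Cfsg.Agent.Lib.Helper2 Cfsg.Agent.Lib.Helper2.GlPG
  Cfsg.Agent.Lib.Helper2.GlSolv Cfsg.Agent.Lib.Helper2.Rel
open scoped ComplexConjugate

section Counting

/-- weighted fixed point congruence for a `p`-group action, in `ZMod p`. -/
theorem sum_eq_sum_fixed {p : ℕ} [Fact p.Prime] {P : Type*} [Group P] [Finite P]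
    (hP : IsPGroup p P) {X : Type*} [MulAction P X] [Fintype X]
    (f : X → ZMod p) (hf : ∀ (g : P) (x : X), f (g • x) = f x)
    (F : Finset X) (hF : ∀ x, x ∈ F ↔ ∀ g : P, g • x = x) :
    ∑ x, f x = ∑ x ∈ F, f x := by
  classical
  have key : ∀ v : ZMod p, ((Finset.univ.filter (fun x => f x = v)).card : ZMod p) =
      ((F.filter (fun x => f x = v)).card : ZMod p) := by
    intro v
    rw [ZMod.natCast_eq_natCast_iff]
    let Y : SubMulAction P X :=
      { carrier := {x | f x = v}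
        smul_mem' := fun g x hx => by
          show f (g • x) = v
          rw [hf]
          exact hx }
    have h1 := hP.card_modEq_card_fixedPoints Y
    have e1 : Nat.card Y = (Finset.univ.filter (fun x => f x = v)).card := by
      rw [← Nat.card_eq_finsetCard]
      exact Nat.card_congr ⟨fun y => ⟨y.1, Finset.mem_filter.2 ⟨Finset.mem_univ _, y.2⟩⟩,
        fun y => ⟨y.1, (Finset.mem_filter.1 y.2).2⟩, fun _ => rfl, fun _ => rfl⟩
    have e2 : Nat.card (MulAction.fixedPoints P Y) = (F.filter (fun x => f x = v)).card := by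
      rw [← Nat.card_eq_finsetCard]
      exact Nat.card_congr
        ⟨fun y => ⟨y.1.1, Finset.mem_filter.2
            ⟨(hF _).2 (fun g => congrArg Subtype.val (y.2 g)), y.1.2⟩⟩,
          fun y => ⟨⟨y.1, (Finset.mem_filter.1 y.2).2⟩,
            fun g => Subtype.ext ((hF _).1 (Finset.mem_filter.1 y.2).1 g)⟩,
          fun _ => rfl, fun _ => rfl⟩
    rw [e1, e2] at h1
    exact h1
  have hs : ∀ s : Finset X, ∑ x ∈ s, f x =
      ∑ v : ZMod p, ((s.filter (fun x => f x = v)).card : ZMod p) * v := by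
    intro s
    rw [← Finset.sum_fiberwise s f f]
    apply Finset.sum_congr rfl
    intro v _
    rw [Finset.sum_eq_card_nsmul (fun x hx => (Finset.mem_filter.1 hx).2), nsmul_eq_mul]
  rw [hs Finset.univ, hs F]
  apply Finset.sum_congr rfl
  intro v _
  rw [key v]

end Counting

section Action

open Classical

variable {Γ : Type*} [Group Γ] [Fintype Γ]

/-- the conjugation action of a subgroup on the irreducible characters of a subgroup it
normalises. -/
@[reducible]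
noncomputable def irrAction (A N : Subgroup Γ) (h : A ≤ Subgroup.normalizer (N : Set Γ)) :
    MulAction A (IrrCharacter N) where
  smul a θ := cjI N (a : Γ)⁻¹ (h (inv_mem a.2)) θ
  one_smul θ := by
    apply Subtype.ext
    funext n
    show (θ : N → ℂ) (conjE N ((1 : A) : Γ)⁻¹ _ n) = (θ : N → ℂ) n
    apply congrArg (θ : N → ℂ)
    apply Subtype.ext
    rw [conjE_coe]
    simp
  mul_smul a b θ := by
    apply Subtype.ext
    funext n
    show (θ : N → ℂ) (conjE N ((a * b : A) : Γ)⁻¹ _ n) =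
      (θ : N → ℂ) (conjE N (b : Γ)⁻¹ _ (conjE N (a : Γ)⁻¹ _ n))
    apply congrArg (θ : N → ℂ)
    apply Subtype.ext
    rw [conjE_coe, conjE_coe, conjE_coe]
    simp [mul_assoc]

theorem irrAction_fixed_iff (A N : Subgroup Γ) (h : A ≤ Subgroup.normalizer (N : Set Γ))
    (θ : IrrCharacter N) :
    (∀ a : A, cjI N (a : Γ)⁻¹ (h (inv_mem a.2)) θ = θ) ↔
      ∀ x ∈ A, InvUnder N x (θ : N → ℂ) := by
  constructor
  · intro hfix x hx
    have h1 := hfix ⟨x⁻¹, inv_mem hx⟩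
    have h2 := (cjI_eq_self_iff N _ _ θ).1 h1
    have h4 : ((⟨x⁻¹, inv_mem hx⟩ : A) : Γ)⁻¹ = x := inv_inv x
    rwa [h4] at h2
  · intro hinv a
    exact (cjI_eq_self_iff N _ _ θ).2 (hinv _ (inv_mem a.2))

/-- the weighted fixed point congruence for a `p`-group acting on `Irr(E)`. -/
theorem sum_irr_fixed {p : ℕ} (hp : p.Prime) (P E : Subgroup Γ) (hPp : IsPGroup p P)
    (hPE : P ≤ Subgroup.normalizer (E : Set Γ)) [Fintype (IrrCharacter E)]
    (f : IrrCharacter E → ZMod p)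
    (hf : ∀ (x : Γ) (hx : x ∈ P) (ϑ : IrrCharacter E), f (cjI E x (hPE hx) ϑ) = f ϑ) :
    ∑ ϑ, f ϑ = ∑ ϑ ∈ Finset.univ.filter
      (fun ϑ : IrrCharacter E => ∀ x ∈ P, InvUnder E x (ϑ : E → ℂ)), f ϑ := by
  haveI : Fact p.Prime := ⟨hp⟩
  letI := irrAction P E hPE
  apply sum_eq_sum_fixed hPp f
  · intro g ϑ
    exact hf (g : Γ)⁻¹ (inv_mem g.2) ϑ
  · intro ϑ
    rw [Finset.mem_filter]
    constructor
    · rintro ⟨_, hinv⟩ g
      exact (irrAction_fixed_iff P E hPE ϑ).2 hinv g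
    · intro hfix
      exact ⟨Finset.mem_univ _, (irrAction_fixed_iff P E hPE ϑ).1 hfix⟩

end Action

section PStep

open Classical

variable {Γ : Type*} [Group Γ] [Fintype Γ] {p : ℕ}

theorem centralizer_le_normalizer' (P : Subgroup Γ) :
    Subgroup.centralizer (P : Set Γ) ≤ Subgroup.normalizer (P : Set Γ) := by
  intro c hc
  have key : ∀ y ∈ Subgroup.centralizer (P : Set Γ), ∀ h ∈ P, y * h * y⁻¹ ∈ P := by
    intro y hy h hh
    have := (Subgroup.mem_centralizer_iff.1 hy) h hh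
    rw [← this, mul_inv_cancel_right]
    exact hh
  apply mem_normalizer_of_conj_mem (key c hc)
  intro h hh
  have := key c⁻¹ (inv_mem hc) h hh
  rwa [inv_inv] at this

theorem cinn_res_cj_right {D E : Subgroup Γ} (hED : E ≤ D) {x : Γ}
    (hxD : x ∈ Subgroup.normalizer (D : Set Γ)) (hxE : x ∈ Subgroup.normalizer (E : Set Γ))
    {χ : D → ℂ} (hχ : InvUnder D x χ) (ϑ : E → ℂ) :
    cinn (res hED χ) (cj E x hxE ϑ) = cinn (res hED χ) ϑ := by
  have hχeq : cj D x hxD χ = χ := (invUnder_iff_cj_eq D x hxD χ).1 hχ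
  have h1 : res hED χ = cj E x hxE (res hED χ) := by
    conv_lhs => rw [← hχeq]
    exact res_cj hED x hxD hxE χ
  conv_lhs => rw [h1]
  exact cinn_cj E x hxE _ _

theorem res_cj_centralized {E CE : Subgroup Γ} (hCEE : CE ≤ E) {x : Γ}
    (hxE : x ∈ Subgroup.normalizer (E : Set Γ)) (hx : ∀ c ∈ CE, x * c * x⁻¹ = c) (ϑ : E → ℂ) :
    res hCEE (cj E x hxE ϑ) = res hCEE ϑ := by
  funext c
  show ϑ (conjE E x hxE ⟨c, hCEE c.2⟩) = ϑ ⟨c, hCEE c.2⟩
  apply congrArg ϑ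
  apply Subtype.ext
  rw [conjE_coe]
  exact hx c c.2

/-- composition of multiplicities through an intermediate subgroup, modulo `p`. -/
theorem comp_mod [Fact p.Prime] {G D C : Subgroup Γ} (hDG : D ≤ G) (hCD : C ≤ D)
    (χ : IrrCharacter G) {ψ₀ : IrrCharacter D} {ε : ℤ}
    (h₁ : ∀ ψ : IrrCharacter D, ∃ m : ℕ, cinn (res hDG (χ : G → ℂ)) (ψ : D → ℂ) = (m : ℂ) ∧
        ((ψ = ψ₀ → (m : ℤ) ≡ ε [ZMOD p]) ∧ (ψ ≠ ψ₀ → (m : ℤ) ≡ 0 [ZMOD p])))
    (β : IrrCharacter C) :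
    ∃ n m₂ : ℕ, cinn (res (hCD.trans hDG) (χ : G → ℂ)) (β : C → ℂ) = (n : ℂ) ∧
      cinn (res hCD (ψ₀ : D → ℂ)) (β : C → ℂ) = (m₂ : ℂ) ∧
      (n : ZMod p) = (ε : ZMod p) * (m₂ : ZMod p) := by
  haveI : Fintype (IrrCharacter D) := Fintype.ofFinite _
  choose m₁ hm₁ hc₁ using h₁
  have hm₂ : ∀ ψ : IrrCharacter D, ∃ m : ℕ,
      cinn (res hCD (ψ : D → ℂ)) (β : C → ℂ) = (m : ℂ) := by
    intro ψ
    haveI := Fintype.ofFinite C
    rw [cinn_eq]
    exact classInner_isCharacter_nat (res_isCharacter hCD (IsIrrCharacter.isCharacter ψ.2))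
      (IsIrrCharacter.isCharacter β.2)
  choose m₂ hm₂ using hm₂
  refine ⟨∑ ψ : IrrCharacter D, m₁ ψ * m₂ ψ, m₂ ψ₀, ?_, hm₂ ψ₀, ?_⟩
  · rw [cinn_res_trans hDG hCD (IsIrrCharacter.isCharacter χ.2)]
    push_cast
    apply Finset.sum_congr rfl
    intro ψ _
    rw [hm₁ ψ, hm₂ ψ]
  · have hcast : ∀ ψ : IrrCharacter D,
        (m₁ ψ : ZMod p) = if ψ = ψ₀ then (ε : ZMod p) else 0 := by
      intro ψ
      by_cases hψ : ψ = ψ₀
      · rw [if_pos hψ]
        have h := (ZMod.intCast_eq_intCast_iff _ _ p).2 ((hc₁ ψ).1 hψ)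
        exact_mod_cast h
      · rw [if_neg hψ]
        have h := (ZMod.intCast_eq_intCast_iff _ _ p).2 ((hc₁ ψ).2 hψ)
        exact_mod_cast h
    push_cast
    simp only [hcast, ite_mul, zero_mul]
    rw [Finset.sum_ite_eq' Finset.univ ψ₀ (fun ψ => (ε : ZMod p) * (m₂ ψ : ZMod p)),
      if_pos (Finset.mem_univ _)]

/-- Forward compatibility for a `p`-group of operators, for a constituent of multiplicity prime
to `p`. -/
theorem pstep_forward (hp : p.Prime) (P D E : Subgroup Γ) (hPp : IsPGroup p P)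
    (hPD : P ≤ Subgroup.normalizer (D : Set Γ)) (hPE : P ≤ Subgroup.normalizer (E : Set Γ))
    (hED : E ≤ D) (C CE : Subgroup Γ) (hCD : C ≤ D) (hCEE : CE ≤ E) (hCEC : CE ≤ C)
    (hCP : ∀ x ∈ P, ∀ c ∈ CE, x * c * x⁻¹ = c)
    (HD : GlP p D C hCD (fun χ => ∀ x ∈ P, InvUnder D x χ))
    (HE : GlP p E CE hCEE (fun ϑ => ∀ x ∈ P, InvUnder E x ϑ))
    (χ : IrrCharacter D) (hχ : ∀ x ∈ P, InvUnder D x (χ : D → ℂ))
    (ϑ : IrrCharacter E) (hϑ : ∀ x ∈ P, InvUnder E x (ϑ : E → ℂ))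
    (a : ℕ) (ha : cinn (res hED (χ : D → ℂ)) (ϑ : E → ℂ) = (a : ℂ)) (hpa : ¬ p ∣ a) :
    cinn (res hCEC (piP p hCD χ : C → ℂ)) (piP p hCEE ϑ : CE → ℂ) ≠ 0 := by
  haveI : Fact p.Prime := ⟨hp⟩
  haveI : Fintype (IrrCharacter E) := Fintype.ofFinite _
  haveI : Fintype E := Fintype.ofFinite _
  haveI : Fintype CE := Fintype.ofFinite _
  intro h0
  -- through `C`
  obtain ⟨ψ₀, ε, hε, hall⟩ := HD.ex χ hχ
  have hψ₀ : ψ₀ = piP p hCD χ := by
    apply piP_unique hp HD hχ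
    obtain ⟨m, hm, hcong⟩ := hall ψ₀
    rw [if_pos rfl] at hcong
    exact ⟨m, hm, not_dvd_of_modEq_unit hp hε hcong⟩
  have hall' : ∀ ψ : IrrCharacter C, ∃ m : ℕ,
      cinn (res hCD (χ : D → ℂ)) (ψ : C → ℂ) = (m : ℂ) ∧
        ((ψ = ψ₀ → (m : ℤ) ≡ ε [ZMOD p]) ∧ (ψ ≠ ψ₀ → (m : ℤ) ≡ 0 [ZMOD p])) := by
    intro ψ
    obtain ⟨m, hm, hc⟩ := hall ψ
    refine ⟨m, hm, fun h => ?_, fun h => ?_⟩
    · rwa [if_pos h] at hc
    · rwa [if_neg h] at hc
  obtain ⟨n, m₂, hn, hm₂, hnm⟩ := comp_mod hCD hCEC χ hall' (piP p hCEE ϑ)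
  rw [hψ₀, h0] at hm₂
  have hm₂0 : m₂ = 0 := by exact_mod_cast hm₂.symm
  rw [hm₂0, Nat.cast_zero, mul_zero] at hnm
  -- through `E`
  have hm : ∀ ϑ' : IrrCharacter E, ∃ m : ℕ,
      cinn (res hED (χ : D → ℂ)) (ϑ' : E → ℂ) = (m : ℂ) := by
    intro ϑ'
    rw [cinn_eq]
    exact classInner_isCharacter_nat (res_isCharacter hED (IsIrrCharacter.isCharacter χ.2))
      (IsIrrCharacter.isCharacter ϑ'.2)
  have hr : ∀ ϑ' : IrrCharacter E, ∃ r : ℕ,
      cinn (res hCEE (ϑ' : E → ℂ)) (piP p hCEE ϑ : CE → ℂ) = (r : ℂ) := by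
    intro ϑ'
    rw [cinn_eq]
    exact classInner_isCharacter_nat (res_isCharacter hCEE (IsIrrCharacter.isCharacter ϑ'.2))
      (IsIrrCharacter.isCharacter (piP p hCEE ϑ).2)
  choose m hm using hm
  choose r hr using hr
  have hn' : (n : ℂ) = ((∑ ϑ' : IrrCharacter E, m ϑ' * r ϑ' : ℕ) : ℂ) := by
    rw [← hn]
    have e : res (hCEC.trans hCD) (χ : D → ℂ) = res (hCEE.trans hED) (χ : D → ℂ) := rfl
    rw [e, cinn_res_trans hED hCEE (IsIrrCharacter.isCharacter χ.2)]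
    push_cast
    apply Finset.sum_congr rfl
    intro ϑ' _
    rw [hm ϑ', hr ϑ']
  have hn'' : n = ∑ ϑ' : IrrCharacter E, m ϑ' * r ϑ' := by exact_mod_cast hn'
  have hminv : ∀ (x : Γ) (hx : x ∈ P) (ϑ' : IrrCharacter E),
      m (cjI E x (hPE hx) ϑ') = m ϑ' := by
    intro x hx ϑ'
    have h1 := cinn_res_cj_right hED (hPD hx) (hPE hx) (hχ x hx) (ϑ' : E → ℂ)
    have h2 : (m (cjI E x (hPE hx) ϑ') : ℂ) = (m ϑ' : ℂ) := by
      rw [← hm, ← hm]
      exact h1
    exact_mod_cast h2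
  have hrinv : ∀ (x : Γ) (hx : x ∈ P) (ϑ' : IrrCharacter E),
      r (cjI E x (hPE hx) ϑ') = r ϑ' := by
    intro x hx ϑ'
    have h2 : (r (cjI E x (hPE hx) ϑ') : ℂ) = (r ϑ' : ℂ) := by
      rw [← hr, ← hr]
      show cinn (res hCEE (cj E x (hPE hx) (ϑ' : E → ℂ))) _ = _
      rw [res_cj_centralized hCEE (hPE hx) (hCP x hx)]
    exact_mod_cast h2
  have hsum : ∑ ϑ' : IrrCharacter E, ((m ϑ' : ZMod p) * (r ϑ' : ZMod p)) =
      ∑ ϑ' ∈ Finset.univ.filter
        (fun ϑ' : IrrCharacter E => ∀ x ∈ P, InvUnder E x (ϑ' : E → ℂ)),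
        ((m ϑ' : ZMod p) * (r ϑ' : ZMod p)) :=
    sum_irr_fixed hp P E hPp hPE (fun ϑ' => (m ϑ' : ZMod p) * (r ϑ' : ZMod p))
      (fun x hx ϑ' => by simp only [hminv x hx ϑ', hrinv x hx ϑ'])
  have hsingle : ∑ ϑ' ∈ Finset.univ.filter
      (fun ϑ' : IrrCharacter E => ∀ x ∈ P, InvUnder E x (ϑ' : E → ℂ)),
      ((m ϑ' : ZMod p) * (r ϑ' : ZMod p)) = (m ϑ : ZMod p) * (r ϑ : ZMod p) := by
    apply Finset.sum_eq_single ϑ
    · intro ϑ' hϑ' hne
      have hϑ'P := (Finset.mem_filter.1 hϑ').2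
      have hdvd : p ∣ r ϑ' := by
        by_contra hnd
        apply hne
        obtain ⟨m', hm', hpm'⟩ := piP_spec hp HE hϑ
        exact HE.inj ϑ' ϑ hϑ'P hϑ (piP p hCEE ϑ) (r ϑ') m' (hr ϑ') hnd hm' hpm'
      rw [(ZMod.natCast_eq_zero_iff (r ϑ') p).2 hdvd, mul_zero]
    · intro hnot
      exact absurd (Finset.mem_filter.2 ⟨Finset.mem_univ _, hϑ⟩) hnot
  have hfinal : (m ϑ : ZMod p) * (r ϑ : ZMod p) = 0 := by
    rw [← hsingle, ← hsum]
    rw [hn''] at hnm
    push_cast at hnm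
    exact hnm
  have hma : m ϑ = a := by exact_mod_cast (hm ϑ).symm.trans ha
  obtain ⟨m', hm', hpm'⟩ := piP_spec hp HE hϑ
  have hrm : r ϑ = m' := by exact_mod_cast (hr ϑ).symm.trans hm'
  rcases mul_eq_zero.1 hfinal with h | h
  · rw [ZMod.natCast_eq_zero_iff, hma] at h
    exact hpa h
  · rw [ZMod.natCast_eq_zero_iff, hrm] at h
    exact hpm' h

/-- an invariant irreducible character has an invariant constituent of multiplicity prime to
`p` on an invariant subgroup. -/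
theorem exists_fixed_constituent (hp : p.Prime) (P D E : Subgroup Γ) (hPp : IsPGroup p P)
    (hPD : P ≤ Subgroup.normalizer (D : Set Γ)) (hPE : P ≤ Subgroup.normalizer (E : Set Γ))
    (hED : E ≤ D) (hpD : ¬ p ∣ Nat.card D)
    (χ : IrrCharacter D) (hχ : ∀ x ∈ P, InvUnder D x (χ : D → ℂ)) :
    ∃ (ϑ₁ : IrrCharacter E) (a : ℕ), (∀ x ∈ P, InvUnder E x (ϑ₁ : E → ℂ)) ∧
      cinn (res hED (χ : D → ℂ)) (ϑ₁ : E → ℂ) = (a : ℂ) ∧ ¬ p ∣ a := by
  haveI : Fact p.Prime := ⟨hp⟩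
  haveI : Fintype (IrrCharacter E) := Fintype.ofFinite _
  haveI : Fintype E := Fintype.ofFinite _
  have hm : ∀ ϑ' : IrrCharacter E, ∃ m : ℕ,
      cinn (res hED (χ : D → ℂ)) (ϑ' : E → ℂ) = (m : ℂ) := by
    intro ϑ'
    rw [cinn_eq]
    exact classInner_isCharacter_nat (res_isCharacter hED (IsIrrCharacter.isCharacter χ.2))
      (IsIrrCharacter.isCharacter ϑ'.2)
  choose m hm using hm
  have hdeg : charDegree (χ : D → ℂ) =
      ∑ ϑ' : IrrCharacter E, m ϑ' * charDegree (ϑ' : E → ℂ) := by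
    have hcf : IsClassFunction E (res hED (χ : D → ℂ)) :=
      res_isClassFunction hED (IrrCharacter.isClassFunction χ)
    have hexp := classFunction_expansion (res hED (χ : D → ℂ)) hcf
    have h1 := congrFun hexp 1
    rw [Finset.sum_apply] at h1
    have h2 : (res hED (χ : D → ℂ)) 1 = (charDegree (χ : D → ℂ) : ℂ) := by
      rw [← Helper25.char_one_eq_charDegree (Helper25.isCharacter_of_irr χ.2)]
      rfl
    have h3 : (charDegree (χ : D → ℂ) : ℂ) =
        ((∑ ϑ' : IrrCharacter E, m ϑ' * charDegree (ϑ' : E → ℂ) : ℕ) : ℂ) := by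
      rw [← h2, h1]
      push_cast
      apply Finset.sum_congr rfl
      intro ϑ' _
      rw [Pi.smul_apply, smul_eq_mul, ← cinn_eq, hm ϑ',
        Helper25.char_one_eq_charDegree (Helper25.isCharacter_of_irr ϑ'.2)]
    exact_mod_cast h3
  have hpχ : ¬ p ∣ charDegree (χ : D → ℂ) :=
    fun h => hpD (dvd_trans h (Helper25.charDegree_dvd_card χ.2))
  have hdinv : ∀ (x : Γ) (hx : x ∈ P) (ϑ' : IrrCharacter E),
      charDegree (cjI E x (hPE hx) ϑ' : E → ℂ) = charDegree (ϑ' : E → ℂ) := by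
    intro x hx ϑ'
    have h1 : ((cjI E x (hPE hx) ϑ' : IrrCharacter E) : E → ℂ) 1 = (ϑ' : E → ℂ) 1 := by
      show (ϑ' : E → ℂ) (conjE E x (hPE hx) 1) = (ϑ' : E → ℂ) 1
      rw [map_one]
    rw [Helper25.char_one_eq_charDegree (Helper25.isCharacter_of_irr (cjI E x (hPE hx) ϑ').2),
      Helper25.char_one_eq_charDegree (Helper25.isCharacter_of_irr ϑ'.2)] at h1
    exact_mod_cast h1
  have hminv : ∀ (x : Γ) (hx : x ∈ P) (ϑ' : IrrCharacter E),
      m (cjI E x (hPE hx) ϑ') = m ϑ' := by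
    intro x hx ϑ'
    have h1 := cinn_res_cj_right hED (hPD hx) (hPE hx) (hχ x hx) (ϑ' : E → ℂ)
    have h2 : (m (cjI E x (hPE hx) ϑ') : ℂ) = (m ϑ' : ℂ) := by
      rw [← hm, ← hm]
      exact h1
    exact_mod_cast h2
  have hsum : ∑ ϑ' : IrrCharacter E,
      ((m ϑ' : ZMod p) * (charDegree (ϑ' : E → ℂ) : ZMod p)) =
      ∑ ϑ' ∈ Finset.univ.filter
        (fun ϑ' : IrrCharacter E => ∀ x ∈ P, InvUnder E x (ϑ' : E → ℂ)),
        ((m ϑ' : ZMod p) * (charDegree (ϑ' : E → ℂ) : ZMod p)) :=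
    sum_irr_fixed hp P E hPp hPE
      (fun ϑ' => (m ϑ' : ZMod p) * (charDegree (ϑ' : E → ℂ) : ZMod p))
      (fun x hx ϑ' => by simp only [hminv x hx ϑ', hdinv x hx ϑ'])
  have hne : ∑ ϑ' ∈ Finset.univ.filter
      (fun ϑ' : IrrCharacter E => ∀ x ∈ P, InvUnder E x (ϑ' : E → ℂ)),
      ((m ϑ' : ZMod p) * (charDegree (ϑ' : E → ℂ) : ZMod p)) ≠ 0 := by
    rw [← hsum]
    have e : ∑ ϑ' : IrrCharacter E,
        ((m ϑ' : ZMod p) * (charDegree (ϑ' : E → ℂ) : ZMod p)) =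
        ((charDegree (χ : D → ℂ) : ℕ) : ZMod p) := by
      rw [hdeg]
      push_cast
      rfl
    rw [e, Ne, ZMod.natCast_eq_zero_iff]
    exact hpχ
  obtain ⟨ϑ₁, hϑ₁F, hϑ₁⟩ := Finset.exists_ne_zero_of_sum_ne_zero hne
  refine ⟨ϑ₁, m ϑ₁, (Finset.mem_filter.1 hϑ₁F).2, hm ϑ₁, ?_⟩
  intro hd
  apply hϑ₁
  rw [(ZMod.natCast_eq_zero_iff (m ϑ₁) p).2 hd, zero_mul]

/-- Backward compatibility for a `p`-group of operators (Isaacs 13.29 for `p`-groups). -/
theorem pstep_backward (hp : p.Prime) (P D E : Subgroup Γ) (hPp : IsPGroup p P)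
    (hPD : P ≤ Subgroup.normalizer (D : Set Γ)) (hPE : P ≤ Subgroup.normalizer (E : Set Γ))
    (hED : E ≤ D) (hDE : D ≤ Subgroup.normalizer (E : Set Γ)) (hpD : ¬ p ∣ Nat.card D)
    (C CE : Subgroup Γ) (hC : C = D ⊓ Subgroup.centralizer (P : Set Γ))
    (hCE : CE = E ⊓ Subgroup.centralizer (P : Set Γ))
    (hCD : C ≤ D) (hCEE : CE ≤ E) (hCEC : CE ≤ C)
    (HD : GlP p D C hCD (fun χ => ∀ x ∈ P, InvUnder D x χ))
    (HE : GlP p E CE hCEE (fun ϑ => ∀ x ∈ P, InvUnder E x ϑ))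
    (χ : IrrCharacter D) (hχ : ∀ x ∈ P, InvUnder D x (χ : D → ℂ))
    (ϑ : IrrCharacter E) (hϑ : ∀ x ∈ P, InvUnder E x (ϑ : E → ℂ))
    (h : cinn (res hCEC (piP p hCD χ : C → ℂ)) (piP p hCEE ϑ : CE → ℂ) ≠ 0) :
    cinn (res hED (χ : D → ℂ)) (ϑ : E → ℂ) ≠ 0 := by
  have hCP : ∀ x ∈ P, ∀ c ∈ CE, x * c * x⁻¹ = c := by
    intro x hx c hc
    rw [hCE] at hc
    have := (Subgroup.mem_centralizer_iff.1 (Subgroup.mem_inf.1 hc).2) x hx
    rw [this, mul_inv_cancel_right]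
  obtain ⟨ϑ₁, a, hϑ₁P, ha, hpa⟩ :=
    exists_fixed_constituent hp P D E hPp hPD hPE hED hpD χ hχ
  have h1 := pstep_forward hp P D E hPp hPD hPE hED C CE hCD hCEE hCEC hCP HD HE χ hχ ϑ₁ hϑ₁P
    a ha hpa
  have hCnCE : C ≤ Subgroup.normalizer (CE : Set Γ) := by
    intro c hc
    rw [hC] at hc
    rw [hCE]
    exact mem_normalizer_inf_centralizer (hDE (Subgroup.mem_inf.1 hc).1)
      (centralizer_le_normalizer' P (Subgroup.mem_inf.1 hc).2)
  obtain ⟨c, hcC, hconj⟩ := rel_clifford_conj hCEC hCnCE (piP p hCD χ) (piP p hCEE ϑ₁)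
    (piP p hCEE ϑ) h1 h
  have hcD : c ∈ D := hCD hcC
  have hcE : c ∈ Subgroup.normalizer (E : Set Γ) := hDE hcD
  have hcP : c ∈ Subgroup.centralizer (P : Set Γ) := by
    rw [hC] at hcC
    exact (Subgroup.mem_inf.1 hcC).2
  have hcNP : c ∈ Subgroup.normalizer (P : Set Γ) := centralizer_le_normalizer' P hcP
  have hϑ₂P : ∀ x ∈ P, InvUnder E x (cjI E c hcE ϑ₁ : E → ℂ) := inv_cj hcE hcNP hϑ₁P
  obtain ⟨m', hm', hpm'⟩ := piP_spec hp HE hϑ₁P
  have hQ : Qp p hCEE (cjI E c hcE ϑ₁) (piP p hCEE ϑ) := by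
    refine ⟨m', ?_, hpm'⟩
    rw [← hm', hconj]
    show cinn (res hCEE (cj E c hcE (ϑ₁ : E → ℂ))) (cj CE c (hCnCE hcC) _) = _
    rw [res_cj hCEE c hcE (hCnCE hcC), cinn_cj]
  obtain ⟨m₂, hm₂, hpm₂⟩ := piP_spec hp HE hϑ
  obtain ⟨m₃, hm₃, hpm₃⟩ := hQ
  have hϑeq : ϑ = cjI E c hcE ϑ₁ :=
    HE.inj ϑ (cjI E c hcE ϑ₁) hϑ hϑ₂P (piP p hCEE ϑ) m₂ m₃ hm₂ hpm₂ hm₃ hpm₃
  rw [hϑeq]
  show cinn (res hED (χ : D → ℂ)) (cj E c hcE (ϑ₁ : E → ℂ)) ≠ 0
  have hχc : InvUnder D c (χ : D → ℂ) :=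
    (le_invSubgroup (IrrCharacter.isClassFunction χ) hcD).2
  rw [cinn_res_cj_right hED (Subgroup.le_normalizer hcD) hcE hχc, ha]
  intro h0
  have h0' : a = 0 := by exact_mod_cast h0
  exact hpa (h0' ▸ dvd_zero p)

end PStep

section Solvable

open Classical

variable {Γ : Type*} [Group Γ] [Fintype Γ]

theorem inf_centralizer_sup {G T P S : Subgroup Γ} (hTS : T ≤ S) (hPS : P ≤ S)
    (hTP : T ⊔ P = S) :
    G ⊓ Subgroup.centralizer (S : Set Γ) =
      (G ⊓ Subgroup.centralizer (T : Set Γ)) ⊓ Subgroup.centralizer (P : Set Γ) := by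
  ext x
  simp only [Subgroup.mem_inf, Subgroup.mem_centralizer_iff]
  constructor
  · rintro ⟨hxG, hxS⟩
    exact ⟨⟨hxG, fun t ht => hxS t (hTS ht)⟩, fun q hq => hxS q (hPS hq)⟩
  · rintro ⟨⟨hxG, hxT⟩, hxP⟩
    refine ⟨hxG, ?_⟩
    have hle : T ⊔ P ≤ Subgroup.centralizer ({x} : Set Γ) := by
      apply sup_le
      · intro t ht
        rw [Subgroup.mem_centralizer_iff]
        intro h hh
        rw [Set.mem_singleton_iff.1 hh]
        exact (hxT t ht).symm
      · intro t ht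
        rw [Subgroup.mem_centralizer_iff]
        intro h hh
        rw [Set.mem_singleton_iff.1 hh]
        exact (hxP t ht).symm
    intro s hs
    have hs' : s ∈ T ⊔ P := by rw [hTP]; exact hs
    have := hle hs'
    rw [Subgroup.mem_centralizer_iff] at this
    exact (this x (Set.mem_singleton x)).symm

/-- the inductive step of the solvable Glauberman correspondence, as a standalone statement. -/
theorem glS_step {p : ℕ} (hp : p.Prime) {S T P : Subgroup Γ} (hTS : T ≤ S) (hPS : P ≤ S)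
    (hPp : IsPGroup p P) (hTP : T ⊔ P = S)
    (hTchar : ∀ y ∈ Subgroup.normalizer (S : Set Γ), y ∈ Subgroup.normalizer (T : Set Γ))
    {G : Subgroup Γ} (hnorm : S ≤ Subgroup.normalizer (G : Set Γ))
    (hcop : (Nat.card G).Coprime (Nat.card S))
    {D C : Subgroup Γ} (hD : D = G ⊓ Subgroup.centralizer (T : Set Γ))
    (hC : C = G ⊓ Subgroup.centralizer (S : Set Γ)) (hCD : C ≤ D)
    {πT : IrrCharacter G → IrrCharacter D} (hπT : GlS T G D πT) :
    GlS S G C (fun χ => piP p hCD (πT χ)) := by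
  haveI : Fact p.Prime := ⟨hp⟩
  have hST : S ≤ Subgroup.normalizer (T : Set Γ) :=
    fun y hy => hTchar y (Subgroup.le_normalizer hy)
  have hDG : D ≤ G := by rw [hD]; exact inf_le_left
  have hSD : S ≤ Subgroup.normalizer (D : Set Γ) := by
    intro y hy
    rw [hD]
    exact mem_normalizer_inf_centralizer (hnorm hy) (hST hy)
  have hCD' : C = D ⊓ Subgroup.centralizer (P : Set Γ) := by
    rw [hC, hD]
    exact inf_centralizer_sup hTS hPS hTP
  have hPD : P ≤ Subgroup.normalizer (D : Set Γ) := hPS.trans hSD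
  have hDPcop : (Nat.card D).Coprime (Nat.card P) :=
    Nat.Coprime.coprime_dvd_left (Subgroup.card_dvd_of_le hDG)
      (Nat.Coprime.coprime_dvd_right (Subgroup.card_dvd_of_le hPS) hcop)
  have HP0 := glP_pgroup hp (Nat.card P) P rfl hPp D hPD hDPcop C hCD' hCD
  have HP : GlP p D C hCD (fun ψ => ∀ x ∈ S, InvUnder D x ψ) := by
    apply GlP.congr_inv _ HP0
    intro ψ
    constructor
    · intro h
      have hle : T ⊔ P ≤ invSubgroup D (ψ : D → ℂ) := by
        apply sup_le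
        · intro t ht
          refine ⟨hSD (hTS ht), fun g g' hg => ?_⟩
          have hg2 : (g : Γ) ∈ G ⊓ Subgroup.centralizer (T : Set Γ) := by
            rw [← hD]; exact g.2
          have hc : t * (g : Γ) = (g : Γ) * t :=
            (Subgroup.mem_centralizer_iff.1 (Subgroup.mem_inf.1 hg2).2) t ht
          have : g' = g := by
            apply Subtype.ext
            rw [hg, hc, mul_inv_cancel_right]
          rw [this]
        · intro q hq
          exact ⟨hPD hq, h q hq⟩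
      intro x hx
      have hx' : x ∈ T ⊔ P := by rw [hTP]; exact hx
      exact (hle hx').2
    · intro h x hx
      exact h x (hPS hx)
  have hinvD : ∀ χ : IrrCharacter G, (∀ x ∈ S, InvUnder G x (χ : G → ℂ)) →
      ∀ x ∈ S, InvUnder D x (πT χ : D → ℂ) :=
    fun χ hχ => hπT.inv_image hnorm hST hSD (fun x hx => hχ x (hTS hx)) hχ
  obtain ⟨π, hπ⟩ : ∃ π : IrrCharacter G → IrrCharacter C, ∀ χ, π χ = piP p hCD (πT χ) :=
    ⟨_, fun _ => rfl⟩
  have hπeq : π = fun χ => piP p hCD (πT χ) := funext hπ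
  rw [← hπeq]
  refine ⟨?_, ?_, ?_⟩
  · intro χ χ' hχ hχ' heq
    have hχT : ∀ x ∈ T, InvUnder G x (χ : G → ℂ) := fun x hx => hχ x (hTS hx)
    have hχT' : ∀ x ∈ T, InvUnder G x (χ' : G → ℂ) := fun x hx => hχ' x (hTS hx)
    apply hπT.inj χ χ' hχT hχT'
    obtain ⟨m, hm, hpm⟩ := piP_spec hp HP (hinvD χ hχ)
    obtain ⟨m', hm', hpm'⟩ := piP_spec hp HP (hinvD χ' hχ')
    rw [hπ, hπ] at heq
    rw [← heq] at hm'
    exact HP.inj (πT χ) (πT χ') (hinvD χ hχ) (hinvD χ' hχ') _ m m' hm hpm hm' hpm'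
  · intro β
    obtain ⟨ψ, hψS, m, hm, hpm⟩ := HP.surj β
    obtain ⟨χ, hχT, hχψ⟩ := hπT.surj ψ
    have hχS : ∀ x ∈ S, InvUnder G x (χ : G → ℂ) :=
      hπT.inv_preimage hnorm hST hSD hχT (by rw [hχψ]; exact hψS)
    refine ⟨χ, hχS, ?_⟩
    rw [hπ, hχψ]
    exact (piP_unique hp HP hψS ⟨m, hm, hpm⟩).symm
  · intro y hyG hyS hyC χ hχ
    have hyT : y ∈ Subgroup.normalizer (T : Set Γ) := hTchar y hyS
    have hyD : y ∈ Subgroup.normalizer (D : Set Γ) := by
      rw [hD]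
      exact mem_normalizer_inf_centralizer hyG hyT
    have hχT : ∀ x ∈ T, InvUnder G x (χ : G → ℂ) := fun x hx => hχ x (hTS hx)
    rw [hπ, hπ, hπT.equi y hyG hyT hyD χ hχT]
    have hψS := hinvD χ hχ
    have hψS' : ∀ x ∈ S, InvUnder D x (cjI D y hyD (πT χ) : D → ℂ) := inv_cj hyD hyS hψS
    symm
    apply piP_unique hp HP hψS'
    obtain ⟨m, hm, hpm⟩ := piP_spec hp HP hψS
    refine ⟨m, ?_, hpm⟩
    rw [← hm]
    show cinn (res hCD (cj D y hyD (πT χ : D → ℂ))) (cj C y hyC (piP p hCD (πT χ) : C → ℂ)) = _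
    rw [res_cj hCD y hyD hyC, cinn_cj]

/-- Isaacs 13.29 (one direction) together with the Glauberman correspondences of `G` and of an
invariant normal subgroup `N`, for a solvable group of operators. -/
theorem glS_pair : ∀ (n : ℕ) (S : Subgroup Γ), Nat.card S = n → Group.IsSolvable S →
    ∀ (G N : Subgroup Γ), S ≤ Subgroup.normalizer (G : Set Γ) →
    S ≤ Subgroup.normalizer (N : Set Γ) → ∀ (hNG : N ≤ G),
    G ≤ Subgroup.normalizer (N : Set Γ) → (Nat.card G).Coprime (Nat.card S) →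
    ∀ (C CN : Subgroup Γ), C = G ⊓ Subgroup.centralizer (S : Set Γ) →
    CN = N ⊓ Subgroup.centralizer (S : Set Γ) → ∀ (hCNC : CN ≤ C),
      ∃ (πG : IrrCharacter G → IrrCharacter C) (πN : IrrCharacter N → IrrCharacter CN),
        GlS S G C πG ∧ GlS S N CN πN ∧
        ∀ (χ : IrrCharacter G) (ϑ : IrrCharacter N),
          (∀ x ∈ S, InvUnder G x (χ : G → ℂ)) → (∀ x ∈ S, InvUnder N x (ϑ : N → ℂ)) →
          cinn (res hCNC (πG χ : C → ℂ)) (πN ϑ : CN → ℂ) ≠ 0 →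
          cinn (res hNG (χ : G → ℂ)) (ϑ : N → ℂ) ≠ 0 := by
  intro n
  induction n using Nat.strong_induction_on with
  | _ n ih =>
  intro S hn hsolv G N hnormG hnormN hNG hGN hcop C CN hC hCN hCNC
  by_cases hbot : S = ⊥
  · have hcent : ∀ H : Subgroup Γ,
        H ⊓ Subgroup.centralizer (((⊥ : Subgroup Γ) : Subgroup Γ) : Set Γ) = H := by
      intro H
      apply le_antisymm inf_le_left
      intro g hg
      refine Subgroup.mem_inf.2 ⟨hg, ?_⟩
      rw [Subgroup.mem_centralizer_iff]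
      intro h hh
      have h1 : h = 1 := by simpa using hh
      rw [h1, one_mul, mul_one]
    have hCG : C = G := by rw [hC, hbot]; exact hcent G
    have hCNN : CN = N := by rw [hCN, hbot]; exact hcent N
    subst hCG
    subst hCNN
    have hinvbot : ∀ (H : Subgroup Γ) (β : IrrCharacter H),
        ∀ x ∈ S, InvUnder H x (β : H → ℂ) := by
      intro H β x hx
      rw [hbot, Subgroup.mem_bot] at hx
      rw [hx]
      exact (one_mem (invSubgroup H (β : H → ℂ))).2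
    refine ⟨id, id,
      ⟨fun χ χ' _ _ h => h, fun β => ⟨β, hinvbot _ β, rfl⟩, fun y hyG hyS hyC χ _ => rfl⟩,
      ⟨fun χ χ' _ _ h => h, fun β => ⟨β, hinvbot _ β, rfl⟩, fun y hyG hyS hyC χ _ => rfl⟩, ?_⟩
    intro χ ϑ _ _ h
    exact h
  · obtain ⟨p, T, P, hp, hTS, hPS, hPp, hTlt, hTP, hTchar⟩ := exists_residual S hsolv hbot
    haveI : Fact p.Prime := ⟨hp⟩
    have hST : S ≤ Subgroup.normalizer (T : Set Γ) :=
      fun y hy => hTchar y (Subgroup.le_normalizer hy)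
    have hTsolv : Group.IsSolvable T :=
      Group.isSolvable_of_isSolvable_injective (f := Subgroup.inclusion hTS)
        (Subgroup.inclusion_injective hTS)
    have hTcop : (Nat.card G).Coprime (Nat.card T) :=
      Nat.Coprime.coprime_dvd_right (Subgroup.card_dvd_of_le hTS) hcop
    have hNcop : (Nat.card N).Coprime (Nat.card S) :=
      Nat.Coprime.coprime_dvd_left (Subgroup.card_dvd_of_le hNG) hcop
    obtain ⟨D, hD⟩ : ∃ D : Subgroup Γ, D = G ⊓ Subgroup.centralizer (T : Set Γ) := ⟨_, rfl⟩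
    obtain ⟨DN, hDN⟩ : ∃ DN : Subgroup Γ, DN = N ⊓ Subgroup.centralizer (T : Set Γ) :=
      ⟨_, rfl⟩
    have hDND : DN ≤ D := by
      rw [hD, hDN]
      exact inf_le_inf_right _ hNG
    obtain ⟨πTG, πTN, hπTG, hπTN, hcompT⟩ := ih (Nat.card T) (by rw [← hn]; exact hTlt) T rfl
      hTsolv G N (hTS.trans hnormG) (hTS.trans hnormN) hNG hGN hTcop D DN hD hDN hDND
    have hCD' : C = D ⊓ Subgroup.centralizer (P : Set Γ) := by
      rw [hC, hD]
      exact inf_centralizer_sup hTS hPS hTP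
    have hCD : C ≤ D := by rw [hCD']; exact inf_le_left
    have hCND' : CN = DN ⊓ Subgroup.centralizer (P : Set Γ) := by
      rw [hCN, hDN]
      exact inf_centralizer_sup hTS hPS hTP
    have hCNDN : CN ≤ DN := by rw [hCND']; exact inf_le_left
    have hG := glS_step hp hTS hPS hPp hTP hTchar hnormG hcop hD hC hCD hπTG
    have hN := glS_step hp hTS hPS hPp hTP hTchar hnormN hNcop hDN hCN hCNDN hπTN
    refine ⟨_, _, hG, hN, ?_⟩
    intro χ ϑ hχ hϑ h
    have hDG : D ≤ G := by rw [hD]; exact inf_le_left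
    have hDNN : DN ≤ N := by rw [hDN]; exact inf_le_left
    have hSD : S ≤ Subgroup.normalizer (D : Set Γ) := by
      intro y hy
      rw [hD]
      exact mem_normalizer_inf_centralizer (hnormG hy) (hST hy)
    have hSDN : S ≤ Subgroup.normalizer (DN : Set Γ) := by
      intro y hy
      rw [hDN]
      exact mem_normalizer_inf_centralizer (hnormN hy) (hST hy)
    have hPD : P ≤ Subgroup.normalizer (D : Set Γ) := hPS.trans hSD
    have hPDN : P ≤ Subgroup.normalizer (DN : Set Γ) := hPS.trans hSDN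
    have hDnDN : D ≤ Subgroup.normalizer (DN : Set Γ) := by
      intro d hd
      rw [hD] at hd
      rw [hDN]
      exact mem_normalizer_inf_centralizer (hGN (Subgroup.mem_inf.1 hd).1)
        (centralizer_le_normalizer' T (Subgroup.mem_inf.1 hd).2)
    have hDPcop : (Nat.card D).Coprime (Nat.card P) :=
      Nat.Coprime.coprime_dvd_left (Subgroup.card_dvd_of_le hDG)
        (Nat.Coprime.coprime_dvd_right (Subgroup.card_dvd_of_le hPS) hcop)
    have hDNPcop : (Nat.card DN).Coprime (Nat.card P) :=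
      Nat.Coprime.coprime_dvd_left (Subgroup.card_dvd_of_le hDND) hDPcop
    have hpP : p ∣ Nat.card P := by
      obtain ⟨k, hk⟩ := hPp.exists_card_eq
      rcases Nat.eq_zero_or_pos k with hk0 | hk0
      · exfalso
        rw [hk0, pow_zero] at hk
        have hPbot : P = ⊥ := Subgroup.eq_bot_of_card_eq P hk
        rw [hPbot, sup_bot_eq] at hTP
        rw [hTP] at hTlt
        exact lt_irrefl _ hTlt
      · rw [hk]
        exact dvd_pow_self p hk0.ne'
    have hpD : ¬ p ∣ Nat.card D :=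
      (Nat.Prime.coprime_iff_not_dvd hp).1 (Nat.Coprime.coprime_dvd_right hpP hDPcop).symm
    have HD := glP_pgroup hp (Nat.card P) P rfl hPp D hPD hDPcop C hCD' hCD
    have HE := glP_pgroup hp (Nat.card P) P rfl hPp DN hPDN hDNPcop CN hCND' hCNDN
    have hχD : ∀ x ∈ P, InvUnder D x (πTG χ : D → ℂ) := fun x hx =>
      hπTG.inv_image hnormG hST hSD (fun x hx => hχ x (hTS hx)) hχ x (hPS hx)
    have hϑD : ∀ x ∈ P, InvUnder DN x (πTN ϑ : DN → ℂ) := fun x hx =>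
      hπTN.inv_image hnormN hST hSDN (fun x hx => hϑ x (hTS hx)) hϑ x (hPS hx)
    have h2 := pstep_backward hp P D DN hPp hPD hPDN hDND hDnDN hpD C CN hCD' hCND' hCD hCNDN
      hCNC HD HE (πTG χ) hχD (πTN ϑ) hϑD h
    exact hcompT χ ϑ (fun x hx => hχ x (hTS hx)) (fun x hx => hϑ x (hTS hx)) h2

/-- Isaacs 13.31 for a solvable group of operators: an invariant irreducible character of an
invariant normal subgroup lies under an invariant irreducible character. -/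
theorem exists_inv_over_solvable (G S N : Subgroup Γ)
    (hSG : S ≤ Subgroup.normalizer (G : Set Γ)) (hNG : N ≤ G)
    (hGN : G ≤ Subgroup.normalizer (N : Set Γ)) (hSN : S ≤ Subgroup.normalizer (N : Set Γ))
    (hcop : (Nat.card G).Coprime (Nat.card S)) (hsolv : Group.IsSolvable S)
    (θ : IrrCharacter N) (hinv : ∀ s ∈ S, InvUnder N s (θ : N → ℂ)) :
    ∃ χ : IrrCharacter G, cinn (res hNG (χ : G → ℂ)) (θ : N → ℂ) ≠ 0 ∧
      ∀ s ∈ S, InvUnder G s (χ : G → ℂ) := by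
  obtain ⟨C, hC⟩ : ∃ C : Subgroup Γ, C = G ⊓ Subgroup.centralizer (S : Set Γ) := ⟨_, rfl⟩
  obtain ⟨CN, hCN⟩ : ∃ CN : Subgroup Γ, CN = N ⊓ Subgroup.centralizer (S : Set Γ) := ⟨_, rfl⟩
  have hCNC : CN ≤ C := by
    rw [hC, hCN]
    exact inf_le_inf_right _ hNG
  obtain ⟨πG, πN, hG, hN, hcomp⟩ := glS_pair (Nat.card S) S rfl hsolv G N hSG hSN hNG hGN hcop
    C CN hC hCN hCNC
  obtain ⟨ψ, hψ⟩ := rel_exists_over hCNC (πN θ)
  obtain ⟨χ, hχS, hχψ⟩ := hG.surj ψ
  refine ⟨χ, hcomp χ θ hχS hinv ?_, hχS⟩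
  rw [hχψ]
  exact hψ

end Solvable

end Cfsg.Agent.Lib.Helper2.GlPair
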