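import Mathlib
import Cfsg.Agent.Lib.Helper2.RelChar

/-!
# Refinements of relative Clifford theory (helper2 library)

The full Clifford correspondence over a subgroup containing the inertia group (multiplicity one,
uniqueness on both sides), a multiplicity transfer lemma, and conjugacy of the invariant
constituents under the relative centraliser (the second half of Glauberman's lemma).
-/

set_option autoImplicit false
set_option linter.unusedSectionVars false
set_option linter.style.haveILetI false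
set_option linter.unusedVariables false

namespace Cfsg.Agent.Lib.Helper2.Rel

open Cfsg Cfsg.Agent.Lib Cfsg.Agent.Lib.Helper2 Cfsg.Agent.Lib.Helper2.GlPG
  Cfsg.Agent.Lib.Helper2.GlSolv
open scoped ComplexConjugate

universe u

section CliffordFull

open Classical

variable {Γ : Type*} [Group Γ] [Fintype Γ] {N G : Subgroup Γ}

/-- The Clifford correspondence over a subgroup `T` containing the inertia group of `θ`:
for `ψ ∈ Irr(T | θ)` there is a unique `χ ∈ Irr(G)` over `ψ`, the multiplicity is one, and `ψ` is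
the only constituent of `χ_T` lying over `θ`. -/
theorem rel_clifford_full (hNG : N ≤ G) (hGN : G ≤ Subgroup.normalizer (N : Set Γ))
    (θ : IrrCharacter N) (T : Subgroup Γ) (hNT : N ≤ T) (hTG : T ≤ G)
    (hT : ∀ g ∈ G, InvUnder N g (θ : N → ℂ) → g ∈ T)
    (ψ : IrrCharacter T) (hψ : cinn (res hNT (ψ : T → ℂ)) (θ : N → ℂ) ≠ 0) :
    ∃ χ : IrrCharacter G, cinn (res hTG (χ : G → ℂ)) (ψ : T → ℂ) = 1 ∧
      (∀ χ' : IrrCharacter G, cinn (res hTG (χ' : G → ℂ)) (ψ : T → ℂ) ≠ 0 → χ' = χ) ∧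
      (∀ ψ' : IrrCharacter T, cinn (res hNT (ψ' : T → ℂ)) (θ : N → ℂ) ≠ 0 →
        cinn (res hTG (χ : G → ℂ)) (ψ' : T → ℂ) ≠ 0 → ψ' = ψ) := by
  haveI : (N.subgroupOf G).Normal := (Subgroup.normal_subgroupOf_iff_le_normalizer hNG).2 hGN
  haveI : Fintype G := Fintype.ofFinite _
  haveI : Fintype (N.subgroupOf G) := Fintype.ofFinite _
  haveI : Fintype (T.subgroupOf G) := Fintype.ofFinite _
  have hHT : N.subgroupOf G ≤ T.subgroupOf G := fun x hx =>
    Subgroup.mem_subgroupOf.2 (hNT (Subgroup.mem_subgroupOf.1 hx))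
  have hT' : ∀ g : G, Helper11.conjFn (N.subgroupOf G) g (pb G (θ : N → ℂ)) = pb G (θ : N → ℂ) →
      g ∈ T.subgroupOf G := by
    intro g hg
    rw [Subgroup.mem_subgroupOf]
    apply hT g g.2
    intro n n' hn
    have h3 := congrFun hg ⟨⟨n, hNG n.2⟩, Subgroup.mem_subgroupOf.2 n.2⟩
    have h4 : (θ : N → ℂ) n' = Helper11.conjFn (N.subgroupOf G) g (pb G (θ : N → ℂ))
        ⟨⟨n, hNG n.2⟩, Subgroup.mem_subgroupOf.2 n.2⟩ := by
      have : n' = ⟨(g : Γ) * n * (g : Γ)⁻¹, by rw [← hn]; exact n'.2⟩ := Subtype.ext hn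
      rw [this]
      rfl
    rw [h4, h3]
    rfl
  have hc : ∀ ψ' : IrrCharacter T, cinn (res hNT (ψ' : T → ℂ)) (θ : N → ℂ) ≠ 0 →
      classInner (Helper24.resTo (N.subgroupOf G) (T.subgroupOf G) hHT
        (pb G (ψ' : T → ℂ))) (pb G (θ : N → ℂ)) ≠ 0 := by
    intro ψ' hψ'
    have e : Helper24.resTo (N.subgroupOf G) (T.subgroupOf G) hHT (pb G (ψ' : T → ℂ)) =
        pb G (res hNT (ψ' : T → ℂ)) := rfl
    rw [e, classInner_pb_cinn hNG]
    exact hψ'
  have hgen : ∀ ψ₁ ψ₂ : IrrCharacter T, cinn (res hNT (ψ₁ : T → ℂ)) (θ : N → ℂ) ≠ 0 →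
      cinn (res hNT (ψ₂ : T → ℂ)) (θ : N → ℂ) ≠ 0 →
      IsIrrCharacter G (Cfsg.indFun (T.subgroupOf G) (pb G (ψ₁ : T → ℂ))) ∧
      (Cfsg.indFun (T.subgroupOf G) (pb G (ψ₁ : T → ℂ)) =
        Cfsg.indFun (T.subgroupOf G) (pb G (ψ₂ : T → ℂ)) →
        pb G (ψ₁ : T → ℂ) = pb G (ψ₂ : T → ℂ)) :=
    fun ψ₁ ψ₂ h₁ h₂ => Helper24.clifford_general (N.subgroupOf G) (T.subgroupOf G)
      (pb G (θ : N → ℂ)) (pb_irr hNG θ.2) hT' hHT (pb G (ψ₁ : T → ℂ)) (pb G (ψ₂ : T → ℂ))
      (pb_irr hTG ψ₁.2) (pb_irr hTG ψ₂.2) (hc ψ₁ h₁) (hc ψ₂ h₂)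
  -- Frobenius reciprocity in relative form
  have hfr : ∀ (ψ' : IrrCharacter T) (χ' : IrrCharacter G),
      classInner (Cfsg.indFun (T.subgroupOf G) (pb G (ψ' : T → ℂ))) (χ' : G → ℂ) =
        conj (cinn (res hTG (χ' : G → ℂ)) (ψ' : T → ℂ)) := by
    intro ψ' χ'
    rw [frobenius_reciprocity (T.subgroupOf G) _ _ (IrrCharacter.isClassFunction χ')]
    have e : (fun h : T.subgroupOf G => (χ' : G → ℂ) h) = pb G (res hTG (χ' : G → ℂ)) := rfl
    rw [e, classInner_pb_cinn hTG]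
    haveI : Fintype T := Fintype.ofFinite _
    rw [cinn_eq, cinn_eq, classInner_conj_symm]
  have hirr := (hgen ψ ψ hψ hψ).1
  obtain ⟨χ, hχ⟩ : ∃ χ : IrrCharacter G,
      (χ : G → ℂ) = Cfsg.indFun (T.subgroupOf G) (pb G (ψ : T → ℂ)) := ⟨⟨_, hirr⟩, rfl⟩
  refine ⟨χ, ?_, ?_, ?_⟩
  · have h1 := hfr ψ χ
    rw [← hχ, classInner_irrCharacter_self] at h1
    have h3 := congrArg (starRingEnd ℂ) h1
    rw [Complex.conj_conj, map_one] at h3
    exact h3.symm
  · intro χ' hχ'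
    have h1 := hfr ψ χ'
    have h2 : classInner (Cfsg.indFun (T.subgroupOf G) (pb G (ψ : T → ℂ))) (χ' : G → ℂ) ≠ 0 := by
      rw [h1]
      exact fun h => hχ' ((map_eq_zero _).1 h)
    apply Subtype.ext
    rw [hχ]
    exact (Helper11.eq_of_irr_of_classInner_ne_zero hirr χ'.2 h2).symm
  · intro ψ' hψ' hne
    have hirr' := (hgen ψ' ψ hψ' hψ).1
    have h1 := hfr ψ' χ
    have h2 : classInner (Cfsg.indFun (T.subgroupOf G) (pb G (ψ' : T → ℂ))) (χ : G → ℂ) ≠ 0 := by
      rw [h1]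
      exact fun h => hne ((map_eq_zero _).1 h)
    have h3 : Cfsg.indFun (T.subgroupOf G) (pb G (ψ' : T → ℂ)) =
        Cfsg.indFun (T.subgroupOf G) (pb G (ψ : T → ℂ)) := by
      rw [← hχ]
      exact Helper11.eq_of_irr_of_classInner_ne_zero hirr' χ.2 h2
    have h4 := (hgen ψ' ψ hψ' hψ).2 h3
    apply Subtype.ext
    funext t
    exact congrFun h4 ⟨⟨t, hTG t.2⟩, Subgroup.mem_subgroupOf.2 t.2⟩

/-- a constituent over `θ` of the restriction to an intermediate subgroup -/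
theorem exists_mid_constituent {T : Subgroup Γ} (hNT : N ≤ T) (hTG : T ≤ G)
    (χ : IrrCharacter G) (θ : IrrCharacter N)
    (h : cinn (res (hNT.trans hTG) (χ : G → ℂ)) (θ : N → ℂ) ≠ 0) :
    ∃ ψ : IrrCharacter T, cinn (res hTG (χ : G → ℂ)) (ψ : T → ℂ) ≠ 0 ∧
      cinn (res hNT (ψ : T → ℂ)) (θ : N → ℂ) ≠ 0 := by
  haveI : Fintype (IrrCharacter T) := Fintype.ofFinite _
  rw [cinn_res_trans hTG hNT (IsIrrCharacter.isCharacter χ.2)] at h
  obtain ⟨ψ, _, hψ⟩ := Finset.exists_ne_zero_of_sum_ne_zero h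
  exact ⟨ψ, left_ne_zero_of_mul hψ, right_ne_zero_of_mul hψ⟩

/-- transfer of multiplicities through two Clifford correspondences -/
theorem clifford_mult_transfer {K C T TC : Subgroup Γ} (hCK : C ≤ K) (hTK : T ≤ K)
    (hTCC : TC ≤ C) (hTCT : TC ≤ T) (hNTC : N ≤ TC) (θ : IrrCharacter N)
    (χ : IrrCharacter K) (ψ : IrrCharacter T) (ξ : IrrCharacter C) (ψ'' : IrrCharacter TC)
    (hψ'' : cinn (res hNTC (ψ'' : TC → ℂ)) (θ : N → ℂ) ≠ 0)
    (hχψ : cinn (res hTK (χ : K → ℂ)) (ψ : T → ℂ) = 1)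
    (hψuniq : ∀ ψ' : IrrCharacter T,
      cinn (res (hNTC.trans hTCT) (ψ' : T → ℂ)) (θ : N → ℂ) ≠ 0 →
      cinn (res hTK (χ : K → ℂ)) (ψ' : T → ℂ) ≠ 0 → ψ' = ψ)
    (hξψ : cinn (res hTCC (ξ : C → ℂ)) (ψ'' : TC → ℂ) = 1)
    (hξuniq : ∀ ξ' : IrrCharacter C,
      cinn (res hTCC (ξ' : C → ℂ)) (ψ'' : TC → ℂ) ≠ 0 → ξ' = ξ) :
    cinn (res hCK (χ : K → ℂ)) (ξ : C → ℂ) = cinn (res hTCT (ψ : T → ℂ)) (ψ'' : TC → ℂ) := by
  haveI : Fintype (IrrCharacter T) := Fintype.ofFinite _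
  haveI : Fintype (IrrCharacter C) := Fintype.ofFinite _
  have hA : cinn (res (hTCC.trans hCK) (χ : K → ℂ)) (ψ'' : TC → ℂ) =
      cinn (res hCK (χ : K → ℂ)) (ξ : C → ℂ) := by
    rw [cinn_res_trans hCK hTCC (IsIrrCharacter.isCharacter χ.2), Finset.sum_eq_single ξ]
    · rw [hξψ, mul_one]
    · intro ξ' _ hne
      by_contra h0
      exact hne (hξuniq ξ' (right_ne_zero_of_mul h0))
    · intro h
      exact absurd (Finset.mem_univ _) h
  have hB : cinn (res (hTCT.trans hTK) (χ : K → ℂ)) (ψ'' : TC → ℂ) =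
      cinn (res hTCT (ψ : T → ℂ)) (ψ'' : TC → ℂ) := by
    rw [cinn_res_trans hTK hTCT (IsIrrCharacter.isCharacter χ.2), Finset.sum_eq_single ψ]
    · rw [hχψ, one_mul]
    · intro ψ' _ hne
      by_contra h0
      have h1 := left_ne_zero_of_mul h0
      have h2 := right_ne_zero_of_mul h0
      have h3 : cinn (res (hNTC.trans hTCT) (ψ' : T → ℂ)) (θ : N → ℂ) ≠ 0 :=
        cinn_res_ne_zero_trans hNTC hTCT ψ' ψ'' θ h2 hψ''
      exact hne (hψuniq ψ' h3 h1)
    · intro h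
      exact absurd (Finset.mem_univ _) h
  exact hA.symm.trans hB

end CliffordFull

section GlaubermanQuotConj

/-- Glauberman's lemma, conjugacy part, for an action in which a normal subgroup `M ≤ K` acts
trivially and only `|K : M|` is coprime to the order of `H`: two `H`-fixed points are conjugate
by an element of `K` centralising `H` modulo `M`. -/
theorem glauberman_quot_conj {𝔊 : Type u} [Group 𝔊] [Finite 𝔊] {X : Type*} [MulAction 𝔊 X]
    (M K H : Subgroup 𝔊) [hM : M.Normal] [hK : K.Normal] (hMK : M ≤ K)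
    (htop : K ⊔ H = ⊤) (htriv : ∀ m ∈ M, ∀ x : X, m • x = x)
    (hcop : (M.relIndex K).Coprime (Nat.card H))
    (hsolv : Group.IsSolvable (K.map (QuotientGroup.mk' M)) ∨ Group.IsSolvable (𝔊 ⧸ K))
    (htrans : ∀ x y : X, ∃ k ∈ K, k • x = y) (x y : X)
    (hx : ∀ h ∈ H, h • x = x) (hy : ∀ h ∈ H, h • y = y) :
    ∃ k ∈ K, (∀ h ∈ H, h * k * h⁻¹ * k⁻¹ ∈ M) ∧ k • x = y := by
  classical
  -- `K ⊓ H ≤ M`
  have hKH : ∀ x ∈ K, x ∈ H → x ∈ M := by
    intro x hxK hxH
    haveI : (M.subgroupOf K).Normal := hM.subgroupOf K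
    have h1 : orderOf (QuotientGroup.mk' (M.subgroupOf K) ⟨x, hxK⟩) ∣ M.relIndex K := by
      have := orderOf_dvd_natCard (QuotientGroup.mk' (M.subgroupOf K) ⟨x, hxK⟩)
      rwa [← Subgroup.index_eq_card] at this
    have h2 : orderOf (QuotientGroup.mk' (M.subgroupOf K) ⟨x, hxK⟩) ∣ Nat.card H := by
      refine dvd_trans (orderOf_map_dvd _ _) ?_
      have e : orderOf (⟨x, hxK⟩ : K) = orderOf (⟨x, hxH⟩ : H) := by
        rw [← Subgroup.orderOf_coe, ← Subgroup.orderOf_coe (⟨x, hxH⟩ : H)]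
      rw [e]
      exact orderOf_dvd_natCard _
    have h3 : orderOf (QuotientGroup.mk' (M.subgroupOf K) ⟨x, hxK⟩) = 1 :=
      Nat.Coprime.eq_one_of_dvd (Nat.Coprime.coprime_dvd_left h1 hcop) h2
    have h4 := orderOf_eq_one_iff.1 h3
    have h5 : (⟨x, hxK⟩ : K) ∈ M.subgroupOf K := (QuotientGroup.eq_one_iff _).1 h4
    exact Subgroup.mem_subgroupOf.1 h5
  have hker : M ≤ (MulAction.toPermHom 𝔊 X).ker := by
    intro m hm
    rw [MonoidHom.mem_ker]
    ext x
    exact htriv m hm x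
  letI : MulAction (𝔊 ⧸ M) X :=
    MulAction.compHom X (QuotientGroup.lift M (MulAction.toPermHom 𝔊 X) hker)
  have hsm : ∀ (a : 𝔊) (x : X), (QuotientGroup.mk a : 𝔊 ⧸ M) • x = a • x := fun a x => rfl
  haveI hKn : (K.map (QuotientGroup.mk' M)).Normal := hK.map _ (QuotientGroup.mk'_surjective M)
  have hc : Subgroup.IsComplement' (K.map (QuotientGroup.mk' M)) (H.map (QuotientGroup.mk' M)) := by
    apply Subgroup.isComplement'_of_disjoint_and_mul_eq_univ
    · rw [Subgroup.disjoint_def]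
      intro q hqK hqH
      obtain ⟨k, hk, rfl⟩ := Subgroup.mem_map.1 hqK
      obtain ⟨h, hh, hkh⟩ := Subgroup.mem_map.1 hqH
      have h1 : k⁻¹ * h ∈ M := QuotientGroup.eq.1 hkh.symm
      have hhK : h ∈ K := by
        have := mul_mem hk (hMK h1)
        simpa using this
      have hhM : h ∈ M := hKH h hhK hh
      have hkM : k ∈ M := by
        have := mul_mem hhM (inv_mem h1)
        simpa using this
      exact (QuotientGroup.eq_one_iff k).2 hkM
    · rw [Set.eq_univ_iff_forall]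
      intro q
      obtain ⟨a, rfl⟩ := QuotientGroup.mk'_surjective M q
      have ha : a ∈ K ⊔ H := by rw [htop]; trivial
      obtain ⟨k, hk, h, hh, rfl⟩ := Subgroup.mem_sup_of_normal_left.1 ha
      rw [Set.mem_mul]
      exact ⟨QuotientGroup.mk' M k, Subgroup.mem_map_of_mem _ hk, QuotientGroup.mk' M h,
        Subgroup.mem_map_of_mem _ hh, (map_mul _ _ _).symm⟩
  have hidx : (K.map (QuotientGroup.mk' M)).index = K.index :=
    Subgroup.index_map_eq K (QuotientGroup.mk'_surjective M)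
      (by rw [QuotientGroup.ker_mk']; exact hMK)
  have hcard : Nat.card (K.map (QuotientGroup.mk' M)) = M.relIndex K := by
    have h1 := Subgroup.card_mul_index (K.map (QuotientGroup.mk' M))
    rw [hidx, ← Subgroup.index_eq_card, ← Subgroup.relIndex_mul_index hMK] at h1
    exact Nat.eq_of_mul_eq_mul_right (Nat.pos_of_ne_zero Subgroup.index_ne_zero_of_finite) h1
  have hdvd : K.index ∣ Nat.card H := by
    have h1 : K.index = K.relIndex H := by
      rw [← Subgroup.relIndex_top_right, ← htop, Subgroup.relIndex_sup_left]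
    rw [h1]
    exact Subgroup.index_dvd_card _
  have hcop' : (Nat.card (K.map (QuotientGroup.mk' M))).Coprime
      (K.map (QuotientGroup.mk' M)).index := by
    rw [hcard, hidx]
    exact Nat.Coprime.coprime_dvd_right hdvd hcop
  have hsolv' : Group.IsSolvable (K.map (QuotientGroup.mk' M)) ∨
      Group.IsSolvable ((𝔊 ⧸ M) ⧸ K.map (QuotientGroup.mk' M)) := by
    rcases hsolv with h | h
    · exact Or.inl h
    · right
      exact Group.isSolvable_of_isSolvable_injective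
        (f := (QuotientGroup.quotientQuotientEquivQuotient M K hMK).toMonoidHom)
        (QuotientGroup.quotientQuotientEquivQuotient M K hMK).injective
  have htrans' : MulAction.IsPretransitive (K.map (QuotientGroup.mk' M)) X := by
    constructor
    intro x y
    obtain ⟨k, hk, hky⟩ := htrans x y
    exact ⟨⟨QuotientGroup.mk' M k, Subgroup.mem_map_of_mem _ hk⟩, hky⟩
  have hx' : ∀ h ∈ H.map (QuotientGroup.mk' M), h • x = x := by
    intro h hh
    obtain ⟨h', hh', rfl⟩ := Subgroup.mem_map.1 hh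
    exact hx h' hh'
  have hy' : ∀ h ∈ H.map (QuotientGroup.mk' M), h • y = y := by
    intro h hh
    obtain ⟨h', hh', rfl⟩ := Subgroup.mem_map.1 hh
    exact hy h' hh'
  obtain ⟨kb, hkb, hkxy⟩ := Helper1.glauberman_conj (K.map (QuotientGroup.mk' M))
    (H.map (QuotientGroup.mk' M)) hc hcop' hsolv' htrans' x y hx' hy'
  rw [Subgroup.mem_inf] at hkb
  obtain ⟨k, hk, rfl⟩ := Subgroup.mem_map.1 hkb.1
  refine ⟨k, hk, ?_, hkxy⟩
  intro h hh
  have hcomm := (Subgroup.mem_centralizer_iff.1 hkb.2) (QuotientGroup.mk' M h)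
    (Subgroup.mem_map_of_mem _ hh)
  rw [← QuotientGroup.eq_one_iff (N := M)]
  have e : ((h * k * h⁻¹ * k⁻¹ : 𝔊) : 𝔊 ⧸ M) = (QuotientGroup.mk' M h) * (QuotientGroup.mk' M k) *
      (QuotientGroup.mk' M h)⁻¹ * (QuotientGroup.mk' M k)⁻¹ := rfl
  rw [e, hcomm]
  group

end GlaubermanQuotConj

section ConjConstituent

open Classical

variable {Γ : Type*} [Group Γ] [Fintype Γ]

/-- the invariant irreducible constituents of the restriction of an invariant irreducible
character to an invariant normal subgroup of coprime index are conjugate under the relative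
centraliser. -/
theorem conj_inv_constituents (G S N : Subgroup Γ)
    (hSG : S ≤ Subgroup.normalizer (G : Set Γ)) (hNG : N ≤ G)
    [hNn : (N.subgroupOf G).Normal] (hSN : S ≤ Subgroup.normalizer (N : Set Γ))
    (hcop : (N.relIndex G).Coprime (Nat.card S))
    (hsolv : Group.IsSolvable S ∨ Group.IsSolvable (G ⧸ N.subgroupOf G))
    (χ : IrrCharacter G) (hinv : ∀ s ∈ S, InvUnder G s (χ : G → ℂ))
    (θ θ' : IrrCharacter N) (hθ : cinn (res hNG (χ : G → ℂ)) (θ : N → ℂ) ≠ 0)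
    (hθ' : cinn (res hNG (χ : G → ℂ)) (θ' : N → ℂ) ≠ 0)
    (hθS : ∀ s ∈ S, InvUnder N s (θ : N → ℂ)) (hθ'S : ∀ s ∈ S, InvUnder N s (θ' : N → ℂ)) :
    ∃ (k : Γ) (hk : k⁻¹ ∈ Subgroup.normalizer (N : Set Γ)), k ∈ G ∧
      (∀ s ∈ S, s * k * s⁻¹ * k⁻¹ ∈ N) ∧ cj N k⁻¹ hk (θ : N → ℂ) = (θ' : N → ℂ) := by
  have hGN : G ≤ Subgroup.normalizer (N : Set Γ) :=
    (Subgroup.normal_subgroupOf_iff_le_normalizer hNG).1 hNn
  obtain ⟨A, hA⟩ : ∃ A : Subgroup Γ, A = G ⊔ S := ⟨_, rfl⟩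
  have hGA : G ≤ A := by rw [hA]; exact le_sup_left
  have hSA : S ≤ A := by rw [hA]; exact le_sup_right
  have hAN : A ≤ Subgroup.normalizer (N : Set Γ) := by rw [hA]; exact sup_le hGN hSN
  have hAG : A ≤ Subgroup.normalizer (G : Set Γ) := by
    rw [hA]; exact sup_le Subgroup.le_normalizer hSG
  have hχA : ∀ a ∈ A, InvUnder G a (χ : G → ℂ) := by
    have hle : A ≤ invSubgroup G (χ : G → ℂ) := by
      rw [hA]
      exact sup_le (le_invSubgroup (IrrCharacter.isClassFunction χ))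
        (fun s hs => ⟨hSG hs, hinv s hs⟩)
    exact fun a ha => (hle ha).2
  letI act : MulAction A (N → ℂ) := conjFunAction A N hAN
  have hsmul : ∀ (a : A) (f : N → ℂ), a • f = cj N (a : Γ)⁻¹ (hAN (inv_mem a.2)) f :=
    fun a f => rfl
  let X : SubMulAction A (N → ℂ) :=
    { carrier := {f | IsIrrCharacter N f ∧ cinn (res hNG (χ : G → ℂ)) f ≠ 0}
      smul_mem' := by
        rintro c f ⟨hf1, hf2⟩
        rw [hsmul]
        refine ⟨cj_isIrr N _ _ hf1, ?_⟩
        have hcjχ : cj G (c : Γ)⁻¹ (hAG (inv_mem c.2)) (χ : G → ℂ) = (χ : G → ℂ) :=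
          (invUnder_iff_cj_eq G _ _ _).1 (hχA _ (inv_mem c.2))
        have e : res hNG (χ : G → ℂ) =
            cj N (c : Γ)⁻¹ (hAN (inv_mem c.2)) (res hNG (χ : G → ℂ)) := by
          conv_lhs => rw [← hcjχ]
          exact res_cj hNG _ _ _ _
        rw [e, cinn_cj]
        exact hf2 }
  have hXmem : ∀ x : X, IsIrrCharacter N (x : N → ℂ) ∧
      cinn (res hNG (χ : G → ℂ)) (x : N → ℂ) ≠ 0 := fun x => x.2
  haveI hMn : (N.subgroupOf A).Normal :=
    (Subgroup.normal_subgroupOf_iff_le_normalizer (hNG.trans hGA)).2 hAN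
  haveI hKn : (G.subgroupOf A).Normal :=
    (Subgroup.normal_subgroupOf_iff_le_normalizer hGA).2 hAG
  have hMK : N.subgroupOf A ≤ G.subgroupOf A := fun x hx =>
    Subgroup.mem_subgroupOf.2 (hNG (Subgroup.mem_subgroupOf.1 hx))
  have htop : G.subgroupOf A ⊔ S.subgroupOf A = ⊤ := by
    rw [← Subgroup.subgroupOf_sup hGA hSA, ← hA, Subgroup.subgroupOf_self]
  have htriv : ∀ m ∈ N.subgroupOf A, ∀ x : X, m • x = x := by
    intro m hm x
    apply Subtype.ext
    show m • (x : N → ℂ) = (x : N → ℂ)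
    rw [hsmul]
    have hcf : IsClassFunction N (x : N → ℂ) :=
      Helper25.isClassFunction_of_char (Helper25.isCharacter_of_irr (hXmem x).1)
    have hmem : (m : Γ)⁻¹ ∈ N := inv_mem (Subgroup.mem_subgroupOf.1 hm)
    exact (invUnder_iff_cj_eq N _ _ _).1 (le_invSubgroup hcf hmem).2
  have hcop' : ((N.subgroupOf A).relIndex (G.subgroupOf A)).Coprime
      (Nat.card (S.subgroupOf A)) := by
    rw [Subgroup.relIndex_subgroupOf hGA,
      Nat.card_congr (Subgroup.subgroupOfEquivOfLe hSA).toEquiv]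
    exact hcop
  have hsolv' : Group.IsSolvable ((G.subgroupOf A).map (QuotientGroup.mk' (N.subgroupOf A))) ∨
      Group.IsSolvable (A ⧸ G.subgroupOf A) := by
    rcases hsolv with h | h
    · right
      apply Group.isSolvable_of_surjective
        (f := (QuotientGroup.mk' (G.subgroupOf A)).comp (Subgroup.inclusion hSA))
      intro q
      obtain ⟨a, rfl⟩ := QuotientGroup.mk'_surjective (G.subgroupOf A) q
      have ha : a ∈ G.subgroupOf A ⊔ S.subgroupOf A := by rw [htop]; trivial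
      obtain ⟨k, hk, h', hh', rfl⟩ := Subgroup.mem_sup_of_normal_left.1 ha
      refine ⟨⟨(h' : Γ), Subgroup.mem_subgroupOf.1 hh'⟩, ?_⟩
      have hk1 : (QuotientGroup.mk' (G.subgroupOf A)) k = 1 := (QuotientGroup.eq_one_iff k).2 hk
      rw [map_mul, hk1, one_mul]
      rfl
    · left
      have hker : N.subgroupOf G ≤
          ((QuotientGroup.mk' (N.subgroupOf A)).comp (Subgroup.inclusion hGA)).ker := by
        intro n hn
        rw [MonoidHom.mem_ker, MonoidHom.comp_apply, QuotientGroup.mk'_apply,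
          QuotientGroup.eq_one_iff]
        exact Subgroup.mem_subgroupOf.2 (Subgroup.mem_subgroupOf.1 hn)
      have hle : (G.subgroupOf A).map (QuotientGroup.mk' (N.subgroupOf A)) ≤
          (QuotientGroup.lift (N.subgroupOf G)
            ((QuotientGroup.mk' (N.subgroupOf A)).comp (Subgroup.inclusion hGA)) hker).range := by
        intro q hq
        obtain ⟨k, hk, rfl⟩ := Subgroup.mem_map.1 hq
        refine ⟨QuotientGroup.mk ⟨(k : Γ), Subgroup.mem_subgroupOf.1 hk⟩, ?_⟩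
        rfl
      haveI : Group.IsSolvable (QuotientGroup.lift (N.subgroupOf G)
          ((QuotientGroup.mk' (N.subgroupOf A)).comp (Subgroup.inclusion hGA)) hker).range :=
        Group.isSolvable_of_surjective (MonoidHom.rangeRestrict_surjective _)
      exact Group.isSolvable_of_isSolvable_injective (f := Subgroup.inclusion hle)
        (Subgroup.inclusion_injective hle)
  have htrans : ∀ x y : X, ∃ k ∈ G.subgroupOf A, k • x = y := by
    intro x y
    obtain ⟨g, hg, hφ⟩ := rel_clifford_conj hNG hGN χ ⟨(x : N → ℂ), (hXmem x).1⟩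
      ⟨(y : N → ℂ), (hXmem y).1⟩ (hXmem x).2 (hXmem y).2
    refine ⟨⟨g⁻¹, hGA (inv_mem hg)⟩, Subgroup.mem_subgroupOf.2 (inv_mem hg), ?_⟩
    apply Subtype.ext
    show (⟨g⁻¹, hGA (inv_mem hg)⟩ : A) • (x : N → ℂ) = (y : N → ℂ)
    rw [hsmul]
    have hφ' : (y : N → ℂ) = cj N g (hGN hg) (x : N → ℂ) := hφ
    rw [hφ']
    funext n
    show (x : N → ℂ) (conjE N (g⁻¹)⁻¹ _ n) = (x : N → ℂ) (conjE N g _ n)
    apply congrArg (x : N → ℂ)
    apply Subtype.ext
    rw [conjE_coe, conjE_coe, inv_inv]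
  have hfix : ∀ (f : N → ℂ), (∀ s ∈ S, InvUnder N s f) →
      ∀ h : A, h ∈ S.subgroupOf A → h • f = f := by
    intro f hf h hh
    rw [hsmul]
    exact (invUnder_iff_cj_eq N _ _ _).1 (hf _ (inv_mem (Subgroup.mem_subgroupOf.1 hh)))
  obtain ⟨k, hk, hcomm, hkxy⟩ := glauberman_quot_conj (N.subgroupOf A) (G.subgroupOf A)
    (S.subgroupOf A) hMK htop htriv hcop' hsolv' htrans
    (⟨(θ : N → ℂ), θ.2, hθ⟩ : X) (⟨(θ' : N → ℂ), θ'.2, hθ'⟩ : X)
    (fun h hh => Subtype.ext (hfix _ hθS h hh)) (fun h hh => Subtype.ext (hfix _ hθ'S h hh))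
  refine ⟨(k : Γ), hAN (inv_mem k.2), Subgroup.mem_subgroupOf.1 hk, ?_, ?_⟩
  · intro s hs
    have h1 := hcomm ⟨s, hSA hs⟩ (Subgroup.mem_subgroupOf.2 hs)
    exact Subgroup.mem_subgroupOf.1 h1
  · have h2 : k • (θ : N → ℂ) = (θ' : N → ℂ) := congrArg Subtype.val hkxy
    rw [hsmul] at h2
    exact h2

end ConjConstituent

end Cfsg.Agent.Lib.Helper2.Rel
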