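import Mathlib
import Cfsg.Prelude.Def_GeometricClasses
import Cfsg.Agent.Lib.Helper7.AschDefs
import Cfsg.Agent.Lib.Helper9.HubCorA1
import Cfsg.Agent.Lib.Helper16.SpADefs

/-!
# S5662, block SpI4: pieces P2o (`two_mul_of_isMDecomposition`) and P2e (`quadratic_of_tsPair`) of
`Lib/Helper16/SpACliffSkel.lean`
-/

set_option autoImplicit false

namespace Cfsg.Agent.Lib.Helper2.S5662SpTP2

open Matrix Cfsg.Geo Cfsg.Agent.Lib.Helper7.Asch Cfsg.Agent.Lib.Helper16.SpA
open scoped Kronecker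

variable {F : Type*} [Field F] [Fintype F] {n : ℕ} {f : (Fin n → F) → (Fin n → F) → F}

/-- **P2o** -/
theorem two_mul_of_isMDecomposition (k : ℕ) (D : Fin 2 → Submodule F (Fin n → F)) (hD : IsMDecomposition k D) :
    2 * k = n :=
  Cfsg.Agent.Lib.Helper9.HubCor.mul_eq_of_isMDecomposition D hD

theorem two_eq_zero_of_not_odd (hq : ¬ Odd (Fintype.card F)) : (2 : F) = 0 := by
  obtain ⟨p, hp⟩ := CharP.exists F
  have := hp
  obtain ⟨k, hpp, hk⟩ := FiniteField.card F p
  have heven : Even (Fintype.card F) := Nat.not_odd_iff_even.mp hq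
  rw [hk] at heven
  have hp2 : p = 2 := by
    have h2 : 2 ∣ p ^ (k : ℕ) := even_iff_two_dvd.mp heven
    have := (Nat.Prime.dvd_of_dvd_pow Nat.prime_two h2)
    exact ((Nat.prime_dvd_prime_iff_eq Nat.prime_two hpp).mp this).symm
  subst hp2
  exact_mod_cast CharP.cast_eq_zero F 2

theorem neg_eq_self_of_two_eq_zero (h2 : (2 : F) = 0) (t : F) : -t = t := by
  have : t + t = 0 := by rw [← two_mul, h2, zero_mul]
  exact (eq_neg_of_add_eq_zero_left this).symm

/-- **P2e** -/
theorem quadratic_of_tsPair (hf : IsSymplecticForm f) (hq : ¬ Odd (Fintype.card F)) (H : Subgroup (GL (Fin n) F))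
    (hHI : H ≤ Iso f) (k : ℕ) (D : Fin 2 → Submodule F (Fin n → F)) (hD : IsMDecomposition k D)
    (hts : ∀ i, IsTotallySingularFor f (D i)) (hH : H ≤ decompositionStabilizer D) : InSp f H := by
  have h2 : (2 : F) = 0 := two_eq_zero_of_not_odd hq
  have hneg : ∀ t : F, -t = t := neg_eq_self_of_two_eq_zero h2
  have hb := hf.bilinear
  have hdisj : Disjoint (D 0) (D 1) := hD.indep.pairwiseDisjoint (by decide : (0 : Fin 2) ≠ 1)
  have hsup : D 0 ⊔ D 1 = ⊤ := by
    rw [eq_top_iff, ← hD.iSup_eq_top]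
    apply iSup_le
    intro i
    fin_cases i
    · exact le_sup_left
    · exact le_sup_right
  have hex : ∀ v : Fin n → F, ∃ a ∈ D 0, ∃ b ∈ D 1, a + b = v := by
    intro v
    have hv : v ∈ D 0 ⊔ D 1 := by rw [hsup]; trivial
    exact Submodule.mem_sup.mp hv
  choose a ha b hb' hab using hex
  -- uniqueness of the decomposition
  have huniq : ∀ x ∈ D 0, ∀ y ∈ D 1, ∀ x' ∈ D 0, ∀ y' ∈ D 1, x + y = x' + y' → x = x' ∧ y = y' := by
    intro x hx y hy x' hx' y' hy' h
    have h1 : x - x' = y' - y := by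
      have e1 : x - x' = (x + y) - x' - y := by abel
      rw [e1, h]
      abel
    have h2 : x - x' ∈ D 0 ⊓ D 1 := ⟨(D 0).sub_mem hx hx', h1 ▸ (D 1).sub_mem hy' hy⟩
    rw [disjoint_iff.mp hdisj, Submodule.mem_bot] at h2
    refine ⟨sub_eq_zero.mp h2, ?_⟩
    rw [h2] at h1
    exact (sub_eq_zero.mp h1.symm).symm
  let Q : (Fin n → F) → F := fun v => f (a v) (b v)
  have hQ : ∀ x ∈ D 0, ∀ y ∈ D 1, Q (x + y) = f x y := by
    intro x hx y hy
    obtain ⟨h1, h2⟩ := huniq (a (x + y)) (ha _) (b (x + y)) (hb' _) x hx y hy (hab _)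
    change f (a (x + y)) (b (x + y)) = f x y
    rw [h1, h2]
  have hQv : ∀ v, Q v = f (a v) (b v) := fun v => rfl
  have hpolar : ∀ u v, QuadraticMap.polar Q u v = f u v := by
    intro u v
    have e1 : u + v = (a u + a v) + (b u + b v) := by
      conv_lhs => rw [← hab u, ← hab v]
      abel
    have e2 : f u v = f (a u + b u) (a v + b v) := by rw [hab u, hab v]
    rw [QuadraticMap.polar, e1, hQ _ ((D 0).add_mem (ha u) (ha v)) _ ((D 1).add_mem (hb' u) (hb' v)), hQv, hQv,
      e2, hb.add_left, hb.add_left, hb.add_right, hb.add_right, hb.add_right, hb.add_right,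
      hts 0 _ (ha u) _ (ha v), hts 1 _ (hb' u) _ (hb' v), hf.skew (b u) (a v), hneg]
    ring
  have hpf : QuadraticMap.polar Q = f := funext fun u => funext fun v => hpolar u v
  have hQnd : IsNondegenerateQuadraticForm Q := by
    refine ⟨?_, ?_, ?_⟩
    · intro c v
      have e1 : c • v = c • a v + c • b v := by
        conv_lhs => rw [← hab v]
        rw [smul_add]
      rw [e1, hQ _ ((D 0).smul_mem c (ha v)) _ ((D 1).smul_mem c (hb' v)), hb.smul_left, hb.smul_right, hQv]
      ring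
    · rw [hpf]; exact hb
    · rw [hpf]; exact hf.nondegenerate
  refine .quadratic Q hq hQnd hpolar ?_
  intro h hh
  refine ⟨1, fun v => ?_⟩
  rw [Units.val_one, one_mul]
  obtain ⟨τ, hτ⟩ := hH hh
  have hiso : ∀ u w, f ((h : Matrix (Fin n) (Fin n) F) *ᵥ u) ((h : Matrix (Fin n) (Fin n) F) *ᵥ w) = f u w :=
    fun u w => hHI hh u w
  have hmem : ∀ i, ∀ x ∈ D i, (h : Matrix (Fin n) (Fin n) F) *ᵥ x ∈ D (τ i) := by
    intro i x hx
    rw [← hτ i]
    exact ⟨x, hx, Matrix.toLin'_apply _ _⟩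
  have e1 : (h : Matrix (Fin n) (Fin n) F) *ᵥ v =
      (h : Matrix (Fin n) (Fin n) F) *ᵥ a v + (h : Matrix (Fin n) (Fin n) F) *ᵥ b v := by
    conv_lhs => rw [← hab v]
    rw [Matrix.mulVec_add]
  have hcases : τ 0 = 0 ∨ τ 0 = 1 := by
    generalize τ 0 = z
    fin_cases z
    · left; rfl
    · right; rfl
  rcases hcases with h0 | h0
  · have h1 : τ 1 = 1 := by
      have hne : τ 1 ≠ τ 0 := fun h => absurd (τ.injective h) (by decide)
      rw [h0] at hne
      generalize τ 1 = z at hne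
      fin_cases z
      · exact absurd rfl hne
      · rfl
    have m0 := hmem 0 _ (ha v)
    have m1 := hmem 1 _ (hb' v)
    rw [h0] at m0
    rw [h1] at m1
    rw [e1, hQ _ m0 _ m1, hiso, hQv]
  · have h1 : τ 1 = 0 := by
      have hne : τ 1 ≠ τ 0 := fun h => absurd (τ.injective h) (by decide)
      rw [h0] at hne
      generalize τ 1 = z at hne
      fin_cases z
      · rfl
      · exact absurd rfl hne
    have m0 := hmem 0 _ (ha v)
    have m1 := hmem 1 _ (hb' v)
    rw [h0] at m0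
    rw [h1] at m1
    rw [e1, add_comm, hQ _ m1 _ m0, hiso, hQv, hf.skew, hneg]

end Cfsg.Agent.Lib.Helper2.S5662SpTP2
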