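import Mathlib
import Cfsg.Prelude.Def_GeometricClasses
import Cfsg.Agent.Lib.Helper7.AschDefs
import Cfsg.Agent.Lib.Helper17.AschODefs
import Cfsg.Agent.Lib.Helper2.FormRed

/-!
# S5673: the pieces OF-POLAR and O1 (`inClassO_of_not_irr`) of `Lib/Helper17/AschOTop.lean`
-/

set_option autoImplicit false

namespace Cfsg.Agent.Lib.Helper2.S5673O1

open Matrix Cfsg Cfsg.Geo Cfsg.Agent.Lib.Helper7.Asch Cfsg.Agent.Lib.Helper17.AschO
open scoped commutatorElement Kronecker

variable {F : Type*} [Field F] [Fintype F] {n : ℕ} {Q : (Fin n → F) → F}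

/-- `2 ≠ 0` in a finite field of odd order -/
theorem two_ne_zero_of_odd_card (hq : Odd (Fintype.card F)) : (2 : F) ≠ 0 := by
  intro h2
  have hchar : ringChar F = 2 := CharP.ringChar_of_prime_eq_zero Nat.prime_two (by exact_mod_cast h2)
  have := FiniteField.even_card_of_char_two hchar
  rcases hq with ⟨k, hk⟩
  omega

/-- **OF-POLAR** the polar form of a non-degenerate quadratic function is a non-degenerate symmetric form -/
theorem isSymmetricForm_polar (S : OSetup Q) : IsSymmetricForm (QuadraticMap.polar Q) :=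
  ⟨S.quad.polar_bilinear, fun u v => QuadraticMap.polar_comm Q u v, S.quad.nondegenerate⟩

/-- **OF-POLAR** -/
theorem polar_self (S : OSetup Q) (v : Fin n → F) : QuadraticMap.polar Q v v = 2 * Q v := by
  have h3 : Q (v + v) = 4 * Q v := by
    rw [← two_smul F v, S.quad.smul]
    norm_num
  rw [QuadraticMap.polar, h3]
  ring

/-- **OF-POLAR** isometries of `Q` fix the polar form -/
theorem fixesForm_of_le_isometryGroup (H : Subgroup (GL (Fin n) F)) (hHI : H ≤ isometryGroup F Q) :
    FixesForm (matrixSet H) (QuadraticMap.polar Q) := by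
  rintro _ ⟨g, hg, rfl⟩ u v
  have hQ : ∀ w, Q ((g : Matrix (Fin n) (Fin n) F) *ᵥ w) = Q w := fun w => hHI hg w w
  simp only [QuadraticMap.polar]
  rw [← Matrix.mulVec_add, hQ, hQ, hQ]

/-- **OF-POLAR** conversely (char ≠ 2) a matrix fixing the polar form is an isometry of `Q` -/
theorem mem_isometryGroup_of_fixes (S : OSetup Q) (g : GL (Fin n) F)
    (hg : ∀ u v, QuadraticMap.polar Q ((g : Matrix (Fin n) (Fin n) F) *ᵥ u) ((g : Matrix (Fin n) (Fin n) F) *ᵥ v) =
      QuadraticMap.polar Q u v) : g ∈ isometryGroup F Q := by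
  intro u _
  have h2 := two_ne_zero_of_odd_card S.odd_card
  have h1 := hg u u
  rw [polar_self S, polar_self S] at h1
  exact mul_left_cancel₀ h2 h1

/-- **O1** reducible groups -/
theorem inClassO_of_not_irr (S : OSetup Q) (H : Subgroup (GL (Fin n) F)) (hHI : H ≤ isometryGroup F Q)
    (h : ¬ Irr H) : InClassO n Q H := by
  rcases Cfsg.Agent.Lib.Helper2.FormRed.reducible_cases'
    (Cfsg.Agent.Lib.Helper2.FormRed.RForm.of_polar S.quad) H (fixesForm_of_le_isometryGroup H hHI) h with
    ⟨W, h0, hts, hH⟩ | ⟨W, h0, h1, hnd, _, hH⟩ | ⟨k, D, hk, _, _⟩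
  · exact InClassO.of_singular H hHI W h0
      (Cfsg.Agent.Lib.Helper2.FormRed.totallySingularQuad_of_polar S.quad
        (two_ne_zero_of_odd_card S.odd_card) hts) hH
  · exact InClassO.of_nondeg H hHI W h0 h1 hnd hH
  · exfalso
    have hodd := S.odd_dim
    rw [← hk] at hodd
    rcases hodd with ⟨j, hj⟩
    omega

end Cfsg.Agent.Lib.Helper2.S5673O1
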