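import Mathlib
import Cfsg.Prelude.Def_RootSubgroups
import Cfsg.Agent.H26.RootInv2

/-!
# S5046 reduction farm (helper3), piece [PART] (helper2)
-/

set_option autoImplicit false

namespace Cfsg.Agent.Lib.Helper3.Red
open Cfsg Cfsg.Agent.H26

variable {G : Type*} [Group G] {D : Set G}

/-- [PART] trichotomy. -/
theorem mem_cases (hD : IsRootInvolutionSet D) {d e : G} (hd : d ∈ D) (he : e ∈ D) :
    e ∈ commutingMembers D d ∨ e ∈ oddPartners D d ∨ e ∈ fourPartners D d := by
  rcases hD.pair d hd e he with hc | ho | ⟨h4, -⟩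
  · exact Or.inl ⟨he, hc.symm⟩
  · by_cases hed : e = d
    · exact Or.inl ⟨he, by rw [hed]⟩
    · exact Or.inr (Or.inl ⟨he, hed, ho⟩)
  · exact Or.inr (Or.inr ⟨he, h4⟩)

/-- [PART] a commuting member is not an odd partner. -/
theorem not_mem_odd_of_comm (hD : IsRootInvolutionSet D) {d e : G} (hd : d ∈ D)
    (he : e ∈ commutingMembers D d) : e ∉ oddPartners D d := by
  rintro ⟨heD, hne, hodd⟩
  exact hne (ri_eq_of_odd_of_comm hD hd heD hodd he.2.symm).symm

/-- [PART] a four-partner is not an odd partner. -/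
theorem not_mem_odd_of_four {d e : G} (he : e ∈ fourPartners D d) : e ∉ oddPartners D d := by
  rintro ⟨-, -, hodd⟩
  rw [he.2] at hodd
  exact (by decide : ¬ Odd 4) hodd

namespace Helper2

theorem mem_union_iff (hD : IsRootInvolutionSet D) {d : G} (hd : d ∈ D) (x : G) :
    x ∈ commutingMembers D d ∪ fourPartners D d ↔ x ∈ D ∧ x ∉ oddPartners D d := by
  constructor
  · rintro (h | h)
    · exact ⟨h.1, not_mem_odd_of_comm hD hd h⟩
    · exact ⟨h.1, not_mem_odd_of_four h⟩
  · rintro ⟨hx, hno⟩
    rcases mem_cases hD hd hx with h | h | h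
    · exact Or.inl h
    · exact absurd h hno
    · exact Or.inr h

theorem mem_odd_iff (hD : IsRootInvolutionSet D) {d : G} (hd : d ∈ D) (x : G) :
    x ∈ oddPartners D d ↔ x ∈ D ∧ x ∉ commutingMembers D d ∪ fourPartners D d := by
  rw [mem_union_iff hD hd]
  constructor
  · intro h
    exact ⟨h.1, fun h' => h'.2 h⟩
  · rintro ⟨hx, hno⟩
    by_contra h
    exact hno ⟨hx, h⟩

end Helper2

/-- [PART] `C ∪ V` equal iff `A` equal. -/
theorem union_eq_iff (hD : IsRootInvolutionSet D) {d e : G} (hd : d ∈ D) (he : e ∈ D) :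
    commutingMembers D d ∪ fourPartners D d = commutingMembers D e ∪ fourPartners D e ↔
      oddPartners D d = oddPartners D e := by
  constructor
  · intro h
    ext x
    rw [Helper2.mem_odd_iff hD hd, Helper2.mem_odd_iff hD he, h]
  · intro h
    ext x
    rw [Helper2.mem_union_iff hD hd, Helper2.mem_union_iff hD he, h]

end Cfsg.Agent.Lib.Helper3.Red
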