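import Cfsg.Agent.Lib.Helper2.SLBCCore
import Cfsg.Agent.Lib.Helper9.SLBA
import Cfsg.Agent.Lib.Helper20.SLBB

set_option autoImplicit false

/-! S4538 farm (architect helper24), leaf **[C]**: the official `gg_SL`, from the core
(`SLBCCore.lean`), Gelfand's trick **[A]** (helper9) and the block reversal lemma **[B]**
(helper20). -/

namespace Cfsg.Agent.Lib.Helper24.SLB

open Matrix

variable {n : ℕ} {F : Type*} [Field F] [Fintype F]

/-- **[C]** the Gelfand–Graev representation of `SL_n(F)` is multiplicity free -/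
theorem gg_SL (θ : AddChar F ℂ) (hθ : θ ≠ 1) {d : ℕ}
    (ρ : Representation ℂ (SpecialLinearGroup (Fin n) F) (Fin d → ℂ)) (hρ : ρ.IsIrreducible)
    (v w : Fin d → ℂ) (hv0 : v ≠ 0)
    (hv : ∀ u ∈ Usl n F, ρ u v = θ (superSum (u : Matrix (Fin n) (Fin n) F)) • v)
    (hw : ∀ u ∈ Usl n F, ρ u w = θ (superSum (u : Matrix (Fin n) (Fin n) F)) • w) :
    ∃ c : ℂ, w = c • v := by
  classical
  have : Fintype (SpecialLinearGroup (Fin n) F) := Fintype.ofFinite _
  exact gelfand_mult_one (Usl n F) (Helper2.psiU θ) Helper2.iotaSL Helper2.iotaSL_mul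
    Helper2.iotaSL_iotaSL (fun u => Helper2.iotaSL_mem_Usl u.2) (Helper2.psiU_iota θ)
    (Helper2.hadm_SL (fun τ dd h => antidiag_perm n τ dd h) θ hθ) ρ hρ v w hv0
    (fun u => by rw [Helper2.psiU_coe]; exact hv u u.2)
    (fun u => by rw [Helper2.psiU_coe]; exact hw u u.2)

end Cfsg.Agent.Lib.Helper24.SLB
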