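import Mathlib
import Cfsg.Prelude.Def_GeometricClasses
import Cfsg.Agent.Lib.Helper7.AschDefs
import Cfsg.Agent.Lib.Helper16.SpADefs
import Cfsg.Agent.Lib.Helper2.FormRed

/-!
# S5662 block SpI1 (`sp_reducible`): exact signature of `Lib/Helper16/SpATop.lean`
-/

set_option autoImplicit false

namespace Cfsg.Agent.Lib.Helper2.FormRedSp

open Matrix Cfsg.Geo Cfsg.Agent.Lib.Helper7.Asch Cfsg.Agent.Lib.Helper16.SpA

variable {F : Type*} [Field F] [Fintype F] {n : ℕ} {f : (Fin n → F) → (Fin n → F) → F}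

/-- **SpI1** reducible: class 1 (totally singular / non-degenerate subspace) or class 2 (`{W, W^⊥}`, `2 dim W = n`) -/
theorem sp_reducible (hf : IsSymplecticForm f) (H : Subgroup (GL (Fin n) F)) (hHI : H ≤ Iso f) (h : ¬ Irr H) :
    InSp f H := by
  have hfix : FixesForm (matrixSet H) f :=
    Cfsg.Agent.Lib.Helper2.FormRed.fixesForm_of_forall (fun g hg u v => hHI hg u v)
  rcases Cfsg.Agent.Lib.Helper2.FormRed.reducible_cases' (Cfsg.Agent.Lib.Helper2.FormRed.RForm.of_symplectic hf)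
    H hfix h with ⟨W, h0, hts, hH⟩ | ⟨W, h0, _, hnd, hdim, hH⟩ | ⟨k, D, _, hD, hH⟩
  · exact .ts W h0 hts hH
  · rw [Fintype.card_fin] at hdim
    exact .nondeg W h0 hnd hdim hH
  · exact .decomp k D hD hH

end Cfsg.Agent.Lib.Helper2.FormRedSp
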