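import Mathlib
import Cfsg.Prelude
import Cfsg.Agent.Lib.Helper9.GfsP
import Cfsg.Agent.Lib.Helper9.TwoCon3
import Cfsg.Agent.Lib.Helper1.Cores
import Cfsg.Agent.Lib.Helper17.Coprime
import Cfsg.Agent.Lib.Helper17.CoprimeGen

set_option autoImplicit false

/-!
# S2924 FO-1 and FO-2 (helper2, for helper17's skeleton)
-/

namespace Cfsg.Agent.Lib.Helper2.S2924

open Cfsg Cfsg.Agent.Lib.Helper1 Cfsg.Agent.Lib.Helper9 Cfsg.Agent.Lib.Helper17

theorem sq_eq_one_of_orderOf_two {H : Type*} [Group H] {z : H} (hz : orderOf z = 2) : z * z = 1 := by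
  have := pow_orderOf_eq_one z
  rw [hz, pow_two] at this
  exact this

theorem inverts_oddCore {H : Type*} [Group H] [Finite H] (z : H) (hz : orderOf z = 2)
    (hO : Cfsg.oddCore ↥(Subgroup.centralizer ({z} : Set H)) = ⊥) :
    ∀ a ∈ Cfsg.oddCore H, z * a * z⁻¹ = a⁻¹ := by
  have hzz : z * z = 1 := sq_eq_one_of_orderOf_two hz
  haveI hAn : (Cfsg.oddCore H).Normal := pPrimeCore_normal (G := H) 2
  have hAc : (Nat.card (Cfsg.oddCore H)).Coprime 2 := pPrimeCore_coprime 2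
  apply Cfsg.Agent.Lib.Helper9.TwoCon.inverts_of_fpf hzz
  · rw [Subgroup.normalizer_eq_top]; trivial
  · set C := Subgroup.centralizer ({z} : Set H) with hCdef
    have hK : ((Cfsg.oddCore H).subgroupOf C) ≤ Cfsg.oddCore ↥C := by
      apply le_pPrimeCore
      · infer_instance
      · have h1 : Nat.card ((Cfsg.oddCore H).subgroupOf C) ∣ Nat.card (Cfsg.oddCore H) := by
          apply Subgroup.card_dvd_of_injective
            (MonoidHom.codRestrict (C.subtype.comp ((Cfsg.oddCore H).subgroupOf C).subtype)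
              (Cfsg.oddCore H) (fun x => Subgroup.mem_subgroupOf.mp x.2))
          intro x y hxy
          have := congrArg Subtype.val hxy
          exact Subtype.ext (Subtype.ext this)
        exact Nat.Coprime.coprime_dvd_left h1 hAc
    rw [hO, le_bot_iff, Subgroup.subgroupOf_eq_bot] at hK
    exact hK.eq_bot


theorem commute_of_inverts {H : Type*} [Group H] {z : H} {X : Subgroup H}
    (h : ∀ a ∈ X, z * a * z⁻¹ = a⁻¹) : ∀ a ∈ X, ∀ b ∈ X, a * b = b * a := by
  intro a ha b hb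
  have h1 := h (a * b) (X.mul_mem ha hb)
  have h2 := h a ha
  have h3 := h b hb
  have h4 : z * (a * b) * z⁻¹ = (z * a * z⁻¹) * (z * b * z⁻¹) := by group
  rw [h4, h2, h3, mul_inv_rev] at h1
  have h5 := congrArg (fun w => w⁻¹) h1
  simpa using h5.symm

theorem commute_of_sq_commute {H : Type*} [Group H] {d a : H} (hd : Odd (orderOf d))
    (h : (d * d) * a = a * (d * d)) : d * a = a * d := by
  obtain ⟨k, hk⟩ := hd
  have e : d = (d * d) ^ (k + 1) := by
    rw [← pow_two, ← pow_mul]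
    have : 2 * (k + 1) = orderOf d + 1 := by omega
    rw [this, pow_succ, pow_orderOf_eq_one, one_mul]
  have hc : Commute (d * d) a := h
  have := hc.pow_left (k + 1)
  rw [← e] at this
  exact this

theorem odd_orderOf_of_mem {H : Type*} [Group H] [Finite H] {D : Subgroup H}
    (hDodd : Odd (Nat.card ↥D)) {d : H} (hd : d ∈ D) : Odd (orderOf d) := by
  have h1 : orderOf d ∣ Nat.card ↥D := by
    have := orderOf_dvd_natCard (⟨d, hd⟩ : ↥D)
    rwa [← Subgroup.orderOf_coe] at this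
  exact Odd.of_dvd_nat hDodd h1

/-- Thompson `A × B` packaged for an involution `u`: an odd-order subgroup `D ≤ C(u)` normalizing a
`2`-group `P` that `u` normalizes, with `C_P(u)` normalizing `D`, centralizes `P`. -/
theorem centralizes_of_AxB {H : Type*} [Group H] [Finite H] {u : H} (hu : u * u = 1)
    {D P : Subgroup H} (hDodd : Odd (Nat.card ↥D))
    (hDu : D ≤ Subgroup.centralizer ({u} : Set H)) (hP : IsPGroup 2 ↥P)
    (hDP : D ≤ Subgroup.normalizer (P : Set H)) (huP : u ∈ Subgroup.normalizer (P : Set H))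
    (hPD : ∀ y ∈ P, y * u = u * y → ∀ d ∈ D, y * d * y⁻¹ ∈ D) :
    ∀ d ∈ D, ∀ x ∈ P, d * x = x * d := by
  haveI : Fact (Nat.Prime 2) := ⟨Nat.prime_two⟩
  intro d hd
  have hdodd : Odd (orderOf d) := odd_orderOf_of_mem hDodd hd
  have hB : IsPGroup 2 ↥(Subgroup.zpowers u) := by
    intro g
    refine ⟨1, ?_⟩
    obtain ⟨g, hg⟩ := g
    obtain ⟨k, rfl⟩ := Subgroup.mem_zpowers_iff.mp hg
    apply Subtype.ext
    show (u ^ k) ^ 2 ^ 1 = 1
    rw [pow_one, ← zpow_natCast, ← zpow_mul, mul_comm, zpow_mul, zpow_natCast, pow_two, hu, one_zpow]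
  have hdu : d * u = u * d := by
    have := hDu hd
    rw [TwoCon.mem_centralizer_singleton] at this
    exact this.symm
  have hab : ∀ b ∈ Subgroup.zpowers u, d * b = b * d := by
    intro b hb
    obtain ⟨k, rfl⟩ := Subgroup.mem_zpowers_iff.mp hb
    have hc : Commute d u := hdu
    exact hc.zpow_right k
  have hDP_inf : D ⊓ P = ⊥ := by
    apply (Subgroup.disjoint_of_coprime_natCard ?_).eq_bot
    obtain ⟨n, hn⟩ := hP.exists_card_eq
    rw [hn]
    exact Nat.Coprime.pow_right n (Nat.coprime_two_right.mpr hDodd)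
  refine thompson_AxB hB (Nat.coprime_two_right.mpr hdodd) hab (Nat.card ↥P) P rfl hP (hDP hd)
    ((Subgroup.zpowers_le).mpr huP) ?_
  intro x hx hxB
  have hxu : x * u = u * x := (hxB u (Subgroup.mem_zpowers u)).symm
  have h1 : x * d⁻¹ * x⁻¹ ∈ D := hPD x hx hxu d⁻¹ (D.inv_mem hd)
  have h2 : d * x * d⁻¹ ∈ P := (Subgroup.mem_normalizer_iff.mp (hDP hd) x).mp hx
  have h3 : d * x * d⁻¹ * x⁻¹ ∈ D ⊓ P := by
    refine Subgroup.mem_inf.mpr ⟨?_, P.mul_mem h2 (P.inv_mem hx)⟩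
    have e : d * x * d⁻¹ * x⁻¹ = d * (x * d⁻¹ * x⁻¹) := by group
    rw [e]
    exact D.mul_mem hd h1
  rw [hDP_inf, Subgroup.mem_bot] at h3
  calc d * x = (d * x * d⁻¹ * x⁻¹) * x * d := by group
    _ = x * d := by rw [h3, one_mul]

theorem balance_of_char2 {H : Type*} [Group H] [Finite H] (hE : Cfsg.layer H = ⊥) (z : H)
    (hz : orderOf z = 2)
    (hC : IsPGroup 2 ↥(Cfsg.generalizedFittingSubgroup ↥(Subgroup.centralizer ({z} : Set H))))
    (u : H) (hu : orderOf u = 2) (hzu : z * u = u * z) (D : Subgroup H)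
    (hDu : D ≤ Subgroup.centralizer ({u} : Set H)) (hDodd : Odd (Nat.card ↥D))
    (hDn : ∀ y : H, y * u = u * y → ∀ d ∈ D, y * d * y⁻¹ ∈ D) : D ≤ Cfsg.oddCore H := by
  haveI : Fact (Nat.Prime 2) := ⟨Nat.prime_two⟩
  have hzz := sq_eq_one_of_orderOf_two hz
  have huu := sq_eq_one_of_orderOf_two hu
  have hzinv : z⁻¹ = z := inv_eq_of_mul_eq_one_left hzz
  set C := Subgroup.centralizer ({z} : Set H) with hCdef
  -- (a)
  have hOC : Cfsg.oddCore ↥C = ⊥ := pPrimeCore_eq_bot_of_isPGroup_gfs hC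
  have hinvA := inverts_oddCore z hz hOC
  haveI hAn : (Cfsg.oddCore H).Normal := pPrimeCore_normal (G := H) 2
  have hdodd : ∀ d ∈ D, Odd (orderOf d) := fun d hd => odd_orderOf_of_mem hDodd hd
  -- (b)
  have hgfs : Cfsg.generalizedFittingSubgroup ↥C = pCore 2 ↥C := gfs_eq_pCore_of_isPGroup hC
  have hchar : TwoCon.Char2 C := by
    intro x hx
    obtain ⟨hxC, hxc⟩ := Subgroup.mem_inf.mp hx
    have h1 : (⟨x, hxC⟩ : ↥C) ∈ Subgroup.centralizer
        ((Cfsg.generalizedFittingSubgroup ↥C : Subgroup ↥C) : Set ↥C) := by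
      rw [hgfs, Subgroup.mem_centralizer_iff]
      intro y hy
      apply Subtype.ext
      have hy' : (y : H) ∈ TwoCon.O2 C := ⟨y, hy, rfl⟩
      exact Subgroup.mem_centralizer_iff.mp hxc _ hy'
    have h2 := centralizer_gfs_le h1
    rw [hgfs] at h2
    exact ⟨_, h2, rfl⟩
  have huC : u ∈ C := by rw [hCdef, TwoCon.mem_centralizer_singleton]; exact hzu
  have hzD : ∀ d ∈ D, z * d * z⁻¹ ∈ D := hDn z hzu
  have hDC : D ⊓ C = ⊥ := by
    rw [eq_bot_iff]
    intro m hm
    rw [Subgroup.mem_bot]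
    obtain ⟨hmD, hmC⟩ := Subgroup.mem_inf.mp hm
    apply TwoCon.eq_one_of_odd_of_centralizes_O2 hchar hmC (hdodd m hmD)
    have hMD : Nat.card ↥(D ⊓ C) ∣ Nat.card ↥D := Subgroup.card_dvd_of_le inf_le_left
    have key := centralizes_of_AxB huu (D := D ⊓ C) (P := TwoCon.O2 C)
      (Odd.of_dvd_nat hDodd hMD) (inf_le_left.trans hDu) (TwoCon.O2_isPGroup C)
      (inf_le_right.trans (TwoCon.le_normalizer_O2 C)) (TwoCon.le_normalizer_O2 C huC) ?_
    · exact key m hm
    · intro y hy hyu d hd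
      obtain ⟨hdD, hdC⟩ := Subgroup.mem_inf.mp hd
      have hyC : y ∈ C := TwoCon.O2_le C hy
      exact Subgroup.mem_inf.mpr ⟨hDn y hyu d hdD, C.mul_mem (C.mul_mem hyC hdC) (C.inv_mem hyC)⟩
  -- (c)
  have hzND : z ∈ Subgroup.normalizer (D : Set H) := by
    apply Subgroup.mem_normalizer_fintype
    intro y hy
    exact hzD y hy
  have hinvD : ∀ d ∈ D, z * d * z⁻¹ = d⁻¹ := TwoCon.inverts_of_fpf hzz hzND hDC
  -- (d)
  have hDA : ∀ d ∈ D, ∀ a ∈ Cfsg.oddCore H, d * a = a * d := by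
    intro d hd a ha
    apply commute_of_sq_commute (hdodd d hd)
    have hda : d * a * d⁻¹ ∈ Cfsg.oddCore H := hAn.conj_mem a ha d
    have h1 := hinvA _ hda
    have h2 := hinvA a ha
    have h3 := hinvD d hd
    have h4 : z * (d * a * d⁻¹) * z⁻¹ = (z * d * z⁻¹) * (z * a * z⁻¹) * (z * d * z⁻¹)⁻¹ := by group
    rw [h4, h2, h3] at h1
    -- h1 : d⁻¹ * a⁻¹ * d⁻¹⁻¹ = (d * a * d⁻¹)⁻¹
    have h5 : d * d * a⁻¹ = a⁻¹ * (d * d) := by
      calc d * d * a⁻¹ = d * (d * a * d⁻¹)⁻¹ * d := by group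
        _ = d * (d⁻¹ * a⁻¹ * d⁻¹⁻¹) * d := by rw [h1]
        _ = a⁻¹ * (d * d) := by group
    have hc : Commute (d * d) a⁻¹ := h5
    exact Commute.inv_right_iff.mp hc
  -- (e)
  haveI hT0n : (pCore 2 H).Normal := pCore_normal (G := H) 2
  have hDT : ∀ d ∈ D, ∀ x ∈ pCore 2 H, d * x = x * d := by
    apply centralizes_of_AxB huu hDodd hDu (pCore_isPGroup 2)
    · rw [Subgroup.normalizer_eq_top]; exact le_top
    · rw [Subgroup.normalizer_eq_top]; trivial
    · intro y _ hyu d hd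
      exact hDn y hyu d hd
  -- (f)
  have hF : Cfsg.generalizedFittingSubgroup H = ⨆ p : Nat.Primes, pCore (p : ℕ) H := by
    unfold Cfsg.generalizedFittingSubgroup
    rw [hE, bot_sup_eq, fittingSubgroup_eq_iSup_primes]
  have hpA : ∀ p : Nat.Primes, (p : ℕ) ≠ 2 → pCore (p : ℕ) H ≤ Cfsg.oddCore H := by
    intro p hp2
    haveI : Fact (p : ℕ).Prime := ⟨p.2⟩
    apply le_pPrimeCore (pCore_normal (G := H) (p : ℕ))
    obtain ⟨n, hn⟩ := (pCore_isPGroup (G := H) (p : ℕ)).exists_card_eq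
    rw [hn]
    exact Nat.Coprime.pow_left n ((Nat.coprime_primes p.2 Nat.prime_two).mpr hp2)
  have hDcent : D ≤ Subgroup.centralizer ((Cfsg.generalizedFittingSubgroup H : Subgroup H) : Set H) := by
    rw [Subgroup.le_centralizer_iff, hF]
    apply iSup_le
    intro p
    by_cases hp2 : (p : ℕ) = 2
    · rw [hp2]
      intro x hx
      rw [Subgroup.mem_centralizer_iff]
      intro d hd
      exact hDT d hd x hx
    · intro x hx
      rw [Subgroup.mem_centralizer_iff]
      intro d hd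
      exact hDA d hd x (hpA p hp2 hx)
  have hDF : D ≤ Cfsg.oddCore H ⊔ pCore 2 H := by
    refine (hDcent.trans centralizer_gfs_le).trans ?_
    rw [hF]
    apply iSup_le
    intro p
    by_cases hp2 : (p : ℕ) = 2
    · rw [hp2]; exact le_sup_right
    · exact (hpA p hp2).trans le_sup_left
  intro d hd
  refine mem_of_coprime_of_mem_sup_pgroup (pCore_isPGroup 2) ?_ (hDF hd)
    (Nat.coprime_two_right.mpr (hdodd d hd))
  rw [Subgroup.normalizer_eq_top]; exact le_top

end Cfsg.Agent.Lib.Helper2.S2924
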