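import Mathlib
import Cfsg.Agent.Lib.Helper6.Symp
import Cfsg.Agent.Lib.Helper15.SympOrder
import Cfsg.Agent.S2530

/-!
# `Sp₄(2) ≃* S₆` (helper2 library)
-/

set_option autoImplicit false

namespace Cfsg.Agent.Lib.Helper2

open Matrix

section Congr

variable {l R S : Type*} [DecidableEq l] [Fintype l] [CommRing R] [CommRing S]

omit [Fintype l] in
theorem J_map_ringHom (f : R →+* S) : (Matrix.J l R).map f = Matrix.J l S := by
  ext i j
  rcases i with i | i <;> rcases j with j | j <;>
    simp [Matrix.J, Matrix.one_apply, apply_ite f]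

theorem map_mem_symplecticGroup (f : R →+* S) {A : Matrix (l ⊕ l) (l ⊕ l) R}
    (hA : A ∈ symplecticGroup l R) : A.map f ∈ symplecticGroup l S := by
  rw [SymplecticGroup.mem_iff] at hA ⊢
  rw [← J_map_ringHom f, ← Matrix.transpose_map, ← Matrix.map_mul, ← Matrix.map_mul, hA]

/-- a ring homomorphism induces a homomorphism of symplectic groups -/
def sympMapHom (f : R →+* S) : symplecticGroup l R →* symplecticGroup l S where
  toFun A := ⟨A.1.map f, map_mem_symplecticGroup f A.2⟩
  map_one' := Subtype.ext (by simp)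
  map_mul' A B := Subtype.ext (by simp [Matrix.map_mul])

/-- a ring isomorphism induces an isomorphism of symplectic groups -/
def sympCongr (e : R ≃+* S) : symplecticGroup l R ≃* symplecticGroup l S :=
  { sympMapHom (l := l) e.toRingHom with
    invFun := sympMapHom (l := l) e.symm.toRingHom
    left_inv := fun A => Subtype.ext (by
      ext i j
      simp [sympMapHom])
    right_inv := fun A => Subtype.ext (by
      ext i j
      simp [sympMapHom]) }

end Congr

end Cfsg.Agent.Lib.Helper2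

namespace Cfsg.Agent.Lib.Helper2

open Matrix

section Sp4

/-- five vectors of `𝔽₂⁴` forming an `A₅` diagram under the symplectic form -/
def sp4Vec : Fin 5 → (Fin 2 ⊕ Fin 2 → ZMod 2) := fun i =>
  match i with
  | 0 => Sum.elim ![1, 0] ![0, 0]
  | 1 => Sum.elim ![0, 0] ![1, 0]
  | 2 => Sum.elim ![1, 1] ![0, 0]
  | 3 => Sum.elim ![0, 0] ![0, 1]
  | 4 => Sum.elim ![0, 1] ![0, 0]

/-- the corresponding transvection matrices -/
def sp4Mat (i : Fin 5) : Matrix (Fin 2 ⊕ Fin 2) (Fin 2 ⊕ Fin 2) (ZMod 2) :=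
  Cfsg.sympTransvection 2 (sp4Vec i) 1

set_option maxRecDepth 100000 in
theorem sp4Mat_rel : ∀ i j : Fin 5, (sp4Mat i * sp4Mat j) ^ (CoxeterMatrix.A 5 i j) = 1 := by
  decide +kernel

set_option maxRecDepth 100000 in
theorem sp4Mat_ne : sp4Mat 0 * sp4Mat 1 ≠ 1 := by
  decide +kernel

/-- the transvections as elements of the symplectic group -/
def sp4Gen (i : Fin 5) : symplecticGroup (Fin 2) (ZMod 2) :=
  ⟨sp4Mat i, Cfsg.Agent.Lib.Helper6.sympTransvection_mem _ _⟩

theorem sp4Gen_liftable : CoxeterMatrix.IsLiftable (CoxeterMatrix.A 5) sp4Gen := by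
  intro i j
  apply Subtype.ext
  rw [SubmonoidClass.coe_pow, Submonoid.coe_mul]
  exact sp4Mat_rel i j

theorem card_sp4Z2 : Nat.card (symplecticGroup (Fin 2) (ZMod 2)) = 720 := by
  rw [Cfsg.Agent.Lib.Helper15.card_symplecticGroup]
  simp [ZMod.card, Finset.prod_range_succ]

theorem nonempty_sp4Z2_equiv_perm :
    Nonempty (symplecticGroup (Fin 2) (ZMod 2) ≃* Equiv.Perm (Fin 6)) := by
  obtain ⟨cs, hcs⟩ := Cfsg.Agent.S2530.result 5
  let ψ : Equiv.Perm (Fin 6) →* symplecticGroup (Fin 2) (ZMod 2) :=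
    cs.lift ⟨sp4Gen, sp4Gen_liftable⟩
  have hψ : ∀ i, ψ (cs.simple i) = sp4Gen i := fun i => cs.lift_apply_simple sp4Gen_liftable i
  have hinj : Function.Injective ψ := by
    rw [← MonoidHom.ker_eq_bot_iff]
    by_contra hne
    have hnt : Nontrivial ψ.ker := (Subgroup.nontrivial_iff_ne_bot _).mpr hne
    have hle := Equiv.Perm.alternatingGroup_le_of_normal (α := Fin 6) (by simp) hnt
    have hmem : cs.simple 0 * cs.simple 1 ∈ alternatingGroup (Fin 6) := by
      rw [Equiv.Perm.mem_alternatingGroup, map_mul, hcs, hcs,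
        Equiv.Perm.sign_swap (by decide), Equiv.Perm.sign_swap (by decide)]
      rfl
    have h1 := hle hmem
    rw [MonoidHom.mem_ker, map_mul, hψ, hψ] at h1
    exact sp4Mat_ne (congrArg Subtype.val h1)
  have hbij : Function.Bijective ψ :=
    (Nat.bijective_iff_injective_and_card ψ).mpr
      ⟨hinj, by rw [card_sp4Z2, Nat.card_perm, Nat.card_eq_fintype_card, Fintype.card_fin]; rfl⟩
  exact ⟨(MulEquiv.ofBijective ψ hbij).symm⟩

/-- `Sp₄(2) ≃* S₆` -/
theorem nonempty_sp4_equiv_perm {F : Type*} [Field F] [Fintype F] (hF : Fintype.card F = 2) :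
    Nonempty (symplecticGroup (Fin 2) F ≃* Equiv.Perm (Fin 6)) := by
  obtain ⟨e⟩ := nonempty_sp4Z2_equiv_perm
  exact ⟨(sympCongr (ZMod.ringEquivOfPrime F Nat.prime_two hF)).symm.trans e⟩

end Sp4

end Cfsg.Agent.Lib.Helper2
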