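import Mathlib

/-!
# Arithmetic for the dihedral-centralizer order theorem (helper2 library)

The Diophantine endgame of Isaacs' Theorem 7.10 (perfect group with an involution
centralizer dihedral of order 8 has order 168 or 360).
-/

set_option autoImplicit false

namespace Cfsg.Agent.Lib.Helper2.D8C

/-- One negative signed degree. -/
theorem arith_oneNeg (N q r : ℤ) (hq : 3 ≤ q) (hr : 3 ≤ r)
    (h : N * ((q + r + 1) * q * r + (q + r + 1) * q + (q + r + 1) * r - q * r)
      = 256 * ((q + r + 1) * q * r))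
    (hN : 1 + (q + r + 1) ^ 2 + q ^ 2 + r ^ 2 ≤ N) (h16 : N % 16 = 8) :
    N = 168 ∨ N = 360 := by
  have hE : 0 ≤ (q + r + 1) * q * r := by positivity
  have hpos : 0 < q * q + q * r + r * r + q + r := by positivity
  have hF : (q + r + 1) * q * r + (q + r + 1) * q + (q + r + 1) * r - q * r
      = (q + r + 1) * q * r + (q * q + q * r + r * r + q + r) := by ring
  rw [hF] at h
  have hN255 : N ≤ 255 := by
    by_contra hcon
    have h256 : 256 ≤ N := by omega
    have h1 : 256 * ((q + r + 1) * q * r + (q * q + q * r + r * r + q + r))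
        ≤ N * ((q + r + 1) * q * r + (q * q + q * r + r * r + q + r)) :=
      mul_le_mul_of_nonneg_right h256 (by linarith)
    linarith
  have hq11 : q ≤ 11 := by nlinarith
  have hr11 : r ≤ 11 := by nlinarith
  interval_cases q <;> interval_cases r <;> omega

/-- Two negative signed degrees. -/
theorem arith_twoNeg (N p q : ℤ) (hp : 3 ≤ p) (hq : 3 ≤ q)
    (h : N * (p * q * (p + q - 1) - q * (p + q - 1) - p * (p + q - 1) + p * q)
      = 256 * (p * q * (p + q - 1)))
    (hN : 1 + p ^ 2 + q ^ 2 + (p + q - 1) ^ 2 ≤ N) (h16 : N % 16 = 8) :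
    N = 168 ∨ N = 360 := by
  obtain ⟨m, hm⟩ : ∃ m : ℤ, m = p + q - 1 := ⟨_, rfl⟩
  rw [← hm] at h hN
  have hm5 : 5 ≤ m := by omega
  have hA : 0 ≤ q * m := by positivity
  have hB : 0 ≤ p * m := by positivity
  have hC : 0 < p * q := by positivity
  have h3A : 3 * (q * m) ≤ p * q * m := by
    have := mul_le_mul_of_nonneg_right hp hA
    linarith [this, (by ring : p * (q * m) = p * q * m)]
  have h3B : 3 * (p * m) ≤ p * q * m := by
    have := mul_le_mul_of_nonneg_right hq hB
    linarith [this, (by ring : q * (p * m) = p * q * m)]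
  have hN767 : N ≤ 767 := by
    by_contra hcon
    have h768 : 768 ≤ N := by omega
    have hFnn : 0 ≤ p * q * m - q * m - p * m + p * q := by linarith
    have h1 : 768 * (p * q * m - q * m - p * m + p * q)
        ≤ N * (p * q * m - q * m - p * m + p * q) :=
      mul_le_mul_of_nonneg_right h768 hFnn
    linarith
  have hm27 : m ≤ 27 := by nlinarith
  have hp25 : p ≤ 25 := by omega
  have hq25 : q ≤ 25 := by omega
  subst hm
  interval_cases p <;> interval_cases q <;> omega

/-- The Diophantine endgame: signed degrees `D₁, D₂, D₃` of absolute value at least 3 with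
`1 + D₁ + D₂ + D₃ = 0` and `N (1 + 1/D₁ + 1/D₂ + 1/D₃) = 256`, `N ≥ 1 + ΣDᵢ²`,
`N ≡ 8 (mod 16)` force `N = 168` or `N = 360`. -/
theorem arith_main (N D1 D2 D3 : ℤ) (h1 : D1 ≤ -3 ∨ 3 ≤ D1) (h2 : D2 ≤ -3 ∨ 3 ≤ D2)
    (h3 : D3 ≤ -3 ∨ 3 ≤ D3) (hsum : 1 + D1 + D2 + D3 = 0)
    (heq : N * (D1 * D2 * D3 + D2 * D3 + D1 * D3 + D1 * D2) = 256 * (D1 * D2 * D3))
    (hN : 1 + D1 ^ 2 + D2 ^ 2 + D3 ^ 2 ≤ N) (h16 : N % 16 = 8) :
    N = 168 ∨ N = 360 := by
  rcases h1 with h1 | h1 <;> rcases h2 with h2 | h2 <;> rcases h3 with h3 | h3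
  · omega
  · -- D1, D2 negative
    have hD3 : D3 = (-D1) + (-D2) - 1 := by omega
    refine arith_twoNeg N (-D1) (-D2) (by omega) (by omega) ?_ ?_ h16
    · rw [← hD3]; linear_combination heq
    · rw [← hD3]; linarith [hN]
  · -- D1, D3 negative
    have hD2 : D2 = (-D1) + (-D3) - 1 := by omega
    refine arith_twoNeg N (-D1) (-D3) (by omega) (by omega) ?_ ?_ h16
    · rw [← hD2]; linear_combination heq
    · rw [← hD2]; linarith [hN]
  · -- D1 negative only
    have hD1 : -D1 = D2 + D3 + 1 := by omega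
    refine arith_oneNeg N D2 D3 h2 h3 ?_ ?_ h16
    · rw [← hD1]; linear_combination (-1 : ℤ) * heq
    · rw [← hD1]; linarith [hN]
  · -- D2, D3 negative
    have hD1 : D1 = (-D2) + (-D3) - 1 := by omega
    refine arith_twoNeg N (-D2) (-D3) (by omega) (by omega) ?_ ?_ h16
    · rw [← hD1]; linear_combination heq
    · rw [← hD1]; linarith [hN]
  · -- D2 negative only
    have hD2 : -D2 = D1 + D3 + 1 := by omega
    refine arith_oneNeg N D1 D3 h1 h3 ?_ ?_ h16
    · rw [← hD2]; linear_combination (-1 : ℤ) * heq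
    · rw [← hD2]; linarith [hN]
  · -- D3 negative only
    have hD3 : -D3 = D1 + D2 + 1 := by omega
    refine arith_oneNeg N D1 D2 h1 h2 ?_ ?_ h16
    · rw [← hD3]; linear_combination (-1 : ℤ) * heq
    · rw [← hD3]; linarith [hN]
  · omega

end Cfsg.Agent.Lib.Helper2.D8C
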