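import Mathlib
import Cfsg.Prelude.Def_Characters
import Cfsg.Prelude.Def_Blocks
import Cfsg.Prelude.Def_Solvable
import Cfsg.Agent.Lib.Helper2.BrolineGarrison

/-!
# Garrison's theorem: nilpotent length at most the number of character degrees
(helper2 library)

A finite solvable group with `n` irreducible character degrees has a normal series of length `n`
with nilpotent factors (Isaacs 12.21).  Induction on the order, using the Broline-Garrison theorem
to see that `G / F(G)` has fewer character degrees than `G`.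
-/

set_option autoImplicit false

namespace Cfsg.Agent.Lib.Helper2.NL

open Cfsg

universe u

/-- `G` has a normal series of length `m` with nilpotent factors -/
def NilLen (G : Type u) [Group G] (m : ℕ) : Prop :=
  ∃ N : ℕ → Subgroup G, N 0 = ⊥ ∧ N m = ⊤ ∧ Monotone N ∧ (∀ i, (N i).Normal) ∧
    ∀ i, i < m → ∀ h : ((N i).subgroupOf (N (i + 1))).Normal,
      Group.IsNilpotent (↥(N (i + 1)) ⧸ (N i).subgroupOf (N (i + 1)))

theorem isNilpotent_factor_of_isNilpotent {G : Type u} [Group G] (A B : Subgroup G)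
    (h : (A.subgroupOf B).Normal) (hB : Group.IsNilpotent B) :
    Group.IsNilpotent (↥B ⧸ A.subgroupOf B) := by
  haveI := hB
  infer_instance

theorem isNilpotent_comap_factor {G Q : Type*} [Group G] [Group Q] (π : G →* Q)
    (A B : Subgroup Q) (hA : (A.subgroupOf B).Normal)
    (h' : ((A.comap π).subgroupOf (B.comap π)).Normal)
    (hnil : Group.IsNilpotent (↥B ⧸ A.subgroupOf B)) :
    Group.IsNilpotent (↥(B.comap π) ⧸ (A.comap π).subgroupOf (B.comap π)) := by
  have hcomap : (A.subgroupOf B).comap (π.subgroupComap B)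
      = (A.comap π).subgroupOf (B.comap π) := by
    ext x
    rfl
  haveI := hnil
  apply Subgroup.isNilpotent_of_ker_le_center
    (QuotientGroup.map ((A.comap π).subgroupOf (B.comap π)) (A.subgroupOf B)
      (π.subgroupComap B) hcomap.ge)
  rw [QuotientGroup.ker_map, hcomap, QuotientGroup.map_mk'_self]
  exact bot_le

theorem nilLen_of_isNilpotent {G : Type u} [Group G] (hG : Group.IsNilpotent G) (m : ℕ) :
    NilLen G (m + 1) := by
  haveI := hG
  refine ⟨fun i => if i = 0 then ⊥ else ⊤, by simp, by simp, ?_, ?_, ?_⟩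
  · apply monotone_nat_of_le_succ
    intro i
    by_cases hi : i = 0
    · simp [hi]
    · simp [hi]
  · intro i
    by_cases hi : i = 0
    · simp only [hi, if_true]; infer_instance
    · simp only [hi, if_false]; infer_instance
  · intro i _ h
    exact isNilpotent_factor_of_isNilpotent _ _ h inferInstance

/-- the pulled back series -/
def liftSeries {G : Type u} [Group G] (F : Subgroup G) [F.Normal]
    (N : ℕ → Subgroup (G ⧸ F)) : ℕ → Subgroup G
  | 0 => ⊥
  | (j + 1) => (N j).comap (QuotientGroup.mk' F)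

theorem nilLen_lift {G : Type u} [Group G] (F : Subgroup G) [F.Normal]
    (hF : Group.IsNilpotent F) (m : ℕ) (h : NilLen (G ⧸ F) m) : NilLen G (m + 1) := by
  obtain ⟨N, h0, hm, hmono, hnorm, hfac⟩ := h
  refine ⟨liftSeries F N, rfl, ?_, ?_, ?_, ?_⟩
  · show (N m).comap (QuotientGroup.mk' F) = ⊤
    rw [hm, Subgroup.comap_top]
  · apply monotone_nat_of_le_succ
    intro i
    cases i with
    | zero => exact bot_le
    | succ j => exact Subgroup.comap_mono (hmono (Nat.le_succ j))
  · intro i
    cases i with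
    | zero => show (⊥ : Subgroup G).Normal; infer_instance
    | succ j => exact (hnorm j).comap _
  · intro i hi hnorm'
    cases i with
    | zero =>
      have h1 : (N 0).comap (QuotientGroup.mk' F) = F := by
        rw [h0, MonoidHom.comap_bot, QuotientGroup.ker_mk']
      apply isNilpotent_factor_of_isNilpotent _ _ hnorm'
      show Group.IsNilpotent ↥((N 0).comap (QuotientGroup.mk' F))
      rw [h1]
      exact hF
    | succ j =>
      exact isNilpotent_comap_factor (QuotientGroup.mk' F) (N j) (N (j + 1))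
        ((hnorm j).subgroupOf _) hnorm' (hfac j (by omega) _)

/-- the set of irreducible character degrees -/
def cdSet (G : Type u) [Group G] : Set ℕ :=
  {d | ∃ χ : IrrCharacter G, charDegree (χ : G → ℂ) = d}

theorem cdSet_finite (G : Type u) [Group G] [Finite G] : (cdSet G).Finite := by
  haveI := Fintype.ofFinite G
  have h : cdSet G = Set.range (fun χ : IrrCharacter G => charDegree (χ : G → ℂ)) := by
    ext d
    rfl
  rw [h]
  exact Set.finite_range _

theorem trivial_irr (G : Type u) [Group G] :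
    ∃ τ : IrrCharacter G, (τ : G → ℂ) = fun _ => 1 := by
  refine ⟨⟨_, isIrrCharacter_of_monoidHom (1 : G →* ℂˣ)⟩, ?_⟩
  funext g
  simp

theorem one_mem_cdSet {G : Type u} [Group G] : 1 ∈ cdSet G := by
  obtain ⟨τ, hτ⟩ := trivial_irr G
  refine ⟨τ, ?_⟩
  apply BG.charDegree_eq_of
  rw [hτ]
  simp

theorem cdSet_quotient_subset {G : Type u} [Group G] (N : Subgroup G) [N.Normal] :
    cdSet (G ⧸ N) ⊆ cdSet G := by
  rintro d ⟨ψ, rfl⟩
  exact ⟨⟨_, Helper25.isIrrCharacter_inflation N ψ.2⟩, rfl⟩

theorem exists_degree_not_mem_quotient {G : Type u} [Group G] [Finite G] [Group.IsSolvable G]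
    (F : Subgroup G) [F.Normal] (hF : F = fittingSubgroup G) (hFtop : F ≠ ⊤) :
    ∃ d ∈ cdSet G, d ∉ cdSet (G ⧸ F) := by
  haveI : Fintype (G ⧸ F) := Fintype.ofFinite _
  haveI : Nonempty (IrrCharacter (G ⧸ F)) := by
    obtain ⟨τ, _⟩ := trivial_irr (G ⧸ F)
    exact ⟨τ⟩
  obtain ⟨χ', hmax⟩ :=
    Finite.exists_max (fun χ : IrrCharacter (G ⧸ F) => charDegree (χ : G ⧸ F → ℂ))
  obtain ⟨χ, hχ⟩ : ∃ χ : IrrCharacter G,
      (χ : G → ℂ) = fun g : G => (χ' : G ⧸ F → ℂ) (g : G ⧸ F) :=
    ⟨⟨_, Helper25.isIrrCharacter_inflation F χ'.2⟩, rfl⟩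
  have hdeg : charDegree (χ : G → ℂ) = charDegree (χ' : G ⧸ F → ℂ) := by rw [hχ]; rfl
  obtain ⟨K, hKn, hK⟩ := Helper25.exists_kernel (IsIrrCharacter.isCharacter χ.2)
  haveI := hKn
  have hFK : F ≤ K := by
    intro f hf
    rw [hK f, hχ]
    show (χ' : G ⧸ F → ℂ) ((f : G) : G ⧸ F) = (χ' : G ⧸ F → ℂ) ((1 : G) : G ⧸ F)
    rw [(QuotientGroup.eq_one_iff f).2 hf]
    rfl
  have hcond : ¬ K ≤ fittingSubgroup G ∨
      (K = fittingSubgroup G ∧ Group.IsSolvable (G ⧸ K) ∧ K ≠ ⊤) := by
    by_cases hKF : K = fittingSubgroup G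
    · right
      refine ⟨hKF, inferInstance, ?_⟩
      rw [hKF, ← hF]; exact hFtop
    · left
      intro hle
      apply hKF
      exact le_antisymm hle (hF ▸ hFK)
  obtain ⟨ψ, hψ, _⟩ := BG.main χ K hK hcond
  refine ⟨_, ⟨ψ, rfl⟩, ?_⟩
  rintro ⟨ψ', hψ'⟩
  have h1 : charDegree (ψ' : G ⧸ F → ℂ) ≤ charDegree (χ' : G ⧸ F → ℂ) := hmax ψ'
  omega

theorem nilLen_of_solvable : ∀ (k : ℕ) (G : Type u) [Group G] [Finite G], Nat.card G ≤ k →
    Group.IsSolvable G → ∀ m, (cdSet G).ncard ≤ m → NilLen G m := by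
  intro k
  induction k with
  | zero =>
    intro G _ _ hk
    have := Nat.card_pos (α := G)
    omega
  | succ k ih =>
    intro G _ _ hk hsol m hm
    haveI := hsol
    haveI hFn : (fittingSubgroup G).Normal := Helper1.fittingSubgroup_normal
    have hFnil : Group.IsNilpotent (fittingSubgroup G) := Helper1.fittingSubgroup_isNilpotent
    have hpos : 0 < (cdSet G).ncard := (Set.ncard_pos (cdSet_finite G)).2 ⟨1, one_mem_cdSet⟩
    obtain ⟨m', rfl⟩ : ∃ m', m = m' + 1 := ⟨m - 1, by omega⟩
    by_cases hF : fittingSubgroup G = ⊤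
    · have hG : Group.IsNilpotent G := by
        haveI : Group.IsNilpotent (⊤ : Subgroup G) := by rw [← hF]; exact hFnil
        exact Group.nilpotent_of_mulEquiv Subgroup.topEquiv
      exact nilLen_of_isNilpotent hG m'
    · apply nilLen_lift (fittingSubgroup G) hFnil m'
      apply ih
      · have hne : fittingSubgroup G ≠ ⊥ := by
          intro hbot
          have h1 := Helper1.centralizer_fittingSubgroup_le (G := G)
          rw [hbot] at h1
          have h2 : (⊤ : Subgroup G) ≤ ⊥ := by
            refine le_trans ?_ h1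
            intro g _
            rw [Subgroup.mem_centralizer_iff]
            intro h hh
            rw [SetLike.mem_coe, Subgroup.mem_bot] at hh
            rw [hh, one_mul, mul_one]
          exact hF (hbot.trans (le_antisymm bot_le h2))
        have hcard := Subgroup.card_eq_card_quotient_mul_card_subgroup (fittingSubgroup G)
        have h2 : 1 < Nat.card (fittingSubgroup G) :=
          (Subgroup.one_lt_card_iff_ne_bot _).2 hne
        have h3 : 0 < Nat.card (G ⧸ fittingSubgroup G) := Nat.card_pos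
        nlinarith
      · infer_instance
      · have hsub := cdSet_quotient_subset (fittingSubgroup G)
        obtain ⟨d, hd, hd'⟩ := exists_degree_not_mem_quotient (fittingSubgroup G) rfl hF
        have hlt : (cdSet (G ⧸ fittingSubgroup G)).ncard < (cdSet G).ncard :=
          Set.ncard_lt_ncard ((Set.ssubset_iff_of_subset hsub).2 ⟨d, hd, hd'⟩) (cdSet_finite G)
        omega

/-- **Garrison**: the nilpotent length is at most the number of character degrees. -/
theorem main {G : Type u} [Group G] [Finite G] (hsolv : Group.IsSolvable G) (n : ℕ)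
    (hcd : Nat.card {d : ℕ // ∃ χ : Cfsg.IrrCharacter G, Cfsg.charDegree (χ : G → ℂ) = d} = n) :
    ∃ N : Fin (n + 1) → Subgroup G, N 0 = ⊥ ∧ N (Fin.last n) = ⊤ ∧ Monotone N ∧
      (∀ i, (N i).Normal) ∧ ∀ i : Fin n,
        ∀ h : (N i.castSucc).subgroupOf (N i.succ) |>.Normal,
          Group.IsNilpotent (↥(N i.succ) ⧸ (N i.castSucc).subgroupOf (N i.succ)) := by
  obtain ⟨N, h0, hm, hmono, hnorm, hfac⟩ := nilLen_of_solvable _ G le_rfl hsolv n
    (by rw [← hcd]; exact (Nat.card_coe_set_eq (cdSet G)).ge)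
  refine ⟨fun i => N i.val, ?_, hm, ?_, ?_, ?_⟩
  · show N ((0 : Fin (n + 1)) : ℕ) = ⊥
    rw [Fin.val_zero]
    exact h0
  · intro a b hab
    exact hmono hab
  · intro i
    exact hnorm i.val
  · intro i h
    exact hfac i.val i.2 h

end Cfsg.Agent.Lib.Helper2.NL
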