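import Mathlib
import Cfsg.Prelude.Def_Characters
import Cfsg.Agent.Lib.Helper2.D8Arith
import Cfsg.Agent.Lib.Helper2.Column
import Cfsg.Agent.Lib.Helper2.CharBasic
import Cfsg.Agent.Lib.Helper2.Linear
import Cfsg.Agent.Lib.Helper2.Regular
import Cfsg.Agent.Lib.Helper2.NilpotentLength
import Cfsg.Agent.Lib.Helper11.ClassSum

/-!
# Groups with an involution centralizer dihedral of order 8 (helper2 library)

Character-theoretic core of Isaacs' Theorem 7.10.
-/

set_option autoImplicit false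

namespace Cfsg.Agent.Lib.Helper2.D8C

open Cfsg Module
open scoped ComplexConjugate

theorem four_roots (z : ℂ) (h : z ^ 4 = 1) :
    z = 1 ∨ z = -1 ∨ z = Complex.I ∨ z = -Complex.I := by
  have h2 : (z - Complex.I) * (z + Complex.I) = z ^ 2 + 1 := by
    have := Complex.I_sq
    linear_combination (-1 : ℂ) * this
  have h1 : (z - 1) * (z + 1) * ((z - Complex.I) * (z + Complex.I)) = 0 := by
    rw [h2]; linear_combination h
  rcases mul_eq_zero.mp h1 with h3 | h3
  · rcases mul_eq_zero.mp h3 with h4 | h4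
    · left; linear_combination h4
    · right; left; linear_combination h4
  · rcases mul_eq_zero.mp h3 with h4 | h4
    · right; right; left; linear_combination h4
    · right; right; right; linear_combination h4

theorem exists_gauss (z : ℂ) (h : z ^ 4 = 1) :
    ∃ a b : ℤ, z = (a : ℂ) + (b : ℂ) * Complex.I ∧ z ^ 2 = ((a * a - b * b : ℤ) : ℂ) ∧
      conj z = (a : ℂ) - (b : ℂ) * Complex.I ∧ (a * a - a - b * b + b) % 2 = 0 ∧
      (1 - a - b) % 2 = 0 := by
  rcases four_roots z h with rfl | rfl | rfl | rfl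
  · exact ⟨1, 0, by simp, by simp, by simp, by norm_num, by norm_num⟩
  · exact ⟨-1, 0, by simp, by simp, by simp, by norm_num, by norm_num⟩
  · exact ⟨0, 1, by simp, by simp, by simp, by norm_num, by norm_num⟩
  · exact ⟨0, -1, by simp, by simp, by simp, by norm_num, by norm_num⟩

/-- Character values at an element of order four that is conjugate to its inverse. -/
theorem char_order_four {G : Type*} [Group G] [Finite G] {V : Type*} [AddCommGroup V] [Module ℂ V]
    [FiniteDimensional ℂ V] (ρ : Representation ℂ G V) (s : G) (hs : orderOf s = 4)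
    (hconj : ρ.character s⁻¹ = ρ.character s) :
    ∃ m k d : ℤ, ρ.character s = m ∧ ρ.character (s ^ 2) = k ∧ ρ.character 1 = d ∧
      (k - m) % 2 = 0 ∧ (d - m) % 2 = 0 := by
  obtain ⟨μ, hμ, hpow, hinv⟩ := exists_eigenvalues ρ s
  rw [hs] at hμ
  choose a b hab using fun i => exists_gauss (μ i) (hμ i)
  have h1 := hpow 1
  simp only [pow_one] at h1
  have h2 := hpow 2
  have h0 := hpow 0
  simp only [pow_zero] at h0
  have hi := hinv 1
  simp only [pow_one] at hi
  have hs1 : ρ.character s = ((∑ i, a i : ℤ) : ℂ) + ((∑ i, b i : ℤ) : ℂ) * Complex.I := by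
    rw [h1]
    push_cast
    rw [Finset.sum_mul, ← Finset.sum_add_distrib]
    exact Finset.sum_congr rfl fun i _ => (hab i).1
  have hs2 : ρ.character s⁻¹ = ((∑ i, a i : ℤ) : ℂ) - ((∑ i, b i : ℤ) : ℂ) * Complex.I := by
    rw [hi]
    push_cast
    rw [Finset.sum_mul, ← Finset.sum_sub_distrib]
    exact Finset.sum_congr rfl fun i _ => (hab i).2.2.1
  have hB : (∑ i, b i : ℤ) = 0 := by
    have h3 : ((∑ i, b i : ℤ) : ℂ) * Complex.I = 0 := by
      have := hconj
      rw [hs1, hs2] at this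
      linear_combination (-1 / 2 : ℂ) * this
    rcases mul_eq_zero.mp h3 with h4 | h4
    · exact_mod_cast h4
    · exact absurd h4 Complex.I_ne_zero
  refine ⟨∑ i, a i, ∑ i, (a i * a i - b i * b i), ∑ _i : Fin (finrank ℂ V), (1 : ℤ), ?_, ?_, ?_, ?_, ?_⟩
  · rw [hs1, hB]; simp
  · rw [h2]
    push_cast
    exact Finset.sum_congr rfl fun i _ => by rw [(hab i).2.1]; push_cast; ring
  · rw [h0]; push_cast; rfl
  · have hdvd : (2 : ℤ) ∣ ∑ i, (a i * a i - a i - b i * b i + b i) :=
      Finset.dvd_sum fun i _ => Int.dvd_of_emod_eq_zero (hab i).2.2.2.1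
    have heq : ∑ i, (a i * a i - b i * b i) - ∑ i, a i
        = ∑ i, (a i * a i - a i - b i * b i + b i) - ∑ i, b i := by
      rw [← Finset.sum_sub_distrib, ← Finset.sum_sub_distrib]
      exact Finset.sum_congr rfl fun i _ => by ring
    rw [heq, hB, sub_zero]
    exact Int.emod_eq_zero_of_dvd hdvd
  · have hdvd : (2 : ℤ) ∣ ∑ i, (1 - a i - b i) :=
      Finset.dvd_sum fun i _ => Int.dvd_of_emod_eq_zero (hab i).2.2.2.2
    have heq : ∑ _i : Fin (finrank ℂ V), (1 : ℤ) - ∑ i, a i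
        = ∑ i, (1 - a i - b i) + ∑ i, b i := by
      rw [← Finset.sum_sub_distrib, ← Finset.sum_add_distrib]
      exact Finset.sum_congr rfl fun i _ => by ring
    rw [heq, hB, add_zero]
    exact Int.emod_eq_zero_of_dvd hdvd

section Main

variable {G : Type*} [Group G] [Fintype G]

theorem irr_data (s : G) (hs : orderOf s = 4) (hconj : IsConj s s⁻¹) (χ : IrrCharacter G) :
    ∃ m k d : ℤ, (χ : G → ℂ) s = m ∧ (χ : G → ℂ) (s ^ 2) = k ∧ (χ : G → ℂ) 1 = d ∧ 0 < d ∧
      (k - m) % 2 = 0 ∧ (d - m) % 2 = 0 := by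
  have hcl := IrrCharacter.isClassFunction χ
  have hinv : (χ : G → ℂ) s⁻¹ = (χ : G → ℂ) s := (IsClassFunction.eq_of_isConj hcl hconj).symm
  obtain ⟨n, hn, hn1⟩ := IsIrrCharacter.apply_one χ.2
  obtain ⟨n', ρ, hρ, hχ⟩ := χ.2
  rw [← hχ] at hinv hn1
  obtain ⟨m, k, d, hm, hk, hd, hkm, hdm⟩ := char_order_four ρ s hs hinv
  refine ⟨m, k, d, by rw [← hχ]; exact hm, by rw [← hχ]; exact hk, by rw [← hχ]; exact hd, ?_,
    hkm, hdm⟩
  have : (d : ℂ) = (n : ℂ) := by rw [← hd, hn1]
  have h2 : d = (n : ℤ) := by exact_mod_cast this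
  omega

open Classical in
theorem classSum_irr (χ : IrrCharacter G) (x y : G) :
    ∑ t ∈ Finset.univ.filter (fun t : G => IsConj y t), (χ : G → ℂ) (x * t)
      = ((Finset.univ.filter (fun t : G => IsConj y t)).card : ℂ) * (χ : G → ℂ) x
          * (χ : G → ℂ) y / (χ : G → ℂ) 1 := by
  obtain ⟨n, ρ, hρ, hχ⟩ := χ.2
  haveI := hρ
  have h := Cfsg.Agent.Lib.Helper11.sum_isConj_char_mul ρ x y
  rw [← hχ, Representation.char_one]
  exact h

omit [Fintype G] in
theorem perfect_linear_trivial (hperf : commutator G = ⊤) (χ : IrrCharacter G)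
    (h1 : (χ : G → ℂ) 1 = 1) : (χ : G → ℂ) = fun _ => 1 := by
  obtain ⟨φ, hφ⟩ := exists_monoidHom_of_isIrrCharacter_of_apply_one χ.2 h1
  have hker : ∀ g : G, φ g = 1 := by
    intro g
    have hg : g ∈ commutator G := by rw [hperf]; exact Subgroup.mem_top g
    exact (Abelianization.commutator_subset_ker φ) hg
  rw [hφ]
  funext g
  rw [hker g]
  simp

end Main

section Core

theorem sum_split {ι M : Type*} [Fintype ι] [DecidableEq ι] [AddCommMonoid M] (m : ι → ℤ)
    (χ₀ : ι) (f : ι → M) (hf : ∀ i, m i = 0 → f i = 0) :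
    ∑ i, f i = f χ₀ + ∑ i ∈ (Finset.univ.erase χ₀).filter (fun i => m i ≠ 0), f i := by
  rw [← Finset.add_sum_erase Finset.univ f (Finset.mem_univ χ₀)]
  congr 1
  symm
  apply Finset.sum_subset (Finset.filter_subset _ _)
  intro i hi hni
  apply hf
  by_contra h
  exact hni (Finset.mem_filter.mpr ⟨hi, h⟩)

theorem sum_three {ι M : Type*} [DecidableEq ι] [AddCommMonoid M] (a b c : ι) (hab : a ≠ b)
    (hac : a ≠ c) (hbc : b ≠ c) (f : ι → M) :
    ∑ i ∈ ({a, b, c} : Finset ι), f i = f a + (f b + f c) := by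
  rw [Finset.sum_insert (by simp [hab, hac]), Finset.sum_pair hbc]

theorem odd_sq_ge (x : ℤ) (h : x % 2 = 1) : 1 ≤ x * x := by
  have h0 : x ≠ 0 := by
    intro h0
    rw [h0] at h
    norm_num at h
  rcases lt_or_gt_of_ne h0 with h1 | h1 <;> nlinarith

theorem odd_sq_le_five (x : ℤ) (h : x % 2 = 1) (h5 : x * x ≤ 5) : x * x = 1 := by
  have h1 : -3 < x := by nlinarith
  have h2 : x < 3 := by nlinarith
  have h3 : x = 1 ∨ x = -1 := by omega
  rcases h3 with rfl | rfl <;> norm_num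

theorem int_core {ι : Type*} [Fintype ι] [DecidableEq ι] (m k d : ι → ℤ) (χ₀ : ι) (N : ℤ)
    (hm0 : m χ₀ = 1) (hk0 : k χ₀ = 1) (hd0 : d χ₀ = 1)
    (hd1 : ∀ i, d i = 1 → i = χ₀) (hdpos : ∀ i, 0 < d i)
    (hkm : ∀ i, (k i - m i) % 2 = 0) (hdm : ∀ i, (d i - m i) % 2 = 0)
    (hmm : ∑ i, m i * m i = 4) (hmd : ∑ i, m i * d i = 0) (hkk : ∑ i, k i * k i = 8)
    (hdd : ∑ i, d i * d i = N)
    (hE : (N : ℂ) * ∑ i, (m i : ℂ) * ((k i : ℂ) * (k i : ℂ)) / (d i : ℂ) = 256)
    (h16 : N % 16 = 8) : N = 168 ∨ N = 360 := by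
  obtain ⟨T, hTdef⟩ : ∃ T : Finset ι, T = (Finset.univ.erase χ₀).filter (fun i => m i ≠ 0) :=
    ⟨_, rfl⟩
  have hTmem : ∀ i, i ∈ T → i ≠ χ₀ ∧ m i ≠ 0 := by
    intro i hi
    rw [hTdef] at hi
    obtain ⟨h1, h2⟩ := Finset.mem_filter.mp hi
    exact ⟨Finset.ne_of_mem_erase h1, h2⟩
  have hmmT : ∑ i ∈ T, m i * m i = 3 := by
    have h := sum_split m χ₀ (fun i => m i * m i) (fun i hi => by simp [hi])
    rw [← hTdef, hmm] at h
    beta_reduce at h
    rw [hm0] at h
    linarith
  have hm1 : ∀ i ∈ T, m i * m i = 1 := by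
    intro i hi
    have hle : m i * m i ≤ ∑ j ∈ T, m j * m j :=
      Finset.single_le_sum (f := fun j => m j * m j) (fun j _ => mul_self_nonneg (m j)) hi
    rw [hmmT] at hle
    have hne := (hTmem i hi).2
    have h1 : -2 < m i := by nlinarith
    have h2 : m i < 2 := by nlinarith
    have h3 : m i = 1 ∨ m i = -1 := by omega
    rcases h3 with h | h <;> rw [h] <;> norm_num
  have hcard : T.card = 3 := by
    have h : ∑ i ∈ T, m i * m i = ∑ _i ∈ T, (1 : ℤ) := Finset.sum_congr rfl hm1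
    rw [hmmT, Finset.sum_const, nsmul_eq_mul, mul_one] at h
    exact_mod_cast h.symm
  obtain ⟨a, b, c, hab, hac, hbc, hT⟩ := Finset.card_eq_three.mp hcard
  have haT : a ∈ T := by rw [hT]; simp
  have hbT : b ∈ T := by rw [hT]; simp
  have hcT : c ∈ T := by rw [hT]; simp
  have hma := hm1 a haT
  have hmb := hm1 b hbT
  have hmc := hm1 c hcT
  have hUsum : ∀ f : ι → ℤ, (∀ i, 0 ≤ f i) → f χ₀ + (f a + (f b + f c)) ≤ ∑ i, f i := by
    intro f hf
    have h1 : ∑ i ∈ insert χ₀ T, f i ≤ ∑ i, f i :=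
      Finset.sum_le_sum_of_subset_of_nonneg (Finset.subset_univ _) (fun i _ _ => hf i)
    have hnot : χ₀ ∉ T := fun h => (hTmem χ₀ h).1 rfl
    rw [Finset.sum_insert hnot, hT, sum_three a b c hab hac hbc f] at h1
    exact h1
  have hkodd : ∀ i ∈ T, k i % 2 = 1 := by
    intro i hi
    have h1 := hkm i
    rcases mul_self_eq_one_iff.mp (hm1 i hi) with h | h <;> rw [h] at h1 <;> omega
  have hdodd : ∀ i ∈ T, d i % 2 = 1 := by
    intro i hi
    have h1 := hdm i
    rcases mul_self_eq_one_iff.mp (hm1 i hi) with h | h <;> rw [h] at h1 <;> omega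
  have hkU := hUsum (fun i => k i * k i) (fun i => mul_self_nonneg _)
  beta_reduce at hkU
  rw [hkk, hk0] at hkU
  have hka1 := odd_sq_ge _ (hkodd a haT)
  have hkb1 := odd_sq_ge _ (hkodd b hbT)
  have hkc1 := odd_sq_ge _ (hkodd c hcT)
  have hka : k a * k a = 1 := odd_sq_le_five _ (hkodd a haT) (by linarith)
  have hkb : k b * k b = 1 := odd_sq_le_five _ (hkodd b hbT) (by linarith)
  have hkc : k c * k c = 1 := odd_sq_le_five _ (hkodd c hcT) (by linarith)
  have hdU := hUsum (fun i => d i * d i) (fun i => mul_self_nonneg _)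
  beta_reduce at hdU
  rw [hdd, hd0] at hdU
  have hd3 : ∀ i ∈ T, 3 ≤ d i := by
    intro i hi
    have h1 := hdodd i hi
    have h2 := hdpos i
    have h3 : d i ≠ 1 := fun h => (hTmem i hi).1 (hd1 i h)
    omega
  have hmd' : 1 + (m a * d a + (m b * d b + m c * d c)) = 0 := by
    have h := sum_split m χ₀ (fun i => m i * d i) (fun i hi => by simp [hi])
    rw [← hTdef, hmd, hT, sum_three a b c hab hac hbc] at h
    beta_reduce at h
    rw [hm0, hd0] at h
    linarith
  have hkaC : (k a : ℂ) * (k a : ℂ) = 1 := by exact_mod_cast hka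
  have hkbC : (k b : ℂ) * (k b : ℂ) = 1 := by exact_mod_cast hkb
  have hkcC : (k c : ℂ) * (k c : ℂ) = 1 := by exact_mod_cast hkc
  have hE' : (N : ℂ) * (1 + ((m a : ℂ) / d a + ((m b : ℂ) / d b + (m c : ℂ) / d c))) = 256 := by
    have h := sum_split m χ₀ (fun i => (m i : ℂ) * ((k i : ℂ) * (k i : ℂ)) / (d i : ℂ))
      (fun i hi => by simp [hi])
    rw [← hTdef, hT, sum_three a b c hab hac hbc] at h
    beta_reduce at h
    rw [h] at hE
    have e1 : ((1 : ℤ) : ℂ) = 1 := Int.cast_one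
    rw [hkaC, hkbC, hkcC, hm0, hk0, hd0] at hE
    simp only [e1, mul_one, div_one] at hE
    exact hE
  have hdaC : (d a : ℂ) ≠ 0 := by exact_mod_cast (hdpos a).ne'
  have hdbC : (d b : ℂ) ≠ 0 := by exact_mod_cast (hdpos b).ne'
  have hdcC : (d c : ℂ) ≠ 0 := by exact_mod_cast (hdpos c).ne'
  have hE0C : (N : ℂ) * ((d a : ℂ) * d b * d c + m a * d b * d c + m b * d a * d c
      + m c * d a * d b) = 256 * ((d a : ℂ) * d b * d c) := by
    rw [← hE']
    field_simp
    ring
  have hE0 : N * (d a * d b * d c + m a * d b * d c + m b * d a * d c + m c * d a * d b)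
      = 256 * (d a * d b * d c) := by exact_mod_cast hE0C
  have hD : ∀ i ∈ T, m i * d i ≤ -3 ∨ 3 ≤ m i * d i := by
    intro i hi
    have h3 := hd3 i hi
    rcases mul_self_eq_one_iff.mp (hm1 i hi) with h | h <;> rw [h]
    · right; linarith
    · left; linarith
  have hsq : ∀ i ∈ T, (m i * d i) ^ 2 = d i * d i := by
    intro i hi
    calc (m i * d i) ^ 2 = (m i * m i) * (d i * d i) := by ring
      _ = d i * d i := by rw [hm1 i hi, one_mul]
  apply arith_main N (m a * d a) (m b * d b) (m c * d c) (hD a haT) (hD b hbT) (hD c hcT)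
  · linarith
  · linear_combination (m a * m b * m c) * hE0 - (N * m b * m c * d b * d c) * hma
      - (N * m a * m c * d a * d c) * hmb - (N * m a * m b * d a * d b) * hmc
  · rw [hsq a haT, hsq b hbT, hsq c hcT]
    linarith
  · exact h16

end Core

section Main2

variable {G : Type*} [Group G] [Fintype G]

open Classical in
theorem order_of_group (t s : G) (ht : orderOf t = 2) (hs : orderOf s = 4) (hst : s ^ 2 = t)
    (hCt : Nat.card (Subgroup.centralizer ({t} : Set G)) = 8)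
    (hCs : Nat.card (Subgroup.centralizer ({s} : Set G)) = 4)
    (hconj : IsConj s s⁻¹) (hinv : ∀ y : G, orderOf y = 2 → IsConj t y)
    (hcount : Nat.card {y : G // orderOf y = 2 ∧ orderOf (s * y) = 2} = 4)
    (hperf : commutator G = ⊤) (h16 : Nat.card G % 16 = 8) :
    Nat.card G = 168 ∨ Nat.card G = 360 := by
  haveI : Fintype (IrrCharacter G) := Fintype.ofFinite _
  choose m k d hm hk hd hdpos hkm hdm using irr_data s hs hconj
  simp only [hst] at hk
  obtain ⟨χ₀, hχ₀⟩ := NL.trivial_irr G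
  have hm0 : m χ₀ = 1 := by
    have h := hm χ₀
    rw [hχ₀] at h
    have h' : (1 : ℂ) = (m χ₀ : ℂ) := h
    exact_mod_cast h'.symm
  have hk0 : k χ₀ = 1 := by
    have h := hk χ₀
    rw [hχ₀] at h
    have h' : (1 : ℂ) = (k χ₀ : ℂ) := h
    exact_mod_cast h'.symm
  have hd0 : d χ₀ = 1 := by
    have h := hd χ₀
    rw [hχ₀] at h
    have h' : (1 : ℂ) = (d χ₀ : ℂ) := h
    exact_mod_cast h'.symm
  have hd1 : ∀ χ, d χ = 1 → χ = χ₀ := by
    intro χ h
    apply Subtype.ext
    rw [hχ₀]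
    exact perfect_linear_trivial hperf χ (by rw [hd χ, h, Int.cast_one])
  have hs1 : s ≠ 1 := by
    intro h
    rw [h, orderOf_one] at hs
    norm_num at hs
  have hconjInt : ∀ z : ℤ, conj (z : ℂ) = (z : ℂ) := fun z => map_intCast (starRingEnd ℂ) z
  have hmm : ∑ χ : IrrCharacter G, m χ * m χ = 4 := by
    have h := column_orthogonality s s
    rw [if_pos (IsConj.refl s), hCs] at h
    have h2 : ((∑ χ : IrrCharacter G, m χ * m χ : ℤ) : ℂ) = ((4 : ℕ) : ℂ) := by
      rw [Int.cast_sum]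
      refine Eq.trans (Finset.sum_congr rfl fun χ _ => ?_) h
      rw [hm χ, hconjInt, Int.cast_mul]
    exact_mod_cast h2
  have hmd : ∑ χ : IrrCharacter G, m χ * d χ = 0 := by
    have h := column_orthogonality s (1 : G)
    rw [if_neg (fun hc => hs1 (isConj_one_left.mp hc))] at h
    have h2 : ((∑ χ : IrrCharacter G, m χ * d χ : ℤ) : ℂ) = 0 := by
      rw [Int.cast_sum]
      refine Eq.trans (Finset.sum_congr rfl fun χ _ => ?_) h
      rw [hm χ, hd χ, hconjInt, Int.cast_mul]
    exact_mod_cast h2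
  have hkk : ∑ χ : IrrCharacter G, k χ * k χ = 8 := by
    have h := column_orthogonality t t
    rw [if_pos (IsConj.refl t), hCt] at h
    have h2 : ((∑ χ : IrrCharacter G, k χ * k χ : ℤ) : ℂ) = ((8 : ℕ) : ℂ) := by
      rw [Int.cast_sum]
      refine Eq.trans (Finset.sum_congr rfl fun χ _ => ?_) h
      rw [hk χ, hconjInt, Int.cast_mul]
    exact_mod_cast h2
  have hdd : ∑ χ : IrrCharacter G, d χ * d χ = (Nat.card G : ℤ) := by
    have h := sum_irr_degree_sq (G := G)
    have h2 : ((∑ χ : IrrCharacter G, d χ * d χ : ℤ) : ℂ) = ((Nat.card G : ℤ) : ℂ) := by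
      rw [Int.cast_sum, Int.cast_natCast]
      refine Eq.trans (Finset.sum_congr rfl fun χ _ => ?_) h
      rw [hd χ, Int.cast_mul, sq]
    exact_mod_cast h2
  have hK : ∀ y : G, IsConj t y ↔ orderOf y = 2 := by
    intro y
    constructor
    · rintro ⟨c, hc⟩
      rw [← SemiconjBy.orderOf_eq _ hc]
      exact ht
    · exact hinv y
  obtain ⟨K, hKdef⟩ : ∃ K : Finset G, K = Finset.univ.filter (fun y : G => IsConj t y) :=
    ⟨_, rfl⟩
  have hK8 : K.card * 8 = Nat.card G := by
    have h := card_centralizer_mul_card_conj t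
    rw [hCt, Nat.subtype_card K (fun x => by rw [hKdef]; simp)] at h
    omega
  have hcnt : (K.filter (fun y : G => IsConj t (s * y))).card = 4 := by
    rw [← hcount]
    symm
    apply Nat.subtype_card
    intro y
    rw [hKdef, Finset.mem_filter, Finset.mem_filter, hK, hK]
    simp
  have hsumK : ∑ y ∈ K, ∑ χ : IrrCharacter G,
      (χ : G → ℂ) t * conj ((χ : G → ℂ) (s * y)) = 32 := by
    have h1 : ∀ y ∈ K, ∑ χ : IrrCharacter G, (χ : G → ℂ) t * conj ((χ : G → ℂ) (s * y))
        = if IsConj t (s * y) then (8 : ℂ) else 0 := by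
      intro y _
      rw [column_orthogonality t (s * y), hCt]
      norm_num
    rw [Finset.sum_congr rfl h1, ← Finset.sum_filter, Finset.sum_const, hcnt]
    norm_num
  have hE2 : ∑ χ : IrrCharacter G,
      (k χ : ℂ) * ((K.card : ℂ) * (m χ : ℂ) * (k χ : ℂ) / (d χ : ℂ)) = 32 := by
    rw [← hsumK, Finset.sum_comm]
    apply Finset.sum_congr rfl
    intro χ _
    rw [← Finset.mul_sum, ← map_sum]
    have hcs := classSum_irr χ s t
    rw [← hKdef] at hcs
    rw [hcs, hm χ, hk χ, hd χ]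
    simp only [map_div₀, map_mul, map_natCast, map_intCast]
  have hNC : ((Nat.card G : ℤ) : ℂ) = (K.card : ℂ) * 8 := by
    rw [← hK8]
    simp
  have hE : ((Nat.card G : ℤ) : ℂ) * ∑ χ : IrrCharacter G,
      (m χ : ℂ) * ((k χ : ℂ) * (k χ : ℂ)) / (d χ : ℂ) = 256 := by
    have h256 : (256 : ℂ) = 8 * 32 := by norm_num
    rw [h256, ← hE2, Finset.mul_sum, Finset.mul_sum]
    apply Finset.sum_congr rfl
    intro χ _
    rw [hNC]
    ring
  have hres := int_core m k d χ₀ (Nat.card G : ℤ) hm0 hk0 hd0 hd1 hdpos hkm hdm hmm hmd hkk hdd hE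
    (by omega)
  rcases hres with h | h
  · left; exact_mod_cast h
  · right; exact_mod_cast h

end Main2

end Cfsg.Agent.Lib.Helper2.D8C
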