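import Mathlib
import Cfsg.Agent.Lib.Helper2.D8Cent
import Cfsg.Agent.Lib.Helper9.IndexTwo

/-!
# Involution centralizer dihedral of order 8: group-theoretic setup (helper2 library)
-/

set_option autoImplicit false

namespace Cfsg.Agent.Lib.Helper2.D8C

open DihedralGroup

theorem d8_center : ∀ z : DihedralGroup 4, (∀ x, x * z = z * x) → z ≠ 1 → z = r 2 := by decide

theorem d8_cent_r : ∀ w : DihedralGroup 4, w * r 1 = r 1 * w → ∃ i : ZMod 4, w = r i := by
  decide

theorem d8_inv : ∀ w : DihedralGroup 4, w * w = 1 → w ≠ 1 → (r 1 * w) * (r 1 * w) = 1 →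
    ∃ i : ZMod 4, w = sr i := by decide

theorem d8_conj : (sr 0 : DihedralGroup 4) * r 1 * (sr 0)⁻¹ = (r 1)⁻¹ := by decide

theorem d8_sq : (r 1 : DihedralGroup 4) * r 1 = r 2 := by decide

theorem d8_rsr : ∀ i : ZMod 4, (r 1 : DihedralGroup 4) * sr i = sr (i - 1) := by decide

theorem d8_sr_inj : ∀ i j : ZMod 4, (sr i : DihedralGroup 4) = sr j → i = j := by decide

theorem d8_phi {G : Type*} [Group G] (t : G)
    (e : Subgroup.centralizer ({t} : Set G) ≃* DihedralGroup 4) :
    ∃ φ : DihedralGroup 4 →* G, Function.Injective φ ∧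
      (∀ x : G, x * t = t * x → ∃ w, φ w = x) ∧ (∀ w, φ w * t = t * φ w) := by
  refine ⟨(Subgroup.centralizer ({t} : Set G)).subtype.comp e.symm.toMonoidHom, ?_, ?_, ?_⟩
  · have h : Function.Injective ((Subgroup.centralizer ({t} : Set G)).subtype ∘ e.symm) :=
      (Subgroup.subtype_injective _).comp e.symm.injective
    exact h
  · intro x hx
    refine ⟨e ⟨x, Subgroup.mem_centralizer_singleton_iff.mpr hx⟩, ?_⟩
    simp
  · intro w
    exact Subgroup.mem_centralizer_singleton_iff.mp (e.symm w).2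

theorem d8_phi2 {G : Type*} [Group G] (t : G) (ht : orderOf t = 2)
    (φ : DihedralGroup 4 →* G) (hφ : Function.Injective φ)
    (hsurj : ∀ x : G, x * t = t * x → ∃ w, φ w = x) (hcomm : ∀ w, φ w * t = t * φ w) :
    φ (r 2) = t := by
  have ht1 : t ≠ 1 := by
    intro h
    rw [h, orderOf_one] at ht
    norm_num at ht
  obtain ⟨z, hz⟩ := hsurj t rfl
  have hzc : ∀ x : DihedralGroup 4, x * z = z * x := by
    intro x
    apply hφ
    rw [map_mul, map_mul, hz]
    exact hcomm x
  have hz1 : z ≠ 1 := by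
    intro h
    rw [h, map_one] at hz
    exact ht1 hz.symm
  rw [← d8_center z hzc hz1]
  exact hz

theorem d8_order_s {G : Type*} [Group G] (φ : DihedralGroup 4 →* G)
    (hφ : Function.Injective φ) : orderOf (φ (r 1)) = 4 := by
  rw [orderOf_injective φ hφ, orderOf_r_one]

theorem d8_s_sq {G : Type*} [Group G] (t : G) (φ : DihedralGroup 4 →* G)
    (hφ2 : φ (r 2) = t) : φ (r 1) ^ 2 = t := by
  rw [sq, ← map_mul, d8_sq, hφ2]

theorem d8_cent_s {G : Type*} [Group G] (t : G) (φ : DihedralGroup 4 →* G)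
    (hφ : Function.Injective φ)
    (hsurj : ∀ x : G, x * t = t * x → ∃ w, φ w = x) (hφ2 : φ (r 2) = t) :
    Nat.card (Subgroup.centralizer ({φ (r 1)} : Set G)) = 4 := by
  have hcs : Subgroup.centralizer ({φ (r 1)} : Set G) = Subgroup.zpowers (φ (r 1)) := by
    ext x
    rw [Subgroup.mem_centralizer_singleton_iff]
    constructor
    · intro hx
      have hx' : Commute x (φ (r 1)) := hx
      have hxt : x * t = t * x := by
        rw [← hφ2, ← d8_sq, map_mul]
        exact (hx'.mul_right hx').eq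
      obtain ⟨w, rfl⟩ := hsurj x hxt
      have hw : w * r 1 = r 1 * w := by
        apply hφ
        rw [map_mul, map_mul]
        exact hx
      obtain ⟨i, rfl⟩ := d8_cent_r w hw
      have hri : (r i : DihedralGroup 4) = (r 1) ^ (i.val) := by
        rw [r_one_pow, ZMod.natCast_zmod_val]
      rw [hri, map_pow]
      exact Subgroup.npow_mem_zpowers _ _
    · intro hx
      obtain ⟨n, rfl⟩ := Subgroup.mem_zpowers_iff.mp hx
      exact (Commute.zpow_self (φ (r 1)) n).eq
  rw [hcs, Nat.card_zpowers, orderOf_injective φ hφ, orderOf_r_one]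

theorem d8_conj_s {G : Type*} [Group G] (φ : DihedralGroup 4 →* G) :
    IsConj (φ (r 1)) (φ (r 1))⁻¹ := by
  have h : φ (sr 0 * r 1 * (sr 0)⁻¹) = φ ((r 1)⁻¹) := by rw [d8_conj]
  simp only [map_mul, map_inv] at h
  exact isConj_iff.mpr ⟨φ (sr 0), h⟩

theorem d8_count {G : Type*} [Group G] (t : G) (φ : DihedralGroup 4 →* G)
    (hφ : Function.Injective φ)
    (hsurj : ∀ x : G, x * t = t * x → ∃ w, φ w = x) (hφ2 : φ (r 2) = t) :
    Nat.card {y : G // orderOf y = 2 ∧ orderOf (φ (r 1) * y) = 2} = 4 := by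
  have hf : ∀ i : ZMod 4, orderOf (φ (sr i)) = 2 ∧ orderOf (φ (r 1) * φ (sr i)) = 2 := by
    intro i
    constructor
    · rw [orderOf_injective φ hφ, orderOf_sr]
    · rw [← map_mul, d8_rsr, orderOf_injective φ hφ, orderOf_sr]
  have hbij : Function.Bijective (fun i : ZMod 4 =>
      (⟨φ (sr i), hf i⟩ : {y : G // orderOf y = 2 ∧ orderOf (φ (r 1) * y) = 2})) := by
    constructor
    · intro i j hij
      have h1 : φ (sr i) = φ (sr j) := congrArg Subtype.val hij
      exact d8_sr_inj i j (hφ h1)
    · rintro ⟨y, hy1, hy2⟩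
      obtain ⟨s, hsdef⟩ : ∃ s : G, s = φ (r 1) := ⟨_, rfl⟩
      have hs4 : s ^ 4 = 1 := by
        rw [hsdef, ← map_pow, r_one_pow_n, map_one]
      have hss : s * s = t := by rw [hsdef, ← map_mul, d8_sq, hφ2]
      have hy2' : orderOf (s * y) = 2 := by rw [hsdef]; exact hy2
      have hyy : y * y = 1 := by
        have := pow_orderOf_eq_one y
        rw [hy1, sq] at this
        exact this
      have hsy : s * y * (s * y) = 1 := by
        have := pow_orderOf_eq_one (s * y)
        rw [hy2', sq] at this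
        exact this
      have h1 : y * s * y = s⁻¹ :=
        eq_inv_of_mul_eq_one_right (by rw [← hsy]; simp only [mul_assoc])
      have hys : y * s = s⁻¹ * y := by rw [← h1, mul_assoc, hyy, mul_one]
      have h2 : s⁻¹ * s⁻¹ = s * s := by
        rw [← mul_inv_rev]
        have h4 : s ^ 4 = s * s * (s * s) := by
          rw [show (4 : ℕ) = 2 + 2 from rfl, pow_add, sq]
        exact inv_eq_of_mul_eq_one_right (by rw [← h4]; exact hs4)
      have hyt : y * t = t * y := by
        rw [← hss]
        calc y * (s * s) = (y * s) * s := (mul_assoc _ _ _).symm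
          _ = s⁻¹ * y * s := by rw [hys]
          _ = s⁻¹ * (y * s) := mul_assoc _ _ _
          _ = s⁻¹ * (s⁻¹ * y) := by rw [hys]
          _ = s⁻¹ * s⁻¹ * y := (mul_assoc _ _ _).symm
          _ = s * s * y := by rw [h2]
      obtain ⟨w, hw⟩ := hsurj y hyt
      have hww : w * w = 1 := by
        apply hφ
        rw [map_mul, hw, map_one]
        exact hyy
      have hw1 : w ≠ 1 := by
        intro h
        rw [h, map_one] at hw
        rw [← hw, orderOf_one] at hy1
        norm_num at hy1
      have hrw : (r 1 * w) * (r 1 * w) = 1 := by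
        apply hφ
        rw [map_mul, map_mul, hw, map_one, ← hsdef]
        exact hsy
      obtain ⟨i, hi⟩ := d8_inv w hww hw1 hrw
      refine ⟨i, Subtype.ext ?_⟩
      show φ (sr i) = y
      rw [← hi, hw]
  rw [← Nat.card_congr (Equiv.ofBijective _ hbij), Nat.card_zmod]

theorem d8_not16 {G : Type*} [Group G] [Finite G] (t : G) (ht : orderOf t = 2)
    (φ : DihedralGroup 4 →* G) (hφ : Function.Injective φ)
    (hsurj : ∀ x : G, x * t = t * x → ∃ w, φ w = x) (hcomm : ∀ w, φ w * t = t * φ w)
    (hφ2 : φ (r 2) = t)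
    (hT8 : Nat.card (Subgroup.centralizer ({t} : Set G)) = 8) : ¬ 16 ∣ Nat.card G := by
  intro h16
  haveI : Fact (Nat.Prime 2) := ⟨Nat.prime_two⟩
  obtain ⟨K, hK16, hTK⟩ := Sylow.exists_subgroup_card_pow_succ (p := 2) (n := 3)
    (by simpa using h16) (H := Subgroup.centralizer ({t} : Set G)) (by rw [hT8]; norm_num)
  have hrel : (Subgroup.centralizer ({t} : Set G)).relIndex K = 2 := by
    have h1 := ((Subgroup.centralizer ({t} : Set G)).subgroupOf K).card_mul_index
    rw [Nat.card_congr (Subgroup.subgroupOfEquivOfLe hTK).toEquiv, hT8, hK16] at h1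
    norm_num at h1
    have h2 : ((Subgroup.centralizer ({t} : Set G)).subgroupOf K).index = 2 := by omega
    exact h2
  have hKT : K ≤ Subgroup.centralizer ({t} : Set G) := by
    intro g hg
    rw [Subgroup.mem_centralizer_singleton_iff]
    have htT : t ∈ Subgroup.centralizer ({t} : Set G) :=
      Subgroup.mem_centralizer_singleton_iff.mpr rfl
    have hu := Cfsg.Agent.Lib.Helper9.IndexTwo.conj_mem_of_relIndex_two hrel htT hg hTK
    rw [Subgroup.mem_centralizer_singleton_iff] at hu
    obtain ⟨w, hw⟩ := hsurj _ hu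
    have hwc : ∀ x : DihedralGroup 4, x * w = w * x := by
      intro x
      apply hφ
      rw [map_mul, map_mul, hw]
      have hxT : φ x ∈ Subgroup.centralizer ({t} : Set G) :=
        Subgroup.mem_centralizer_singleton_iff.mpr (hcomm x)
      have hginv : g⁻¹ ∈ K := K.inv_mem hg
      have h2 := Cfsg.Agent.Lib.Helper9.IndexTwo.conj_mem_of_relIndex_two hrel hxT hginv hTK
      rw [Subgroup.mem_centralizer_singleton_iff, inv_inv] at h2
      calc φ x * (g * t * g⁻¹) = g * (g⁻¹ * φ x * g * t) * g⁻¹ := by group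
        _ = g * (t * (g⁻¹ * φ x * g)) * g⁻¹ := by rw [h2]
        _ = g * t * g⁻¹ * φ x := by group
    have hw1 : w ≠ 1 := by
      intro h
      rw [h, map_one] at hw
      have h3 : t = 1 := conj_eq_one_iff.mp hw.symm
      rw [h3, orderOf_one] at ht
      norm_num at ht
    have hw2 := d8_center w hwc hw1
    rw [hw2, hφ2] at hw
    calc g * t = (g * t * g⁻¹) * g := by group
      _ = t * g := by rw [← hw]
  have hle := Subgroup.card_le_of_le hKT
  rw [hK16, hT8] at hle
  norm_num at hle

theorem no_index_two_of_perfect {G : Type*} [Group G] (hperf : commutator G = ⊤)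
    (H : Subgroup G) : H.index ≠ 2 := by
  intro hH
  haveI : H.Normal := Subgroup.normal_of_index_eq_two hH
  haveI : Fact (Nat.Prime 2) := ⟨Nat.prime_two⟩
  have hcard : Nat.card (G ⧸ H) = 2 := by
    rw [← Subgroup.index_eq_card]
    exact hH
  haveI : IsCyclic (G ⧸ H) := isCyclic_of_prime_card hcard
  letI : CommGroup (G ⧸ H) := IsCyclic.commGroup
  have h1 : commutator G ≤ (QuotientGroup.mk' H).ker :=
    Abelianization.commutator_subset_ker (QuotientGroup.mk' H)
  rw [QuotientGroup.ker_mk', hperf] at h1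
  have h2 : H = ⊤ := top_le_iff.mp h1
  rw [h2, Subgroup.index_top] at hH
  norm_num at hH

end Cfsg.Agent.Lib.Helper2.D8C
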