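import Mathlib
import Cfsg.Prelude.Def_Characters
import Cfsg.Agent.Lib.Helper2.MGroup
import Cfsg.Agent.Lib.Helper7.Gallagher

/-!
# Artin's induction theorem (helper2 library)
-/

set_option autoImplicit false

universe u

namespace Cfsg.Agent.Lib.Helper2

open scoped ComplexConjugate

namespace Artin

section LinSpan

variable (A : Type*) [Group A]

/-- the `ℤ`-span of the linear characters of `A` -/
def LinSpan : AddSubgroup (A → ℂ) :=
  AddSubgroup.closure {f | ∃ lam : A →* ℂˣ, f = fun a => (lam a : ℂ)}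

variable {A}

theorem monoidHom_mem_linSpan (lam : A →* ℂˣ) : (fun a => (lam a : ℂ)) ∈ LinSpan A :=
  AddSubgroup.subset_closure ⟨lam, rfl⟩

/-- `LinSpan` is closed under pointwise multiplication -/
theorem mul_mem_linSpan {f g : A → ℂ} (hf : f ∈ LinSpan A) (hg : g ∈ LinSpan A) :
    f * g ∈ LinSpan A := by
  unfold LinSpan at hf
  induction hf using AddSubgroup.closure_induction with
  | mem f hf =>
    obtain ⟨lam, rfl⟩ := hf
    unfold LinSpan at hg
    induction hg using AddSubgroup.closure_induction with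
    | mem g hg =>
      obtain ⟨mu, rfl⟩ := hg
      have : ((fun a => (lam a : ℂ)) * fun a => (mu a : ℂ)) = fun a => ((lam * mu) a : ℂ) := by
        funext a; simp
      rw [this]
      exact monoidHom_mem_linSpan (lam * mu)
    | zero => rw [mul_zero]; exact zero_mem _
    | add g₁ g₂ _ _ h₁ h₂ => rw [mul_add]; exact add_mem h₁ h₂
    | neg g _ h => rw [mul_neg]; exact neg_mem h
  | zero => rw [zero_mul]; exact zero_mem _
  | add f₁ f₂ _ _ h₁ h₂ => rw [add_mul]; exact add_mem h₁ h₂
  | neg f _ h => rw [neg_mul]; exact neg_mem h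

/-- characters of a finite abelian group lie in `LinSpan` -/
theorem isCharacter_mem_linSpan [Finite A] (hab : ∀ a b : A, a * b = b * a) {χ : A → ℂ}
    (hχ : Cfsg.IsCharacter A χ) : χ ∈ LinSpan A := by
  obtain ⟨m, rfl⟩ := IsCharacter.exists_multiset_irr hχ
  apply AddSubgroup.multiset_sum_mem
  intro f hf
  rw [Multiset.mem_map] at hf
  obtain ⟨ψ, _, rfl⟩ := hf
  have h1 := IsIrrCharacter.apply_one_of_comm hab ψ.2
  obtain ⟨φ, hφ⟩ := exists_monoidHom_of_isIrrCharacter_of_apply_one ψ.2 h1
  rw [hφ]
  exact monoidHom_mem_linSpan φ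

end LinSpan

end Artin

end Cfsg.Agent.Lib.Helper2

namespace Cfsg.Agent.Lib.Helper2

open scoped ComplexConjugate

namespace Artin

section Gen

/-- `|A|` on the generators of `A`, zero elsewhere -/
noncomputable def gen (A : Type*) [Group A] : A → ℂ := fun a =>
  haveI := Classical.propDecidable (Subgroup.zpowers a = ⊤)
  if Subgroup.zpowers a = ⊤ then (Nat.card A : ℂ) else 0

variable {G : Type*} [Group G]

theorem zpowers_eq_top_iff (B : Subgroup G) (b : B) :
    Subgroup.zpowers b = ⊤ ↔ Subgroup.zpowers (b : G) = B := by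
  have h1 : (Subgroup.zpowers b).map B.subtype = Subgroup.zpowers (b : G) := by
    rw [MonoidHom.map_zpowers]; rfl
  have h2 : (⊤ : Subgroup B).map B.subtype = B := by
    rw [← MonoidHom.range_eq_map, Subgroup.range_subtype]
  constructor
  · intro h
    rw [← h1, h, h2]
  · intro h
    apply Subgroup.map_injective B.subtype_injective
    rw [h1, h2, h]

theorem extendByZero_gen (B : Subgroup G) (y : G) [Decidable (Subgroup.zpowers y = B)] :
    Cfsg.extendByZero B (gen B) y = if Subgroup.zpowers y = B then (Nat.card B : ℂ) else 0 := by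
  by_cases hy : y ∈ B
  · rw [extendByZero_of_mem _ _ hy]
    unfold gen
    by_cases h : Subgroup.zpowers y = B
    · rw [if_pos h, if_pos ((zpowers_eq_top_iff B ⟨y, hy⟩).mpr h)]
    · rw [if_neg h, if_neg (fun h' => h ((zpowers_eq_top_iff B ⟨y, hy⟩).mp h'))]
  · rw [extendByZero_of_not_mem _ _ hy, if_neg]
    intro h
    apply hy
    rw [← h]
    exact Subgroup.mem_zpowers y

variable [Fintype G]

theorem indFun_gen_apply [DecidableEq (Subgroup G)] (B : Subgroup G) (g : G) :
    Cfsg.indFun B (gen B) g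
      = ∑ x : G, if Subgroup.zpowers (x⁻¹ * g * x) = B then (1 : ℂ) else 0 := by
  rw [indFun_apply, Finset.mul_sum]
  apply Finset.sum_congr rfl
  intro x _
  rw [extendByZero_gen]
  have hB : (Nat.card B : ℂ) ≠ 0 := by
    have : 0 < Nat.card B := Nat.card_pos
    exact_mod_cast this.ne'
  split_ifs
  · rw [inv_mul_cancel₀ hB]
  · rw [mul_zero]

/-- `Σ_B Ind_B^G(gen B) = |G|` -/
theorem sum_indFun_gen [Fintype (Subgroup G)] (g : G) :
    ∑ B : Subgroup G, Cfsg.indFun B (gen B) g = (Nat.card G : ℂ) := by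
  classical
  simp only [indFun_gen_apply]
  rw [Finset.sum_comm]
  simp only [Finset.sum_ite_eq, Finset.mem_univ, if_true]
  rw [Finset.sum_const, Finset.card_univ, nsmul_eq_mul, mul_one, Nat.card_eq_fintype_card]

end Gen

end Artin

end Cfsg.Agent.Lib.Helper2

namespace Cfsg.Agent.Lib.Helper2

open scoped ComplexConjugate

namespace Artin

section Cyclic

/-- induction maps `LinSpan B` into `LinSpan A` for abelian `A` -/
theorem indFun_mem_linSpan {A : Type*} [Group A] [Fintype A] (hab : ∀ a b : A, a * b = b * a)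
    (B : Subgroup A) {f : B → ℂ} (hf : f ∈ LinSpan B) : Cfsg.indFun B f ∈ LinSpan A := by
  unfold LinSpan at hf
  induction hf using AddSubgroup.closure_induction with
  | mem f hf =>
    obtain ⟨lam, rfl⟩ := hf
    apply isCharacter_mem_linSpan hab
    exact indFun_isCharacter B _ (IsIrrCharacter.isCharacter (isIrrCharacter_of_monoidHom lam))
  | zero => rw [Cfsg.Agent.Lib.Helper11.indFun_zero]; exact zero_mem _
  | add f₁ f₂ _ _ h₁ h₂ => rw [Cfsg.Agent.Lib.Helper11.indFun_add]; exact add_mem h₁ h₂
  | neg f _ h =>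
    have : -f = (-1 : ℂ) • f := by simp
    rw [this, Cfsg.Agent.Lib.Helper11.indFun_smul]
    have : (-1 : ℂ) • Cfsg.indFun B f = -Cfsg.indFun B f := by simp
    rw [this]; exact neg_mem h

theorem gen_top {A : Type*} [Group A] :
    gen (⊤ : Subgroup A) = fun h : (⊤ : Subgroup A) => gen A (h : A) := by
  funext h
  unfold gen
  have hiff := zpowers_eq_top_iff (⊤ : Subgroup A) h
  by_cases hc : Subgroup.zpowers (h : A) = ⊤
  · rw [if_pos (hiff.mpr hc), if_pos hc, Subgroup.card_top]
  · rw [if_neg (fun h' => hc (hiff.mp h')), if_neg hc]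

/-- for cyclic `A`, `gen A` is a `ℤ`-combination of linear characters -/
theorem gen_mem_linSpan : ∀ (n : ℕ) (A : Type u) [Group A] [Fintype A] [IsCyclic A],
    Fintype.card A = n → gen A ∈ LinSpan A := by
  intro n
  induction n using Nat.strong_induction_on with
  | _ n ih =>
  intro A _ _ _ hcard
  classical
  haveI : Fintype (Subgroup A) := Fintype.ofFinite _
  have hab : ∀ a b : A, a * b = b * a := fun a b => (IsCyclic.commGroup (α := A)).mul_comm a b
  have hcf : Cfsg.IsClassFunction A (gen A) := by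
    intro g h
    have : h * g * h⁻¹ = g := by rw [hab h g]; group
    rw [this]
  have hsum : ∑ B : Subgroup A, Cfsg.indFun B (gen B) = fun _ => (Nat.card A : ℂ) := by
    funext a
    rw [Finset.sum_apply]
    exact sum_indFun_gen a
  rw [← Finset.add_sum_erase Finset.univ (fun B : Subgroup A => Cfsg.indFun B (gen B))
    (Finset.mem_univ (⊤ : Subgroup A)), gen_top, MGroup.indFun_top hcf] at hsum
  have hgen : gen A = (fun _ => (Nat.card A : ℂ))
      - ∑ B ∈ Finset.univ.erase (⊤ : Subgroup A), Cfsg.indFun B (gen B) := by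
    rw [← hsum]; simp
  rw [hgen]
  apply sub_mem
  · have h1 : (fun _ : A => (Nat.card A : ℂ)) = Nat.card A • fun a => ((1 : A →* ℂˣ) a : ℂ) := by
      funext a; simp
    rw [h1]
    exact nsmul_mem (monoidHom_mem_linSpan 1) _
  · apply sum_mem
    intro B hB
    have hBtop : B ≠ ⊤ := Finset.ne_of_mem_erase hB
    haveI : Fintype B := Fintype.ofFinite B
    have hlt : Fintype.card B < n := by
      rw [← hcard, ← Nat.card_eq_fintype_card, ← Nat.card_eq_fintype_card]
      apply lt_of_le_of_ne (Subgroup.card_le_card_group B)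
      intro h
      exact hBtop ((Subgroup.card_eq_iff_eq_top B).mp h)
    exact indFun_mem_linSpan hab B (ih _ hlt B rfl)

end Cyclic

end Artin

end Cfsg.Agent.Lib.Helper2

namespace Cfsg.Agent.Lib.Helper2

open scoped ComplexConjugate

namespace Artin

section Main

variable {G : Type u} [Group G] [Fintype G]

/-- `ℤ`-combinations of functions induced from linear characters of cyclic subgroups -/
def ArtinSpan (G : Type u) [Group G] [Fintype G] : AddSubgroup (G → ℂ) where
  carrier := {f | ∃ l : List ((A : Subgroup G) × ((A →* ℂˣ) × ℤ)), (∀ t ∈ l, IsCyclic t.1) ∧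
    f = (l.map fun t => (t.2.2 : ℂ) • Cfsg.indFun t.1 (fun a => (t.2.1 a : ℂ))).sum}
  zero_mem' := ⟨[], by simp, by simp⟩
  add_mem' := by
    rintro f g ⟨l₁, h₁, rfl⟩ ⟨l₂, h₂, rfl⟩
    refine ⟨l₁ ++ l₂, ?_, by rw [List.map_append, List.sum_append]⟩
    intro t ht
    rcases List.mem_append.mp ht with h | h
    · exact h₁ t h
    · exact h₂ t h
  neg_mem' := by
    rintro f ⟨l, h, rfl⟩
    refine ⟨l.map (fun t => ⟨t.1, (t.2.1, -t.2.2)⟩), ?_, ?_⟩
    · intro t ht
      obtain ⟨s, hs, rfl⟩ := List.mem_map.mp ht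
      exact h s hs
    · rw [List.map_map]
      clear h
      induction l with
      | nil => simp
      | cons a l ih =>
        rw [List.map_cons, List.sum_cons, List.map_cons, List.sum_cons, neg_add, ih]
        congr 1
        simp

theorem mem_artinSpan_iff {f : G → ℂ} : f ∈ ArtinSpan G ↔
    ∃ l : List ((A : Subgroup G) × ((A →* ℂˣ) × ℤ)), (∀ t ∈ l, IsCyclic t.1) ∧
      f = (l.map fun t => (t.2.2 : ℂ) • Cfsg.indFun t.1 (fun a => (t.2.1 a : ℂ))).sum := Iff.rfl

theorem indFun_mem_artinSpan (A : Subgroup G) (hA : IsCyclic A) {f : A → ℂ}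
    (hf : f ∈ LinSpan A) : Cfsg.indFun A f ∈ ArtinSpan G := by
  unfold LinSpan at hf
  induction hf using AddSubgroup.closure_induction with
  | mem f hf =>
    obtain ⟨lam, rfl⟩ := hf
    refine ⟨[⟨A, (lam, 1)⟩], ?_, ?_⟩
    · intro t ht
      rw [List.mem_singleton] at ht
      rw [ht]; exact hA
    · simp
  | zero => rw [Cfsg.Agent.Lib.Helper11.indFun_zero]; exact zero_mem _
  | add f₁ f₂ _ _ h₁ h₂ => rw [Cfsg.Agent.Lib.Helper11.indFun_add]; exact add_mem h₁ h₂
  | neg f _ h =>
    have : -f = (-1 : ℂ) • f := by simp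
    rw [this, Cfsg.Agent.Lib.Helper11.indFun_smul]
    have : (-1 : ℂ) • Cfsg.indFun A f = -Cfsg.indFun A f := by simp
    rw [this]; exact neg_mem h

/-- **Artin's induction theorem** -/
theorem card_smul_mem_artinSpan (χ : G → ℂ) (hχ : Cfsg.IsCharacter G χ) :
    (Nat.card G : ℂ) • χ ∈ ArtinSpan G := by
  classical
  haveI : Fintype (Subgroup G) := Fintype.ofFinite _
  have hχcf : Cfsg.IsClassFunction G χ := IsCharacter.isClassFunction hχ
  have hsum : (Nat.card G : ℂ) • χ
      = ∑ B : Subgroup G, Cfsg.indFun B (gen B * fun b : B => χ b) := by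
    funext g
    rw [Finset.sum_apply, Pi.smul_apply, smul_eq_mul, ← sum_indFun_gen g, Finset.sum_mul]
    apply Finset.sum_congr rfl
    intro B _
    rw [Cfsg.Agent.Lib.Helper7.indFun_mul_restrict B (gen B) χ hχcf, Pi.mul_apply]
  rw [hsum]
  apply sum_mem
  intro B _
  by_cases hB : IsCyclic B
  · haveI := hB
    haveI : Fintype B := Fintype.ofFinite B
    apply indFun_mem_artinSpan B hB
    apply mul_mem_linSpan
    · exact gen_mem_linSpan (Fintype.card B) B rfl
    · exact isCharacter_mem_linSpan
        (fun a b => (IsCyclic.commGroup (α := B)).mul_comm a b) (IsCharacter.restrict hχ B)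
  · have h0 : gen B = 0 := by
      funext b
      unfold gen
      rw [if_neg]
      · rfl
      · intro h
        apply hB
        exact ⟨⟨b, fun x => by
          have hx : x ∈ Subgroup.zpowers b := by rw [h]; trivial
          exact hx⟩⟩
    rw [h0, zero_mul, Cfsg.Agent.Lib.Helper11.indFun_zero]
    exact zero_mem _

end Main

end Artin

end Cfsg.Agent.Lib.Helper2
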