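import Mathlib
import Cfsg.Agent.Lib.Helper1.MaxClassLcs

/-!
# A commutative group acting on `E_{p²}` with determinant one (helper2)

Abstract lemma for row S1383 (B & G, Theorem 15.2 (e)): if a commutative group `K` of odd order acts
semiregularly on a noncyclic group `V` of order `p ^ 2` and every element of `K` acting as a scalar
`n` satisfies `n ^ 2 ≡ 1 [MOD p]`, then `|K|` divides `p - 1` or `p + 1`.
-/

set_option autoImplicit false
set_option linter.unusedSectionVars false
set_option linter.unusedVariables false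

namespace Cfsg.Agent.Lib.Helper2.BG1383

open scoped Pointwise

/-- a free action of a finite group on a finite set: the order of the group divides the size of the
set. -/
theorem card_dvd_of_free {K X : Type*} [Group K] [Finite K] [MulAction K X] [Finite X]
    (h : ∀ k : K, k ≠ 1 → ∀ x : X, k • x ≠ x) : Nat.card K ∣ Nat.card X := by
  classical
  have : Fintype K := Fintype.ofFinite K
  have : Fintype X := Fintype.ofFinite X
  have h1 := MulAction.sum_card_fixedBy_eq_card_orbits_mul_card_group K X
  have h2 : ∑ a : K, Fintype.card ↑(MulAction.fixedBy X a) = Fintype.card X := by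
    rw [Finset.sum_eq_single (1 : K)]
    · have : MulAction.fixedBy X (1 : K) = Set.univ := by
        ext x; simp
      simp [this]
    · intro k _ hk
      rw [Fintype.card_eq_zero_iff]
      constructor
      rintro ⟨x, hx⟩
      exact h k hk x hx
    · intro h0
      exact absurd (Finset.mem_univ _) h0
  rw [h2] at h1
  rw [Nat.card_eq_fintype_card, Nat.card_eq_fintype_card, h1]
  exact dvd_mul_left _ _

section main

variable {V K : Type*} [Group V] [Finite V] [Group K] [Finite K] [MulDistribMulAction K V]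

/-- the action of `K` on the subgroups of order `p` of `V`. -/
@[instance_reducible] noncomputable def lineAction (p : ℕ) : MulAction K {L : Subgroup V // Nat.card L = p} where
  smul k L := ⟨k • L.1, by
    rw [← Nat.card_congr (Subgroup.equivSMul k L.1).toEquiv]; exact L.2⟩
  one_smul L := Subtype.ext (one_smul K L.1)
  mul_smul a b L := Subtype.ext (mul_smul a b L.1)

theorem lineAction_coe (p : ℕ) (k : K) (L : {L : Subgroup V // Nat.card L = p}) :
    ((letI := lineAction (V := V) (K := K) p; k • L : {L : Subgroup V // Nat.card L = p}) :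
      Subgroup V) = k • L.1 := rfl

/-- the eigen-subgroup `{w | k • w = w ^ n}` of a commutative group. -/
def eigen (hV : ∀ a b : V, a * b = b * a) (k : K) (n : ℕ) : Subgroup V where
  carrier := {w | k • w = w ^ n}
  one_mem' := by simp
  mul_mem' := by
    intro a b ha hb
    simp only [Set.mem_ofPred_eq] at ha hb ⊢
    rw [smul_mul', ha, hb, (show Commute a b from hV a b).mul_pow]
  inv_mem' := by
    intro a ha
    simp only [Set.mem_ofPred_eq] at ha ⊢
    rw [smul_inv', ha, inv_pow]

theorem mem_eigen (hV : ∀ a b : V, a * b = b * a) (k : K) (n : ℕ) (w : V) :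
    w ∈ eigen hV k n ↔ k • w = w ^ n := Iff.rfl

theorem card_dvd_pred_or_succ {p : ℕ} [Fact p.Prime] (hV : Nat.card V = p ^ 2)
    (hnc : ¬ IsCyclic V) (hcomm : ∀ a b : K, a * b = b * a) (hodd : Odd (Nat.card K))
    (hfree : ∀ k : K, k ≠ 1 → ∀ v : V, k • v = v → v = 1)
    (hscal : ∀ (k : K) (n : ℕ), k ≠ 1 → (∀ v : V, k • v = v ^ n) → n ^ 2 ≡ 1 [MOD p]) :
    Nat.card K ∣ p - 1 ∨ Nat.card K ∣ p + 1 := by
  classical
  have hpp : p.Prime := Fact.out
  have hVc : ∀ a b : V, a * b = b * a := fun a b => (IsPGroup.isMulCommutative_of_card_eq_prime_sq hV).is_comm.comm a b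
  -- every element of `V` has order dividing `p`
  have hexp : ∀ v : V, v ^ p = 1 := by
    intro v
    have h1 : orderOf v ∣ p ^ 2 := hV ▸ orderOf_dvd_natCard v
    obtain ⟨m, hm, hm'⟩ := (Nat.dvd_prime_pow hpp).mp h1
    interval_cases m
    · rw [pow_zero] at hm'
      rw [orderOf_eq_one_iff.mp hm', one_pow]
    · rw [pow_one] at hm'
      rw [← hm']; exact pow_orderOf_eq_one v
    · exfalso
      apply hnc
      exact isCyclic_of_orderOf_eq_card v (by rw [hm', hV])
  -- a nonidentity element of `V`
  obtain ⟨v₀, hv₀⟩ : ∃ v₀ : V, v₀ ≠ 1 := by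
    by_contra hcon
    push Not at hcon
    apply hnc
    haveI : Subsingleton V := ⟨fun a b => by rw [hcon a, hcon b]⟩
    infer_instance
  -- no nonidentity element of `K` is scalar
  have hns : ∀ (k : K) (n : ℕ), (∀ v : V, k • v = v ^ n) → k = 1 := by
    intro k n hk
    by_contra hk1
    have h1 := hscal k n hk1 hk
    have hn0 : n ≠ 0 := by
      rintro rfl
      have h2 : (0 : ℕ) ^ 2 ≡ 1 [MOD p] := h1
      have h3 := (Nat.modEq_iff_dvd' (by norm_num : (0:ℕ) ^ 2 ≤ 1)).mp h2
      simp at h3
      exact hpp.one_lt.ne' h3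
    have h2 : p ∣ n ^ 2 - 1 := (Nat.modEq_iff_dvd' (Nat.one_le_pow _ _ (Nat.pos_of_ne_zero hn0))).mp h1.symm
    have h3 : n ^ 2 - 1 = (n - 1) * (n + 1) := by
      obtain ⟨m, rfl⟩ := Nat.exists_eq_succ_of_ne_zero hn0
      simp only [Nat.succ_eq_add_one, Nat.add_sub_cancel]
      have : (m + 1) ^ 2 = m * (m + 1 + 1) + 1 := by ring
      rw [this, Nat.add_sub_cancel]
    rw [h3] at h2
    rcases (Nat.Prime.dvd_mul hpp).mp h2 with h4 | h4
    · -- `n ≡ 1`
      have h5 : ∀ v : V, k • v = v := by
        intro v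
        rw [hk v]
        obtain ⟨t, ht⟩ := h4
        have h6 : n = 1 + p * t := by omega
        rw [h6, pow_add, pow_one, pow_mul, hexp, one_pow, mul_one]
      exact hv₀ (hfree k hk1 v₀ (h5 v₀))
    · -- `n ≡ -1`
      have h5 : ∀ v : V, k • v = v⁻¹ := by
        intro v
        rw [hk v]
        obtain ⟨t, ht⟩ := h4
        have h6 : v ^ (n + 1) = 1 := by rw [ht, pow_mul, hexp, one_pow]
        rw [pow_succ] at h6
        exact eq_inv_of_mul_eq_one_left h6
      have h6 : ∀ v : V, (k * k) • v = v := by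
        intro v
        rw [mul_smul, h5 v, smul_inv', h5 v, inv_inv]
      have h7 : k * k = 1 := by
        by_contra h8
        exact hv₀ (hfree (k * k) h8 v₀ (h6 v₀))
      have h8 : orderOf k ∣ 2 := orderOf_dvd_of_pow_eq_one (by rw [pow_two]; exact h7)
      have h9 : orderOf k ∣ Nat.card K := orderOf_dvd_natCard k
      have h10 : orderOf k = 1 := by
        rcases (Nat.dvd_prime Nat.prime_two).mp h8 with h | h
        · exact h
        · exfalso
          rw [h] at h9
          exact (Nat.not_even_iff_odd.mpr hodd) (even_iff_two_dvd.mpr h9)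
      exact hk1 (orderOf_eq_one_iff.mp h10)
  letI := lineAction (V := V) (K := K) p
  by_cases hfix : ∃ k : K, k ≠ 1 ∧ ∃ L : {L : Subgroup V // Nat.card L = p}, k • L = L
  · left
    obtain ⟨k, hk1, L, hL⟩ := hfix
    have hL' : k • L.1 = L.1 := congrArg Subtype.val hL
    -- a generator of `L`
    have hLne : L.1 ≠ ⊥ := by
      intro h
      have := L.2
      rw [h, Subgroup.card_bot] at this
      exact hpp.one_lt.ne this
    obtain ⟨⟨v, hvL⟩, hv1'⟩ := Subgroup.ne_bot_iff_exists_ne_one.mp hLne
    have hv1 : v ≠ 1 := fun h => hv1' (Subtype.ext h)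
    have hov : orderOf v = p := orderOf_eq_prime (hexp v) hv1
    have hLz : Subgroup.zpowers v = L.1 := by
      apply Subgroup.eq_of_le_of_card_ge (Subgroup.zpowers_le.mpr hvL)
      rw [Nat.card_zpowers, hov, L.2]
    have hkv : k • v ∈ L.1 := by
      rw [← hL']; exact Subgroup.smul_mem_pointwise_smul v k L.1 hvL
    rw [← hLz] at hkv
    obtain ⟨n, hn⟩ : ∃ n : ℕ, v ^ n = k • v := by
      have h1 := (mem_powers_iff_mem_zpowers (x := v)).mpr hkv
      exact (Submonoid.mem_powers_iff _ _).mp h1
    obtain ⟨E, hE⟩ : ∃ E : Subgroup V, E = eigen hVc k n := ⟨_, rfl⟩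
    have hmemE : ∀ w : V, w ∈ E ↔ k • w = w ^ n := fun w => by rw [hE]; exact Iff.rfl
    have hvE : v ∈ E := (hmemE v).mpr hn.symm
    have hLE : L.1 ≤ E := by rw [← hLz]; exact Subgroup.zpowers_le.mpr hvE
    have hEtop : E ≠ ⊤ := by
      intro h
      apply hk1
      apply hns k n
      intro w
      have : w ∈ E := by rw [h]; trivial
      exact (hmemE w).mp this
    have hEcard : Nat.card E = p := by
      have h1 : Nat.card E ∣ p ^ 2 := hV ▸ Subgroup.card_subgroup_dvd_card E
      obtain ⟨m, hm, hm'⟩ := (Nat.dvd_prime_pow hpp).mp h1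
      have h2 : p ≤ Nat.card E := by rw [← L.2]; exact Subgroup.card_le_of_le hLE
      interval_cases m
      · rw [pow_zero] at hm'
        have := hpp.one_lt
        omega
      · rw [hm', pow_one]
      · exfalso
        apply hEtop
        rw [← Subgroup.card_eq_iff_eq_top, hm', hV]
    have hEinv : ∀ (g : K) (w : V), w ∈ E → g • w ∈ E := by
      intro g w hw
      rw [hmemE] at hw ⊢
      rw [← mul_smul, hcomm k g, mul_smul, hw, smul_pow']
    have hne1 : ∀ (g : K) (w : V), w ≠ 1 → g • w ≠ 1 := by
      intro g w hw h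
      apply hw
      have h1 : g⁻¹ • (g • w) = g⁻¹ • (1 : V) := by rw [h]
      rwa [inv_smul_smul, smul_one] at h1
    letI : MulAction K {w : V // w ∈ E ∧ w ≠ 1} :=
      { smul := fun g w => ⟨g • w.1, hEinv g w.1 w.2.1, hne1 g w.1 w.2.2⟩
        one_smul := fun w => Subtype.ext (one_smul K w.1)
        mul_smul := fun a b w => Subtype.ext (mul_smul a b w.1) }
    have hfreeY : ∀ g : K, g ≠ 1 → ∀ y : {w : V // w ∈ E ∧ w ≠ 1}, g • y ≠ y := by
      intro g hg y h
      exact y.2.2 (hfree g hg y.1 (congrArg Subtype.val h))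
    have h1 := card_dvd_of_free hfreeY
    have hYcard : Nat.card {w : V // w ∈ E ∧ w ≠ 1} = p - 1 := by
      have e : {w : V // w ∈ E ∧ w ≠ 1} ≃ {y : E // y ≠ 1} :=
        ⟨fun x => ⟨⟨x.1, x.2.1⟩, fun h => x.2.2 (congrArg Subtype.val h)⟩,
          fun y => ⟨y.1.1, y.1.2, fun h => y.2 (Subtype.ext h)⟩, fun x => rfl, fun y => rfl⟩
      rw [Nat.card_congr e]
      have : Fintype E := Fintype.ofFinite _
      rw [Nat.card_eq_fintype_card, Fintype.card_subtype_compl, Fintype.card_subtype_eq,
        ← Nat.card_eq_fintype_card, hEcard]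
    rwa [hYcard] at h1
  · right
    push Not at hfix
    have h1 := card_dvd_of_free (K := K) (X := {L : Subgroup V // Nat.card L = p})
      (fun k hk L => hfix k hk L)
    rwa [Cfsg.Agent.Lib.Helper1.MaxClassLcs.card_subgroups_of_order_p hV hnc] at h1

end main

end Cfsg.Agent.Lib.Helper2.BG1383
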