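import Mathlib
import Cfsg.Agent.Lib.Helper2.BG1383A
import Cfsg.Agent.Lib.Helper9.CompAct7
import Cfsg.Agent.Lib.Helper27.OrderPCube

/-!
# A commutative `p'`-group of odd order acting on a nonabelian group of order `p³` (helper2)

If `K` normalizes the nonabelian group `P` of order `p ^ 3`, `K` is commutative of odd order prime
to `p`, and `C_P(k) = Z(P)` for every nonidentity `k ∈ K`, then `|K|` divides `p - 1` or `p + 1`.
-/

set_option autoImplicit false
set_option linter.unusedSectionVars false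
set_option linter.unusedVariables false

namespace Cfsg.Agent.Lib.Helper2.BG1383

open Cfsg.Agent.Lib.Helper9.CompAct (conjQ conjQ_mk)

section calcs

variable {G : Type*} [Group G]

theorem pow_mul_of_comm {a b c : G} (h : a * b = c * b * a) (hca : Commute c a) (n : ℕ) :
    a ^ n * b = c ^ n * b * a ^ n := by
  induction n with
  | zero => simp
  | succ n ih =>
    have h1 : Commute c (a ^ n) := hca.pow_right n
    calc a ^ (n + 1) * b = a ^ n * (a * b) := by rw [pow_succ]; group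
      _ = a ^ n * (c * b * a) := by rw [h]
      _ = (a ^ n * c) * b * a := by group
      _ = (c * a ^ n) * b * a := by rw [h1.eq]
      _ = c * (a ^ n * b) * a := by group
      _ = c * (c ^ n * b * a ^ n) * a := by rw [ih]
      _ = c ^ (n + 1) * b * a ^ (n + 1) := by rw [pow_succ' c, pow_succ a]; group

theorem mul_pow_of_comm {a b d : G} (h : a * b = d * b * a) (hdb : Commute d b) (m : ℕ) :
    a * b ^ m = d ^ m * b ^ m * a := by
  induction m with
  | zero => simp
  | succ m ih =>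
    have h1 : Commute d (b ^ m) := hdb.pow_right m
    calc a * b ^ (m + 1) = (a * b ^ m) * b := by rw [pow_succ]; group
      _ = (d ^ m * b ^ m * a) * b := by rw [ih]
      _ = d ^ m * b ^ m * (a * b) := by group
      _ = d ^ m * b ^ m * (d * b * a) := by rw [h]
      _ = d ^ m * (b ^ m * d) * b * a := by group
      _ = d ^ m * (d * b ^ m) * b * a := by rw [h1.eq]
      _ = d ^ (m + 1) * b ^ (m + 1) * a := by rw [pow_succ d, pow_succ b]; group

theorem pow_mul_pow_of_comm {a b c : G} (h : a * b = c * b * a) (hca : Commute c a)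
    (hcb : Commute c b) (n m : ℕ) : a ^ n * b ^ m = c ^ (n * m) * b ^ m * a ^ n := by
  have h1 := pow_mul_of_comm h hca n
  have h2 := mul_pow_of_comm h1 (hcb.pow_left n) m
  rw [h2, pow_mul]

theorem conj_pow_eq {k l z : G} (h : k * l * k⁻¹ = l * z) (hkz : Commute k z) (j : ℕ) :
    k ^ j * l * (k ^ j)⁻¹ = l * z ^ j := by
  induction j with
  | zero => simp
  | succ j ih =>
    have h1 : Commute k (z ^ j) := hkz.pow_right j
    have h2 : k * z ^ j * k⁻¹ = z ^ j := by rw [h1.eq]; group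
    calc k ^ (j + 1) * l * (k ^ (j + 1))⁻¹ = k * (k ^ j * l * (k ^ j)⁻¹) * k⁻¹ := by
          rw [pow_succ']; group
      _ = k * (l * z ^ j) * k⁻¹ := by rw [ih]
      _ = (k * l * k⁻¹) * (k * z ^ j * k⁻¹) := by group
      _ = l * z * z ^ j := by rw [h, h2]
      _ = l * z ^ (j + 1) := by rw [pow_succ' z]; group

end calcs

variable {G : Type*} [Group G] [Finite G]

theorem card_dvd_of_cube {p : ℕ} [Fact p.Prime] {P K : Subgroup G}
    (hPc : Nat.card P = p ^ 3) (hPna : ¬ ∀ a ∈ P, ∀ b ∈ P, a * b = b * a)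
    (hKP : K ≤ Subgroup.normalizer (P : Set G)) (hKc : ∀ a ∈ K, ∀ b ∈ K, a * b = b * a)
    (hKodd : Odd (Nat.card K)) (hKp : (Nat.card K).Coprime p)
    (hreg : ∀ k ∈ K, k ≠ 1 → ∀ a ∈ P, (k * a = a * k ↔ ∀ b ∈ P, a * b = b * a)) :
    Nat.card K ∣ p - 1 ∨ Nat.card K ∣ p + 1 := by
  classical
  have hpp : p.Prime := Fact.out
  letI : MulDistribMulAction ↥K (↥P ⧸ Subgroup.center ↥P) :=
    MulDistribMulAction.compHom _ (conjQ P K hKP)
  have hsmul : ∀ (k : ↥K) (l : ↥P),
      k • (QuotientGroup.mk l : ↥P ⧸ Subgroup.center ↥P) =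
        QuotientGroup.mk ⟨(k : G) * l * (k : G)⁻¹,
          (Subgroup.mem_normalizer_iff.mp (hKP k.2) l).mp l.2⟩ :=
    fun k l => conjQ_mk P K hKP k l
  have hnaP : ¬ ∀ x y : ↥P, x * y = y * x := by
    intro h
    apply hPna
    intro a ha b hb
    exact congrArg Subtype.val (h ⟨a, ha⟩ ⟨b, hb⟩)
  have hZc : Nat.card (Subgroup.center ↥P) = p :=
    Cfsg.Agent.Lib.Helper27.card_center_of_cube hPc hnaP
  have hVcard : Nat.card (↥P ⧸ Subgroup.center ↥P) = p ^ 2 := by
    have h1 := Subgroup.card_eq_card_quotient_mul_card_subgroup (Subgroup.center ↥P)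
    rw [hPc, hZc] at h1
    have h2 : Nat.card (↥P ⧸ Subgroup.center ↥P) * p = p ^ 2 * p := by rw [← h1]; ring
    exact Nat.eq_of_mul_eq_mul_right hpp.pos h2
  have hnc : ¬ IsCyclic (↥P ⧸ Subgroup.center ↥P) := by
    intro hcyc
    apply hnaP
    intro x y
    exact (MonoidHom.isMulCommutative_of_isCyclic_of_ker_le_center
      (QuotientGroup.mk' (Subgroup.center ↥P)) (by rw [QuotientGroup.ker_mk'])).is_comm.comm x y
  have hVcomm : ∀ u v : ↥P ⧸ Subgroup.center ↥P, u * v = v * u := fun u v =>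
    (IsPGroup.isMulCommutative_of_card_eq_prime_sq hVcard).is_comm.comm u v
  -- central elements
  have hcen : ∀ z : ↥P, z ∈ Subgroup.center ↥P ↔ ∀ b ∈ P, (z : G) * b = b * (z : G) := by
    intro z
    rw [Subgroup.mem_center_iff]
    constructor
    · intro h b hb
      exact (congrArg Subtype.val (h ⟨b, hb⟩)).symm
    · intro h b
      exact Subtype.ext (h b b.2).symm
  have hcenpow : ∀ z : ↥P, z ∈ Subgroup.center ↥P → (z : G) ^ p = 1 := by
    intro z hz
    have h1 : (⟨z, hz⟩ : Subgroup.center ↥P) ^ Nat.card (Subgroup.center ↥P) = 1 :=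
      pow_card_eq_one'
    rw [hZc] at h1
    have h2 := congrArg (fun w : Subgroup.center ↥P => ((w : ↥P) : G)) h1
    simpa using h2
  have hcoe_ne : ∀ k : ↥K, k ≠ 1 → (k : G) ≠ 1 := fun k hk h => hk (Subtype.ext h)
  apply card_dvd_pred_or_succ (V := ↥P ⧸ Subgroup.center ↥P) (K := ↥K) hVcard hnc
    (fun a b => Subtype.ext (hKc a a.2 b b.2)) hKodd
  · -- semiregular
    intro k hk1 v hv
    induction v using QuotientGroup.induction_on with
    | H l =>
      rw [hsmul] at hv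
      have h1 := (QuotientGroup.eq (s := Subgroup.center ↥P)).mp hv.symm
      set z : G := (l : G)⁻¹ * ((k : G) * l * (k : G)⁻¹) with hz
      have hzP : z ∈ P := P.mul_mem (P.inv_mem l.2)
        ((Subgroup.mem_normalizer_iff.mp (hKP k.2) l).mp l.2)
      have hzc : ∀ b ∈ P, z * b = b * z := (hcen _).mp h1
      have hkz : Commute (k : G) z :=
        (hreg k k.2 (hcoe_ne k hk1) z hzP).mpr hzc
      have hzp : z ^ p = 1 := hcenpow _ h1
      have h2 : (k : G) * l * (k : G)⁻¹ = l * z := by rw [hz]; group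
      have h3 := conj_pow_eq h2 hkz p
      rw [hzp, mul_one] at h3
      have h4 : (k : G) ^ p * l = l * (k : G) ^ p := by
        calc (k : G) ^ p * l = ((k : G) ^ p * l * ((k : G) ^ p)⁻¹) * (k : G) ^ p := by group
          _ = l * (k : G) ^ p := by rw [h3]
      have h5 : (k : G) ^ p ≠ 1 := by
        intro h
        have h6 : orderOf (k : G) ∣ p := orderOf_dvd_of_pow_eq_one h
        have h7 : orderOf (k : G) ∣ Nat.card K := by
          rw [Subgroup.orderOf_coe]; exact orderOf_dvd_natCard k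
        have h8 : orderOf (k : G) = 1 := Nat.eq_one_of_dvd_coprimes hKp h7 h6
        exact hcoe_ne k hk1 (orderOf_eq_one_iff.mp h8)
      have h6 := (hreg _ (K.pow_mem k.2 p) h5 l l.2).mp h4
      exact (QuotientGroup.eq_one_iff l).mpr ((hcen l).mpr h6)
  · -- scalars
    intro k n hk1 hkn
    push Not at hPna
    obtain ⟨a, ha, b, hb, hab⟩ := hPna
    set c : G := a * b * a⁻¹ * b⁻¹ with hc
    have hcP : c ∈ P := P.mul_mem (P.mul_mem (P.mul_mem ha hb) (P.inv_mem ha)) (P.inv_mem hb)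
    have habc : a * b = c * b * a := by rw [hc]; group
    have hc1 : c ≠ 1 := by
      intro h
      apply hab
      rw [habc, h, one_mul]
    -- `c` is central
    have hcc : (⟨c, hcP⟩ : ↥P) ∈ Subgroup.center ↥P := by
      rw [← QuotientGroup.eq_one_iff]
      have h1 : (⟨c, hcP⟩ : ↥P) = ⟨a, ha⟩ * ⟨b, hb⟩ * (⟨a, ha⟩ : ↥P)⁻¹ * (⟨b, hb⟩ : ↥P)⁻¹ :=
        Subtype.ext (by simp [hc])
      rw [h1, QuotientGroup.mk_mul, QuotientGroup.mk_mul, QuotientGroup.mk_mul,
        QuotientGroup.mk_inv, QuotientGroup.mk_inv,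
        hVcomm (QuotientGroup.mk (⟨a, ha⟩ : ↥P)) (QuotientGroup.mk (⟨b, hb⟩ : ↥P))]
      group
    have hcz : ∀ u ∈ P, c * u = u * c := (hcen ⟨c, hcP⟩).mp hcc
    have hkc : Commute (k : G) c := (hreg k k.2 (hcoe_ne k hk1) c hcP).mpr hcz
    have key : ∀ l : ↥P, ∃ z : G, z ∈ P ∧ (∀ u ∈ P, z * u = u * z) ∧
        (k : G) * l * (k : G)⁻¹ = (l : G) ^ n * z := by
      intro l
      have h1 := hkn (QuotientGroup.mk l)
      rw [hsmul, ← QuotientGroup.mk_pow] at h1
      have h2 := (QuotientGroup.eq (s := Subgroup.center ↥P)).mp h1.symm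
      refine ⟨((l : G) ^ n)⁻¹ * ((k : G) * l * (k : G)⁻¹), ?_, ?_, by group⟩
      · exact P.mul_mem (P.inv_mem (P.pow_mem l.2 n))
          ((Subgroup.mem_normalizer_iff.mp (hKP k.2) l).mp l.2)
      · exact (hcen _).mp h2
    obtain ⟨z₁, hz₁P, hz₁, ha'⟩ := key ⟨a, ha⟩
    obtain ⟨z₂, hz₂P, hz₂, hb'⟩ := key ⟨b, hb⟩
    simp only at ha' hb'
    have hrel1 : ((k : G) * a * (k : G)⁻¹) * ((k : G) * b * (k : G)⁻¹) =
        c * ((k : G) * b * (k : G)⁻¹) * ((k : G) * a * (k : G)⁻¹) := by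
      have h1 : (k : G) * c * (k : G)⁻¹ = c := by rw [hkc.eq]; group
      calc ((k : G) * a * (k : G)⁻¹) * ((k : G) * b * (k : G)⁻¹)
          = (k : G) * (a * b) * (k : G)⁻¹ := by group
        _ = (k : G) * (c * b * a) * (k : G)⁻¹ := by rw [habc]
        _ = ((k : G) * c * (k : G)⁻¹) * ((k : G) * b * (k : G)⁻¹) *
            ((k : G) * a * (k : G)⁻¹) := by group
        _ = c * ((k : G) * b * (k : G)⁻¹) * ((k : G) * a * (k : G)⁻¹) := by rw [h1]
    have hca : Commute c a := hcz a ha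
    have hcb : Commute c b := hcz b hb
    have hrel2 : (a ^ n * z₁) * (b ^ n * z₂) = c ^ (n * n) * (b ^ n * z₂) * (a ^ n * z₁) := by
      have h1 := pow_mul_pow_of_comm habc hca hcb n n
      have e1 : z₁ * b ^ n = b ^ n * z₁ := hz₁ _ (P.pow_mem hb n)
      have e2 : z₂ * a ^ n = a ^ n * z₂ := hz₂ _ (P.pow_mem ha n)
      have e3 : z₁ * z₂ = z₂ * z₁ := hz₁ _ hz₂P
      calc (a ^ n * z₁) * (b ^ n * z₂) = a ^ n * (z₁ * b ^ n) * z₂ := by group
        _ = a ^ n * (b ^ n * z₁) * z₂ := by rw [e1]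
        _ = (a ^ n * b ^ n) * z₁ * z₂ := by group
        _ = (c ^ (n * n) * b ^ n * a ^ n) * z₁ * z₂ := by rw [h1]
        _ = c ^ (n * n) * b ^ n * a ^ n * (z₁ * z₂) := by group
        _ = c ^ (n * n) * b ^ n * a ^ n * (z₂ * z₁) := by rw [e3]
        _ = c ^ (n * n) * b ^ n * (a ^ n * z₂) * z₁ := by group
        _ = c ^ (n * n) * b ^ n * (z₂ * a ^ n) * z₁ := by rw [e2]
        _ = c ^ (n * n) * (b ^ n * z₂) * (a ^ n * z₁) := by group
    rw [ha', hb'] at hrel1
    have h3 : c = c ^ (n * n) := by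
      have h4 := hrel1.symm.trans hrel2
      exact mul_right_cancel (mul_right_cancel h4)
    have hoc : orderOf c = p := orderOf_eq_prime (hcenpow ⟨c, hcP⟩ hcc) hc1
    have h4 : c ^ (n * n) = c ^ 1 := by rw [pow_one]; exact h3.symm
    have h5 := pow_eq_pow_iff_modEq.mp h4
    rw [hoc] at h5
    rw [pow_two]; exact h5
  
end Cfsg.Agent.Lib.Helper2.BG1383
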