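import Mathlib
import Cfsg.Prelude
import Cfsg.Agent.S1364
import Cfsg.Agent.S1365
import Cfsg.Agent.S1373
import Cfsg.Agent.S1374
import Cfsg.Agent.S1408
import Cfsg.Agent.S1412
import Cfsg.Agent.S1419
import Cfsg.Agent.S1420
import Cfsg.Agent.S1430
import Cfsg.Agent.S1454
import Cfsg.Agent.Lib.Helper2.BG14X
import Cfsg.Agent.Lib.Helper2.BG1383B
import Cfsg.Agent.Lib.Helper13.BGNarrow
import Cfsg.Agent.Lib.Helper7.BGTypesA
import Cfsg.Agent.Lib.Helper1.BGFcons
import Cfsg.Agent.Lib.Helper1.CoprimeAbelian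
import Cfsg.Agent.Lib.Helper1.Hall

/-!
# Bender--Glauberman, Theorem 15.2 (e): the trichotomy for Type V (helper2)

`M` maximal with standard factorisation `M = K U M_σ`, `K ≠ 1`, `U = 1`, `M_σ` nilpotent.  Then
`M_σ` is a TI-subset, or for some prime `p` dividing `|M_σ|`: `O_{p'}(M_σ)` is cyclic and `|K|`
divides `p - 1`, or `|O_p(M_σ)| = p ^ 3` and `|K|` divides `p + 1`.
-/

set_option autoImplicit false
set_option linter.unusedSectionVars false
set_option linter.unusedVariables false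
open Cfsg
open Cfsg.Agent.Lib.Helper10.BG
open Cfsg.Agent.Lib.Helper10
open Cfsg.Agent.Lib.Helper9.BGExc
open Cfsg.Agent.Lib.Helper11.BG14 (H30c orderOf_pow_div)
open scoped commutatorElement

namespace Cfsg.Agent.Lib.Helper2.BG1383

variable {G : Type*} [Group G] [Finite G]

/-- if `M_σ` is not a TI-subset, some element of prime order of `M_σ` has its centralizer outside
`M`. -/
theorem exists_prime_order_of_not_TI (hG : IsMinSimpleOddOrder G) {M : Subgroup G}
    (hM : IsCoatom M) (hTI : ¬ IsTISubset (sigmaCore M : Set G)) :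
    ∃ (y : G) (p : ℕ), p.Prime ∧ y ∈ sigmaCore M ∧ orderOf y = p ∧
      ¬ Subgroup.centralizer ({y} : Set G) ≤ M := by
  unfold IsTISubset at hTI
  push Not at hTI
  obtain ⟨g, hg, x, hx, hgx, hx1⟩ := hTI
  have hx' : x ∈ sigmaCore M := hx
  have hgx' : g * x * g⁻¹ ∈ sigmaCore M := hgx
  have ho : orderOf x ≠ 1 := fun h => hx1 (orderOf_eq_one_iff.mp h)
  obtain ⟨p, hpp, hpx⟩ := Nat.exists_prime_and_dvd ho
  haveI : Fact p.Prime := ⟨hpp⟩
  set y : G := x ^ (orderOf x / p) with hy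
  have hyp : orderOf y = p := orderOf_pow_div hpx
  have hyσ : y ∈ sigmaCore M := (sigmaCore M).pow_mem hx' _
  have hgy : g * y * g⁻¹ ∈ sigmaCore M := by
    have : g * y * g⁻¹ = (g * x * g⁻¹) ^ (orderOf x / p) := by
      rw [hy, conj_pow]
    rw [this]
    exact (sigmaCore M).pow_mem hgx' _
  have hy1 : y ≠ 1 := by
    intro h
    rw [h, orderOf_one] at hyp
    exact hpp.one_lt.ne hyp
  refine ⟨y, p, hpp, hyσ, hyp, ?_⟩
  intro hC
  obtain ⟨-, R, -, hcompl, huniq⟩ := Cfsg.Agent.S1374.result hG M hM y hyσ hy1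
  have hyg : y ∈ M.map (MulAut.conj g⁻¹).toMonoidHom := by
    refine ⟨g * y * g⁻¹, sigmaCore_le M hgy, ?_⟩
    simp [MulAut.conj_apply]
    group
  obtain ⟨r, ⟨hrR, hr⟩, -⟩ := huniq g⁻¹ hyg
  have hrM : r ∈ M := hC (hcompl.2.1 hrR)
  have h1 : M.map (MulAut.conj r).toMonoidHom = M := map_conj_eq_self_of_mem hrM
  rw [h1] at hr
  have h2 : g⁻¹ ∈ M := mem_of_map_conj_eq_self hG hM hr.symm
  have h3 : g ∈ M := by simpa using M.inv_mem h2
  exact hg (le_normalizer_sigmaCore M h3)

omit [Finite G] in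
/-- if `B` is abelian and centralizes `A`, then `(AB)' ≤ A'`. -/
theorem commutator_sup_le {A B : Subgroup G} (hAB : ∀ a ∈ A, ∀ b ∈ B, a * b = b * a)
    (hB : ∀ b ∈ B, ∀ b' ∈ B, b * b' = b' * b) : ⁅A ⊔ B, A ⊔ B⁆ ≤ ⁅A, A⁆ := by
  have hBn : B ≤ Subgroup.normalizer (A : Set G) := by
    intro b hb
    rw [Subgroup.mem_normalizer_iff]
    intro a
    have h1 : ∀ a ∈ A, b * a * b⁻¹ = a := by
      intro a ha
      rw [← hAB a ha b hb]; group
    constructor
    · intro ha; rw [h1 a ha]; exact ha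
    · intro ha
      have h2 := h1 _ ha
      have h3 : a = b⁻¹ * (b * a * b⁻¹) * b := by group
      have h4 : b⁻¹ * (b * a * b⁻¹) * b = b * a * b⁻¹ := by
        have := hAB _ ha b hb
        calc b⁻¹ * (b * a * b⁻¹) * b = b⁻¹ * ((b * a * b⁻¹) * b) := by group
          _ = b⁻¹ * (b * (b * a * b⁻¹)) := by rw [this]
          _ = b * a * b⁻¹ := by group
      rw [h3, h4]; exact ha
  rw [Subgroup.commutator_le]
  intro x hx x' hx'
  obtain ⟨a, ha, b, hb, rfl⟩ := exists_mul_of_mem_sup_of_le_normalizer hBn hx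
  obtain ⟨a', ha', b', hb', rfl⟩ := exists_mul_of_mem_sup_of_le_normalizer hBn hx'
  have e1 := hAB a ha b' hb'
  have e2 := hAB a' ha' b hb
  have e3 := hAB a ha b hb
  have e4 := hAB a' ha' b' hb'
  have e5 := hB b hb b' hb'
  have h1 : (a * b) * (a' * b') = (a * a') * (b * b') := by
    calc (a * b) * (a' * b') = a * (b * a') * b' := by group
      _ = a * (a' * b) * b' := by rw [e2]
      _ = (a * a') * (b * b') := by group
  have h2 : (a' * b') * (a * b) = (a' * a) * (b * b') := by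
    calc (a' * b') * (a * b) = a' * (b' * a) * b := by group
      _ = a' * (a * b') * b := by rw [e1]
      _ = (a' * a) * (b' * b) := by group
      _ = (a' * a) * (b * b') := by rw [e5]
  have h3 : ⁅a * b, a' * b'⁆ = ⁅a, a'⁆ := by
    rw [commutatorElement_def, commutatorElement_def]
    have : (a * b) * (a' * b') * (a * b)⁻¹ * (a' * b')⁻¹ =
        ((a * b) * (a' * b')) * ((a' * b') * (a * b))⁻¹ := by group
    rw [this, h1, h2]
    group
  rw [h3]
  exact Subgroup.commutator_mem_commutator ha ha'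

/-- in a group of order `p ^ 3` the derived subgroup is central. -/
theorem commutator_le_center_of_cube {Q : Type*} [Group Q] [Finite Q] {p : ℕ} [Fact p.Prime]
    (hQ : Nat.card Q = p ^ 3) : commutator Q ≤ Subgroup.center Q := by
  have hpp : p.Prime := Fact.out
  by_cases hc : ∀ x y : Q, x * y = y * x
  · rw [commutator_def, Subgroup.commutator_le]
    intro x _ y _
    rw [commutatorElement_def, hc x y]
    simp
  · have hZ := Cfsg.Agent.Lib.Helper27.card_center_of_cube hQ hc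
    have hV : Nat.card (Q ⧸ Subgroup.center Q) = p ^ 2 := by
      have h1 := Subgroup.card_eq_card_quotient_mul_card_subgroup (Subgroup.center Q)
      rw [hQ, hZ] at h1
      have h2 : Nat.card (Q ⧸ Subgroup.center Q) * p = p ^ 2 * p := by rw [← h1]; ring
      exact Nat.eq_of_mul_eq_mul_right hpp.pos h2
    have hVc := (IsPGroup.isMulCommutative_of_card_eq_prime_sq hV)
    rw [commutator_def, Subgroup.commutator_le]
    intro x _ y _
    rw [← QuotientGroup.eq_one_iff, commutatorElement_def, QuotientGroup.mk_mul,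
      QuotientGroup.mk_mul, QuotientGroup.mk_mul, QuotientGroup.mk_inv, QuotientGroup.mk_inv,
      hVc.is_comm.comm (QuotientGroup.mk x) (QuotientGroup.mk y)]
    group

open Cfsg.Agent.Lib.Helper2.BG14T (Data)

/-- the structure of `H = M_σ` in the non-TI case. -/
theorem structure_of_data (hG : IsMinSimpleOddOrder G) {M K U N : Subgroup G} (hM : IsCoatom M)
    (hN : IsCoatom N) (hKU : IsSigmaDecomposition M K U) (hK1 : K ≠ ⊥) (hU : U = ⊥)
    (hnil : Group.IsNilpotent (sigmaCore M)) {y : G} {p : ℕ} [Fact p.Prime]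
    (hyσ : y ∈ sigmaCore M) (hyp : orderOf y = p) (hD : Data M N y p) :
    ∃ P : Subgroup G, IsSylowIn p P (sigmaCore M) ∧
      (sigmaCore M ⊓ Subgroup.centralizer (K : Set G)) ≤ ⁅P, P⁆ ∧
      (∀ T : Subgroup G, T ≤ sigmaCore M → (Nat.card T).Coprime p → IsCyclic T) := by
  have hpp : p.Prime := Fact.out
  have hpσ : p ∈ sigma M := hD.qsigma
  have hpτ : p ∈ tau2 N := hD.qtau2
  -- `p'`-subgroups of `H`
  have hT_le : ∀ T : Subgroup G, T ≤ sigmaCore M → (Nat.card T).Coprime p → T ≤ M ⊓ N := by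
    intro T hT hcop t ht
    refine ⟨sigmaCore_le M (hT ht), hD.cent_le ?_⟩
    rw [Cfsg.Agent.Lib.Helper2.BG14T.mem_centralizer_singleton]
    have h1 : (orderOf t).Coprime (orderOf y) := by
      rw [hyp]
      apply hcop.coprime_dvd_left
      have := orderOf_dvd_natCard (⟨t, ht⟩ : T)
      rwa [Subgroup.orderOf_mk] at this
    exact (Cfsg.Agent.Lib.Helper1.BGFcons.commute_of_coprime_of_nilpotent hnil (hT ht) hyσ h1).symm
  have hT_nsig : ∀ T : Subgroup G, T ≤ sigmaCore M → (Nat.card T).Coprime p →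
      ∀ q : ℕ, q.Prime → q ∣ Nat.card T → q ∉ sigma N := by
    intro T hT hcop q hq hd
    exact Cfsg.Agent.Lib.Helper19.BGCompl.compl_not_mem_sigma hG hN hD.compl hq
      (hd.trans (Subgroup.card_dvd_of_le (hT_le T hT hcop)))
  have hT_comm : ∀ T : Subgroup G, T ≤ sigmaCore M → (Nat.card T).Coprime p →
      IsMulCommutative T := by
    intro T hT hcop
    exact (Cfsg.Agent.S1420.result hG N hN (M ⊓ N) hD.compl).1 T
      ((hT_le T hT hcop).trans inf_le_right) (Cfsg.Agent.Lib.Helper10.BG.isNilpotent_of_le hT hnil) (hT_nsig T hT hcop)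
  -- the Sylow `p`-subgroup
  obtain ⟨P, hP⟩ := exists_isSylowIn p (sigmaCore M)
  have hHP : sigmaCore M ≤ Subgroup.normalizer (P : Set G) :=
    Cfsg.Agent.Lib.Helper7.BGTypes.le_normalizer_sylow_of_nilpotent hnil hP
  have hPH : P ≤ sigmaCore M := hP.le
  -- a Hall `p'`-subgroup `Y`
  haveI := hnil
  have hcardH : Nat.card (sigmaCore M) = P.relIndex (sigmaCore M) * Nat.card P := by
    rw [mul_comm]; exact (Cfsg.Agent.Lib.Helper12.card_mul_relIndex_eq hPH).symm
  have hndvd : ¬ p ∣ P.relIndex (sigmaCore M) := hP.not_dvd_relIndex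
  obtain ⟨k, hk⟩ := hP.isPGroup.exists_card_eq
  have hcop1 : (P.relIndex (sigmaCore M)).Coprime (Nat.card P) := by
    rw [hk]
    exact ((Nat.Prime.coprime_iff_not_dvd hpp).mpr hndvd).symm.pow_right k
  obtain ⟨Y₀, hY₀⟩ := Cfsg.Agent.Lib.Helper1.hall_exists (G := ↥(sigmaCore M))
    (P.relIndex (sigmaCore M)) (Nat.card P) hcardH hcop1
  obtain ⟨Y, hYdef⟩ : ∃ Y : Subgroup G, Y = Y₀.map (sigmaCore M).subtype := ⟨_, rfl⟩
  have hYH : Y ≤ sigmaCore M := hYdef ▸ Subgroup.map_subtype_le _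
  have hYcard : Nat.card Y = P.relIndex (sigmaCore M) := by
    rw [hYdef, Subgroup.card_map_of_injective (sigmaCore M).subtype_injective, hY₀]
  have hYcop : (Nat.card Y).Coprime p := by
    rw [hYcard]
    exact ((Nat.Prime.coprime_iff_not_dvd hpp).mpr hndvd).symm
  have hPY : ∀ a ∈ P, ∀ b ∈ Y, a * b = b * a := by
    intro a ha b hb
    apply Cfsg.Agent.Lib.Helper1.BGFcons.commute_of_coprime_of_nilpotent hnil (hPH ha) (hYH hb)
    have h1 : orderOf a ∣ Nat.card P := by
      have := orderOf_dvd_natCard (⟨a, ha⟩ : P)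
      rwa [Subgroup.orderOf_mk] at this
    have h2 : orderOf b ∣ Nat.card Y := by
      have := orderOf_dvd_natCard (⟨b, hb⟩ : Y)
      rwa [Subgroup.orderOf_mk] at this
    rw [hk] at h1
    exact ((hYcop.symm.pow_left k).coprime_dvd_left h1).coprime_dvd_right h2
  have hYab : ∀ b ∈ Y, ∀ b' ∈ Y, b * b' = b' * b := by
    intro b hb b' hb'
    have := (hT_comm Y hYH hYcop).is_comm.comm ⟨b, hb⟩ ⟨b', hb'⟩
    exact congrArg Subtype.val this
  have hsup : P ⊔ Y = sigmaCore M := by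
    apply Subgroup.eq_of_le_of_card_ge (sup_le hPH hYH)
    have hYn : Y ≤ Subgroup.normalizer (P : Set G) := hYH.trans hHP
    have h1 := Cfsg.H5.card_sup_mul_card_inf hYn
    have h2 : Y ⊓ P = ⊥ := by
      apply disjoint_iff.mp
      apply Subgroup.disjoint_of_coprime_natCard
      rw [hk]
      exact hYcop.pow_right k
    rw [h2, Subgroup.card_bot, mul_one, hYcard, sup_comm] at h1
    rw [h1, hcardH]
  have hder : ⁅sigmaCore M, sigmaCore M⁆ ≤ ⁅P, P⁆ := by
    rw [← hsup]
    exact commutator_sup_le hPY hYab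
  -- `K*`
  have hM' : ⁅M, M⁆ = sigmaCore M := by
    rw [(Cfsg.Agent.S1365.result hG M hM K U hKU hK1).1, hU, bot_sup_eq]
  have hKs : (sigmaCore M ⊓ Subgroup.centralizer (K : Set G)) ≤ ⁅P, P⁆ := by
    have h1 := (Cfsg.Agent.S1365.result hG M hM K U hKU hK1).2
    rw [hM'] at h1
    exact h1.trans hder
  have hKs1 : (sigmaCore M ⊓ Subgroup.centralizer (K : Set G)) ≠ ⊥ :=
    (Cfsg.Agent.S1364.result hG M hM K U hKU hK1).2.1
  -- `P` is not abelian
  have hPna : ¬ IsMulCommutative P := by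
    intro hc
    apply hKs1
    rw [eq_bot_iff]
    refine hKs.trans ?_
    rw [Subgroup.commutator_le]
    intro a ha b hb
    have := hc.is_comm.comm ⟨a, ha⟩ ⟨b, hb⟩
    have h2 : a * b = b * a := congrArg Subtype.val this
    rw [Subgroup.mem_bot, commutatorElement_def, h2]
    group
  -- `τ₂(N) = {p}`
  have hPtop : IsSylowIn p P ⊤ := (isSylowIn_of_sigmaCore hG hM hpσ hP).2
  have hS : ∀ S : Sylow p G, ¬ IsMulCommutative (S : Subgroup G) := by
    intro S hc
    apply hPna
    have e : ↥(S : Subgroup G) ≃* ↥P :=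
      (Sylow.equiv S hPtop.toSylowTop).trans (MulEquiv.subgroupCongr hPtop.coe_toSylowTop)
    refine ⟨⟨fun a b => ?_⟩⟩
    have h1 := hc.is_comm.comm (e.symm a) (e.symm b)
    have h2 : e.symm (a * b) = e.symm (b * a) := by rw [map_mul, map_mul]; exact h1
    exact e.symm.injective h2
  obtain ⟨A, hAMN, hAe, hAcard⟩ := hD.exA
  have hτ : tau2 N = {p} :=
    (Cfsg.Agent.S1419.result hG N hN (M ⊓ N) hD.compl p hpτ hS A ⟨hAMN, hAe, hAcard⟩).1
  refine ⟨P, hP, hKs, ?_⟩
  intro T hT hcop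
  apply isCyclic_of_isNilpotent_of_pRankLE_one hG.1 ((hT_le T hT hcop).trans inf_le_right)
    (Cfsg.Agent.Lib.Helper10.BG.isNilpotent_of_le hT hnil)
  intro q hq hqd
  have hqσ : q ∉ sigma N := hT_nsig T hT hcop q hq hqd
  have hqp : q ≠ p := by
    rintro rfl
    exact hpp.one_lt.ne' (hcop.symm.eq_one_of_dvd hqd)
  have hq2 : PRankLE q 2 ↥N := by
    by_contra h
    exact hqσ (alpha_subset_sigma hG hN ⟨hq, h⟩)
  by_contra hq1
  have : q ∈ tau2 N := ⟨hq, hqσ, hq2, hq1⟩
  rw [hτ] at this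
  exact hqp this

/-- a Sylow `p`-subgroup of `G` of rank at least three is narrow when `p` is not an ideal prime. -/
theorem isNarrow_of_not_ideal (hG : IsMinSimpleOddOrder G) {p : ℕ} [Fact p.Prime] {P : Subgroup G}
    (hPtop : IsSylowIn p P ⊤) (hr : ¬ PRankLE p 2 ↥P) (hnid : ¬ IsIdealPrime p G) :
    IsNarrow p ↥P := by
  have hp : p.Prime := Fact.out
  have hrG : ¬ PRankLE p 2 G := fun h =>
    hr (Cfsg.Agent.Lib.Helper9.pRankLE_of_injective P.subtype P.subtype_injective h)
  have hpG : p ∣ Nat.card G := by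
    by_contra hnd
    apply hr
    have h1 : P = ⊥ := by
      apply eq_bot_of_isPGroup_of_not_dvd_card hPtop.isPGroup
      intro h
      exact hnd (h.trans (Subgroup.card_subgroup_dvd_card P))
    intro A hAc hAe
    have h2 : Nat.card A = 1 := by
      have : Subsingleton ↥P := by rw [h1]; infer_instance
      have : Subsingleton ↥A := inferInstance
      exact Nat.card_unique
    rw [h2]
    exact Nat.one_le_pow _ _ hp.pos
  have hp2 : p ≠ 2 := prime_ne_two hG hpG
  unfold IsIdealPrime at hnid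
  push Not at hnid
  obtain ⟨P1, A, hAP, hAe, hAcard, hAmax⟩ := hnid hp hrG
  have hP1n : IsNarrow p ↥(P1 : Subgroup G) := by
    have hr1 : ¬ PRankLE p 2 ↥(P1 : Subgroup G) := fun h => hrG (pRankLE_of_sylow P1 h)
    have hE : IsElementaryAbelian p (A.subgroupOf (P1 : Subgroup G)) := by
      constructor
      · refine ⟨⟨?_⟩⟩
        rintro ⟨a, ha⟩ ⟨b, hb⟩
        apply Subtype.ext
        apply Subtype.ext
        have h1 := hAe.1.is_comm.comm ⟨(a : G), Subgroup.mem_subgroupOf.mp ha⟩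
          ⟨(b : G), Subgroup.mem_subgroupOf.mp hb⟩
        show (a : G) * (b : G) = (b : G) * (a : G)
        exact congrArg Subtype.val h1
      · intro a ha
        apply Subtype.ext
        have h1 := hAe.2 (a : G) (Subgroup.mem_subgroupOf.mp ha)
        simpa using h1
    have hE2 : Nat.card (A.subgroupOf (P1 : Subgroup G)) = p ^ 2 := by
      rw [Nat.card_congr (Subgroup.subgroupOfEquivOfLe hAP).toEquiv, hAcard]
    apply Cfsg.Agent.Lib.Helper13.BGNarrow.isNarrow_of_max_elementary p hp2 P1.isPGroup' hr1 _ hE hE2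
    intro B' hB' hEB'
    apply le_antisymm _ hEB'
    have hBe : IsElementaryAbelian p (B'.map (P1 : Subgroup G).subtype) := by
      constructor
      · refine ⟨⟨?_⟩⟩
        rintro ⟨a, ha⟩ ⟨b, hb⟩
        apply Subtype.ext
        show a * b = b * a
        obtain ⟨a', ha', rfl⟩ := ha
        obtain ⟨b', hb', rfl⟩ := hb
        have h1 := hB'.1.is_comm.comm ⟨a', ha'⟩ ⟨b', hb'⟩
        have h2 : a' * b' = b' * a' := congrArg Subtype.val h1
        rw [← map_mul, ← map_mul, h2]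
      · rintro _ ⟨a', ha', rfl⟩
        rw [← map_pow, hB'.2 a' ha', map_one]
    have hAB : A ≤ B'.map (P1 : Subgroup G).subtype := by
      intro a ha
      exact ⟨⟨a, hAP ha⟩, hEB' (Subgroup.mem_subgroupOf.mpr ha), rfl⟩
    have h3 := hAmax (B'.map (P1 : Subgroup G).subtype) (Subgroup.map_subtype_le _) hBe
    have hBA : B'.map (P1 : Subgroup G).subtype ≤ A := by
      by_contra hcon
      exact h3 (lt_of_le_not_ge hAB hcon)
    intro b hb
    rw [Subgroup.mem_subgroupOf]
    exact hBA ⟨b, hb, rfl⟩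
  have e : ↥(P1 : Subgroup G) ≃* ↥P :=
    (Sylow.equiv P1 hPtop.toSylowTop).trans (MulEquiv.subgroupCongr hPtop.coe_toSylowTop)
  exact Cfsg.Agent.Lib.Helper13.BGNarrow.isNarrow_of_mulEquiv e hP1n

/-- the arithmetic of the action of `K` on the Sylow `p`-subgroup `P` of `M_σ`. -/
theorem arith_of_data (hG : IsMinSimpleOddOrder G) {M K U N P : Subgroup G} (hM : IsCoatom M)
    (hN : IsCoatom N) (hKU : IsSigmaDecomposition M K U) (hK1 : K ≠ ⊥) (hU : U = ⊥)
    (hnil : Group.IsNilpotent (sigmaCore M)) {p : ℕ} [Fact p.Prime]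
    (hpσ : p ∈ sigma M) (hpτ : p ∈ tau2 N) (hP : IsSylowIn p P (sigmaCore M))
    (hKs : (sigmaCore M ⊓ Subgroup.centralizer (K : Set G)) ≤ ⁅P, P⁆) :
    Nat.card K ∣ p - 1 ∨ (Nat.card P = p ^ 3 ∧ Nat.card K ∣ p + 1) := by
  have hpp : p.Prime := Fact.out
  obtain ⟨hKscyc, hKs1, -, -⟩ := Cfsg.Agent.S1364.result hG M hM K U hKU hK1
  have hKsprime := Cfsg.Agent.S1373.result hG M hM K U hKU hK1 hU
  obtain ⟨Ks, hKsdef⟩ : ∃ Ks : Subgroup G,
      Ks = sigmaCore M ⊓ Subgroup.centralizer (K : Set G) := ⟨_, rfl⟩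
  rw [← hKsdef] at hKs hKscyc hKs1 hKsprime
  have hPP : ⁅P, P⁆ ≤ P := Cfsg.Agent.Lib.Helper7.BGTypes.commutator_le_self P
  have hKsP : Ks ≤ P := hKs.trans hPP
  obtain ⟨k, hk⟩ := hP.isPGroup.exists_card_eq
  have hKscard : Nat.card Ks = p := by
    have h1 : Nat.card Ks ∣ p ^ k := hk ▸ Subgroup.card_dvd_of_le hKsP
    exact (Nat.prime_dvd_prime_iff_eq hKsprime hpp).mp (hKsprime.dvd_of_dvd_pow h1)
  have hPna : ¬ ∀ a ∈ P, ∀ b ∈ P, a * b = b * a := by
    intro hc
    apply hKs1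
    rw [eq_bot_iff]
    refine hKs.trans ?_
    rw [Subgroup.commutator_le]
    intro a ha b hb
    rw [Subgroup.mem_bot, commutatorElement_def, hc a ha b hb]
    group
  have hKM : K ≤ M := hKU.hall.1
  have hPn : M ≤ Subgroup.normalizer (P : Set G) :=
    (le_normalizer_sigmaCore M).trans
      (Cfsg.Agent.Lib.Helper7.BGTypes.normalizer_le_normalizer_sylow_of_nilpotent hnil hP)
  have hKP : K ≤ Subgroup.normalizer (P : Set G) := hKM.trans hPn
  have hKcomm : ∀ a ∈ K, ∀ b ∈ K, a * b = b * a := by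
    intro a ha b hb
    have := hKU.cyclic
    have h1 := (IsCyclic.isMulCommutative (α := ↥K)).is_comm.comm ⟨a, ha⟩ ⟨b, hb⟩
    exact congrArg Subtype.val h1
  have hKodd : Odd (Nat.card K) := Odd.of_dvd_nat hG.1 (Subgroup.card_subgroup_dvd_card K)
  have hKp : (Nat.card K).Coprime p := by
    rw [Nat.coprime_comm, Nat.Prime.coprime_iff_not_dvd hpp]
    intro hd
    exact Cfsg.Agent.Lib.Helper1.BGSigmaDecomp.not_mem_sigma_of_dvd_card_K hKU hpp hd hpσ
  have hCk : ∀ k ∈ K, k ≠ 1 → sigmaCore M ⊓ Subgroup.centralizer ({k} : Set G) = Ks := by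
    intro k hk hk1
    rw [hKsdef]
    exact (Cfsg.Agent.S1430.result hG M hM K hKU.hall hK1).1 k hk hk1
  have hPtop : IsSylowIn p P ⊤ := (isSylowIn_of_sigmaCore hG hM hpσ hP).2
  have hpG : p ∣ Nat.card G := by
    have h1 : p ∣ Nat.card Ks := by rw [hKscard]
    exact h1.trans (Subgroup.card_subgroup_dvd_card Ks)
  have hp2 : p ≠ 2 := prime_ne_two hG hpG
  have hKs_le_cent : Ks ≤ Subgroup.centralizer (K : Set G) := by rw [hKsdef]; exact inf_le_right
  by_cases hr : PRankLE p 2 ↥P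
  · have h12 := Cfsg.Agent.S1412.result hG p hPtop.toSylowTop hr
    rcases h12 with hab | ⟨P₁, P₂, hsup, hcomm, hP₁na, hP₁card, hP₁exp, hP₂cyc, hcl⟩
    · exfalso
      apply hPna
      intro a ha b hb
      exact congrArg Subtype.val (hab.is_comm.comm ⟨a, ha⟩ ⟨b, hb⟩)
    have hsup' : P₁ ⊔ P₂ = P := hsup
    have hP₁P : P₁ ≤ P := hsup' ▸ le_sup_left
    have hP₂P : P₂ ≤ P := hsup' ▸ le_sup_right
    have hP₂ab : ∀ b ∈ P₂, ∀ b' ∈ P₂, b * b' = b' * b := by
      intro b hb b' hb'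
      have := hP₂cyc
      have h1 := (IsCyclic.isMulCommutative (α := ↥P₂)).is_comm.comm ⟨b, hb⟩ ⟨b', hb'⟩
      exact congrArg Subtype.val h1
    have hB3 : ⁅P, P⁆ ≤ ⁅P₁, P₁⁆ := by
      rw [← hsup']
      exact commutator_sup_le hcomm hP₂ab
    obtain ⟨Z₁, hZ₁def⟩ : ∃ Z₁ : Subgroup G,
        Z₁ = P₁ ⊓ Subgroup.centralizer (P₁ : Set G) := ⟨_, rfl⟩
    have hZ₁sub : Z₁.subgroupOf P₁ = Subgroup.center ↥P₁ := by
      ext x
      rw [Subgroup.mem_subgroupOf, hZ₁def, Subgroup.mem_inf, Subgroup.mem_center_iff,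
        Subgroup.mem_centralizer_iff]
      constructor
      · rintro ⟨-, h⟩ g
        exact Subtype.ext (h g g.2)
      · intro h
        exact ⟨x.2, fun g hg => congrArg Subtype.val (h ⟨g, hg⟩)⟩
    have hZ₁P₁ : Z₁ ≤ P₁ := hZ₁def ▸ inf_le_left
    have hB4 : ⁅P₁, P₁⁆ ≤ Z₁ := by
      have h1 := commutator_le_center_of_cube (Q := ↥P₁) hP₁card
      rw [Subgroup.commutator_le]
      intro a ha b hb
      have h2 : ⁅(⟨a, ha⟩ : ↥P₁), ⟨b, hb⟩⁆ ∈ Subgroup.center ↥P₁ := by
        apply h1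
        rw [commutator_def]
        exact Subgroup.commutator_mem_commutator (Subgroup.mem_top _) (Subgroup.mem_top _)
      rw [← hZ₁sub, Subgroup.mem_subgroupOf] at h2
      simpa [commutatorElement_def] using h2
    have hZ₁card : Nat.card Z₁ = p := by
      rw [← card_subgroupOf_of_le hZ₁P₁, hZ₁sub]
      apply Cfsg.Agent.Lib.Helper27.card_center_of_cube hP₁card
      intro hc
      exact hP₁na ⟨⟨hc⟩⟩
    have hB6 : Ks = Z₁ :=
      Subgroup.eq_of_le_of_card_ge (hKs.trans (hB3.trans hB4)) (by rw [hZ₁card, hKscard])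
    -- the centre of `P`
    obtain ⟨Z, hZdef⟩ : ∃ Z : Subgroup G, Z = P ⊓ Subgroup.centralizer (P : Set G) := ⟨_, rfl⟩
    have hZP : Z ≤ P := hZdef ▸ inf_le_left
    have hZc : ∀ z ∈ Z, ∀ a ∈ P, a * z = z * a := by
      intro z hz a ha
      rw [hZdef] at hz
      exact (Subgroup.mem_centralizer_iff.mp hz.2) a ha
    haveI hZab : IsMulCommutative Z := ⟨⟨fun a b => Subtype.ext (hZc a a.2 b (hZP b.2)).symm⟩⟩
    have hKZ : K ≤ Subgroup.normalizer (Z : Set G) := by
      apply Cfsg.Agent.Lib.Helper1.le_normalizer_of_forall_conj_mem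
      intro c hc z hz
      have hcP := hKP hc
      have h1 : c * z * c⁻¹ ∈ P := (Subgroup.mem_normalizer_iff.mp hcP z).mp (hZP hz)
      rw [hZdef]
      refine Subgroup.mem_inf.mpr ⟨h1, ?_⟩
      rw [Subgroup.mem_centralizer_iff]
      intro a ha
      have h2 : c⁻¹ * a * c ∈ P := by
        have := (Subgroup.mem_normalizer_iff.mp (Subgroup.inv_mem _ hcP) a).mp ha
        simpa using this
      have h3 := hZc z hz _ h2
      calc a * (c * z * c⁻¹) = c * ((c⁻¹ * a * c) * z) * c⁻¹ := by group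
        _ = c * (z * (c⁻¹ * a * c)) * c⁻¹ := by rw [h3]
        _ = c * z * c⁻¹ * a := by group
    have hKZcop : (Nat.card K).Coprime (Nat.card Z) := by
      have h1 : Nat.card Z ∣ p ^ k := hk ▸ Subgroup.card_dvd_of_le hZP
      exact (hKp.pow_right k).coprime_dvd_right h1
    have hPdecomp : ∀ x ∈ P, ∃ a ∈ P₁, ∃ b ∈ P₂, x = a * b := by
      intro x hx
      rw [← hsup'] at hx
      have hn : P₂ ≤ Subgroup.normalizer (P₁ : Set G) := by
        apply Cfsg.Agent.Lib.Helper1.le_normalizer_of_forall_conj_mem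
        intro b hb a ha
        rw [← hcomm a ha b hb]
        simpa using ha
      exact exists_mul_of_mem_sup_of_le_normalizer hn hx
    have hcl_le : Z₁ ≤ P₂ := by
      rw [hZ₁def, ← hcl, Subgroup.closure_le]
      rintro x ⟨hx, -⟩
      exact hx
    have hΩ : ∀ z ∈ Z, (orderOf z).Prime → ∀ c ∈ K, c * z = z * c := by
      intro z hz hzo c hc
      have hzP : z ∈ P := hZP hz
      have hzp : orderOf z = p := by
        have h1 : orderOf z ∣ p ^ k := by
          have := orderOf_dvd_natCard (⟨z, hzP⟩ : ↥P)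
          rwa [Subgroup.orderOf_mk, hk] at this
        exact (Nat.prime_dvd_prime_iff_eq hzo hpp).mp (hzo.dvd_of_dvd_pow h1)
      obtain ⟨a, ha, b, hb, hzab⟩ := hPdecomp z hzP
      have haZ₁ : a ∈ Z₁ := by
        rw [hZ₁def]
        refine Subgroup.mem_inf.mpr ⟨ha, ?_⟩
        rw [Subgroup.mem_centralizer_iff]
        intro u hu
        have e1 := hZc z hz u (hP₁P hu)
        have e2 := hcomm u hu b hb
        have e3 : a = z * b⁻¹ := by rw [hzab]; group
        have e4 : u * b⁻¹ = b⁻¹ * u := by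
          have h5 : Commute u b := e2
          exact h5.inv_right.eq
        calc u * a = u * (z * b⁻¹) := by rw [e3]
          _ = (u * z) * b⁻¹ := by group
          _ = (z * u) * b⁻¹ := by rw [e1]
          _ = z * (u * b⁻¹) := by group
          _ = z * (b⁻¹ * u) := by rw [e4]
          _ = (z * b⁻¹) * u := by group
          _ = a * u := by rw [e3]
      have hzP₂ : z ∈ P₂ := by
        rw [hzab]
        exact P₂.mul_mem (hcl_le haZ₁) hb
      have hzZ₁ : z ∈ Z₁ := by
        rw [hZ₁def, ← hcl]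
        apply Subgroup.subset_closure
        refine ⟨hzP₂, ?_⟩
        rw [← hzp]; exact pow_orderOf_eq_one z
      rw [← hB6] at hzZ₁
      exact ((Subgroup.mem_centralizer_iff.mp (hKs_le_cent hzZ₁)) c hc)
    have hB9 := Cfsg.Agent.Lib.Helper1.le_centralizer_of_centralizes_prime_order K Z hKZ hKZcop hΩ
    have hB10 : Z ≤ Ks := by
      intro z hz
      rw [hKsdef]
      refine Subgroup.mem_inf.mpr ⟨hP.le (hZP hz), ?_⟩
      rw [Subgroup.mem_centralizer_iff]
      intro c hc
      exact ((Subgroup.mem_centralizer_iff.mp (hB9 hc)) z hz).symm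
    have hB11 : P₂ ≤ Z := by
      intro b hb
      rw [hZdef]
      refine Subgroup.mem_inf.mpr ⟨hP₂P hb, ?_⟩
      rw [Subgroup.mem_centralizer_iff]
      intro x hx
      obtain ⟨a, ha, b', hb', rfl⟩ := hPdecomp x hx
      have e1 := hcomm a ha b hb
      have e2 := hP₂ab b' hb' b hb
      calc a * b' * b = a * (b' * b) := by group
        _ = a * (b * b') := by rw [e2]
        _ = (a * b) * b' := by group
        _ = (b * a) * b' := by rw [e1]
        _ = b * (a * b') := by group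
    have hPeq : P = P₁ := by
      apply le_antisymm _ hP₁P
      rw [← hsup']
      exact sup_le le_rfl ((hB11.trans hB10).trans (hB6 ▸ hZ₁P₁))
    have hPc : Nat.card P = p ^ 3 := by rw [hPeq]; exact hP₁card
    have hreg : ∀ c ∈ K, c ≠ 1 → ∀ a ∈ P, (c * a = a * c ↔ ∀ b ∈ P, a * b = b * a) := by
      intro c hc hc1 a ha
      constructor
      · intro hca
        have h1 : a ∈ sigmaCore M ⊓ Subgroup.centralizer ({c} : Set G) := by
          refine Subgroup.mem_inf.mpr ⟨hP.le ha, ?_⟩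
          rw [Cfsg.Agent.Lib.Helper2.BG14T.mem_centralizer_singleton]
          exact hca
        rw [hCk c hc hc1, hB6, hZ₁def, ← hPeq] at h1
        intro b hb
        exact ((Subgroup.mem_centralizer_iff.mp h1.2) b hb).symm
      · intro hab
        have h1 : a ∈ Z := by
          rw [hZdef]
          refine Subgroup.mem_inf.mpr ⟨ha, ?_⟩
          rw [Subgroup.mem_centralizer_iff]
          intro b hb
          exact (hab b hb).symm
        exact (Subgroup.mem_centralizer_iff.mp (hKs_le_cent (hB10 h1))) c hc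
    rcases card_dvd_of_cube hPc hPna hKP hKcomm hKodd hKp hreg with h | h
    · exact Or.inl h
    · exact Or.inr ⟨hPc, h⟩
  · left
    have hnid : ¬ IsIdealPrime p G :=
      (Cfsg.Agent.S1408.result hG N hN p hpτ.2.1 hpτ.2.2.1 hpτ.2.2.2).1
    have hnar : IsNarrow p ↥P := isNarrow_of_not_ideal hG hPtop hr hnid
    have hfaith : K ⊓ Subgroup.centralizer (P : Set G) = ⊥ := by
      rw [eq_bot_iff]
      intro c hc
      rw [Subgroup.mem_bot]
      by_contra hc1
      apply hPna
      have h1 : P ≤ Ks := by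
        rw [← hCk c hc.1 hc1]
        intro a ha
        refine Subgroup.mem_inf.mpr ⟨hP.le ha, ?_⟩
        rw [Cfsg.Agent.Lib.Helper2.BG14T.mem_centralizer_singleton]
        exact ((Subgroup.mem_centralizer_iff.mp hc.2) a ha).symm
      intro a ha b hb
      have := hKscyc
      have h2 := (IsCyclic.isMulCommutative (α := ↥Ks)).is_comm.comm ⟨a, h1 ha⟩ ⟨b, h1 hb⟩
      exact congrArg Subtype.val h2
    have hKsolv : Group.IsSolvable ↥K := by
      have := hKU.cyclic
      exact Group.isSolvable_of_comm (fun a b => (IsCyclic.isMulCommutative (α := ↥K)).is_comm.comm a b)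
    have h54 := (Cfsg.Agent.S1454.result p hp2 P K hP.isPGroup hnar hKP hKsolv hKodd hfaith).2.1 hr
    obtain ⟨g, hg⟩ := hKU.cyclic.exists_generator
    have hog : orderOf g = Nat.card K := orderOf_eq_card_of_forall_mem_zpowers hg
    have h1 := h54 (g : G) g.2 (by rw [Subgroup.orderOf_coe, hog]; exact hKp)
    rwa [Subgroup.orderOf_coe, hog] at h1

/-- `O_p(H)` is the Sylow `p`-subgroup of a nilpotent `H`. -/
theorem card_pCore_of_nilpotent {H P : Subgroup G} {p : ℕ} [Fact p.Prime]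
    (hnil : Group.IsNilpotent H) (hP : IsSylowIn p P H) :
    Nat.card (pCore p ↥H) = Nat.card P := by
  have hHP : H ≤ Subgroup.normalizer (P : Set G) :=
    Cfsg.Agent.Lib.Helper7.BGTypes.le_normalizer_sylow_of_nilpotent hnil hP
  have h1 : (pCore p ↥H).map H.subtype = P := by
    apply le_antisymm
    · apply pgroup_le_of_not_dvd_relIndex hHP hP.not_dvd_relIndex
        ((Cfsg.Agent.Lib.Helper1.pCore_isPGroup p).map _) (Subgroup.map_subtype_le _)
    · have hn : (P.subgroupOf H).Normal := Subgroup.normal_subgroupOf_of_le_normalizer hHP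
      have h2 : P.subgroupOf H ≤ pCore p ↥H :=
        Cfsg.Agent.Lib.Helper1.le_pCore hn (hP.isPGroup.comap_subtype)
      have h3 := Subgroup.map_mono (f := H.subtype) h2
      rwa [Subgroup.map_subgroupOf_eq_of_le hP.le] at h3
  rw [← h1, Subgroup.card_map_of_injective H.subtype_injective]

/-- **B & G, Theorem 15.2 (e)**: the trichotomy for Type V. -/
theorem typeV_trichotomy (hG : IsMinSimpleOddOrder G) {M K U : Subgroup G} (hM : IsCoatom M)
    (hKU : IsSigmaDecomposition M K U) (hK1 : K ≠ ⊥) (hU : U = ⊥)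
    (hnil : Group.IsNilpotent (sigmaCore M)) :
    IsTISubset (sigmaCore M : Set G) ∨
      (∃ p : ℕ, p.Prime ∧ p ∣ Nat.card (sigmaCore M) ∧ Nat.card K ∣ p - 1 ∧
        IsCyclic (pPrimeCore p (sigmaCore M))) ∨
      (∃ p : ℕ, p.Prime ∧ p ∣ Nat.card (sigmaCore M) ∧
        Nat.card (pCore p (sigmaCore M)) = p ^ 3 ∧ Nat.card K ∣ p + 1 ∧
        IsCyclic (pPrimeCore p (sigmaCore M))) := by
  by_cases hTI : IsTISubset (sigmaCore M : Set G)
  · exact Or.inl hTI
  right
  obtain ⟨y, p, hpp, hyσ, hyp, hyM⟩ := exists_prime_order_of_not_TI hG hM hTI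
  haveI : Fact p.Prime := ⟨hpp⟩
  have h30c : H30c G := Cfsg.Agent.Lib.Helper2.BG14T.h30c_of_p1430 (Cfsg.Agent.S1430.result hG)
  have hy1 : y ≠ 1 := by
    intro h
    rw [h, orderOf_one] at hyp
    exact hpp.one_lt.ne hyp
  have hpy : p ∣ orderOf y := by rw [hyp]
  obtain ⟨N, hN, hNX⟩ := Cfsg.Agent.Lib.Helper2.BG14T.exists_coatom_normalizer hG hpy
  have hD := Cfsg.Agent.Lib.Helper2.BG14T.analysis hG h30c hM hN hyσ hy1 hyM hpy hNX
  obtain ⟨P, hP, hKs, hcyc⟩ := structure_of_data hG hM hN hKU hK1 hU hnil hyσ hyp hD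
  have harith := arith_of_data hG hM hN hKU hK1 hU hnil hD.qsigma hD.qtau2 hP hKs
  have hpH : p ∣ Nat.card (sigmaCore M) := by
    have := orderOf_dvd_natCard (⟨y, hyσ⟩ : ↥(sigmaCore M))
    rwa [Subgroup.orderOf_mk, hyp] at this
  have hcycO : IsCyclic (pPrimeCore p (sigmaCore M)) := by
    have h1 : IsCyclic ↥((pPrimeCore p ↥(sigmaCore M)).map (sigmaCore M).subtype) := by
      apply hcyc _ (Subgroup.map_subtype_le _)
      rw [Subgroup.card_map_of_injective (sigmaCore M).subtype_injective]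
      exact Cfsg.Agent.Lib.Helper1.pPrimeCore_coprime p
    exact ((pPrimeCore p ↥(sigmaCore M)).equivMapOfInjective (sigmaCore M).subtype
      (sigmaCore M).subtype_injective).isCyclic.mpr h1
  rcases harith with h | ⟨hPc, h⟩
  · exact Or.inl ⟨p, hpp, hpH, h, hcycO⟩
  · exact Or.inr ⟨p, hpp, hpH, by rw [card_pCore_of_nilpotent hnil hP, hPc], h, hcycO⟩

end Cfsg.Agent.Lib.Helper2.BG1383
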