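import Mathlib
import Cfsg.Prelude
import Cfsg.Agent.S1430
import Cfsg.Agent.S1408
import Cfsg.Agent.S1414
import Cfsg.Agent.S1417
import Cfsg.Agent.S1418
import Cfsg.Agent.S1423
import Cfsg.Agent.S1425
import Cfsg.Agent.S1432
import Cfsg.Agent.S1351
import Cfsg.Agent.S1352
import Cfsg.Agent.S1353
import Cfsg.Agent.S1354
import Cfsg.Agent.S1366
import Cfsg.Agent.S1367
import Cfsg.Agent.Lib.Helper10.BGFifteenB
import Cfsg.Agent.Lib.Helper2.BG14X
import Cfsg.Agent.Lib.Helper3.BG14M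
import Cfsg.Agent.Lib.Helper9.BGExc7
import Cfsg.Agent.Lib.Helper1.Cores
import Cfsg.Agent.Lib.Helper1.BGFcons

/-!
# Bender--Glauberman, Theorem 14.4 (d) and the `κ(N) = ∅` half of row S1436 (a)  (helper2)

`M` maximal, `x ∈ M_σ - 1`, `C_G(x) ⊄ M`, `N` the maximal subgroup over `C_G(x)`, `κ(N) = ∅` and
some prime of `σ(N)` divides `|M|`.  Then `τ₂(M) = ∅` (given `κ(M) = ∅`).
-/

set_option autoImplicit false
open Cfsg
open Cfsg.Agent.Lib.Helper10.BG
open Cfsg.Agent.Lib.Helper9.BGExc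
open Cfsg.Agent.Lib.Helper11.BG14 (H30c mem_kappa_or_tau2 orderOf_pow_div)

namespace Cfsg.Agent.Lib.Helper2.BG1436A

variable {G : Type*} [Group G] [Finite G]

omit [Finite G] in
/-- an element of `M` whose order involves only primes `> p` lies in `O_{p'}(M)`, if every prime
dividing `|M : O_{p'}(M)|` is `≤ p`. -/
theorem mem_pPrimeCore_of_big {M : Subgroup G} {p : ℕ}
    (h14 : ∀ q : ℕ, q.Prime → q ∣ (Cfsg.pPrimeCore p ↥M).index → q ≤ p) (w : ↥M)
    (hw : ∀ q : ℕ, q.Prime → q ∣ orderOf w → p < q) : w ∈ Cfsg.pPrimeCore p ↥M := by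
  haveI : (Cfsg.pPrimeCore p ↥M).Normal := Cfsg.Agent.Lib.Helper1.pPrimeCore_normal p
  by_contra hwW
  have h1 : (QuotientGroup.mk' (Cfsg.pPrimeCore p ↥M)) w ≠ 1 := by
    intro h
    exact hwW ((QuotientGroup.eq_one_iff w).mp h)
  have h2 : orderOf ((QuotientGroup.mk' (Cfsg.pPrimeCore p ↥M)) w) ≠ 1 := by
    intro h
    exact h1 (orderOf_eq_one_iff.mp h)
  obtain ⟨q, hq, hqd⟩ := Nat.exists_prime_and_dvd h2
  have h3 : q ∣ orderOf w := hqd.trans (orderOf_map_dvd _ w)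
  have h4 : q ∣ (Cfsg.pPrimeCore p ↥M).index := by
    rw [Subgroup.index_eq_card]
    exact hqd.trans (orderOf_dvd_natCard _)
  exact absurd (h14 q hq h4) (not_le.mpr (hw q hq h3))

/-- `O_{p'}(M)` centralizes the elements of order `p` of a nilpotent `M_σ`. -/
theorem commute_of_mem_pPrimeCore {M : Subgroup G}
    (hnil : Group.IsNilpotent (sigmaCore M)) {p : ℕ} [Fact p.Prime] {y : G}
    (hy : y ∈ sigmaCore M) (hyp : orderOf y = p) {w : ↥M} (hw : w ∈ Cfsg.pPrimeCore p ↥M) :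
    (w : G) * y = y * (w : G) := by
  have hpp : p.Prime := Fact.out
  haveI hWn : (Cfsg.pPrimeCore p ↥M).Normal := Cfsg.Agent.Lib.Helper1.pPrimeCore_normal p
  have hyM : y ∈ M := sigmaCore_le M hy
  -- `c = w⁻¹ (y w y⁻¹)`
  have hc1 : w⁻¹ * ((⟨y, hyM⟩ : ↥M) * w * (⟨y, hyM⟩ : ↥M)⁻¹) ∈ Cfsg.pPrimeCore p ↥M :=
    Subgroup.mul_mem _ (Subgroup.inv_mem _ hw) (hWn.conj_mem w hw _)
  have hcop : (orderOf (w⁻¹ * ((⟨y, hyM⟩ : ↥M) * w * (⟨y, hyM⟩ : ↥M)⁻¹))).Coprime p := by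
    have h1 := Cfsg.Agent.Lib.Helper1.pPrimeCore_coprime (G := ↥M) p
    have h2 : orderOf (w⁻¹ * ((⟨y, hyM⟩ : ↥M) * w * (⟨y, hyM⟩ : ↥M)⁻¹)) ∣
        Nat.card (Cfsg.pPrimeCore p ↥M) := by
      have := orderOf_dvd_natCard (⟨_, hc1⟩ : ↥(Cfsg.pPrimeCore p ↥M))
      rwa [Subgroup.orderOf_mk] at this
    exact h1.coprime_dvd_left h2
  set c : G := (w : G)⁻¹ * (y * (w : G) * y⁻¹) with hc
  have hcoe : ((w⁻¹ * ((⟨y, hyM⟩ : ↥M) * w * (⟨y, hyM⟩ : ↥M)⁻¹) : ↥M) : G) = c := by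
    simp [hc]
  have hcord : (orderOf c).Coprime p := by
    rw [← hcoe, Subgroup.orderOf_coe]; exact hcop
  have hwy : (w : G)⁻¹ * y * (w : G) ∈ sigmaCore M :=
    conj_mem_of_mem_normalizer' (le_normalizer_sigmaCore M w.2) hy
  have hcσ : c ∈ sigmaCore M := by
    have : c = ((w : G)⁻¹ * y * (w : G)) * y⁻¹ := by rw [hc]; group
    rw [this]
    exact (sigmaCore M).mul_mem hwy ((sigmaCore M).inv_mem hy)
  have hcy : c * y = y * c :=
    Cfsg.Agent.Lib.Helper1.BGFcons.commute_of_coprime_of_nilpotent hnil hcσ hy (by rw [hyp]; exact hcord)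
  have hconj : (w : G)⁻¹ * y * (w : G) = c * y := by rw [hc]; group
  have ho1 : orderOf ((w : G)⁻¹ * y * (w : G)) = p := by
    have hsc : SemiconjBy (w : G)⁻¹ y ((w : G)⁻¹ * y * (w : G)) := by
      unfold SemiconjBy; group
    rw [← hsc.orderOf_eq, hyp]
  have ho2 : orderOf (c * y) = orderOf c * orderOf y :=
    (show Commute c y from hcy).orderOf_mul_eq_mul_orderOf_of_coprime (by rw [hyp]; exact hcord)
  rw [hconj, ho2, hyp] at ho1
  have hc1' : orderOf c = 1 := by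
    have hp0 : 0 < p := hpp.pos
    have : orderOf c * p = 1 * p := by rw [ho1, one_mul]
    exact Nat.eq_of_mul_eq_mul_right hp0 this
  have hc_one : c = 1 := orderOf_eq_one_iff.mp hc1'
  rw [hc_one, one_mul] at hconj
  calc (w : G) * y = (w : G) * ((w : G)⁻¹ * y * (w : G)) := by rw [hconj]
    _ = y * (w : G) := by group

open Cfsg.Agent.Lib.Helper2.BG14T (Data)

/-- **B & G, Theorem 14.4 (d)**: the primes of `σ(N)` dividing `|M|` lie in `β(N)`. -/
theorem mem_beta_of_mem_sigma (hG : IsMinSimpleOddOrder G) {M N : Subgroup G} (hM : IsCoatom M)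
    (hN : IsCoatom N) {x : G} {p : ℕ} [Fact p.Prime] (hD : Data M N x p) (hx : x ∈ sigmaCore M)
    (hpx : p ∣ orderOf x)
    (hNX : Subgroup.normalizer (Subgroup.zpowers (x ^ (orderOf x / p)) : Set G) ≤ N)
    (hnilM : Group.IsNilpotent (sigmaCore M)) {t : ℕ} (htσ : t ∈ sigma N)
    (htM : t ∣ Nat.card M) : t ∈ beta N := by
  by_contra htβ
  have htp : t.Prime := htσ.1
  haveI : Fact t.Prime := ⟨htp⟩
  have hpp : p.Prime := Fact.out
  have hpτ : p ∈ tau2 N := hD.qtau2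
  have hpid : ¬ IsIdealPrime p G :=
    (Cfsg.Agent.S1408.result hG N hN p hpτ.2.1 hpτ.2.2.1 hpτ.2.2.2).1
  have hpβM : p ∉ beta M := fun h => hpid h.2
  have hpM : p ∣ Nat.card M := hD.qsigma.2.1
  have h14M := ((Cfsg.Agent.S1414.result hG M hM).2.2.2.2 p hpp hpM hpβM).2.2
  have htne : t ≠ p := fun h => hpτ.2.1 (h ▸ htσ)
  set y : G := x ^ (orderOf x / p) with hy
  have hyp : orderOf y = p := orderOf_pow_div hpx
  have hyσ : y ∈ sigmaCore M := (sigmaCore M).pow_mem hx _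
  -- `t < p`
  have htlt : t < p := by
    by_contra hge
    have hgt : p < t := lt_of_le_of_ne (not_lt.mp hge) (Ne.symm htne)
    obtain ⟨w, hw⟩ := exists_prime_orderOf_dvd_card' (G := ↥M) t htM
    have hwW : w ∈ Cfsg.pPrimeCore p ↥M := by
      apply mem_pPrimeCore_of_big h14M w
      intro q hq hqd
      rw [hw] at hqd
      rw [(Nat.prime_dvd_prime_iff_eq hq htp).mp hqd]
      exact hgt
    have hcomm := commute_of_mem_pPrimeCore hnilM hyσ hyp hwW
    have hwN : (w : G) ∈ N := by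
      apply hNX
      have h1 : (w : G) ∈ Subgroup.centralizer ({y} : Set G) :=
        Cfsg.Agent.Lib.Helper2.BG14T.mem_centralizer_singleton.mpr hcomm.symm
      have h2 := Cfsg.Agent.Lib.Helper2.BG14T.centralizer_le_normalizer_zpowers_pow y 1 h1
      rwa [pow_one] at h2
    have hwMN : (w : G) ∈ M ⊓ N := ⟨w.2, hwN⟩
    have h1 : t ∣ Nat.card ↥(M ⊓ N) := by
      have := orderOf_dvd_natCard (⟨(w : G), hwMN⟩ : ↥(M ⊓ N))
      rwa [Subgroup.orderOf_mk, Subgroup.orderOf_coe, hw] at this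
    have h2 : t ∣ Nat.card (sigmaCore N) :=
      Cfsg.Agent.Lib.Helper7.BG13.dvd_card_sigmaCore_of_mem_sigma hG hN htσ
    have h3 := Cfsg.Agent.Lib.Helper9.BGExc.IsComplIn.coprime_sigmaCore hG hN hD.compl
    exact htp.one_lt.ne' (Nat.eq_one_of_dvd_coprimes h3 h1 h2)
  -- `S1414` for `(N, t)`
  have htN : t ∣ Nat.card N := htσ.2.1
  have h14N := ((Cfsg.Agent.S1414.result hG N hN).2.2.2.2 t htp htN htβ).2.2
  obtain ⟨A, hAMN, hAe, hAcard⟩ := hD.exA
  have hAN : A ≤ N := hAMN.trans inf_le_right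
  have h17 := Cfsg.Agent.S1417.result hG N hN p hpτ A ⟨hAN, hAe, hAcard⟩
  have hCA : sigmaCore N ⊓ Subgroup.centralizer (A : Set G) = ⊥ := h17.2.2.2.1
  have h2 : t ∣ Nat.card (sigmaCore N) :=
    Cfsg.Agent.Lib.Helper7.BG13.dvd_card_sigmaCore_of_mem_sigma hG hN htσ
  obtain ⟨c, hc⟩ := exists_prime_orderOf_dvd_card' (G := ↥(sigmaCore N)) t h2
  have hcG : orderOf (c : G) = t := by rw [Subgroup.orderOf_coe]; exact hc
  have hmem : (c : G) ∈ sigmaCore N ⊓ Subgroup.centralizer (A : Set G) := by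
    refine Subgroup.mem_inf.mpr ⟨c.2, ?_⟩
    rw [Subgroup.mem_centralizer_iff]
    intro a ha
    have haN : a ∈ N := hAN ha
    have hap : a ^ p = 1 := hAe.2 a ha
    have haW : (⟨a, haN⟩ : ↥N) ∈ Cfsg.pPrimeCore t ↥N := by
      apply mem_pPrimeCore_of_big h14N
      intro q hq hqd
      rw [Subgroup.orderOf_mk] at hqd
      have hqp : q ∣ p := hqd.trans (orderOf_dvd_of_pow_eq_one hap)
      rw [(Nat.prime_dvd_prime_iff_eq hq hpp).mp hqp]
      exact htlt
    exact commute_of_mem_pPrimeCore hD.nil c.2 hcG haW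
  rw [hCA, Subgroup.mem_bot] at hmem
  rw [hmem, orderOf_one] at hcG
  exact htp.one_lt.ne hcG

/-- **the `κ(N) = ∅` half of row S1436 (a)**, the `τ₂` part. -/
theorem tau2_eq_empty (hG : IsMinSimpleOddOrder G) (M : Subgroup G) (hM : IsCoatom M) (x : G)
    (hx : x ∈ sigmaCore M) (hx1 : x ≠ 1) (hxM : ¬ Subgroup.centralizer ({x} : Set G) ≤ M)
    (N : Subgroup G) (hN : IsCoatom N) (hxN : Subgroup.centralizer ({x} : Set G) ≤ N)
    (hkN : kappa N = ∅) (hkM : kappa M = ∅) (hq : ∃ q ∈ sigma N, q ∣ Nat.card M) :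
    tau2 M = ∅ := by
  classical
  have h30c : H30c G := Cfsg.Agent.Lib.Helper2.BG14T.h30c_of_p1430 (Cfsg.Agent.S1430.result hG)
  have ho : orderOf x ≠ 1 := fun h => hx1 (orderOf_eq_one_iff.mp h)
  obtain ⟨p, hpp, hpx⟩ := Nat.exists_prime_and_dvd ho
  haveI : Fact p.Prime := ⟨hpp⟩
  obtain ⟨N', hN', hNX⟩ := Cfsg.Agent.Lib.Helper2.BG14T.exists_coatom_normalizer hG hpx
  have hD := Cfsg.Agent.Lib.Helper2.BG14T.analysis hG h30c hM hN' hx hx1 hxM hpx hNX
  obtain rfl : N = N' := hD.uniq N hN hxN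
  by_contra hne
  obtain ⟨r, hr⟩ := Set.nonempty_iff_ne_empty.mpr hne
  have hrp : r.Prime := hr.1
  haveI : Fact r.Prime := ⟨hrp⟩
  have hrσ : r ∉ sigma M := hr.2.1
  -- `B ≅ E_{r²}` inside a complement `E`
  obtain ⟨T, hT⟩ := exists_isSylowIn r M
  obtain ⟨B, hBT, hBe, hBcard⟩ :=
    Cfsg.Agent.Lib.Helper9.BGPrime.exists_elemAb_sq_le hr.2.2.1 hr.2.2.2 hT
  have hBM : B ≤ M := hBT.trans hT.le
  have hcopB : (Nat.card B).Coprime (Nat.card (sigmaCore M)) := by
    rw [hBcard]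
    exact ((coprime_card_sigmaCore hG hM hrp hrσ).symm).pow_left 2
  obtain ⟨E, hE, hBE⟩ := exists_isComplIn_sigmaCore_ge hG hM hBM hcopB
  have h17 := Cfsg.Agent.S1417.result hG M hM r hr B ⟨hBM, hBe, hBcard⟩
  have hnilM : Group.IsNilpotent (sigmaCore M) := h17.1
  have hCB : sigmaCore M ⊓ Subgroup.centralizer (B : Set G) = ⊥ := h17.2.2.2.1
  have h18 := Cfsg.Agent.S1418.result hG M hM E hE r hr B ⟨hBE, hBe, hBcard⟩
  have hEB : E ≤ Subgroup.normalizer (B : Set G) := h18.1.1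
  have hd : ∀ t : ℕ, t ∈ sigma N → t ∣ Nat.card M → t ∈ beta N := fun t h1 h2 =>
    mem_beta_of_mem_sigma hG hM hN hD hx hpx hNX hnilM h1 h2
  have hrM : r ∣ Nat.card M := by
    have h1 : r ∣ Nat.card B := by rw [hBcard]; exact dvd_pow_self r two_ne_zero
    exact h1.trans (Subgroup.card_dvd_of_le hBM)
  have hridM : ¬ IsIdealPrime r G :=
    (Cfsg.Agent.S1408.result hG M hM r hrσ hr.2.2.1 hr.2.2.2).1
  have hrσN : r ∉ sigma N := fun h => hridM (hd r h hrM).2
  obtain ⟨q, hqσN, hqM⟩ := hq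
  have hqp : q.Prime := hqσN.1
  haveI : Fact q.Prime := ⟨hqp⟩
  have hqβ : q ∈ beta N := hd q hqσN hqM
  have hqσM : q ∉ sigma M := by
    intro h
    obtain ⟨g, hg⟩ := (Cfsg.Agent.S1378.result hG).2 M N hM hN ⟨q, h, hqσN⟩
    exact hD.nconj g hg
  have hqτM : q ∉ tau2 M := fun h =>
    (Cfsg.Agent.S1408.result hG M hM q h.2.1 h.2.2.1 h.2.2.2).1 hqβ.2
  -- an element `z` of order `q` of `E`
  have hqE : q ∣ Nat.card E := by
    have hcard := Cfsg.Agent.Lib.Helper10.IsComplIn.card_eq hE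
    rw [hcard] at hqM
    rcases (Nat.Prime.dvd_mul hqp).mp hqM with h | h
    · exact h
    · exact absurd (mem_sigma_of_dvd_card_sigmaCore hG hM hqp h) hqσM
  obtain ⟨z, hz⟩ := exists_prime_orderOf_dvd_card' (G := ↥E) q hqE
  have hzG : orderOf (z : G) = q := by rw [Subgroup.orderOf_coe]; exact hz
  have hzE : (z : G) ∈ E := z.2
  have hzM : (z : G) ∈ M := hE.1 z.2
  have hz1 : (z : G) ≠ 1 := by
    intro h
    rw [h, orderOf_one] at hzG
    exact hqp.one_lt.ne hzG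
  have hzfree : ∀ c ∈ sigmaCore M, (z : G) * c = c * (z : G) → c = 1 := by
    intro c hc hzc
    by_contra hc1
    rcases mem_kappa_or_tau2 hG hM hc hc1 hzM hzG hqσM hzc with h | h
    · rw [hkM] at h; exact h
    · exact hqτM h
  by_cases hCBz : ∃ b ∈ B, b ≠ 1 ∧ b * (z : G) = (z : G) * b
  · -- some `b ∈ B - 1` centralizes `z`
    obtain ⟨b, hbB, hb1, hbz⟩ := hCBz
    have hZ1 : Subgroup.zpowers (z : G) ≠ ⊥ := by
      intro h
      apply hz1
      have := Subgroup.mem_zpowers (z : G)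
      rw [h] at this
      exact Subgroup.mem_bot.mp this
    have hZprimes : ∀ p' : ℕ, p'.Prime → p' ∣ Nat.card (Subgroup.zpowers (z : G)) →
        p' ∈ sigma N := by
      intro p' hp' hd
      rw [Nat.card_zpowers, hzG] at hd
      rw [(Nat.prime_dvd_prime_iff_eq hp' hqp).mp hd]
      exact hqσN
    obtain ⟨g, hg⟩ := Cfsg.Agent.S1425.result hG N hN (Subgroup.zpowers (z : G)) hZ1 hZprimes
    have hz'σ : g * (z : G) * g⁻¹ ∈ sigmaCore N :=
      hg ⟨(z : G), Subgroup.mem_zpowers _, by simp [MulAut.conj_apply]⟩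
    have hz'1 : g * (z : G) * g⁻¹ ≠ 1 := by
      intro h
      apply hz1
      calc (z : G) = g⁻¹ * (g * (z : G) * g⁻¹) * g := by group
        _ = 1 := by rw [h]; group
    have hXcard : Nat.card ((Subgroup.zpowers (z : G)).map (MulAut.conj g).toMonoidHom) = q := by
      rw [Subgroup.card_map_of_injective (MulAut.conj g).injective, Nat.card_zpowers, hzG]
    obtain ⟨P⟩ : Nonempty (Sylow q ↥(sigmaCore N)) := inferInstance
    have h23 := (Cfsg.Agent.S1423.result hG N hN q hqσN _ (hg.trans (sigmaCore_le N)) hXcard P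
      (Or.inl hqβ)).1.1
    have hb'X : g * b * g⁻¹ ∈ Subgroup.centralizer
        (((Subgroup.zpowers (z : G)).map (MulAut.conj g).toMonoidHom : Subgroup G) : Set G) := by
      rw [Subgroup.mem_centralizer_iff]
      rintro _ ⟨u, hu, rfl⟩
      obtain ⟨k, rfl⟩ := Subgroup.mem_zpowers_iff.mp hu
      have hc : Commute b ((z : G) ^ k) := (show Commute b (z : G) from hbz).zpow_right k
      simp only [MulEquiv.coe_toMonoidHom, MulAut.conj_apply]
      calc g * (z : G) ^ k * g⁻¹ * (g * b * g⁻¹) = g * ((z : G) ^ k * b) * g⁻¹ := by group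
        _ = g * (b * (z : G) ^ k) * g⁻¹ := by rw [hc.eq]
        _ = g * b * g⁻¹ * (g * (z : G) ^ k * g⁻¹) := by group
    have hb'N : g * b * g⁻¹ ∈ N := h23 hb'X
    have hbr : orderOf b = r := by
      have h1 : orderOf b ∣ r := orderOf_dvd_of_pow_eq_one (hBe.2 b hbB)
      rcases (Nat.dvd_prime hrp).mp h1 with h | h
      · exact absurd (orderOf_eq_one_iff.mp h) hb1
      · exact h
    have hb'r : orderOf (g * b * g⁻¹) = r := by
      have hsc : SemiconjBy g b (g * b * g⁻¹) := by unfold SemiconjBy; group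
      rw [← hsc.orderOf_eq, hbr]
    have hcomm : g * b * g⁻¹ * (g * (z : G) * g⁻¹) = g * (z : G) * g⁻¹ * (g * b * g⁻¹) := by
      calc g * b * g⁻¹ * (g * (z : G) * g⁻¹) = g * (b * (z : G)) * g⁻¹ := by group
        _ = g * ((z : G) * b) * g⁻¹ := by rw [hbz]
        _ = g * (z : G) * g⁻¹ * (g * b * g⁻¹) := by group
    rcases mem_kappa_or_tau2 hG hN hz'σ hz'1 hb'N hb'r hrσN hcomm with h | h
    · rw [hkN] at h; exact h
    · obtain ⟨T', hT'⟩ := exists_isSylowIn r (M ⊓ N)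
      have hT'N : IsSylowIn r T' N :=
        Cfsg.Agent.Lib.Helper9.BGExc.IsComplIn.isSylowIn hG hN hD.compl hrσN hT'
      obtain ⟨Ar, hArT, hAre, hArcard⟩ :=
        Cfsg.Agent.Lib.Helper9.BGPrime.exists_elemAb_sq_le h.2.2.1 h.2.2.2 hT'N
      have hArMN : Ar ≤ M ⊓ N := hArT.trans hT'.le
      have h17' := Cfsg.Agent.S1417.result hG M hM r hr Ar
        ⟨hArMN.trans inf_le_left, hAre, hArcard⟩
      have hNM : N ≠ M := fun h => hxM (h ▸ hD.cent_le)
      have h5 := h17'.2.2.2.2.1 N hN hNM (hArMN.trans inf_le_right)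
      have h6 : x ∈ sigmaCore M ⊓ N :=
        ⟨hx, hD.cent_le (Cfsg.Agent.Lib.Helper2.BG14T.self_mem_centralizer x)⟩
      rw [h5, Subgroup.mem_bot] at h6
      exact hx1 h6
  · -- `z` acts fixed-point-freely on `M_σ B`: Thompson
    push Not at hCBz
    have hBfree : ∀ b ∈ B, b * (z : G) = (z : G) * b → b = 1 := by
      intro b hb h
      by_contra h1
      exact hCBz b hb h1 h
    have hqr : q ≠ r := by
      rintro rfl
      exact hqτM hr
    have hBnorm : B ≤ Subgroup.normalizer (sigmaCore M : Set G) :=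
      hBM.trans (le_normalizer_sigmaCore M)
    have hSB : sigmaCore M ⊓ B = ⊥ := (Subgroup.disjoint_of_coprime_natCard hcopB.symm).eq_bot
    have hzσ : (z : G) ∈ Subgroup.normalizer (sigmaCore M : Set G) :=
      le_normalizer_sigmaCore M hzM
    have hzB : (z : G) ∈ Subgroup.normalizer (B : Set G) := hEB hzE
    have hnorm : Subgroup.zpowers (z : G) ≤
        Subgroup.normalizer ((sigmaCore M ⊔ B : Subgroup G) : Set G) :=
      Cfsg.Agent.Lib.Helper9.Wielandt.le_normalizer_sup (Subgroup.zpowers_le.mpr hzσ)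
        (Subgroup.zpowers_le.mpr hzB)
    have hSRM : (sigmaCore M ⊔ B) ⊔ Subgroup.zpowers (z : G) ≤ M :=
      sup_le (sup_le (sigmaCore_le M) hBM) (Subgroup.zpowers_le.mpr hzM)
    have hsolv : Group.IsSolvable ↥((sigmaCore M ⊔ B) ⊔ Subgroup.zpowers (z : G)) :=
      isSolvable_of_ne_top hG (fun h => hM.1 (top_le_iff.mp (h ▸ hSRM)))
    have hodd := odd_card_subgroup hG ((sigmaCore M ⊔ B) ⊔ Subgroup.zpowers (z : G))
    have hdecomp : ∀ m ∈ sigmaCore M ⊔ B, ∃ a ∈ sigmaCore M, ∃ b ∈ B, m = a * b := fun m hm =>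
      exists_mul_of_mem_sup_of_le_normalizer hBnorm hm
    have hcompl : IsComplIn (sigmaCore M) B (sigmaCore M ⊔ B) :=
      ⟨le_sup_left, le_sup_right, hSB, hdecomp⟩
    have hcardS := Cfsg.Agent.Lib.Helper10.IsComplIn.card_eq hcompl
    have hcop : (Nat.card ↥(sigmaCore M ⊔ B)).Coprime (Nat.card (Subgroup.zpowers (z : G))) := by
      rw [hcardS, Nat.card_zpowers, hzG, hBcard]
      apply Nat.Coprime.mul_left (coprime_card_sigmaCore hG hM hqp hqσM)
      exact ((Nat.coprime_primes hrp hqp).mpr (Ne.symm hqr)).pow_left 2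
    have hR1 : Subgroup.zpowers (z : G) ≠ ⊥ := by
      intro h
      apply hz1
      have := Subgroup.mem_zpowers (z : G)
      rw [h] at this
      exact Subgroup.mem_bot.mp this
    have hreg : ∀ u ∈ Subgroup.zpowers (z : G), u ≠ 1 →
        (sigmaCore M ⊔ B) ⊓ Subgroup.centralizer ({u} : Set G) = ⊥ := by
      intro u hu hu1
      rw [eq_bot_iff]
      intro m hm
      rw [Subgroup.mem_bot]
      obtain ⟨hmS, hmu⟩ := Subgroup.mem_inf.mp hm
      rw [← mem_powers_iff_mem_zpowers] at hu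
      obtain ⟨n, rfl⟩ := (Submonoid.mem_powers_iff _ _).mp hu
      have hcopn : (orderOf (z : G)).Coprime n := by
        rw [hzG, Nat.Prime.coprime_iff_not_dvd hqp]
        intro hd
        apply hu1
        rw [← hzG] at hd
        exact orderOf_dvd_iff_pow_eq_one.mp hd
      have hzin := Cfsg.Agent.Lib.Helper2.BG14T.mem_zpowers_pow_of_coprime (z : G) hcopn
      obtain ⟨j, hj⟩ := Subgroup.mem_zpowers_iff.mp hzin
      have hmz : Commute m (z : G) := by
        have h1 : Commute m ((z : G) ^ n) :=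
          (Cfsg.Agent.Lib.Helper2.BG14T.mem_centralizer_singleton.mp hmu).symm
        have h2 := h1.zpow_right j
        rwa [hj] at h2
      obtain ⟨s, hs, b, hb, rfl⟩ := hdecomp m hmS
      have hzs : (z : G) * s * (z : G)⁻¹ ∈ sigmaCore M := conj_mem_of_mem_normalizer hzσ hs
      have hzb : (z : G) * b * (z : G)⁻¹ ∈ B := conj_mem_of_mem_normalizer hzB hb
      have hkey : s⁻¹ * ((z : G) * s * (z : G)⁻¹) = b * ((z : G) * b * (z : G)⁻¹)⁻¹ := by
        have h3 : (z : G) * (s * b) * (z : G)⁻¹ = s * b := by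
          rw [← hmz.eq]; group
        have h4 : (z : G) * s * (z : G)⁻¹ * ((z : G) * b * (z : G)⁻¹) = s * b := by
          rw [← h3]; group
        calc s⁻¹ * ((z : G) * s * (z : G)⁻¹)
            = s⁻¹ * ((z : G) * s * (z : G)⁻¹ * ((z : G) * b * (z : G)⁻¹)) *
                ((z : G) * b * (z : G)⁻¹)⁻¹ := by group
          _ = b * ((z : G) * b * (z : G)⁻¹)⁻¹ := by rw [h4]; group
      have hmem : s⁻¹ * ((z : G) * s * (z : G)⁻¹) ∈ sigmaCore M ⊓ B := by
        refine Subgroup.mem_inf.mpr ⟨(sigmaCore M).mul_mem ((sigmaCore M).inv_mem hs) hzs, ?_⟩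
        rw [hkey]
        exact B.mul_mem hb (B.inv_mem hzb)
      rw [hSB, Subgroup.mem_bot] at hmem
      have hs1 : s = 1 := by
        apply hzfree s hs
        have : (z : G) * s * (z : G)⁻¹ = s := by
          calc (z : G) * s * (z : G)⁻¹ = s * (s⁻¹ * ((z : G) * s * (z : G)⁻¹)) := by group
            _ = s := by rw [hmem, mul_one]
        calc (z : G) * s = (z : G) * s * (z : G)⁻¹ * (z : G) := by group
          _ = s * (z : G) := by rw [this]
      have hb1 : b = 1 := by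
        apply hBfree b hb
        have h5 : b * ((z : G) * b * (z : G)⁻¹)⁻¹ = 1 := by rw [← hkey, hmem]
        have h6 : (z : G) * b * (z : G)⁻¹ = b := by
          have := mul_inv_eq_one.mp h5
          exact this.symm
        calc b * (z : G) = (z : G) * b * (z : G)⁻¹ * (z : G) := by rw [h6]
          _ = (z : G) * b := by group
      rw [hs1, hb1, one_mul]
    have hSnil : Group.IsNilpotent ↥(sigmaCore M ⊔ B) :=
      Cfsg.Agent.Lib.Helper3.BG14.isNilpotent_of_regular hnorm hsolv hodd hcop hR1 hreg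
    have hcent : sigmaCore M ≤ Subgroup.centralizer (B : Set G) := by
      intro s hs
      rw [Subgroup.mem_centralizer_iff]
      intro b hb
      apply Cfsg.Agent.Lib.Helper1.BGFcons.commute_of_coprime_of_nilpotent hSnil
        (Subgroup.mem_sup_right hb) (Subgroup.mem_sup_left hs)
      have h1 : orderOf b ∣ r := orderOf_dvd_of_pow_eq_one (hBe.2 b hb)
      have h2 : orderOf s ∣ Nat.card (sigmaCore M) := by
        have := orderOf_dvd_natCard (⟨s, hs⟩ : ↥(sigmaCore M))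
        rwa [Subgroup.orderOf_mk] at this
      exact ((coprime_card_sigmaCore hG hM hrp hrσ).symm.coprime_dvd_left h1).coprime_dvd_right h2
    have hbot : sigmaCore M = ⊥ := by
      rw [eq_bot_iff, ← hCB]
      exact le_inf le_rfl hcent
    exact sigmaCore_ne_bot hG hM hbot

/-- **the `κ(N) = ∅` half of row S1436 (a)**, the `κ` part. -/
theorem kappa_eq_empty (hG : IsMinSimpleOddOrder G) (M : Subgroup G) (hM : IsCoatom M) (x : G)
    (hx : x ∈ sigmaCore M) (hx1 : x ≠ 1) (hxM : ¬ Subgroup.centralizer ({x} : Set G) ≤ M)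
    (N : Subgroup G) (hN : IsCoatom N) (hxN : Subgroup.centralizer ({x} : Set G) ≤ N)
    (hkN : kappa N = ∅) (hq : ∃ q ∈ sigma N, q ∣ Nat.card M) :
    kappa M = ∅ := by
  classical
  have h30c : H30c G := Cfsg.Agent.Lib.Helper2.BG14T.h30c_of_p1430 (Cfsg.Agent.S1430.result hG)
  have ho : orderOf x ≠ 1 := fun h => hx1 (orderOf_eq_one_iff.mp h)
  obtain ⟨p, hpp, hpx⟩ := Nat.exists_prime_and_dvd ho
  haveI : Fact p.Prime := ⟨hpp⟩
  obtain ⟨N', hN', hNX⟩ := Cfsg.Agent.Lib.Helper2.BG14T.exists_coatom_normalizer hG hpx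
  have hD := Cfsg.Agent.Lib.Helper2.BG14T.analysis hG h30c hM hN' hx hx1 hxM hpx hNX
  obtain rfl : N = N' := hD.uniq N hN hxN
  by_contra hne
  obtain ⟨p₀, hp₀⟩ := Set.nonempty_iff_ne_empty.mpr hne
  obtain ⟨K, hK⟩ := (Cfsg.Agent.S1351.result hG M hM).1
  have hKc : IsCyclic K := (Cfsg.Agent.S1351.result hG M hM).2 K hK
  obtain ⟨U, hKU⟩ := (Cfsg.Agent.S1352.result hG M hM K hKc hK).1
  have hK1 : K ≠ ⊥ := by
    intro h
    have h1 := hK.2.2 p₀ hp₀.1 hp₀
    rw [h, Subgroup.relIndex_bot_left] at h1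
    exact h1 hp₀.2.1
  have hU : U = ⊥ := by
    by_contra hU1
    exact hxM (centralizer_le_of_U_ne_bot hG (Cfsg.Agent.S1353.result hG)
      (Cfsg.Agent.Lib.Helper2.BG14T.p1375_of hG (Cfsg.Agent.S1430.result hG)) hM hKU hK1 hU1 hx hx1)
  obtain ⟨q, hqσN, hqM⟩ := hq
  have hqp : q.Prime := hqσN.1
  haveI : Fact q.Prime := ⟨hqp⟩
  have hqσM : q ∉ sigma M := by
    intro h
    obtain ⟨g, hg⟩ := (Cfsg.Agent.S1378.result hG).2 M N hM hN ⟨q, h, hqσN⟩
    exact hD.nconj g hg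
  have hqK : q ∣ Nat.card K := by
    have hcard := Cfsg.Agent.Lib.Helper1.BGSigmaDecomp.card_eq hG hM hKU
    rw [hU, Subgroup.card_bot, one_mul] at hcard
    rw [hcard] at hqM
    rcases (Nat.Prime.dvd_mul hqp).mp hqM with h | h
    · exact h
    · exact absurd (mem_sigma_of_dvd_card_sigmaCore hG hM hqp h) hqσM
  obtain ⟨z, hz⟩ := exists_prime_orderOf_dvd_card' (G := ↥K) q hqK
  have hzG : orderOf (z : G) = q := by rw [Subgroup.orderOf_coe]; exact hz
  have hz1 : (z : G) ≠ 1 := by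
    intro h
    rw [h, orderOf_one] at hzG
    exact hqp.one_lt.ne hzG
  -- the partner `M*`
  obtain ⟨Ms, ⟨hMs, hKst, hKstH⟩, -⟩ := Cfsg.Agent.S1366.result hG M hM K U hKU hK1
  have h67 := Cfsg.Agent.S1367.result hG M hM K U hKU hK1 Ms hMs hKst hKstH
  have hzσMs : (z : G) ∈ sigmaCore Ms := by
    have hle : K ≤ sigmaCore Ms := by
      rw [hKst]; exact inf_le_left
    exact hle z.2
  have hqσMs : q ∈ sigma Ms := by
    apply mem_sigma_of_dvd_card_sigmaCore hG hMs hqp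
    have := orderOf_dvd_natCard (⟨(z : G), hzσMs⟩ : ↥(sigmaCore Ms))
    rwa [Subgroup.orderOf_mk, hzG] at this
  obtain ⟨g, hg⟩ := (Cfsg.Agent.S1378.result hG).2 Ms N hMs hN ⟨q, hqσMs, hqσN⟩
  -- an element `k` of prime order of `K*`
  have hKs1 : sigmaCore M ⊓ Subgroup.centralizer (K : Set G) ≠ ⊥ :=
    (Cfsg.Agent.S1354.result hG M hM K hKc hK).1
  have hKscard : Nat.card ↥(sigmaCore M ⊓ Subgroup.centralizer (K : Set G)) ≠ 1 :=
    fun h => hKs1 (Subgroup.card_eq_one.mp h)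
  obtain ⟨s, hsp, hsd⟩ := Nat.exists_prime_and_dvd hKscard
  haveI : Fact s.Prime := ⟨hsp⟩
  obtain ⟨k, hk⟩ := exists_prime_orderOf_dvd_card'
    (G := ↥(sigmaCore M ⊓ Subgroup.centralizer (K : Set G))) s hsd
  have hkG : orderOf (k : G) = s := by rw [Subgroup.orderOf_coe]; exact hk
  have hk1 : (k : G) ≠ 1 := by
    intro h
    rw [h, orderOf_one] at hkG
    exact hsp.one_lt.ne hkG
  have hkσ : (k : G) ∈ sigmaCore M := (Subgroup.mem_inf.mp k.2).1
  have hkK : (k : G) ∈ Subgroup.centralizer (K : Set G) := (Subgroup.mem_inf.mp k.2).2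
  have hkz : (z : G) * (k : G) = (k : G) * (z : G) :=
    (Subgroup.mem_centralizer_iff.mp hkK) (z : G) z.2
  -- `C_G(k) ≤ M` and `C_G(z) ≤ M*`
  have hXcard : (Nat.card (Subgroup.zpowers (k : G))).Prime := by
    rw [Nat.card_zpowers, hkG]; exact hsp
  have hCk := (h67.1 (Subgroup.zpowers (k : G)) (Subgroup.zpowers_le.mpr k.2) hXcard).1
  have hYcard : (Nat.card (Subgroup.zpowers (z : G))).Prime := by
    rw [Nat.card_zpowers, hzG]; exact hqp
  have hCz := (h67.2 (Subgroup.zpowers (z : G)) (Subgroup.zpowers_le.mpr z.2) hYcard).1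
  have hcz : ∀ (a c : G), c * a = a * c → c ∈ Subgroup.centralizer (Subgroup.zpowers a : Set G) := by
    intro a c hca
    rw [Subgroup.mem_centralizer_iff]
    intro u hu
    obtain ⟨j, rfl⟩ := Subgroup.mem_zpowers_iff.mp hu
    exact ((show Commute c a from hca).zpow_right j).eq.symm
  have hkMs : (k : G) ∈ Ms := hCz (hcz _ _ hkz.symm)
  -- the conjugates
  have hz'σ : g * (z : G) * g⁻¹ ∈ sigmaCore N := by
    rw [hg]
    have := Cfsg.Agent.Lib.Helper2.BG14T.sigmaCore_cj hG hMs g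
    change sigmaCore (cj g Ms) = cj g (sigmaCore Ms) at this
    change g * (z : G) * g⁻¹ ∈ sigmaCore (cj g Ms)
    rw [this]
    exact conj_mem_cj hzσMs
  have hz'1 : g * (z : G) * g⁻¹ ≠ 1 := by
    intro h
    apply hz1
    calc (z : G) = g⁻¹ * (g * (z : G) * g⁻¹) * g := by group
      _ = 1 := by rw [h]; group
  have hyN : g * (k : G) * g⁻¹ ∈ N := by
    rw [hg]
    exact conj_mem_cj hkMs
  have hyo : orderOf (g * (k : G) * g⁻¹) = s := by
    have hsc : SemiconjBy g (k : G) (g * (k : G) * g⁻¹) := by unfold SemiconjBy; group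
    rw [← hsc.orderOf_eq, hkG]
  have hy1 : g * (k : G) * g⁻¹ ≠ 1 := by
    intro h
    rw [h, orderOf_one] at hyo
    exact hsp.one_lt.ne hyo
  have hcomm : g * (z : G) * g⁻¹ * (g * (k : G) * g⁻¹) = g * (k : G) * g⁻¹ * (g * (z : G) * g⁻¹) := by
    calc g * (z : G) * g⁻¹ * (g * (k : G) * g⁻¹) = g * ((z : G) * (k : G)) * g⁻¹ := by group
      _ = g * ((k : G) * (z : G)) * g⁻¹ := by rw [hkz]
      _ = g * (k : G) * g⁻¹ * (g * (z : G) * g⁻¹) := by group
  have hsσM : s ∈ sigma M := by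
    apply mem_sigma_of_dvd_card_sigmaCore hG hM hsp
    have := orderOf_dvd_natCard (⟨(k : G), hkσ⟩ : ↥(sigmaCore M))
    rwa [Subgroup.orderOf_mk, hkG] at this
  have hsσN : s ∉ sigma N := by
    intro h
    obtain ⟨g', hg'⟩ := (Cfsg.Agent.S1378.result hG).2 M N hM hN ⟨s, hsσM, h⟩
    exact hD.nconj g' hg'
  have h32 := Cfsg.Agent.S1432.result hG N hN (g * (z : G) * g⁻¹) hz'σ hz'1 (g * (k : G) * g⁻¹)
    ⟨hyN, Cfsg.Agent.Lib.Helper2.BG14T.mem_centralizer_singleton.mpr hcomm⟩ hy1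
    (by
      intro p' hp' hd
      rw [hyo] at hd
      rw [(Nat.prime_dvd_prime_iff_eq hp' hsp).mp hd]
      exact hsσN)
  rcases h32 with ⟨h, -⟩ | ⟨-, -, -, huniq⟩
  · have := h s hsp (by rw [hyo])
    rw [hkN] at this
    exact this
  · -- `C_G(g k g⁻¹) ≤ g M g⁻¹`
    have hle : Subgroup.centralizer ({g * (k : G) * g⁻¹} : Set G) ≤ cj g M := by
      intro c hc
      rw [mem_cj]
      apply hCk
      apply hcz
      have hc' : g * (k : G) * g⁻¹ * c = c * (g * (k : G) * g⁻¹) :=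
        Cfsg.Agent.Lib.Helper2.BG14T.mem_centralizer_singleton.mp hc
      calc g⁻¹ * c * g * (k : G) = g⁻¹ * (c * (g * (k : G) * g⁻¹)) * g := by group
        _ = g⁻¹ * (g * (k : G) * g⁻¹ * c) * g := by rw [hc']
        _ = (k : G) * (g⁻¹ * c * g) := by group
    have h1 : cj g M = N := huniq (cj g M) (isCoatom_map_conj g hM) hle
    have h2 : cj g M = cj g Ms := h1.trans hg
    have h3 : M = Ms := by
      have := congrArg (cj g⁻¹) h2
      rwa [cj_inv_cj, cj_inv_cj] at this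
    -- then `z ∈ K ∩ M_σ`
    have h4 : (z : G) ∈ K ⊓ sigmaCore M := ⟨z.2, h3 ▸ hzσMs⟩
    rw [Cfsg.Agent.Lib.Helper1.BGSigmaDecomp.K_inf_sigmaCore hG hM hKU, Subgroup.mem_bot] at h4
    exact hz1 h4

/-- **the `κ(N) = ∅` half of row S1436 (a)**. -/
theorem kappa_tau2_eq_empty_of_kappa_eq_empty (hG : IsMinSimpleOddOrder G) (M : Subgroup G)
    (hM : IsCoatom M) (x : G) (hx : x ∈ sigmaCore M) (hx1 : x ≠ 1)
    (hxM : ¬ Subgroup.centralizer ({x} : Set G) ≤ M) (N : Subgroup G) (hN : IsCoatom N)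
    (hxN : Subgroup.centralizer ({x} : Set G) ≤ N) (hkN : kappa N = ∅)
    (hq : ∃ q ∈ sigma N, q ∣ Nat.card M) : kappa M = ∅ ∧ tau2 M = ∅ := by
  have h1 := kappa_eq_empty hG M hM x hx hx1 hxM N hN hxN hkN hq
  exact ⟨h1, tau2_eq_empty hG M hM x hx hx1 hxM N hN hxN hkN h1 hq⟩

end Cfsg.Agent.Lib.Helper2.BG1436A
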