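import Mathlib
import Cfsg.Prelude.Def_Characters
import Cfsg.Agent.Lib.Helper2.Ito
import Cfsg.Agent.Lib.Helper2.DirectProduct
import Cfsg.Agent.Lib.Helper11.GaloisTwist
import Cfsg.Agent.Lib.Helper11.BLCentral
import Cfsg.Agent.Lib.Helper7.Gallagher
import Cfsg.Agent.Lib.Helper24.CliffordGeneral

/-!
# Products of an irreducible character with a Galois conjugate (helper2 library)

If `χ` is a faithful irreducible character and `g ↦ χ g * χ (g ^ k)` is irreducible
(`k` prime to `|G|`), then `χ` is not induced from a proper subgroup, every abelian normal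
subgroup is central, and in fact every nilpotent normal subgroup is central.
-/

set_option autoImplicit false

namespace Cfsg.Agent.Lib.Helper2.GalProd

open Cfsg
open Cfsg.Agent.Lib.Helper2
open Cfsg.Agent.Lib.Helper11
open scoped ComplexConjugate

section Basic

variable {G : Type*} [Group G] [Fintype G]

/-- The sum of two nonzero characters is not irreducible. -/
theorem not_irr_add {c₁ c₂ : G → ℂ} (h₁ : IsCharacter G c₁) (h₂ : IsCharacter G c₂)
    (n₁ : c₁ ≠ 0) (n₂ : c₂ ≠ 0) : ¬ IsIrrCharacter G (c₁ + c₂) := by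
  intro h
  obtain ⟨ν₁, Ψ₁, hΨ₁, e₁⟩ := exists_irr_add_of_ne_zero h₁ n₁
  obtain ⟨ν₂, Ψ₂, hΨ₂, e₂⟩ := exists_irr_add_of_ne_zero h₂ n₂
  obtain ⟨a₁, ha₁⟩ := classInner_isCharacter_nat hΨ₁ (IsIrrCharacter.isCharacter ν₁.2)
  obtain ⟨b₁, hb₁⟩ := classInner_isCharacter_nat h₂ (IsIrrCharacter.isCharacter ν₁.2)
  obtain ⟨a₂, ha₂⟩ := classInner_isCharacter_nat h₁ (IsIrrCharacter.isCharacter ν₂.2)
  obtain ⟨b₂, hb₂⟩ := classInner_isCharacter_nat hΨ₂ (IsIrrCharacter.isCharacter ν₂.2)
  have hc₁ : classInner c₁ (ν₁ : G → ℂ) = ((1 + a₁ : ℕ) : ℂ) := by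
    conv_lhs => rw [e₁]
    rw [classInner_add_left, classInner_irrCharacter_self, ha₁]
    push_cast; ring
  have hc₂ : classInner c₂ (ν₂ : G → ℂ) = ((1 + b₂ : ℕ) : ℂ) := by
    conv_lhs => rw [e₂]
    rw [classInner_add_left, classInner_irrCharacter_self, hb₂]
    push_cast; ring
  have hs₁ : classInner (c₁ + c₂) (ν₁ : G → ℂ) = ((1 + a₁ + b₁ : ℕ) : ℂ) := by
    rw [classInner_add_left, hc₁, hb₁]
    push_cast; ring
  have hs₂ : classInner (c₁ + c₂) (ν₂ : G → ℂ) = ((a₂ + (1 + b₂) : ℕ) : ℂ) := by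
    rw [classInner_add_left, hc₂, ha₂]
    push_cast; ring
  have p₁ : c₁ + c₂ = (ν₁ : G → ℂ) := by
    apply eq_of_irr_of_classInner_ne_zero' h ν₁.2
    rw [hs₁]
    exact_mod_cast (by omega : 1 + a₁ + b₁ ≠ 0)
  have p₂ : c₁ + c₂ = (ν₂ : G → ℂ) := by
    apply eq_of_irr_of_classInner_ne_zero' h ν₂.2
    rw [hs₂]
    exact_mod_cast (by omega : a₂ + (1 + b₂) ≠ 0)
  have h12 : (ν₁ : G → ℂ) = (ν₂ : G → ℂ) := p₁.symm.trans p₂
  have hself : classInner (c₁ + c₂) (ν₁ : G → ℂ) = 1 := by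
    rw [p₁]; exact classInner_irrCharacter_self ν₁
  have hb : classInner c₂ (ν₁ : G → ℂ) = ((1 + b₂ : ℕ) : ℂ) := by rw [h12]; exact hc₂
  rw [hb₁] at hb
  have hb' : b₁ = 1 + b₂ := by exact_mod_cast hb
  rw [hs₁] at hself
  have : 1 + a₁ + b₁ = 1 := by exact_mod_cast hself
  omega

omit [Fintype G] in
theorem isClassFunction_pow {f : G → ℂ} (hf : IsClassFunction G f) (k : ℕ) :
    IsClassFunction G (fun g => f (g ^ k)) := by
  intro g h
  show f ((h * g * h⁻¹) ^ k) = f (g ^ k)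
  rw [conj_pow]
  exact hf (g ^ k) h

/-- An irreducible character induced from a proper subgroup has reducible product with each of
its Galois conjugates. -/
theorem not_irr_of_induced [Finite G] (T : Subgroup G) (hT : T ≠ ⊤) {α : T → ℂ}
    (hα : IsIrrCharacter T α) (hχ : IsIrrCharacter G (indFun T α)) (k : ℕ)
    (hk : k.Coprime (Nat.card G)) :
    ¬ IsIrrCharacter G (fun g => indFun T α g * indFun T α (g ^ k)) := by
  classical
  haveI : Fintype T := Fintype.ofFinite T
  set χ : G → ℂ := indFun T α with hχdef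
  have hχc : IsCharacter G χ := IsIrrCharacter.isCharacter hχ
  have hχcf : IsClassFunction G χ := IsCharacter.isClassFunction hχc
  have hαc : IsCharacter T α := IsIrrCharacter.isCharacter hα
  -- restriction of χ to T contains α
  have hres : IsCharacter T (fun t : T => χ t) := IsCharacter.restrict hχc T
  have hfrob : classInner χ χ = classInner α (fun t : T => χ t) :=
    frobenius_reciprocity T α χ hχcf
  have h1 : classInner χ χ = 1 := classInner_irrCharacter_self (⟨χ, hχ⟩ : IrrCharacter G)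
  have h2 : classInner (fun t : T => χ t) α ≠ 0 := by
    rw [← classInner_conj_symm, ← hfrob, h1]
    simp
  obtain ⟨β, hβ, hβe⟩ := exists_add_of_classInner_ne_zero hres (⟨α, hα⟩ : IrrCharacter T) h2
  have hα1 : α 1 ≠ 0 := IsIrrCharacter.apply_one_ne_zero hα
  have hidx : T.index ≠ 1 := fun h => hT (Subgroup.index_eq_one.1 h)
  have hχ1 : χ 1 = (T.index : ℂ) * α 1 := indFun_apply_one T α
  have hβ1 : β 1 = ((T.index : ℂ) - 1) * α 1 := by
    have := congrFun hβe 1
    simp only [Pi.add_apply] at this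
    have h3 : χ ((1 : T) : G) = χ 1 := by simp
    rw [h3, hχ1] at this
    linear_combination (-1 : ℂ) * this
  have hβ1ne : β 1 ≠ 0 := by
    rw [hβ1]
    apply mul_ne_zero _ hα1
    intro h
    have h4 : (T.index : ℂ) = 1 := by linear_combination h
    exact hidx (by exact_mod_cast h4)
  -- twists on T
  have hkT : k.Coprime (Nat.card T) :=
    Nat.Coprime.coprime_dvd_right (Subgroup.card_subgroup_dvd_card T) hk
  have hαk : IsCharacter T (fun t => α (t ^ k)) := isCharacter_pow_coprime k hkT hαc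
  have hβk : IsCharacter T (fun t => β (t ^ k)) := isCharacter_pow_coprime k hkT hβ
  -- push-pull
  have hχkcf : IsClassFunction G (fun g => χ (g ^ k)) := isClassFunction_pow hχcf k
  have hpp := Cfsg.Agent.Lib.Helper7.indFun_mul_restrict T α (fun g => χ (g ^ k)) hχkcf
  have hγ : (fun n : T => χ ((n : G) ^ k))
      = (fun t : T => α (t ^ k)) + (fun t : T => β (t ^ k)) := by
    funext t
    have := congrFun hβe (t ^ k)
    simp only [Pi.add_apply] at this
    rw [Pi.add_apply, ← this, Subgroup.coe_pow]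
  have hprod : (fun g => χ g * χ (g ^ k))
      = indFun T (α * fun t : T => α (t ^ k)) + indFun T (α * fun t : T => β (t ^ k)) := by
    have h5 : (fun g => χ g * χ (g ^ k)) = indFun T α * fun g => χ (g ^ k) := rfl
    rw [h5, ← hpp, hγ, mul_add, indFun_add]
  intro hirr
  rw [hprod] at hirr
  refine not_irr_add (indFun_isCharacter T _ (isCharacter_mul hαc hαk))
    (indFun_isCharacter T _ (isCharacter_mul hαc hβk)) ?_ ?_ hirr
  · intro h
    have := congrFun h 1
    rw [indFun_apply_one] at this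
    simp only [Pi.mul_apply, one_pow, Pi.zero_apply, mul_eq_zero] at this
    rcases this with h | h | h
    · exact Subgroup.index_ne_zero_of_finite (by exact_mod_cast h)
    · exact hα1 h
    · exact hα1 h
  · intro h
    have := congrFun h 1
    rw [indFun_apply_one] at this
    simp only [Pi.mul_apply, one_pow, Pi.zero_apply, mul_eq_zero] at this
    rcases this with h | h | h
    · exact Subgroup.index_ne_zero_of_finite (by exact_mod_cast h)
    · exact hα1 h
    · exact hβ1ne h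

end Basic

section Abelian

variable {G : Type*} [Group G] [Fintype G]

/-- If `χ` is faithful irreducible and `χ · χ^σ` is irreducible, every abelian normal subgroup is
central. -/
theorem abelian_normal_le_center [Finite G] {χ : G → ℂ} (hχ : IsIrrCharacter G χ)
    (hfaith : ∀ g : G, χ g = χ 1 → g = 1) (k : ℕ) (hk : k.Coprime (Nat.card G))
    (hirr : IsIrrCharacter G (fun g => χ g * χ (g ^ k)))
    (A : Subgroup G) [hAn : A.Normal] (hcomm : ∀ a ∈ A, ∀ b ∈ A, a * b = b * a) :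
    A ≤ Subgroup.center G := by
  classical
  haveI : Fintype A := Fintype.ofFinite A
  have hχchar := IsIrrCharacter.isCharacter hχ
  have hχcf : IsClassFunction G χ := IsCharacter.isClassFunction hχchar
  have hresne : (fun a : A => χ a) ≠ 0 := by
    intro h
    have := congrFun h 1
    exact IsIrrCharacter.apply_one_ne_zero hχ this
  obtain ⟨lamI, Ψ, hΨ, hsum⟩ := exists_irr_add_of_ne_zero (IsCharacter.restrict hχchar A) hresne
  set lam : A → ℂ := (lamI : A → ℂ) with hlamdef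
  have hlam : IsIrrCharacter A lam := lamI.2
  have hconst : classInner (fun a : A => χ a) lam ≠ 0 := by
    rw [hsum, classInner_add_left]
    have h1 : classInner (lamI : A → ℂ) lam = 1 := classInner_irrCharacter_self lamI
    obtain ⟨m, hm⟩ := classInner_isCharacter_nat hΨ (IsIrrCharacter.isCharacter hlam)
    rw [h1, hm]
    have : ((1 + m : ℕ) : ℂ) ≠ 0 := by exact_mod_cast (by omega : 1 + m ≠ 0)
    simpa using this
  have hlam1 : lam 1 = 1 :=
    IsIrrCharacter.apply_one_of_comm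
      (fun a b => Subtype.ext (hcomm a a.2 b b.2)) hlam
  have hlamcf : IsClassFunction A lam := IrrCharacter.isClassFunction lamI
  set T := inertia A lam with hTdef
  have hAT : A ≤ T := le_inertia A hlamcf
  by_cases hT : T = ⊤
  · have hinv : ∀ g : G, conjFun A g lam = lam := by
      intro g
      have : g ∈ T := by rw [hT]; trivial
      exact this
    have hcl := clifford_restriction A hχ hlam hconst
    have hset : {ψ : A → ℂ | ∃ g : G, ψ = conjFun A g lam} = {lam} := by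
      ext ψ
      constructor
      · rintro ⟨g, rfl⟩; exact hinv g
      · intro h; exact ⟨1, by rw [Set.mem_singleton_iff.mp h, conjFun_one]⟩
    rw [hset, finsum_mem_singleton] at hcl
    set e := classInner (fun a : A => χ a) lam with he
    have hval : ∀ a : A, χ a = e * lam a := by
      intro a
      have := congrFun hcl a
      simpa using this
    obtain ⟨φ, hφ⟩ := exists_monoidHom_of_isIrrCharacter_of_apply_one hlam hlam1
    intro a ha
    rw [Subgroup.mem_center_iff]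
    intro g
    have hmem : g * a * g⁻¹ ∈ A := hAn.conj_mem a ha g
    have hmem2 : g * a * g⁻¹ * a⁻¹ ∈ A := A.mul_mem hmem (A.inv_mem ha)
    have h3 : lam ⟨g * a * g⁻¹ * a⁻¹, hmem2⟩ = 1 := by
      have h4 : (⟨g * a * g⁻¹ * a⁻¹, hmem2⟩ : A) = ⟨g * a * g⁻¹, hmem⟩ * (⟨a, ha⟩ : A)⁻¹ := rfl
      have h5 : conjFun A g lam ⟨a, ha⟩ = lam ⟨a, ha⟩ := congrFun (hinv g) _
      rw [conjFun_apply] at h5
      rw [hφ] at h5 ⊢
      have h6 : φ ⟨g * a * g⁻¹, hmem⟩ = φ ⟨a, ha⟩ := Units.ext h5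
      simp only [h4, map_mul, map_inv, h6, mul_inv_cancel, Units.val_one]
    have hχv : χ (g * a * g⁻¹ * a⁻¹) = χ 1 := by
      have h1 := hval ⟨g * a * g⁻¹ * a⁻¹, hmem2⟩
      have h2 := hval 1
      rw [h3] at h1
      rw [hlam1] at h2
      simp only [mul_one] at h1 h2
      have h7 : χ ((1 : A) : G) = χ 1 := by simp
      rw [h7] at h2
      rw [h2]
      exact h1
    have h8 := hfaith _ hχv
    have h9 : g * a = a * g := by
      calc g * a = (g * a * g⁻¹ * a⁻¹) * (a * g) := by group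
        _ = a * g := by rw [h8, one_mul]
    exact h9
  · exfalso
    haveI : Fintype T := Fintype.ofFinite T
    set A' : Subgroup T := A.subgroupOf T with hA'
    haveI : Fintype A' := Fintype.ofFinite A'
    let lam' : A' → ℂ := fun x => lam ⟨(x : T), Subgroup.mem_subgroupOf.mp x.2⟩
    let ΧT : T → ℂ := fun t => χ t
    have hΧTcf : IsClassFunction T ΧT := fun t s => hχcf t s
    have h1 : classInner (indFun A' lam') ΧT ≠ 0 := by
      rw [frobenius_reciprocity A' lam' ΧT hΧTcf]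
      have h2 : classInner lam' (fun x : A' => ΧT x)
          = classInner lam (fun a : A => χ a) := by
        rw [classInner_def, classInner_def]
        let eqv : A' ≃* A := Subgroup.subgroupOfEquivOfLe hAT
        rw [Nat.card_congr eqv.toEquiv]
        congr 1
        rw [← Equiv.sum_comp eqv.toEquiv (fun a : A => lam a * conj (χ a))]
        rfl
      rw [h2, ← classInner_conj_symm]
      intro h
      apply hconst
      have := congrArg conj h
      simpa using this
    obtain ⟨ψ, hψ1, hψ2⟩ := exists_common_constituent _ ΧT hΧTcf h1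
    have hcc := Cfsg.Agent.Lib.Helper11.clifford_correspondence A T lam hlam
      (fun g => Iff.rfl) hAT ψ ψ ψ.2 ψ.2 hψ1 hψ1
    have hind : indFun T (ψ : T → ℂ) = χ := by
      apply eq_of_irr_of_classInner_ne_zero' hcc.1 hχ
      rw [frobenius_reciprocity T _ χ hχcf, ← classInner_conj_symm]
      intro h
      apply hψ2
      have := congrArg conj h
      simpa using this
    have hno := not_irr_of_induced T hT ψ.2 hcc.1 k hk
    apply hno
    rw [hind]
    exact hirr

end Abelian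

section Comm

variable {G : Type*} [Group G]

/-- the commutator map `x ↦ x⁻¹ a⁻¹ x a` -/
def cm (a x : G) : G := x⁻¹ * a⁻¹ * x * a

theorem cm_mul (a x y : G) : cm a (x * y) = y⁻¹ * cm a x * y * cm a y := by
  unfold cm; group

theorem cm_inv (a x : G) : cm a x⁻¹ = x * (cm a x)⁻¹ * x⁻¹ := by
  unfold cm; group

theorem cm_one (a : G) : cm a 1 = 1 := by
  simp [cm]

/-- the elements whose commutator with `a` is central -/
def cT (a : G) : Subgroup G where
  carrier := {x | cm a x ∈ Subgroup.center G}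
  one_mem' := by
    show cm a 1 ∈ Subgroup.center G
    rw [cm_one]; exact Subgroup.one_mem _
  mul_mem' := by
    intro x y hx hy
    show cm a (x * y) ∈ Subgroup.center G
    have hx' : cm a x ∈ Subgroup.center G := hx
    have hy' : cm a y ∈ Subgroup.center G := hy
    rw [cm_mul]
    have h1 : y⁻¹ * cm a x * y = cm a x := by
      have h := (Subgroup.mem_center_iff.1 hx') y
      calc y⁻¹ * cm a x * y = y⁻¹ * (cm a x * y) := by group
        _ = y⁻¹ * (y * cm a x) := by rw [← h]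
        _ = cm a x := by group
    rw [h1]
    exact Subgroup.mul_mem _ hx' hy'
  inv_mem' := by
    intro x hx
    show cm a x⁻¹ ∈ Subgroup.center G
    have hx' : cm a x ∈ Subgroup.center G := hx
    rw [cm_inv]
    have hcx : (cm a x)⁻¹ ∈ Subgroup.center G := Subgroup.inv_mem _ hx'
    have h1 : x * (cm a x)⁻¹ * x⁻¹ = (cm a x)⁻¹ := by
      have h := (Subgroup.mem_center_iff.1 hcx) x
      rw [h]; group
    rw [h1]; exact hcx

theorem mem_cT {a x : G} : x ∈ cT a ↔ cm a x ∈ Subgroup.center G := Iff.rfl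

theorem cm_mul_of_mem {a x : G} (hx : x ∈ cT a) (y : G) : cm a (x * y) = cm a x * cm a y := by
  rw [cm_mul]
  have hx' : cm a x ∈ Subgroup.center G := hx
  have h := (Subgroup.mem_center_iff.1 hx') y
  have h1 : y⁻¹ * cm a x * y = cm a x := by
    calc y⁻¹ * cm a x * y = y⁻¹ * (cm a x * y) := by group
      _ = y⁻¹ * (y * cm a x) := by rw [← h]
      _ = cm a x := by group
  rw [h1]

end Comm

section Main

variable {G : Type*} [Group G] [Fintype G]

/-- A central commutator `[x, a]` with `χ x ≠ 0` is trivial, for `χ` faithful irreducible. -/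
theorem comm_eq_one_of_central {χ : G → ℂ} (hχ : IsIrrCharacter G χ)
    (hfaith : ∀ g : G, χ g = χ 1 → g = 1) (x a : G)
    (hc : cm a x ∈ Subgroup.center G) (hx : χ x ≠ 0) : cm a x = 1 := by
  have hχcf : IsClassFunction G χ := IsCharacter.isClassFunction (IsIrrCharacter.isCharacter hχ)
  have hz : ∀ g : G, cm a x * g = g * cm a x :=
    fun g => ((Subgroup.mem_center_iff.1 hc) g).symm
  have h1 := IsIrrCharacter.central_mul hχ (cm a x) hz x
  have h2 : cm a x * x = a⁻¹ * x * (a⁻¹)⁻¹ := by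
    rw [hz x]; unfold cm; group
  have h3 : χ (cm a x * x) = χ x := by rw [h2]; exact hχcf x a⁻¹
  rw [h3] at h1
  have h4 : χ (cm a x) = χ 1 := by
    have h5 : χ x * (χ 1 - χ (cm a x)) = 0 := by linear_combination h1
    rcases mul_eq_zero.1 h5 with h | h
    · exact absurd h hx
    · linear_combination (-1 : ℂ) * h
  exact hfaith _ h4

/-- Central elements are separated by a faithful irreducible character. -/
theorem central_eq_of_char_eq {χ : G → ℂ} (hχ : IsIrrCharacter G χ)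
    (hfaith : ∀ g : G, χ g = χ 1 → g = 1) {z₁ z₂ : G} (h₁ : z₁ ∈ Subgroup.center G)
    (h₂ : z₂ ∈ Subgroup.center G) (h : χ z₁ = χ z₂) : z₁ = z₂ := by
  have hχ1 : χ 1 ≠ 0 := IsIrrCharacter.apply_one_ne_zero hχ
  have hz₁ : ∀ g : G, z₁ * g = g * z₁ := fun g => ((Subgroup.mem_center_iff.1 h₁) g).symm
  have hz₂ : ∀ g : G, z₂ * g = g * z₂ := fun g => ((Subgroup.mem_center_iff.1 h₂) g).symm
  have e1 := IsIrrCharacter.central_mul hχ z₁ hz₁ z₂⁻¹
  have e2 := IsIrrCharacter.central_mul hχ z₂ hz₂ z₂⁻¹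
  rw [mul_inv_cancel] at e2
  rw [h] at e1
  have h3 : χ (z₁ * z₂⁻¹) = χ 1 := by
    have h4 : (χ (z₁ * z₂⁻¹) - χ 1) * χ 1 = 0 := by linear_combination e1 - e2
    rcases mul_eq_zero.1 h4 with h' | h'
    · linear_combination h'
    · exact absurd h' hχ1
  exact mul_inv_eq_one.1 (hfaith _ h3)

theorem classInner_prod_self (χ : G → ℂ) (k : ℕ) :
    classInner (fun g => χ g * χ (g ^ k)) (fun g => χ g * χ (g ^ k))
      = classInner (fun g => χ g * conj (χ g)) (fun g => χ (g ^ k) * conj (χ (g ^ k))) := by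
  rw [classInner_def, classInner_def]
  congr 1
  apply Finset.sum_congr rfl
  intro g _
  simp only [map_mul, Complex.conj_conj]
  ring

theorem classInner_normSq_one (χ : G → ℂ) :
    classInner (fun g => χ g * conj (χ g)) (fun _ => (1 : ℂ)) = classInner χ χ := by
  rw [classInner_def, classInner_def]
  congr 1
  apply Finset.sum_congr rfl
  intro g _
  simp

/-- Two characters with two common irreducible constituents do not have inner product `1`. -/
theorem classInner_ne_one_of_two {Θ₁ Θ₂ : G → ℂ} (h₁ : IsCharacter G Θ₁)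
    (h₂ : IsCharacter G Θ₂) (ν₁ ν₂ : IrrCharacter G) (hne : ν₁ ≠ ν₂)
    (h11 : classInner Θ₁ (ν₁ : G → ℂ) ≠ 0) (h12 : classInner Θ₁ (ν₂ : G → ℂ) ≠ 0)
    (h21 : classInner Θ₂ (ν₁ : G → ℂ) ≠ 0) (h22 : classInner Θ₂ (ν₂ : G → ℂ) ≠ 0) :
    classInner Θ₁ Θ₂ ≠ 1 := by
  obtain ⟨Ψ, hΨ, e₁⟩ := exists_add_of_classInner_ne_zero h₁ ν₁ h11
  have hΨ2 : classInner Ψ (ν₂ : G → ℂ) ≠ 0 := by
    have h : classInner Θ₁ (ν₂ : G → ℂ) = classInner Ψ (ν₂ : G → ℂ) := by
      conv_lhs => rw [e₁]
      rw [classInner_add_left, classInner_irrCharacter_ne hne, zero_add]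
    rw [← h]; exact h12
  obtain ⟨Ψ', hΨ', e₂⟩ := exists_add_of_classInner_ne_zero hΨ ν₂ hΨ2
  obtain ⟨n₁, hn₁⟩ := classInner_isCharacter_nat h₂ (IsIrrCharacter.isCharacter ν₁.2)
  obtain ⟨n₂, hn₂⟩ := classInner_isCharacter_nat h₂ (IsIrrCharacter.isCharacter ν₂.2)
  obtain ⟨m, hm⟩ := classInner_isCharacter_nat hΨ' h₂
  have hn₁0 : n₁ ≠ 0 := by
    intro h; apply h21; rw [hn₁, h]; simp
  have hn₂0 : n₂ ≠ 0 := by
    intro h; apply h22; rw [hn₂, h]; simp
  have g₁ : classInner (ν₁ : G → ℂ) Θ₂ = (n₁ : ℂ) := by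
    rw [← classInner_conj_symm, hn₁]; simp
  have g₂ : classInner (ν₂ : G → ℂ) Θ₂ = (n₂ : ℂ) := by
    rw [← classInner_conj_symm, hn₂]; simp
  have htot : classInner Θ₁ Θ₂ = ((n₁ + n₂ + m : ℕ) : ℂ) := by
    conv_lhs => rw [e₁, e₂]
    rw [classInner_add_left, classInner_add_left, g₁, g₂, hm]
    push_cast; ring
  rw [htot]
  intro h
  have h' : n₁ + n₂ + m = 1 := by exact_mod_cast h
  omega

/-- If `μ = 1` wherever `f ≠ 0` on `T`, then `μ^G` is a constituent of `|f|²`. -/
theorem classInner_normSq_indFun_ne_zero (T : Subgroup G) [Fintype T] (f : G → ℂ)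
    (hfcf : IsClassFunction G f) (μ : T → ℂ)
    (hμ : ∀ t : T, f t ≠ 0 → μ t = 1) (hf1 : f 1 ≠ 0) :
    classInner (fun g => f g * conj (f g)) (indFun T μ) ≠ 0 := by
  have hFcf : IsClassFunction G (fun g => f g * conj (f g)) := by
    intro g h
    show f (h * g * h⁻¹) * conj (f (h * g * h⁻¹)) = f g * conj (f g)
    rw [hfcf g h]
  have h1 : classInner (indFun T μ) (fun g => f g * conj (f g))
      = classInner μ (fun t : T => f t * conj (f t)) :=
    frobenius_reciprocity T μ _ hFcf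
  have h2 : classInner μ (fun t : T => f t * conj (f t))
      = (Nat.card T : ℂ)⁻¹ * ∑ t : T, ((Complex.normSq (f t) : ℝ) : ℂ) := by
    rw [classInner_def]
    congr 1
    apply Finset.sum_congr rfl
    intro t _
    by_cases h : f t = 0
    · simp [h]
    · rw [hμ t h, one_mul, map_mul, Complex.conj_conj, mul_comm, Complex.mul_conj]
  have h3 : (0 : ℝ) < ∑ t : T, Complex.normSq (f t) := by
    apply Finset.sum_pos'
    · intro t _; exact Complex.normSq_nonneg _
    · exact ⟨1, Finset.mem_univ _, by simpa using Complex.normSq_pos.2 hf1⟩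
  intro h0
  have h4 : classInner (indFun T μ) (fun g => f g * conj (f g)) = 0 := by
    rw [← classInner_conj_symm, h0]; simp
  rw [h1, h2] at h4
  rcases mul_eq_zero.1 h4 with h | h
  · have h5 : (Nat.card T : ℂ) ≠ 0 := by exact_mod_cast Nat.card_pos.ne'
    exact h5 (inv_eq_zero.1 h)
  · have h5 : ((∑ t : T, Complex.normSq (f t) : ℝ) : ℂ) = 0 := by
      rw [← h]; push_cast; rfl
    have h6 := Complex.ofReal_eq_zero.1 h5
    linarith

/-- the linear character `x ↦ χ [x,a] / χ 1` of `cT a` -/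
noncomputable def muHom {χ : G → ℂ} (hχ : IsIrrCharacter G χ) (a : G) : cT a →* ℂ where
  toFun x := χ (cm a x) / χ 1
  map_one' := by
    show χ (cm a ((1 : cT a) : G)) / χ 1 = 1
    rw [Subgroup.coe_one, cm_one]
    exact div_self (IsIrrCharacter.apply_one_ne_zero hχ)
  map_mul' := by
    intro x y
    show χ (cm a ((x * y : cT a) : G)) / χ 1 = χ (cm a x) / χ 1 * (χ (cm a y) / χ 1)
    rw [Subgroup.coe_mul, cm_mul_of_mem x.2]
    have hz : ∀ g : G, cm a x * g = g * cm a x :=
      fun g => ((Subgroup.mem_center_iff.1 (mem_cT.1 x.2)) g).symm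
    have h1 := IsIrrCharacter.central_mul hχ (cm a x) hz (cm a y)
    have h0 := IsIrrCharacter.apply_one_ne_zero hχ
    rw [div_mul_div_comm, div_eq_div_iff h0 (mul_ne_zero h0 h0)]
    linear_combination (χ 1) * h1

theorem muHom_apply {χ : G → ℂ} (hχ : IsIrrCharacter G χ) (a : G) (x : cT a) :
    muHom hχ a x = χ (cm a x) / χ 1 := rfl

/-- the linear character `x ↦ χ [x,a] / χ 1` of `cT a`, as a function -/
noncomputable def muFun (χ : G → ℂ) (a : G) : cT a → ℂ := fun t => χ (cm a t) / χ 1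

omit [Fintype G] in
theorem muFun_apply (χ : G → ℂ) (a : G) (t : cT a) : muFun χ a t = χ (cm a t) / χ 1 := rfl

theorem muFun_eq {χ : G → ℂ} (hχ : IsIrrCharacter G χ) (a : G) :
    muFun χ a = fun t => (((muHom hχ a).toHomUnits t : ℂˣ) : ℂ) := rfl

theorem muFun_irr {χ : G → ℂ} (hχ : IsIrrCharacter G χ) (a : G) :
    IsIrrCharacter (cT a) (muFun χ a) := by
  rw [muFun_eq hχ a]
  exact isIrrCharacter_of_monoidHom _

theorem resTo_muFun_irr {χ : G → ℂ} (hχ : IsIrrCharacter G χ) (a : G) (A : Subgroup G)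
    (hAT : A ≤ cT a) :
    IsIrrCharacter A (Cfsg.Agent.Lib.Helper24.resTo A (cT a) hAT (muFun χ a)) := by
  have h := isIrrCharacter_of_monoidHom ((muHom hχ a).toHomUnits.comp (Subgroup.inclusion hAT))
  exact h

omit [Fintype G] in
theorem resTo_muFun_apply (χ : G → ℂ) (a : G) (A : Subgroup G) (hAT : A ≤ cT a) (x : G)
    (hx : x ∈ A) :
    Cfsg.Agent.Lib.Helper24.resTo A (cT a) hAT (muFun χ a) ⟨x, hx⟩ = χ (cm a x) / χ 1 := rfl

theorem muFun_eq_one {χ : G → ℂ} (hχ : IsIrrCharacter G χ)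
    (hfaith : ∀ g : G, χ g = χ 1 → g = 1) (a : G) (t : cT a) (ht : χ t ≠ 0) :
    muFun χ a t = 1 := by
  have h := comm_eq_one_of_central hχ hfaith (t : G) a t.2 ht
  rw [muFun_apply, h]
  exact div_self (IsIrrCharacter.apply_one_ne_zero hχ)

theorem muFun_eq_one_pow {χ : G → ℂ} (hχ : IsIrrCharacter G χ)
    (hfaith : ∀ g : G, χ g = χ 1 → g = 1) (a : G) (k : ℕ) (hk : k.Coprime (Nat.card G))
    (t : cT a) (ht : χ ((t : G) ^ k) ≠ 0) : muFun χ a t = 1 := by
  have hkT : k.Coprime (Nat.card (cT a)) :=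
    Nat.Coprime.coprime_dvd_right (Subgroup.card_subgroup_dvd_card (cT a)) hk
  have h1 : muFun χ a (t ^ k) = 1 :=
    muFun_eq_one hχ hfaith a (t ^ k) (by simpa using ht)
  rw [muFun_eq hχ a] at h1 ⊢
  have h2 : ((muHom hχ a).toHomUnits t) ^ k = 1 := by
    apply Units.ext
    rw [← map_pow]; exact h1
  have h3 : ((muHom hχ a).toHomUnits t) ^ (Nat.card (cT a)) = 1 := by
    rw [← map_pow, pow_card_eq_one', map_one]
  have h4 : (muHom hχ a).toHomUnits t = 1 := (pow_eq_one_iff_of_coprime hkT).1 ⟨h2, h3⟩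
  show (((muHom hχ a).toHomUnits t : ℂˣ) : ℂ) = 1
  rw [h4]; rfl

/-- the inertia group of the restriction of `muFun` to `A` lies in `cT a₀` -/
theorem inertia_le_cT {χ : G → ℂ} (hχ : IsIrrCharacter G χ)
    (hfaith : ∀ g : G, χ g = χ 1 → g = 1)
    (A : Subgroup G) [hAn : A.Normal]
    (hZA : ∀ a ∈ A, (∀ b ∈ A, a * b = b * a) → a ∈ Subgroup.center G)
    (a₀ : G) (ha₀ : a₀ ∈ A) (hAT : A ≤ cT a₀) (g : G)
    (hg : conjFn A g (Cfsg.Agent.Lib.Helper24.resTo A (cT a₀) hAT (muFun χ a₀))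
      = Cfsg.Agent.Lib.Helper24.resTo A (cT a₀) hAT (muFun χ a₀)) : g ∈ cT a₀ := by
  have hχ1 : χ 1 ≠ 0 := IsIrrCharacter.apply_one_ne_zero hχ
  obtain ⟨a₁, ha₁def⟩ : ∃ a₁ : G, a₁ = g⁻¹ * a₀ * g := ⟨_, rfl⟩
  have ha₁ : a₁ ∈ A := by
    have h := hAn.conj_mem a₀ ha₀ g⁻¹
    rw [inv_inv] at h
    rw [ha₁def]; exact h
  have hd : a₁ * a₀⁻¹ ∈ A := A.mul_mem ha₁ (A.inv_mem ha₀)
  have hcomm : ∀ a ∈ A, (a₁ * a₀⁻¹) * a = a * (a₁ * a₀⁻¹) := by
    intro a ha
    have hga : g * a * g⁻¹ ∈ A := hAn.conj_mem a ha g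
    have e1 := congrFun hg ⟨a, ha⟩
    rw [conjFn_apply, resTo_muFun_apply, resTo_muFun_apply] at e1
    have e3 : χ (cm a₀ (g * a * g⁻¹)) = χ (cm a₀ a) := (div_left_inj' hχ1).1 e1
    have z1 : cm a₀ (g * a * g⁻¹) ∈ Subgroup.center G := hAT hga
    have z2 : cm a₀ a ∈ Subgroup.center G := hAT ha
    have e4 := central_eq_of_char_eq hχ hfaith z1 z2 e3
    have e5 : cm a₀ (g * a * g⁻¹) = g * (a⁻¹ * a₁⁻¹ * a * a₁) * g⁻¹ := by
      rw [ha₁def]; unfold cm; group
    have e6 : a⁻¹ * a₁⁻¹ * a * a₁ = cm a₀ a := by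
      have hz := (Subgroup.mem_center_iff.1 z1) g
      calc a⁻¹ * a₁⁻¹ * a * a₁ = g⁻¹ * (g * (a⁻¹ * a₁⁻¹ * a * a₁) * g⁻¹) * g := by group
        _ = g⁻¹ * cm a₀ (g * a * g⁻¹) * g := by rw [e5]
        _ = g⁻¹ * (cm a₀ (g * a * g⁻¹) * g) := by rw [mul_assoc]
        _ = g⁻¹ * (g * cm a₀ (g * a * g⁻¹)) := by rw [← hz]
        _ = cm a₀ (g * a * g⁻¹) := by rw [inv_mul_cancel_left]
        _ = cm a₀ a := e4
    have e7 : a₁⁻¹ * a * a₁ = a₀⁻¹ * a * a₀ := by
      have h := congrArg (fun w => a * w) e6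
      simp only [cm] at h
      calc a₁⁻¹ * a * a₁ = a * (a⁻¹ * a₁⁻¹ * a * a₁) := by group
        _ = a * (a⁻¹ * a₀⁻¹ * a * a₀) := h
        _ = a₀⁻¹ * a * a₀ := by group
    calc (a₁ * a₀⁻¹) * a = a₁ * (a₀⁻¹ * a * a₀) * a₀⁻¹ := by group
      _ = a₁ * (a₁⁻¹ * a * a₁) * a₀⁻¹ := by rw [e7]
      _ = a * (a₁ * a₀⁻¹) := by group
  have hdc : a₁ * a₀⁻¹ ∈ Subgroup.center G := hZA _ hd hcomm
  show cm a₀ g ∈ Subgroup.center G
  have e8 : cm a₀ g = (a₁ * a₀⁻¹)⁻¹ := by
    have hz := (Subgroup.mem_center_iff.1 hdc) a₀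
    have h1 : a₀ * a₁ = a₁ * a₀ := by
      calc a₀ * a₁ = a₀ * (a₁ * a₀⁻¹) * a₀ := by group
        _ = (a₁ * a₀⁻¹) * a₀ * a₀ := by rw [hz]
        _ = a₁ * a₀ := by group
    have h2 : cm a₀ g = a₁⁻¹ * a₀ := by rw [ha₁def]; unfold cm; group
    rw [h2, mul_inv_rev, inv_inv]
    calc a₁⁻¹ * a₀ = a₁⁻¹ * (a₀ * a₁) * a₁⁻¹ := by group
      _ = a₁⁻¹ * (a₁ * a₀) * a₁⁻¹ := by rw [h1]
      _ = a₀ * a₁⁻¹ := by group
  rw [e8]; exact Subgroup.inv_mem _ hdc

theorem isIrrCharacter_one (K : Type*) [Group K] [Fintype K] :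
    IsIrrCharacter K (fun _ : K => (1 : ℂ)) := by
  have h := isIrrCharacter_of_monoidHom (1 : K →* ℂˣ)
  simpa using h

/-- `muFun` induces an irreducible nontrivial character. -/
theorem indFun_muFun_ne_one {χ : G → ℂ} (hχ : IsIrrCharacter G χ)
    (hfaith : ∀ g : G, χ g = χ 1 → g = 1) (a₀ b₀ : G) (hb₀ : b₀ ∈ cT a₀)
    (hab : a₀ * b₀ ≠ b₀ * a₀) [Fintype (cT a₀)] :
    indFun (cT a₀) (muFun χ a₀) ≠ fun _ : G => (1 : ℂ) := by
  have hχ1 : χ 1 ≠ 0 := IsIrrCharacter.apply_one_ne_zero hχ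
  have htriv := isIrrCharacter_one G
  have htrivT := isIrrCharacter_one (cT a₀)
  have htrivcf : IsClassFunction G (fun _ : G => (1 : ℂ)) := fun _ _ => rfl
  have hμne : (⟨muFun χ a₀, muFun_irr hχ a₀⟩ : IrrCharacter (cT a₀)) ≠ ⟨_, htrivT⟩ := by
    intro h2
    have h3 : muFun χ a₀ = fun _ => (1 : ℂ) := congrArg Subtype.val h2
    have h4 : muFun χ a₀ ⟨b₀, hb₀⟩ = 1 := congrFun h3 _
    rw [muFun_apply] at h4
    have h6 : χ (cm a₀ b₀) = χ 1 := by rwa [div_eq_one_iff_eq hχ1] at h4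
    have h7 : b₀⁻¹ * a₀⁻¹ * b₀ * a₀ = 1 := hfaith _ h6
    apply hab
    have h8 : b₀ * a₀ = a₀ * b₀ * (b₀⁻¹ * a₀⁻¹ * b₀ * a₀) := by group
    rw [h7, mul_one] at h8
    exact h8.symm
  intro h
  have h1 : classInner (indFun (cT a₀) (muFun χ a₀)) (fun _ : G => (1 : ℂ)) = 1 := by
    rw [h]; exact classInner_irrCharacter_self (⟨_, htriv⟩ : IrrCharacter G)
  rw [frobenius_reciprocity (cT a₀) (muFun χ a₀) _ htrivcf] at h1
  have h0 := classInner_irrCharacter_ne hμne
  have h0' : classInner (muFun χ a₀) (fun _ : cT a₀ => (1 : ℂ)) = 0 := h0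
  have h1' : classInner (muFun χ a₀) (fun _ : cT a₀ => (1 : ℂ)) = 1 := h1
  rw [h0'] at h1'
  exact zero_ne_one h1'

/-- The class-two configuration is impossible. -/
theorem class_two_false {χ : G → ℂ} (hχ : IsIrrCharacter G χ)
    (hfaith : ∀ g : G, χ g = χ 1 → g = 1) (k : ℕ) (hk : k.Coprime (Nat.card G))
    (hirr : IsIrrCharacter G (fun g => χ g * χ (g ^ k)))
    (A : Subgroup G) [hAn : A.Normal]
    (hAZ : ∀ a ∈ A, ∀ b ∈ A, a⁻¹ * b⁻¹ * a * b ∈ Subgroup.center G)
    (hZA : ∀ a ∈ A, (∀ b ∈ A, a * b = b * a) → a ∈ Subgroup.center G)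
    (a₀ b₀ : G) (ha₀ : a₀ ∈ A) (hb₀ : b₀ ∈ A) (hab : a₀ * b₀ ≠ b₀ * a₀) : False := by
  classical
  have hχchar := IsIrrCharacter.isCharacter hχ
  have hχcf : IsClassFunction G χ := IsCharacter.isClassFunction hχchar
  have hχ1 : χ 1 ≠ 0 := IsIrrCharacter.apply_one_ne_zero hχ
  haveI : Fintype (cT a₀) := Fintype.ofFinite _
  haveI : Fintype A := Fintype.ofFinite A
  have hAT : A ≤ cT a₀ := by
    intro x hx
    show cm a₀ x ∈ Subgroup.center G
    exact hAZ x hx a₀ ha₀
  have hμirr := muFun_irr hχ a₀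
  have hκ := resTo_muFun_irr hχ a₀ A hAT
  have hTin := inertia_le_cT hχ hfaith A hZA a₀ ha₀ hAT
  have hresκ : classInner (Cfsg.Agent.Lib.Helper24.resTo A (cT a₀) hAT (muFun χ a₀))
      (Cfsg.Agent.Lib.Helper24.resTo A (cT a₀) hAT (muFun χ a₀)) ≠ 0 := by
    have h := classInner_irrCharacter_self (⟨_, hκ⟩ : IrrCharacter A)
    have h' : classInner (Cfsg.Agent.Lib.Helper24.resTo A (cT a₀) hAT (muFun χ a₀))
      (Cfsg.Agent.Lib.Helper24.resTo A (cT a₀) hAT (muFun χ a₀)) = 1 := h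
    rw [h']; exact one_ne_zero
  have hν : IsIrrCharacter G (indFun (cT a₀) (muFun χ a₀)) :=
    (Cfsg.Agent.Lib.Helper24.clifford_general A (cT a₀) _ hκ hTin hAT (muFun χ a₀) (muFun χ a₀)
      hμirr hμirr hresκ hresκ).1
  have htriv := isIrrCharacter_one G
  have hνne : (⟨fun _ : G => (1 : ℂ), htriv⟩ : IrrCharacter G)
      ≠ ⟨indFun (cT a₀) (muFun χ a₀), hν⟩ := by
    intro h
    have h' : (fun _ : G => (1 : ℂ)) = indFun (cT a₀) (muFun χ a₀) := congrArg Subtype.val h
    exact indFun_muFun_ne_one hχ hfaith a₀ b₀ (hAT hb₀) hab h'.symm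
  -- the two characters |χ|² and |χ^σ|²
  have hΘ : IsCharacter G (fun g => χ g * conj (χ g)) :=
    isCharacter_mul hχchar (IsIrrCharacter.isCharacter (isIrrCharacter_conj hχ))
  have hΘk : IsCharacter G (fun g => χ (g ^ k) * conj (χ (g ^ k))) :=
    isCharacter_pow_coprime k hk hΘ
  have hχχ : classInner χ χ = 1 := classInner_irrCharacter_self (⟨χ, hχ⟩ : IrrCharacter G)
  have h11 : classInner (fun g => χ g * conj (χ g)) (fun _ : G => (1 : ℂ)) ≠ 0 := by
    rw [classInner_normSq_one, hχχ]; exact one_ne_zero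
  have h21 : classInner (fun g => χ (g ^ k) * conj (χ (g ^ k))) (fun _ : G => (1 : ℂ)) ≠ 0 := by
    have h := classInner_comp_pow_coprime k hk (fun g => χ g * conj (χ g)) (fun _ : G => (1 : ℂ))
    have h' : classInner (fun g => χ (g ^ k) * conj (χ (g ^ k))) (fun _ : G => (1 : ℂ))
        = classInner (fun g => χ g * conj (χ g)) (fun _ : G => (1 : ℂ)) := h
    rw [h']; exact h11
  have h12 : classInner (fun g => χ g * conj (χ g)) (indFun (cT a₀) (muFun χ a₀)) ≠ 0 :=
    classInner_normSq_indFun_ne_zero (cT a₀) χ hχcf (muFun χ a₀)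
      (muFun_eq_one hχ hfaith a₀) hχ1
  have h22 : classInner (fun g => χ (g ^ k) * conj (χ (g ^ k)))
      (indFun (cT a₀) (muFun χ a₀)) ≠ 0 :=
    classInner_normSq_indFun_ne_zero (cT a₀) (fun g => χ (g ^ k)) (isClassFunction_pow hχcf k)
      (muFun χ a₀) (muFun_eq_one_pow hχ hfaith a₀ k hk) (by simpa using hχ1)
  have hne1 := classInner_ne_one_of_two hΘ hΘk ⟨_, htriv⟩ ⟨_, hν⟩ hνne h11 h12 h21 h22
  apply hne1
  have h := classInner_irrCharacter_self (⟨_, hirr⟩ : IrrCharacter G)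
  have h' : classInner (fun g => χ g * χ (g ^ k)) (fun g => χ g * χ (g ^ k)) = 1 := h
  rw [classInner_prod_self] at h'
  exact h'

/-- If `χ` is faithful irreducible and `χ · χ^σ` is irreducible, every nilpotent normal subgroup is
central. -/
theorem nilpotent_normal_le_center {χ : G → ℂ} (hχ : IsIrrCharacter G χ)
    (hfaith : ∀ g : G, χ g = χ 1 → g = 1) (k : ℕ) (hk : k.Coprime (Nat.card G))
    (hirr : IsIrrCharacter G (fun g => χ g * χ (g ^ k))) :
    ∀ (n : ℕ) (N : Subgroup G), N.Normal → Group.IsNilpotent N → Nat.card N = n →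
      N ≤ Subgroup.center G := by
  intro n
  induction n using Nat.strong_induction_on with
  | _ n ih =>
    intro N hNn hNnil hcard
    by_cases hcomm : ∀ a ∈ N, ∀ b ∈ N, a * b = b * a
    · exact abelian_normal_le_center hχ hfaith k hk hirr N hcomm
    · exfalso
      push Not at hcomm
      obtain ⟨a₀, ha₀, b₀, hb₀, hab⟩ := hcomm
      -- the derived subgroup
      haveI : Nontrivial N := by
        refine ⟨⟨⟨a₀, ha₀⟩, ⟨1, N.one_mem⟩, ?_⟩⟩
        intro h
        have h1 : a₀ = 1 := congrArg Subtype.val h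
        apply hab
        rw [h1, one_mul, mul_one]
      have hlt : ⁅N, N⁆ < N := by
        have h := Group.IsSolvable.commutator_lt_top_of_nontrivial N
        rw [← Subgroup.map_subtype_commutator N]
        conv_rhs => rw [← N.range_subtype, MonoidHom.range_eq_map]
        exact Subgroup.map_subtype_lt_map_subtype.2 h
      have hDn : (⁅N, N⁆ : Subgroup G).Normal := Subgroup.commutator_normal N N
      have hDnil : Group.IsNilpotent (⁅N, N⁆ : Subgroup G) := by
        haveI : Group.IsNilpotent ((⁅N, N⁆ : Subgroup G).subgroupOf N) := Subgroup.isNilpotent _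
        exact Group.nilpotent_of_mulEquiv (Subgroup.subgroupOfEquivOfLe hlt.le)
      have hDcard : Nat.card (⁅N, N⁆ : Subgroup G) < n := by
        rw [← hcard]
        by_contra h
        push Not at h
        exact hlt.ne (Subgroup.eq_of_le_of_card_ge hlt.le h)
      have hDZ : (⁅N, N⁆ : Subgroup G) ≤ Subgroup.center G :=
        ih _ hDcard _ hDn hDnil rfl
      -- the centre of N
      have hZn : (N ⊓ Subgroup.centralizer (N : Set G)).Normal := inferInstance
      have hZZ : N ⊓ Subgroup.centralizer (N : Set G) ≤ Subgroup.center G := by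
        apply abelian_normal_le_center hχ hfaith k hk hirr
        intro a ha b hb
        exact (Subgroup.mem_centralizer_iff.1 ha.2 b hb.1).symm
      refine class_two_false hχ hfaith k hk hirr N ?_ ?_ a₀ b₀ ha₀ hb₀ hab
      · intro a ha b hb
        apply hDZ
        have h := Subgroup.commutator_mem_commutator (N.inv_mem ha) (N.inv_mem hb)
        rw [commutatorElement_def, inv_inv, inv_inv] at h
        exact h
      · intro a ha hcomm'
        apply hZZ
        refine Subgroup.mem_inf.2 ⟨ha, ?_⟩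
        rw [Subgroup.mem_centralizer_iff]
        intro b hb
        exact (hcomm' b hb).symm

end Main

end Cfsg.Agent.Lib.Helper2.GalProd
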