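import Mathlib
import Cfsg.Prelude.Def_Characters
import Cfsg.Agent.Lib.Helper2.GalProd
import Cfsg.Agent.Lib.Helper2.GoingDown
import Cfsg.Agent.Lib.Helper2.DegreeRatio
import Cfsg.Agent.Lib.Helper2.BrolineGarrison
import Cfsg.Agent.Lib.Helper4.MinNormal
import Cfsg.Agent.Lib.Helper10.PGroup
import Cfsg.Agent.Lib.Helper11.Clifford2

/-!
# Characters induced from a maximal subgroup are not quasi-primitive (helper2 library)

`L ≤ H < G` with `L ⊴ G`, `H` maximal, `G/L` solvable, `ϑ ∈ Irr(H)` with `ϑ_L` irreducible and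
`ϑ^G` irreducible: then the restriction of `ϑ^G` to some normal subgroup containing `L` is not
homogeneous.
-/

set_option autoImplicit false
set_option linter.style.haveILetI false
set_option linter.unusedSectionVars false

namespace Cfsg.Agent.Lib.Helper2.QuasiPrim

open Cfsg
open Cfsg.Agent.Lib.Helper2
open scoped ComplexConjugate

section GroupTheory

theorem card_eq_relIndex_mul {G : Type*} [Group G] {A B : Subgroup G} (h : A ≤ B) :
    Nat.card B = A.relIndex B * Nat.card A := by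
  rw [Subgroup.relIndex, ← Subgroup.index_mul_card (A.subgroupOf B),
    Nat.card_congr (Subgroup.subgroupOfEquivOfLe h).toEquiv]

theorem card_comap_mk' {G : Type*} [Group G] (K : Subgroup G) [K.Normal]
    (X : Subgroup (G ⧸ K)) :
    Nat.card (X.comap (QuotientGroup.mk' K)) = Nat.card X * Nat.card K := by
  have hK : K ≤ X.comap (QuotientGroup.mk' K) := by
    have := Subgroup.ker_le_comap (QuotientGroup.mk' K) X
    rwa [QuotientGroup.ker_mk'] at this
  rw [card_eq_relIndex_mul hK]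
  congr 1
  have h1 := Subgroup.relIndex_ker (QuotientGroup.mk' K) (K := X.comap (QuotientGroup.mk' K))
  rw [QuotientGroup.ker_mk'] at h1
  rw [h1, Subgroup.map_comap_eq_self_of_surjective (QuotientGroup.mk'_surjective K)]

theorem card_mul_card_inf {G : Type*} [Group G] (N H : Subgroup G) [N.Normal]
    (h : N ⊔ H = ⊤) :
    Nat.card G * Nat.card ↥(N ⊓ H) = Nat.card H * Nat.card N := by
  have h1 : N.relIndex H = N.index := by
    rw [← Subgroup.relIndex_sup_left (K := N) (H := H), h, Subgroup.relIndex_top_right]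
  have h2 : Nat.card H = N.index * Nat.card ↥(N ⊓ H) := by
    rw [card_eq_relIndex_mul (inf_le_right : N ⊓ H ≤ H), Subgroup.inf_relIndex_right, h1]
  rw [h2, ← Subgroup.index_mul_card N]
  ring

theorem exists_layer {G : Type*} [Group G] [Finite G] (K : Subgroup G) [hK : K.Normal]
    (hsolv : Group.IsSolvable (G ⧸ K)) (hne : K ≠ ⊤) :
    ∃ (M : Subgroup G) (p a : ℕ), M.Normal ∧ K ≤ M ∧ M ≠ K ∧ p.Prime ∧
      Nat.card M = p ^ a * Nat.card K ∧
      (∀ x ∈ M, ∀ y ∈ M, x * y * x⁻¹ * y⁻¹ ∈ K) ∧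
      (∀ X : Subgroup G, X.Normal → K ≤ X → X ≤ M → X = K ∨ X = M) := by
  haveI : Nontrivial (G ⧸ K) := by
    obtain ⟨g, hg⟩ : ∃ g, g ∉ K := by
      by_contra hcon
      push Not at hcon
      exact hne (eq_top_iff.mpr (fun x _ => hcon x))
    refine ⟨⟨(g : G ⧸ K), 1, ?_⟩⟩
    intro h
    exact hg ((QuotientGroup.eq_one_iff g).mp h)
  haveI := hsolv
  obtain ⟨Mb, hMb⟩ := Helper4.exists_minNormal (G := G ⧸ K)
  have hab := hMb.le_centralizer
  obtain ⟨p, hp, hpM⟩ := hMb.exists_isPGroup hab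
  obtain ⟨hMn, hMne, hMmin⟩ := hMb
  haveI : Fact p.Prime := ⟨hp⟩
  obtain ⟨a, ha⟩ := IsPGroup.iff_card.mp hpM
  have hsurj : Function.Surjective (QuotientGroup.mk' K) := QuotientGroup.mk'_surjective K
  have hker : (QuotientGroup.mk' K).ker = K := QuotientGroup.ker_mk' K
  refine ⟨Mb.comap (QuotientGroup.mk' K), p, a, hMn.comap _, ?_, ?_, hp, ?_, ?_, ?_⟩
  · have := Subgroup.ker_le_comap (QuotientGroup.mk' K) Mb
    rwa [hker] at this
  · intro h
    apply hMne
    rw [← Subgroup.map_comap_eq_self_of_surjective hsurj Mb, h]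
    rw [Subgroup.map_eq_bot_iff, hker]
  · rw [card_comap_mk', ha]
  · intro x hx y hy
    rw [Subgroup.mem_comap] at hx hy
    have hc : QuotientGroup.mk' K y * QuotientGroup.mk' K x
        = QuotientGroup.mk' K x * QuotientGroup.mk' K y :=
      Subgroup.mem_centralizer_iff.mp (hab hx) _ hy
    rw [← hker, MonoidHom.mem_ker]
    simp only [map_mul, map_inv]
    calc QuotientGroup.mk' K x * QuotientGroup.mk' K y * (QuotientGroup.mk' K x)⁻¹
          * (QuotientGroup.mk' K y)⁻¹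
        = (QuotientGroup.mk' K y * QuotientGroup.mk' K x) * (QuotientGroup.mk' K x)⁻¹
          * (QuotientGroup.mk' K y)⁻¹ := by rw [hc]
      _ = 1 := by group
  · intro X hX hKX hXM
    have hXn : (X.map (QuotientGroup.mk' K)).Normal := hX.map _ hsurj
    have hle : X.map (QuotientGroup.mk' K) ≤ Mb := Subgroup.map_le_iff_le_comap.mpr hXM
    have hcm : (X.map (QuotientGroup.mk' K)).comap (QuotientGroup.mk' K) = X := by
      apply Subgroup.comap_map_eq_self
      rw [hker]; exact hKX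
    rcases hMmin _ hXn hle with h | h
    · left
      apply le_antisymm _ hKX
      have := (Subgroup.map_eq_bot_iff _).mp h
      rwa [hker] at this
    · right
      rw [← hcm, h]

theorem central_of_pgroup {G : Type*} [Group G] [Finite G] (K M N : Subgroup G) [hK : K.Normal]
    [hM : M.Normal] [hN : N.Normal] (hKM : K ≤ M) (hMN : M ≤ N) (hne : M ≠ K)
    (hmin : ∀ X : Subgroup G, X.Normal → K ≤ X → X ≤ M → X = K ∨ X = M)
    (p b : ℕ) (hp : p.Prime) (hcard : Nat.card N = p ^ b * Nat.card K) :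
    ∀ m ∈ M, ∀ y ∈ N, y * m * y⁻¹ * m⁻¹ ∈ K := by
  haveI : Fact p.Prime := ⟨hp⟩
  have hsurj : Function.Surjective (QuotientGroup.mk' K) := QuotientGroup.mk'_surjective K
  have hker : (QuotientGroup.mk' K).ker = K := QuotientGroup.ker_mk' K
  set Nb := N.map (QuotientGroup.mk' K) with hNb
  set Mb := M.map (QuotientGroup.mk' K) with hMb
  have hcN : Nb.comap (QuotientGroup.mk' K) = N :=
    Subgroup.comap_map_eq_self (by rw [hker]; exact hKM.trans hMN)
  have hcardNb : Nat.card Nb = p ^ b := by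
    have h1 := card_comap_mk' K Nb
    rw [hcN, hcard] at h1
    have hK0 : 0 < Nat.card K := Nat.card_pos
    exact (Nat.eq_of_mul_eq_mul_right hK0 h1).symm
  have hP : IsPGroup p Nb := IsPGroup.of_card hcardNb
  haveI hMbn : Mb.Normal := hM.map _ hsurj
  haveI hNbn : Nb.Normal := hN.map _ hsurj
  have hMbNb : Mb ≤ Nb := Subgroup.map_mono hMN
  have hAne : Mb.subgroupOf Nb ≠ ⊥ := by
    intro h
    rw [Subgroup.subgroupOf_eq_bot] at h
    have h2 : Mb = ⊥ := by
      have h3 := h.eq_bot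
      rwa [inf_eq_left.mpr hMbNb] at h3
    apply hne
    apply le_antisymm _ hKM
    have := (Subgroup.map_eq_bot_iff _).mp h2
    rwa [hker] at this
  haveI : (Mb.subgroupOf Nb).Normal := hMbn.subgroupOf Nb
  have hz := Helper10.normal_inf_center_ne_bot hP (Mb.subgroupOf Nb) hAne
  set Z := M ⊓ (Subgroup.centralizer (Nb : Set (G ⧸ K))).comap (QuotientGroup.mk' K) with hZ
  haveI hcn : ((Subgroup.centralizer (Nb : Set (G ⧸ K))).comap (QuotientGroup.mk' K)).Normal :=
    Subgroup.Normal.comap inferInstance _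
  have hZn : Z.Normal := inferInstance
  have hKZ : K ≤ Z := by
    refine le_inf hKM ?_
    have := Subgroup.ker_le_comap (QuotientGroup.mk' K)
      (Subgroup.centralizer (Nb : Set (G ⧸ K)))
    rwa [hker] at this
  rcases hmin Z hZn hKZ inf_le_left with h | h
  · exfalso
    apply hz
    rw [Subgroup.eq_bot_iff_forall]
    intro z hzmem
    obtain ⟨hz1, hz2⟩ := Subgroup.mem_inf.mp hzmem
    rw [Subgroup.mem_subgroupOf] at hz1
    obtain ⟨m, hm, hmz⟩ := Subgroup.mem_map.mp hz1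
    have hmZ : m ∈ Z := by
      refine Subgroup.mem_inf.mpr ⟨hm, ?_⟩
      rw [Subgroup.mem_comap, hmz, Subgroup.mem_centralizer_iff]
      intro w hw
      have := Subgroup.mem_center_iff.mp hz2 ⟨w, hw⟩
      exact congrArg Subtype.val this
    rw [h] at hmZ
    have h1 : QuotientGroup.mk' K m = 1 := by
      rw [← MonoidHom.mem_ker, hker]; exact hmZ
    apply Subtype.ext
    rw [← hmz, h1]; rfl
  · intro m hm y hy
    have hmZ : m ∈ Z := by rw [h]; exact hm
    have hc := (Subgroup.mem_inf.mp hmZ).2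
    rw [Subgroup.mem_comap, Subgroup.mem_centralizer_iff] at hc
    have hyN : QuotientGroup.mk' K y ∈ Nb := Subgroup.mem_map_of_mem _ hy
    have h1 := hc _ hyN
    rw [← hker, MonoidHom.mem_ker]
    simp only [map_mul, map_inv]
    rw [h1]; group

theorem inf_le_core {G : Type*} [Group G] (H M Y : Subgroup G) [hM : M.Normal] [hY : Y.Normal]
    (hMH : M ⊔ H = ⊤)
    (hc : ∀ m ∈ M, ∀ y ∈ Y, y * m * y⁻¹ * m⁻¹ ∈ H.normalCore) : Y ⊓ H ≤ H.normalCore := by
  intro x hx
  obtain ⟨hxY, hxH⟩ := Subgroup.mem_inf.mp hx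
  show ∀ b : G, b * x * b⁻¹ ∈ H
  intro g
  have hg : g ∈ ((M ⊔ H : Subgroup G) : Set G) := by rw [hMH]; exact Set.mem_univ g
  rw [Subgroup.normal_mul] at hg
  obtain ⟨m, hm, h, hh, rfl⟩ := Set.mem_mul.mp hg
  have hy : h * x * h⁻¹ ∈ Y := hY.conj_mem x hxY h
  have hyH : h * x * h⁻¹ ∈ H := H.mul_mem (H.mul_mem hh hxH) (H.inv_mem hh)
  have hk := hc m hm _ hy
  have hk' : (h * x * h⁻¹ * m * (h * x * h⁻¹)⁻¹ * m⁻¹)⁻¹ ∈ H :=
    H.inv_mem (H.normalCore_le hk)
  have e : m * h * x * (m * h)⁻¹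
      = (h * x * h⁻¹ * m * (h * x * h⁻¹)⁻¹ * m⁻¹)⁻¹ * (h * x * h⁻¹) := by group
  rw [e]
  exact H.mul_mem hk' hyH

end GroupTheory

section Sums

variable {G : Type*} [Group G] [Fintype G]

/-- conjugation by `x` as a permutation -/
def cj (x : G) : G ≃ G where
  toFun g := x⁻¹ * g * x
  invFun g := x * g * x⁻¹
  left_inv g := by group
  right_inv g := by group

theorem mem_conj_iff {N : Subgroup G} (hN : N.Normal) (x g : G) : x⁻¹ * g * x ∈ N ↔ g ∈ N := by
  constructor
  · intro h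
    have h1 := hN.conj_mem _ h x
    have e : x * (x⁻¹ * g * x) * x⁻¹ = g := by group
    rwa [e] at h1
  · intro h
    exact hN.conj_mem' g h x

open Classical in
/-- cut a function off outside a subgroup -/
noncomputable def cut (N : Subgroup G) (F : G → ℂ) : G → ℂ := fun g => if g ∈ N then F g else 0

theorem cut_of_mem {N : Subgroup G} (F : G → ℂ) {g : G} (hg : g ∈ N) : cut N F g = F g := by
  simp only [cut, if_pos hg]

theorem cut_of_not_mem {N : Subgroup G} (F : G → ℂ) {g : G} (hg : g ∉ N) : cut N F g = 0 := by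
  simp only [cut, if_neg hg]

theorem sum_cut (X : Subgroup G) [Fintype X] (F : G → ℂ) :
    ∑ g : G, cut X F g = ∑ x : X, F x := by
  classical
  simp only [cut]
  rw [← Finset.sum_filter]
  exact Finset.sum_subtype (Finset.univ.filter (· ∈ X)) (by simp) F

theorem conj_invariant_of_sum_eq (F : G → ℂ)
    (h : ∑ x : G, ∑ g : G, F (x⁻¹ * g * x) * conj (F g)
      = (Nat.card G : ℂ) * ∑ g : G, F g * conj (F g)) :
    ∀ x g : G, F (x⁻¹ * g * x) = F g := by
  set B := ∑ g : G, F g * conj (F g) with hB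
  have hBreal : conj B = B := by
    rw [hB, map_sum]
    apply Finset.sum_congr rfl
    intro g _
    rw [map_mul, Complex.conj_conj, mul_comm]
  have hB' : ∀ x : G, ∑ g : G, F (x⁻¹ * g * x) * conj (F (x⁻¹ * g * x)) = B := fun x =>
    Equiv.sum_comp (cj x) (fun g => F g * conj (F g))
  have hT' : ∑ x : G, ∑ g : G, F g * conj (F (x⁻¹ * g * x)) = (Nat.card G : ℂ) * B := by
    have h1 := congrArg conj h
    rw [map_mul, Complex.conj_natCast, hBreal, map_sum] at h1
    rw [← h1]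
    apply Finset.sum_congr rfl
    intro x _
    rw [map_sum]
    apply Finset.sum_congr rfl
    intro g _
    rw [map_mul, Complex.conj_conj, mul_comm]
  have hSS : ∑ x : G, ∑ g : G,
      (F (x⁻¹ * g * x) - F g) * conj (F (x⁻¹ * g * x) - F g) = 0 := by
    have hexp : ∀ x g : G, (F (x⁻¹ * g * x) - F g) * conj (F (x⁻¹ * g * x) - F g) =
        F (x⁻¹ * g * x) * conj (F (x⁻¹ * g * x)) + F g * conj (F g)
          - F (x⁻¹ * g * x) * conj (F g) - F g * conj (F (x⁻¹ * g * x)) := by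
      intro x g
      rw [map_sub]
      ring
    simp only [hexp, Finset.sum_sub_distrib, Finset.sum_add_distrib, hB']
    rw [h, hT']
    simp only [Finset.sum_const, Finset.card_univ, nsmul_eq_mul]
    rw [← Nat.card_eq_fintype_card]
    ring
  have hnn : ∀ x g : G, (F (x⁻¹ * g * x) - F g) * conj (F (x⁻¹ * g * x) - F g) =
      ((Complex.normSq (F (x⁻¹ * g * x) - F g) : ℝ) : ℂ) := fun x g => Complex.mul_conj _
  simp only [hnn] at hSS
  have hSS' : ∑ x : G, ∑ g : G, Complex.normSq (F (x⁻¹ * g * x) - F g) = 0 := by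
    exact_mod_cast hSS
  intro x g
  have h1 := (Finset.sum_eq_zero_iff_of_nonneg
    (fun x _ => Finset.sum_nonneg (fun g _ => Complex.normSq_nonneg _))).mp hSS' x
    (Finset.mem_univ x)
  have h2 := (Finset.sum_eq_zero_iff_of_nonneg
    (fun g _ => Complex.normSq_nonneg _)).mp h1 g (Finset.mem_univ g)
  exact sub_eq_zero.mp (Complex.normSq_eq_zero.mp h2)

theorem sum_sum_conj_mul (Φ F : G → ℂ) (hF : IsClassFunction G F) :
    ∑ x : G, ∑ g : G, Φ (x⁻¹ * g * x) * conj (F g)
      = (Nat.card G : ℂ) * ∑ g : G, Φ g * conj (F g) := by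
  have h1 : ∀ x : G, ∑ g : G, Φ (x⁻¹ * g * x) * conj (F g) = ∑ g : G, Φ g * conj (F g) := by
    intro x
    rw [← Equiv.sum_comp (cj x) (fun g => Φ g * conj (F g))]
    apply Finset.sum_congr rfl
    intro g _
    have h2 : F (x⁻¹ * g * x) = F g := by
      have h3 := hF g x⁻¹
      rwa [inv_inv] at h3
    show Φ (x⁻¹ * g * x) * conj (F g) = Φ (x⁻¹ * g * x) * conj (F (x⁻¹ * g * x))
    rw [h2]
  rw [Finset.sum_congr rfl (fun x _ => h1 x), Finset.sum_const, Finset.card_univ, nsmul_eq_mul,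
    Nat.card_eq_fintype_card]

theorem hom_norm {χ : G → ℂ} (X : Subgroup G) [Fintype X] {φ : X → ℂ}
    (hφ : IsIrrCharacter X φ) (e : ℕ) (h : (fun x : X => χ x) = (e : ℂ) • φ) :
    ∑ g : G, cut X (fun g => χ g * conj (χ g)) g = (e : ℂ) ^ 2 * (Nat.card X : ℂ) := by
  rw [sum_cut, ← GoingDown.sum_mul_conj_eq_card hφ, Finset.mul_sum]
  apply Finset.sum_congr rfl
  intro x _
  have h1 : χ x = (e : ℂ) * φ x := congrFun h x
  beta_reduce
  rw [h1, map_mul, Complex.conj_natCast]
  ring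

end Sums

section Ind

variable {G : Type*} [Group G] [Fintype G] (H : Subgroup G) (ϑ : H → ℂ)

theorem sum_theta_conj (g : G) :
    ∑ x : G, extendByZero H ϑ (x⁻¹ * g * x) = (Nat.card H : ℂ) * indFun H ϑ g := by
  rw [indFun_apply, ← mul_assoc, mul_inv_cancel₀ (card_subgroup_ne_zero H), one_mul]

theorem sum_cut_conj (N : Subgroup G) (hN : N.Normal) (g : G) :
    ∑ x : G, cut N (extendByZero H ϑ) (x⁻¹ * g * x)
      = cut N (fun g => (Nat.card H : ℂ) * indFun H ϑ g) g := by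
  by_cases hg : g ∈ N
  · rw [cut_of_mem _ hg, ← sum_theta_conj]
    apply Finset.sum_congr rfl
    intro x _
    rw [cut_of_mem _ ((mem_conj_iff hN x g).mpr hg)]
  · rw [cut_of_not_mem _ hg]
    apply Finset.sum_eq_zero
    intro x _
    rw [cut_of_not_mem _ (fun h => hg ((mem_conj_iff hN x g).mp h))]

theorem W_eq (N : Subgroup G) (hN : N.Normal) :
    (Nat.card H : ℂ) * ∑ g : G, cut N (fun g => indFun H ϑ g * conj (indFun H ϑ g)) g
      = (Nat.card G : ℂ) * ∑ g : G, cut N (extendByZero H ϑ) g * conj (indFun H ϑ g) := by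
  rw [← sum_sum_conj_mul (cut N (extendByZero H ϑ)) (indFun H ϑ) (indFun_isClassFunction H ϑ),
    Finset.sum_comm, Finset.mul_sum]
  apply Finset.sum_congr rfl
  intro g _
  rw [← Finset.sum_mul, sum_cut_conj H ϑ N hN g]
  by_cases hg : g ∈ N
  · rw [cut_of_mem (fun g => (Nat.card H : ℂ) * indFun H ϑ g) hg,
      cut_of_mem (fun g => indFun H ϑ g * conj (indFun H ϑ g)) hg]
    ring
  · rw [cut_of_not_mem (fun g => (Nat.card H : ℂ) * indFun H ϑ g) hg,
      cut_of_not_mem (fun g => indFun H ϑ g * conj (indFun H ϑ g)) hg]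
    ring

theorem T_eq (N : Subgroup G) (hN : N.Normal) :
    ∑ x : G, ∑ g : G,
        cut N (extendByZero H ϑ) (x⁻¹ * g * x) * conj (cut N (extendByZero H ϑ) g)
      = (Nat.card H : ℂ) * ∑ g : G, indFun H ϑ g * conj (cut N (extendByZero H ϑ) g) := by
  rw [Finset.sum_comm, Finset.mul_sum]
  apply Finset.sum_congr rfl
  intro g _
  rw [← Finset.sum_mul, sum_cut_conj H ϑ N hN g]
  by_cases hg : g ∈ N
  · rw [cut_of_mem (fun g => (Nat.card H : ℂ) * indFun H ϑ g) hg]
    ring
  · rw [cut_of_not_mem (fun g => (Nat.card H : ℂ) * indFun H ϑ g) hg,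
      cut_of_not_mem (extendByZero H ϑ) hg, map_zero]
    ring

theorem cut_theta_supp (N : Subgroup G) {g : G} (h : cut N (extendByZero H ϑ) g ≠ 0) :
    g ∈ N ⊓ H := by
  have hgN : g ∈ N := by
    by_contra hn
    exact h (cut_of_not_mem _ hn)
  rw [cut_of_mem _ hgN] at h
  have hgH : g ∈ H := by
    by_contra hn
    exact h (extendByZero_of_not_mem H ϑ hn)
  exact Subgroup.mem_inf.mpr ⟨hgN, hgH⟩

theorem cut_theta_norm (N X : Subgroup G) [Fintype X] (hXH : X ≤ H) (hXN : X ≤ N)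
    (hirr : IsIrrCharacter X (fun x : X => ϑ ⟨x, hXH x.2⟩))
    (hsupp : ∀ g : G, cut N (extendByZero H ϑ) g ≠ 0 → g ∈ X) :
    ∑ g : G, cut N (extendByZero H ϑ) g * conj (cut N (extendByZero H ϑ) g)
      = (Nat.card X : ℂ) := by
  have h1 : ∀ g : G, cut N (extendByZero H ϑ) g * conj (cut N (extendByZero H ϑ) g)
      = cut X (fun g => extendByZero H ϑ g * conj (extendByZero H ϑ g)) g := by
    intro g
    by_cases hg : g ∈ X
    · rw [cut_of_mem _ hg, cut_of_mem _ (hXN hg)]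
    · rw [cut_of_not_mem _ hg]
      have h2 : cut N (extendByZero H ϑ) g = 0 := by
        by_contra h
        exact hg (hsupp g h)
      rw [h2, zero_mul]
  rw [Finset.sum_congr rfl (fun g _ => h1 g), sum_cut, ← GoingDown.sum_mul_conj_eq_card hirr]
  apply Finset.sum_congr rfl
  intro x _
  beta_reduce
  rw [extendByZero_of_mem H ϑ (hXH x.2)]

theorem ind_vanish (K M : Subgroup G) (hK : K.Normal) (hMn : M.Normal) (hMHK : M ⊓ H ≤ K)
    {g : G} (hgM : g ∈ M) (hg : g ∉ K) : indFun H ϑ g = 0 := by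
  rw [indFun_apply]
  have h0 : ∀ x : G, extendByZero H ϑ (x⁻¹ * g * x) = 0 := by
    intro x
    apply extendByZero_of_not_mem
    intro hx
    apply hg
    have h1 : x⁻¹ * g * x ∈ K :=
      hMHK (Subgroup.mem_inf.mpr ⟨(mem_conj_iff hMn x g).mpr hgM, hx⟩)
    exact (mem_conj_iff hK x g).mp h1
  rw [Finset.sum_eq_zero (fun x _ => h0 x), mul_zero]

theorem cut_norm_eq (K M : Subgroup G) (hK : K.Normal) (hMn : M.Normal) (hKM : K ≤ M)
    (hMHK : M ⊓ H ≤ K) :
    ∑ g : G, cut M (fun g => indFun H ϑ g * conj (indFun H ϑ g)) g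
      = ∑ g : G, cut K (fun g => indFun H ϑ g * conj (indFun H ϑ g)) g := by
  apply Finset.sum_congr rfl
  intro g _
  by_cases hgK : g ∈ K
  · rw [cut_of_mem _ hgK, cut_of_mem _ (hKM hgK)]
  · rw [cut_of_not_mem _ hgK]
    by_cases hgM : g ∈ M
    · rw [cut_of_mem _ hgM, ind_vanish H ϑ K M hK hMn hMHK hgM hgK, zero_mul]
    · rw [cut_of_not_mem _ hgM]

theorem level_K (K : Subgroup G) (hK : K.Normal) [Fintype K] (hKH : K ≤ H)
    (hη : IsIrrCharacter K (fun k : K => ϑ ⟨k, hKH k.2⟩)) (hϑ1 : ϑ 1 ≠ 0)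
    {φ : K → ℂ} (hφ : IsIrrCharacter K φ) (e : ℕ)
    (h : (fun k : K => indFun H ϑ k) = (e : ℂ) • φ) : e = H.index := by
  classical
  have hidx0 : (H.index : ℂ) ≠ 0 := by
    exact_mod_cast (Subgroup.index_ne_zero_of_finite (H := H))
  have hχ1 : indFun H ϑ 1 = (H.index : ℂ) * ϑ 1 := indFun_apply_one H ϑ
  have h1 : indFun H ϑ 1 = (e : ℂ) * φ 1 := congrFun h 1
  have he0 : (e : ℂ) ≠ 0 := by
    intro he
    rw [he, zero_mul, hχ1] at h1
    exact mul_ne_zero hidx0 hϑ1 h1
  have hW := W_eq H ϑ K hK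
  rw [hom_norm K hφ e h] at hW
  have hci : (Nat.card K : ℂ) * classInner (fun k : K => ϑ ⟨k, hKH k.2⟩) φ
      = ∑ k : K, ϑ ⟨k, hKH k.2⟩ * conj (φ k) := by
    rw [classInner_def, ← mul_assoc, mul_inv_cancel₀ card_ne_zero_complex, one_mul]
  have hsum : ∑ g : G, cut K (extendByZero H ϑ) g * conj (indFun H ϑ g)
      = (e : ℂ) * ((Nat.card K : ℂ) * classInner (fun k : K => ϑ ⟨k, hKH k.2⟩) φ) := by
    have h2 : ∀ g : G, cut K (extendByZero H ϑ) g * conj (indFun H ϑ g)
        = cut K (fun g => extendByZero H ϑ g * conj (indFun H ϑ g)) g := by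
      intro g
      by_cases hg : g ∈ K
      · rw [cut_of_mem _ hg, cut_of_mem _ hg]
      · rw [cut_of_not_mem _ hg, cut_of_not_mem _ hg, zero_mul]
    rw [Finset.sum_congr rfl (fun g _ => h2 g), sum_cut, hci, Finset.mul_sum]
    apply Finset.sum_congr rfl
    intro k _
    have h3 : indFun H ϑ k = (e : ℂ) * φ k := congrFun h k
    beta_reduce
    rw [extendByZero_of_mem H ϑ (hKH k.2), h3, map_mul, Complex.conj_natCast]
    ring
  rw [hsum] at hW
  have hne : classInner (fun k : K => ϑ ⟨k, hKH k.2⟩) φ ≠ 0 := by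
    intro h0
    rw [h0, mul_zero, mul_zero, mul_zero] at hW
    have hH0 : (Nat.card H : ℂ) ≠ 0 := card_subgroup_ne_zero H
    have hK0 : (Nat.card K : ℂ) ≠ 0 := card_subgroup_ne_zero K
    exact mul_ne_zero hH0 (mul_ne_zero (pow_ne_zero 2 he0) hK0) hW
  have heq : (fun k : K => ϑ ⟨k, hKH k.2⟩) = φ := eq_of_irr_of_classInner_ne_zero' hη hφ hne
  rw [← heq, hχ1] at h1
  have h4 : ϑ ⟨((1 : K) : G), hKH (1 : K).2⟩ = ϑ 1 := congrArg ϑ (Subtype.ext rfl)
  beta_reduce at h1
  rw [h4] at h1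
  have h5 := mul_right_cancel₀ hϑ1 h1
  exact_mod_cast h5.symm

theorem level_N (N : Subgroup G) (hN : N.Normal) [Fintype N] {ψN : N → ℂ}
    (hψN : IsIrrCharacter N ψN) (eN : ℕ)
    (hhom : (fun n : N => indFun H ϑ n) = (eN : ℂ) • ψN)
    (he : (eN : ℂ) ^ 2 = (H.index : ℂ)) (B : ℂ)
    (hB : ∑ g : G, cut N (extendByZero H ϑ) g * conj (cut N (extendByZero H ϑ) g) = B)
    (hcard : (Nat.card G : ℂ) * B = (Nat.card H : ℂ) * (Nat.card N : ℂ)) :
    ∀ x g : G, cut N (extendByZero H ϑ) (x⁻¹ * g * x) = cut N (extendByZero H ϑ) g := by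
  have hG0 : (Nat.card G : ℂ) ≠ 0 := card_ne_zero_complex
  set P := ∑ g : G, cut N (extendByZero H ϑ) g * conj (indFun H ϑ g) with hP
  have hW := W_eq H ϑ N hN
  rw [hom_norm N hψN eN hhom, ← hP] at hW
  have hPval : P = (Nat.card H : ℂ) * ((eN : ℂ) ^ 2 * (Nat.card N : ℂ)) / (Nat.card G : ℂ) := by
    rw [hW, mul_div_cancel_left₀ _ hG0]
  have hPconj : conj P = P := by
    rw [hPval]
    simp only [map_div₀, map_mul, map_pow, Complex.conj_natCast]
  have hQ : ∑ g : G, indFun H ϑ g * conj (cut N (extendByZero H ϑ) g) = conj P := by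
    rw [hP, map_sum]
    apply Finset.sum_congr rfl
    intro g _
    rw [map_mul, Complex.conj_conj, mul_comm]
  apply conj_invariant_of_sum_eq
  rw [T_eq H ϑ N hN, hQ, hPconj, hB]
  have hidx : (Nat.card G : ℂ) = (H.index : ℂ) * (Nat.card H : ℂ) := by
    exact_mod_cast (Subgroup.index_mul_card H).symm
  apply mul_left_cancel₀ hG0
  linear_combination (-(Nat.card H : ℂ)) * hW
    + ((Nat.card H : ℂ) ^ 2 * (Nat.card N : ℂ)) * he
    + (-(Nat.card G : ℂ)) * hcard
    + (-((Nat.card H : ℂ) * (Nat.card N : ℂ))) * hidx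

end Ind

section Main

universe u

theorem solvable_quotient_of_le {G : Type*} [Group G] (L X : Subgroup G) [L.Normal] [X.Normal]
    (hLX : L ≤ X) (h : Group.IsSolvable (G ⧸ L)) : Group.IsSolvable (G ⧸ X) := by
  haveI := h
  have hle : L ≤ X.comap (MonoidHom.id G) := by
    rw [Subgroup.comap_id]; exact hLX
  refine Group.isSolvable_of_surjective (f := QuotientGroup.map L X (MonoidHom.id G) hle) ?_
  intro x
  obtain ⟨g, rfl⟩ := QuotientGroup.mk_surjective x
  exact ⟨(g : G ⧸ L), rfl⟩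

theorem irr_of_restrict_irr {G : Type*} [Group G] [Finite G] {A B : Subgroup G} (hAB : A ≤ B)
    {χ : B → ℂ} (hχ : IsCharacter B χ) (hA : IsIrrCharacter A (fun a : A => χ ⟨a, hAB a.2⟩)) :
    IsIrrCharacter B χ := by
  classical
  haveI : Fintype B := Fintype.ofFinite B
  haveI : Fintype A := Fintype.ofFinite A
  have hχ0 : χ ≠ 0 := by
    intro h
    apply IsIrrCharacter.apply_one_ne_zero hA
    beta_reduce
    rw [h]; rfl
  obtain ⟨ξ, Ψ, hΨ, e⟩ := exists_irr_add_of_ne_zero hχ hχ0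
  by_cases hΨ0 : Ψ = 0
  · rw [e, hΨ0, add_zero]; exact ξ.2
  · exfalso
    have h1 : IsCharacter A (fun a => (ξ : B → ℂ) (Subgroup.inclusion hAB a)) :=
      IsCharacter.comp (IsIrrCharacter.isCharacter ξ.2) (Subgroup.inclusion hAB)
    have h2 : IsCharacter A (fun a => Ψ (Subgroup.inclusion hAB a)) :=
      IsCharacter.comp hΨ (Subgroup.inclusion hAB)
    have n1 : (fun a => (ξ : B → ℂ) (Subgroup.inclusion hAB a)) ≠ 0 := by
      intro h
      have h0 := congrFun h 1
      simp only [map_one, Pi.zero_apply] at h0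
      exact IsIrrCharacter.apply_one_ne_zero ξ.2 h0
    have n2 : (fun a => Ψ (Subgroup.inclusion hAB a)) ≠ 0 := by
      intro h
      have h0 := congrFun h 1
      simp only [map_one, Pi.zero_apply] at h0
      exact hΨ0 (BG.eq_zero_of_apply_one_eq_zero hΨ h0)
    apply GalProd.not_irr_add h1 h2 n1 n2
    have h3 : (fun a : A => χ ⟨a, hAB a.2⟩)
        = (fun a => (ξ : B → ℂ) (Subgroup.inclusion hAB a))
          + (fun a => Ψ (Subgroup.inclusion hAB a)) := by
      funext a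
      rw [e]; rfl
    rw [← h3]; exact hA

theorem ratio {G : Type u} [Group G] [Fintype G] (M N : Subgroup G) [hMn : M.Normal]
    (hMN : M ≤ N) (χ : G → ℂ) {ψ : M → ℂ} (hψ : IsIrrCharacter M ψ) {ψN : N → ℂ}
    (hψN : IsIrrCharacter N ψN) (eM eN : ℕ) (hM : (fun m : M => χ m) = (eM : ℂ) • ψ)
    (hN : (fun n : N => χ n) = (eN : ℂ) • ψN) (heM : eM ≠ 0) (hχ1 : χ 1 ≠ 0) :
    ∃ b : ℕ, b ∣ M.relIndex N ∧ eM = eN * b := by
  classical
  haveI : Fintype N := Fintype.ofFinite N
  haveI hM'n : (M.subgroupOf N).Normal := hMn.subgroupOf N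
  haveI : Fintype (M.subgroupOf N) := Fintype.ofFinite _
  have hψ' : IsIrrCharacter (M.subgroupOf N) (ψ ∘ (Subgroup.subgroupOfEquivOfLe hMN)) :=
    Helper11.isIrrCharacter_comp_equiv (Subgroup.subgroupOfEquivOfLe hMN) hψ
  have heN : (eN : ℂ) ≠ 0 := by
    intro h
    have h0 : χ ((1 : N) : G) = (eN : ℂ) * ψN 1 := congrFun hN 1
    rw [h, zero_mul] at h0
    exact hχ1 h0
  have heM' : (eM : ℂ) ≠ 0 := Nat.cast_ne_zero.mpr heM
  have hrel : ∀ x : M.subgroupOf N,
      (eN : ℂ) * ψN x = (eM : ℂ) * (ψ ∘ (Subgroup.subgroupOfEquivOfLe hMN)) x := by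
    intro x
    have h1 : χ ((x : N) : G) = (eN : ℂ) * ψN x := congrFun hN (x : N)
    have h2 : χ ((Subgroup.subgroupOfEquivOfLe hMN x : M) : G)
        = (eM : ℂ) * ψ (Subgroup.subgroupOfEquivOfLe hMN x) :=
      congrFun hM (Subgroup.subgroupOfEquivOfLe hMN x)
    rw [← h1]
    exact h2
  have hres : (fun x : M.subgroupOf N => ψN x)
      = ((eM : ℂ) / (eN : ℂ)) • (ψ ∘ (Subgroup.subgroupOfEquivOfLe hMN)) := by
    funext x
    rw [Pi.smul_apply, smul_eq_mul, div_mul_eq_mul_div, eq_div_iff heN]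
    linear_combination hrel x
  have hcon : classInner (fun x : M.subgroupOf N => ψN x)
      (ψ ∘ (Subgroup.subgroupOfEquivOfLe hMN)) ≠ 0 := by
    rw [hres, classInner_smul_left]
    have h1 : classInner (ψ ∘ (Subgroup.subgroupOfEquivOfLe hMN))
        (ψ ∘ (Subgroup.subgroupOfEquivOfLe hMN)) = 1 :=
      classInner_irrCharacter_self ⟨_, hψ'⟩
    rw [h1, mul_one]
    exact div_ne_zero heM' heN
  obtain ⟨b, d, hd, hbd, hb⟩ := DegreeRatio.main (M.subgroupOf N) ψN hψN _ hψ' hcon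
  refine ⟨b, hb, ?_⟩
  have h1 : (eN : ℂ) * ψN 1 = (eM : ℂ) * (ψ ∘ (Subgroup.subgroupOfEquivOfLe hMN)) 1 := hrel 1
  rw [hbd, hd] at h1
  have hd0 : (d : ℂ) ≠ 0 := by
    rw [← hd]; exact IsIrrCharacter.apply_one_ne_zero hψ'
  have h2 : ((eN * b : ℕ) : ℂ) * d = (eM : ℂ) * d := by
    push_cast at h1 ⊢
    linear_combination h1
  have h3 := mul_right_cancel₀ hd0 h2
  exact_mod_cast h3.symm

theorem main {G : Type u} [Group G] [Fintype G] (L H : Subgroup G) [hL : L.Normal]
    (hLH : L ≤ H) (hmax : IsCoatom H) (hsolv : Group.IsSolvable (G ⧸ L)) (ϑ : H → ℂ)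
    (hϑ : IsIrrCharacter H ϑ)
    (hϑL : IsIrrCharacter L (fun x : L => ϑ ⟨(x : G), hLH x.2⟩))
    (hind : IsIrrCharacter G (indFun H ϑ))
    (hhom : ∀ M : Subgroup G, M.Normal → L ≤ M → ∃ (φ : M → ℂ) (e : ℕ),
      IsIrrCharacter M φ ∧ (fun m : M => indFun H ϑ m) = (e : ℂ) • φ) : False := by
  classical
  have hKH : H.normalCore ≤ H := H.normalCore_le
  have hLK : L ≤ H.normalCore := Subgroup.normal_le_normalCore.mpr hLH
  have hKtop : H.normalCore ≠ ⊤ := fun h => hmax.1 (top_le_iff.mp (h ▸ hKH))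
  have hirrX : ∀ (X : Subgroup G) (hXH : X ≤ H), L ≤ X →
      IsIrrCharacter X (fun x : X => ϑ ⟨x, hXH x.2⟩) := by
    intro X hXH hLX
    apply irr_of_restrict_irr hLX
    · exact IsCharacter.comp (IsIrrCharacter.isCharacter hϑ) (Subgroup.inclusion hXH)
    · exact hϑL
  have hϑ1 : ϑ 1 ≠ 0 := IsIrrCharacter.apply_one_ne_zero hϑ
  have hidxne : H.index ≠ 1 := fun h => hmax.1 (Subgroup.index_eq_one.mp h)
  have hidx0 : H.index ≠ 0 := Subgroup.index_ne_zero_of_finite
  -- the core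
  obtain ⟨φK, eK, hφK, hhomK⟩ := hhom H.normalCore inferInstance hLK
  have heK : eK = H.index :=
    level_K H ϑ H.normalCore inferInstance hKH (hirrX _ hKH hLK) hϑ1 hφK eK hhomK
  -- the first layer
  obtain ⟨M, p, a, hMn, hKM, hMK, hp, hcardM, habM, hminM⟩ :=
    exists_layer H.normalCore (solvable_quotient_of_le L _ hLK hsolv) hKtop
  haveI := hMn
  have hMH : M ⊔ H = ⊤ := by
    apply hmax.2
    refine lt_of_le_of_ne le_sup_right ?_
    intro h
    apply hMK
    apply le_antisymm _ hKM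
    apply Subgroup.normal_le_normalCore.mpr
    exact le_sup_left.trans h.symm.le
  have hMHK : M ⊓ H = H.normalCore :=
    le_antisymm (inf_le_core H M M hMH (fun m hm y hy => habM y hy m hm)) (le_inf hKM hKH)
  have hγM := card_mul_card_inf M H hMH
  rw [hMHK] at hγM
  have hGidx : Nat.card G = H.index * Nat.card H := (Subgroup.index_mul_card H).symm
  have hH0 : 0 < Nat.card H := Nat.card_pos
  have hK0 : 0 < Nat.card H.normalCore := Nat.card_pos
  have hMidx : Nat.card M = H.index * Nat.card H.normalCore := by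
    have h1 : Nat.card H * Nat.card M = Nat.card H * (H.index * Nat.card H.normalCore) := by
      rw [← hγM, hGidx]; ring
    exact Nat.eq_of_mul_eq_mul_left hH0 h1
  have hidxp : H.index = p ^ a := by
    rw [hcardM] at hMidx
    exact (Nat.eq_of_mul_eq_mul_right hK0 hMidx).symm
  obtain ⟨ψ, eM, hψ, hhomM⟩ := hhom M hMn (hLK.trans hKM)
  have hEM := hom_norm M hψ eM hhomM
  have hEK := hom_norm H.normalCore hφK eK hhomK
  have hEeq := cut_norm_eq H ϑ H.normalCore M inferInstance hMn hKM hMHK.le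
  rw [hEM, hEK, heK, hMidx] at hEeq
  have heM2 : eM * eM = H.index := by
    have hK0' : (Nat.card H.normalCore : ℂ) ≠ 0 := by exact_mod_cast hK0.ne'
    have hidx0' : (H.index : ℂ) ≠ 0 := by exact_mod_cast hidx0
    push_cast at hEeq
    have h1 : ((eM : ℂ) * (eM : ℂ)) * ((H.index : ℂ) * (Nat.card H.normalCore : ℂ))
        = (H.index : ℂ) * ((H.index : ℂ) * (Nat.card H.normalCore : ℂ)) := by
      linear_combination hEeq
    have h2 := mul_right_cancel₀ (mul_ne_zero hidx0' hK0') h1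
    exact_mod_cast h2
  have hMtop : M ≠ ⊤ := by
    intro h
    have h1 := GoingDown.sum_mul_conj_eq_card hind
    have h2 : ∑ g : G, cut M (fun g => indFun H ϑ g * conj (indFun H ϑ g)) g
        = ∑ g : G, indFun H ϑ g * conj (indFun H ϑ g) := by
      apply Finset.sum_congr rfl
      intro g _
      rw [cut_of_mem _ (by rw [h]; exact Subgroup.mem_top g)]
    rw [hEM, h1] at h2
    have h3 : Nat.card M = Nat.card G := by rw [h]; exact Subgroup.card_top
    rw [h3] at h2
    have hG0 : (Nat.card G : ℂ) ≠ 0 := card_ne_zero_complex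
    have h4 : (eM : ℂ) ^ 2 = 1 := mul_right_cancel₀ hG0 (h2.trans (one_mul _).symm)
    apply hidxne
    have h5 : ((eM * eM : ℕ) : ℂ) = 1 := by
      push_cast; rw [← h4]; ring
    rw [← heM2]; exact_mod_cast h5
  -- the second layer
  obtain ⟨N, q, c, hNn, hMN, hNM, hq, hcardN, -, -⟩ :=
    exists_layer M (solvable_quotient_of_le L M (hLK.trans hKM) hsolv) hMtop
  haveI := hNn
  have hNH : N ⊔ H = ⊤ := by
    apply top_le_iff.mp
    rw [← hMH]
    exact sup_le_sup_right hMN H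
  have hγN := card_mul_card_inf N H hNH
  have hfinal : Nat.card ↥(N ⊓ H) = Nat.card H.normalCore → False := by
    intro h
    rw [h, hγM] at hγN
    have h1 := Nat.eq_of_mul_eq_mul_left hH0 hγN
    exact hNM (Subgroup.eq_of_le_of_card_ge hMN h1.ge).symm
  apply hfinal
  by_cases hqp : q = p
  · rw [hqp] at hcardN
    have hcardN' : Nat.card N = p ^ (c + a) * Nat.card H.normalCore := by
      rw [hcardN, hcardM, pow_add]; ring
    have hcent := central_of_pgroup H.normalCore M N hKM hMN hMK hminM p (c + a) hp hcardN'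
    have hle : N ⊓ H ≤ H.normalCore := inf_le_core H M N hMH hcent
    have heq : N ⊓ H = H.normalCore := le_antisymm hle (le_inf (hKM.trans hMN) hKH)
    rw [heq]
  · obtain ⟨ψN, eN, hψN, hhomN⟩ := hhom N hNn (hLK.trans (hKM.trans hMN))
    have heM0 : eM ≠ 0 := by
      intro h
      rw [h] at heM2
      exact hidx0 heM2.symm
    have hχ1 : indFun H ϑ 1 ≠ 0 := by
      rw [indFun_apply_one]
      exact mul_ne_zero (by exact_mod_cast hidx0) hϑ1
    obtain ⟨b, hb, hbe⟩ := ratio M N hMN (indFun H ϑ) hψ hψN eM eN hhomM hhomN heM0 hχ1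
    have hrel : M.relIndex N = q ^ c := by
      have h1 := card_eq_relIndex_mul hMN
      rw [hcardN] at h1
      exact (Nat.eq_of_mul_eq_mul_right Nat.card_pos h1).symm
    have hb1 : b = 1 := by
      have hcop : Nat.Coprime (p ^ a) (q ^ c) :=
        Nat.Coprime.pow a c ((Nat.coprime_primes hp hq).mpr (Ne.symm hqp))
      apply Nat.eq_one_of_dvd_coprimes hcop
      · rw [← hidxp, ← heM2, hbe]
        exact dvd_mul_of_dvd_right (dvd_mul_left b eN) _
      · rw [← hrel]; exact hb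
    have heN : eN = eM := by rw [hbe, hb1, mul_one]
    have heN2 : (eN : ℂ) ^ 2 = (H.index : ℂ) := by
      rw [heN, ← heM2]; push_cast; ring
    have hB := cut_theta_norm H ϑ N (N ⊓ H) inf_le_right inf_le_left
      (hirrX _ inf_le_right (le_inf (hLK.trans (hKM.trans hMN)) hLH))
      (fun g hg => cut_theta_supp H ϑ N hg)
    have hcardC : (Nat.card G : ℂ) * (Nat.card ↥(N ⊓ H) : ℂ)
        = (Nat.card H : ℂ) * (Nat.card N : ℂ) := by exact_mod_cast hγN
    have hinv := level_N H ϑ N hNn hψN eN hhomN heN2 _ hB hcardC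
    have hsupp : ∀ g : G, cut N (extendByZero H ϑ) g ≠ 0 → g ∈ H.normalCore := by
      intro g hg
      show ∀ b : G, b * g * b⁻¹ ∈ H
      intro b
      have h1 := hinv b⁻¹ g
      rw [inv_inv] at h1
      have h2 : cut N (extendByZero H ϑ) (b * g * b⁻¹) ≠ 0 := by rw [h1]; exact hg
      exact (Subgroup.mem_inf.mp (cut_theta_supp H ϑ N h2)).2
    have hB' := cut_theta_norm H ϑ N H.normalCore hKH (hKM.trans hMN) (hirrX _ hKH hLK) hsupp
    rw [hB] at hB'
    exact_mod_cast hB'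

end Main

end Cfsg.Agent.Lib.Helper2.QuasiPrim
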