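import Mathlib
import Cfsg.Prelude.Def_Characters
import Cfsg.Agent.Lib.Helper2.QuasiPrim
import Cfsg.Agent.Lib.Helper2.MGroup

/-!
# Tools for Berger's theorem (helper2 library)

* induction commutes with pulling back along a surjective homomorphism;
* descent of an induced character along a surjection whose kernel lies in the inducing subgroup;
* if a product of characters / an induced character is irreducible, so is the factor / the
  inducing character;
* an irreducible character whose restriction to a normal subgroup is not homogeneous is induced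
  from a proper subgroup containing the normal subgroup.
-/

set_option autoImplicit false
set_option linter.style.haveILetI false
set_option linter.unusedSectionVars false

namespace Cfsg.Agent.Lib.Helper2.BergerTools

open Cfsg
open Cfsg.Agent.Lib.Helper2
open scoped ComplexConjugate

universe u

section Surj

variable {G' G : Type u} [Group G'] [Group G]

theorem sum_comp_surj [Fintype G'] [Fintype G] (f : G' →* G) (hf : Function.Surjective f)
    (F : G → ℂ) : ∑ x : G', F (f x) = (Nat.card f.ker : ℂ) * ∑ y : G, F y := by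
  classical
  haveI : Fintype (G' ⧸ f.ker) := Fintype.ofFinite _
  let e : G' ⧸ f.ker ≃* G := QuotientGroup.quotientKerEquivOfSurjective f hf
  have h1 := MGroup.sum_comp_mk f.ker (fun q => F (e q))
  have h2 : ∀ x : G', e (x : G' ⧸ f.ker) = f x := fun x => rfl
  simp only [h2] at h1
  rw [h1]
  congr 1
  exact Equiv.sum_comp e.toEquiv F

theorem card_comap_surj (f : G' →* G) (hf : Function.Surjective f) (H : Subgroup G) :
    Nat.card (H.comap f) = Nat.card H * Nat.card f.ker := by
  have hK : f.ker ≤ H.comap f := Subgroup.ker_le_comap f H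
  rw [QuasiPrim.card_eq_relIndex_mul hK]
  congr 1
  rw [Subgroup.relIndex_ker f (K := H.comap f), Subgroup.map_comap_eq_self_of_surjective hf]

/-- induction commutes with pulling back along a surjection -/
theorem indFun_comp_surj [Fintype G'] [Fintype G] (f : G' →* G) (hf : Function.Surjective f)
    (H : Subgroup G) (θ : H → ℂ) (g : G') :
    indFun (H.comap f) (fun h => θ ⟨f (h : G'), h.2⟩) g = indFun H θ (f g) := by
  classical
  have hext : ∀ y : G', extendByZero (H.comap f) (fun h => θ ⟨f (h : G'), h.2⟩) y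
      = extendByZero H θ (f y) := by
    intro y
    by_cases hy : f y ∈ H
    · have hy' : y ∈ H.comap f := hy
      rw [extendByZero_of_mem _ _ hy', extendByZero_of_mem _ _ hy]
    · have hy' : y ∉ H.comap f := hy
      rw [extendByZero_of_not_mem _ _ hy', extendByZero_of_not_mem _ _ hy]
  rw [indFun_apply, indFun_apply]
  simp only [hext, map_mul, map_inv]
  rw [sum_comp_surj f hf (fun q => extendByZero H θ (q⁻¹ * f g * q)), card_comap_surj f hf]
  have hN : (Nat.card f.ker : ℂ) ≠ 0 := by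
    have : 0 < Nat.card f.ker := Nat.card_pos
    exact_mod_cast this.ne'
  push_cast
  rw [mul_inv, mul_assoc, ← mul_assoc (Nat.card f.ker : ℂ)⁻¹, inv_mul_cancel₀ hN, one_mul]

/-- a character trivial on the kernel of a surjection descends -/
theorem exists_descend {A B : Type u} [Group A] [Group B] [Finite A] (f : A →* B)
    (hf : Function.Surjective f) {Ξ : A → ℂ} (hΞ : IsCharacter A Ξ)
    (hk : ∀ k ∈ f.ker, Ξ k = Ξ 1) :
    ∃ Ξ₀ : B → ℂ, IsCharacter B Ξ₀ ∧ ∀ a, Ξ₀ (f a) = Ξ a := by
  obtain ⟨n, ρ, rfl⟩ := hΞ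
  have hker : f.ker ≤ ρ.asGroupHom.ker := by
    intro k hk'
    rw [MonoidHom.mem_ker]
    apply Units.ext
    rw [Representation.asGroupHom_apply, Units.val_one]
    exact (Cfsg.Agent.Lib.Helper25.rep_apply_eq_one_iff ρ k).2 (hk k hk')
  let τ : B →* (Module.End ℂ (Fin n → ℂ))ˣ := f.liftOfSurjective hf ⟨ρ.asGroupHom, hker⟩
  let σ : Representation ℂ B (Fin n → ℂ) := (Units.coeHom (Module.End ℂ (Fin n → ℂ))).comp τ
  refine ⟨σ.character, ⟨n, σ, rfl⟩, fun a => ?_⟩
  have h1 : τ (f a) = ρ.asGroupHom a :=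
    MonoidHom.liftOfRightInverse_comp_apply f _ _ ⟨ρ.asGroupHom, hker⟩ a
  have h2 : σ (f a) = ρ a := by
    show ((τ (f a) : (Module.End ℂ (Fin n → ℂ))ˣ) : Module.End ℂ (Fin n → ℂ)) = ρ a
    rw [h1, Representation.asGroupHom_apply]
  show LinearMap.trace ℂ _ (σ (f a)) = LinearMap.trace ℂ _ (ρ a)
  rw [h2]

/-- descent of an induced character along a surjection -/
theorem descent [Fintype G'] [Fintype G] (f : G' →* G) (hf : Function.Surjective f)
    (T' : Subgroup G') (hker : f.ker ≤ T') {Ξ : T' → ℂ} (hΞ : IsCharacter T' Ξ) (F : G → ℂ)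
    (hind : ∀ x, indFun T' Ξ x = F (f x)) :
    ∃ Ξ₀ : (T'.map f) → ℂ, IsCharacter (T'.map f) Ξ₀ ∧ indFun (T'.map f) Ξ₀ = F := by
  classical
  haveI : Fintype T' := Fintype.ofFinite T'
  have hnorm : f.ker.Normal := MonoidHom.normal_ker f
  have hT0 : (Nat.card T' : ℂ) ≠ 0 := by
    have : 0 < Nat.card T' := Nat.card_pos
    exact_mod_cast this.ne'
  have hidx : (T'.index : ℂ) * (Nat.card T' : ℂ) = (Nat.card G' : ℂ) := by
    exact_mod_cast T'.index_mul_card
  have htriv : ∀ (k : G') (hk : k ∈ f.ker), Ξ ⟨k, hker hk⟩ = Ξ 1 := by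
    intro k hk
    have hconj : ∀ x : G', x⁻¹ * k * x ∈ f.ker := by
      intro x
      have := hnorm.conj_mem k hk x⁻¹
      simpa using this
    have h1 : indFun T' Ξ k = indFun T' Ξ 1 := by
      rw [hind, hind, MonoidHom.mem_ker.mp hk, map_one]
    rw [indFun_apply, indFun_apply_one] at h1
    have h2 : ∀ x : G', extendByZero T' Ξ (x⁻¹ * k * x) = Ξ ⟨x⁻¹ * k * x, hker (hconj x)⟩ :=
      fun x => extendByZero_of_mem T' Ξ (hker (hconj x))
    simp only [h2] at h1
    have h3 : ∑ x : G', Ξ ⟨x⁻¹ * k * x, hker (hconj x)⟩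
        = ((Finset.univ : Finset G').card : ℂ) * Ξ 1 := by
      rw [Finset.card_univ, ← Nat.card_eq_fintype_card, ← hidx]
      have h4 : ∑ x : G', Ξ ⟨x⁻¹ * k * x, hker (hconj x)⟩
          = (Nat.card T' : ℂ) * ((Nat.card T' : ℂ)⁻¹ *
            ∑ x : G', Ξ ⟨x⁻¹ * k * x, hker (hconj x)⟩) := by
        rw [← mul_assoc, mul_inv_cancel₀ hT0, one_mul]
      rw [h4, h1]
      ring
    have h5 := Cfsg.Agent.Lib.Helper11.IsCharacter.eq_degree_of_sum_eq hΞ Finset.univ
      (fun x : G' => (⟨x⁻¹ * k * x, hker (hconj x)⟩ : T')) h3 1 (Finset.mem_univ 1)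
    have h6 : (⟨(1 : G')⁻¹ * k * 1, hker (hconj 1)⟩ : T') = ⟨k, hker hk⟩ := by
      apply Subtype.ext
      simp
    rw [← h6]
    exact h5
  -- descend
  have hsurj' : Function.Surjective (f.subgroupMap T') := f.subgroupMap_surjective T'
  have hk' : ∀ t ∈ (f.subgroupMap T').ker, Ξ t = Ξ 1 := by
    intro t ht
    have h1 : f (t : G') = 1 := by
      have := congrArg Subtype.val (MonoidHom.mem_ker.mp ht)
      exact this
    have h2 := htriv (t : G') (MonoidHom.mem_ker.mpr h1)
    exact h2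
  obtain ⟨Ξ₀, hΞ₀, hΞ₀f⟩ := exists_descend (f.subgroupMap T') hsurj' hΞ hk'
  refine ⟨Ξ₀, hΞ₀, ?_⟩
  funext y
  obtain ⟨x, rfl⟩ := hf y
  rw [← hind x, ← indFun_comp_surj f hf (T'.map f) Ξ₀ x]
  apply congrFun
  apply MGroup.indFun_congr (Subgroup.comap_map_eq_self hker)
  intro z hz hz'
  exact hΞ₀f ⟨z, hz'⟩

end Surj

section Irr

variable {G : Type u} [Group G] [Fintype G]

/-- if the induced character is irreducible, so is the inducing character -/
theorem irr_of_ind_irr (K : Subgroup G) {ψ : K → ℂ} (hψ : IsCharacter K ψ)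
    (h : IsIrrCharacter G (indFun K ψ)) : IsIrrCharacter K ψ := by
  classical
  haveI : Fintype K := Fintype.ofFinite K
  have hidx : (K.index : ℂ) ≠ 0 := by
    have : K.index ≠ 0 := Subgroup.index_ne_zero_of_finite
    exact_mod_cast this
  have hne : ψ ≠ 0 := by
    intro h0
    have h1 := IsIrrCharacter.apply_one_ne_zero h
    rw [h0, Cfsg.Agent.Lib.Helper11.indFun_zero] at h1
    exact h1 rfl
  obtain ⟨ν, Ψ, hΨ, hsum⟩ := exists_irr_add_of_ne_zero hψ hne
  by_cases hΨ0 : Ψ = 0
  · rw [hsum, hΨ0, add_zero]; exact ν.2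
  · exfalso
    rw [hsum, Cfsg.Agent.Lib.Helper11.indFun_add] at h
    refine GalProd.not_irr_add (indFun_isCharacter K _ (IsIrrCharacter.isCharacter ν.2))
      (indFun_isCharacter K _ hΨ) ?_ ?_ h
    · intro h0
      have h1 := congrFun h0 1
      rw [indFun_apply_one, Pi.zero_apply] at h1
      rcases mul_eq_zero.mp h1 with h2 | h2
      · exact hidx h2
      · exact IsIrrCharacter.apply_one_ne_zero ν.2 h2
    · intro h0
      have h1 := congrFun h0 1
      rw [indFun_apply_one, Pi.zero_apply] at h1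
      rcases mul_eq_zero.mp h1 with h2 | h2
      · exact hidx h2
      · exact hΨ0 (BG.eq_zero_of_apply_one_eq_zero hΨ h2)

/-- if a product of two characters is irreducible, so is each factor -/
theorem irr_of_mul_irr {α β : G → ℂ} (hα : IsCharacter G α) (hβ : IsCharacter G β)
    (h : IsIrrCharacter G (α * β)) : IsIrrCharacter G α := by
  classical
  have h1 := IsIrrCharacter.apply_one_ne_zero h
  rw [Pi.mul_apply] at h1
  have hα1 : α 1 ≠ 0 := left_ne_zero_of_mul h1
  have hβ1 : β 1 ≠ 0 := right_ne_zero_of_mul h1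
  have hne : α ≠ 0 := fun h0 => hα1 (by rw [h0]; rfl)
  obtain ⟨ν, Ψ, hΨ, hsum⟩ := exists_irr_add_of_ne_zero hα hne
  by_cases hΨ0 : Ψ = 0
  · rw [hsum, hΨ0, add_zero]; exact ν.2
  · exfalso
    rw [hsum, add_mul] at h
    refine GalProd.not_irr_add (isCharacter_mul (IsIrrCharacter.isCharacter ν.2) hβ)
      (isCharacter_mul hΨ hβ) ?_ ?_ h
    · intro h0
      have h2 := congrFun h0 1
      rw [Pi.mul_apply, Pi.zero_apply] at h2
      rcases mul_eq_zero.mp h2 with h3 | h3
      · exact IsIrrCharacter.apply_one_ne_zero ν.2 h3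
      · exact hβ1 h3
    · intro h0
      have h2 := congrFun h0 1
      rw [Pi.mul_apply, Pi.zero_apply] at h2
      rcases mul_eq_zero.mp h2 with h3 | h3
      · exact hΨ0 (BG.eq_zero_of_apply_one_eq_zero hΨ h3)
      · exact hβ1 h3

/-- the induced function on a normal subgroup on which the inducing function is invariant -/
theorem ind_apply_of_invariant (H K : Subgroup G) [hK : K.Normal] (hKH : K ≤ H) (ϑ : H → ℂ)
    (hinv : ∀ (g k : G) (hk : k ∈ K) (hk' : g⁻¹ * k * g ∈ K),
      ϑ ⟨g⁻¹ * k * g, hKH hk'⟩ = ϑ ⟨k, hKH hk⟩)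
    (k : G) (hk : k ∈ K) : indFun H ϑ k = (H.index : ℂ) * ϑ ⟨k, hKH hk⟩ := by
  classical
  have hconj : ∀ x : G, x⁻¹ * k * x ∈ K := fun x => by
    have := hK.conj_mem k hk x⁻¹
    simpa using this
  rw [indFun_apply]
  have h2 : ∀ x : G, extendByZero H ϑ (x⁻¹ * k * x) = ϑ ⟨k, hKH hk⟩ := fun x => by
    rw [extendByZero_of_mem H ϑ (hKH (hconj x))]
    exact hinv x k hk (hconj x)
  simp only [h2]
  rw [Finset.sum_const, Finset.card_univ, nsmul_eq_mul, ← Nat.card_eq_fintype_card]
  have hT0 : (Nat.card H : ℂ) ≠ 0 := by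
    have : 0 < Nat.card H := Nat.card_pos
    exact_mod_cast this.ne'
  have hidx : (H.index : ℂ) * (Nat.card H : ℂ) = (Nat.card G : ℂ) := by
    exact_mod_cast H.index_mul_card
  rw [← hidx]
  field_simp

/-- an irreducible character with inhomogeneous restriction to a normal subgroup is induced from
a proper subgroup containing it -/
theorem exists_ind_of_not_hom (N : Subgroup G) [hN : N.Normal] (χ : G → ℂ)
    (hχ : IsIrrCharacter G χ)
    (hnh : ¬ ∃ (φ : N → ℂ) (e : ℕ), IsIrrCharacter N φ ∧ (fun n : N => χ n) = (e : ℂ) • φ) :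
    ∃ (T : Subgroup G) (ψ : T → ℂ), N ≤ T ∧ T ≠ ⊤ ∧ IsIrrCharacter T ψ ∧ indFun T ψ = χ := by
  classical
  haveI : Fintype N := Fintype.ofFinite N
  have hχchar := IsIrrCharacter.isCharacter hχ
  have hχcf : IsClassFunction G χ := IsCharacter.isClassFunction hχchar
  have hres : IsCharacter N (fun n : N => χ n) := IsCharacter.restrict hχchar N
  have hres0 : (fun n : N => χ n) ≠ 0 := by
    intro h0
    have h1 : χ 1 = 0 := congrFun h0 1
    exact IsIrrCharacter.apply_one_ne_zero hχ h1
  obtain ⟨⟨ϑ, hϑ⟩, Ψ, hΨ, hsum⟩ := exists_irr_add_of_ne_zero hres hres0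
  have hsum' : (fun n : N => χ n) = ϑ + Ψ := hsum
  have hcon : classInner (fun n : N => χ n) ϑ ≠ 0 := by
    obtain ⟨a, ha⟩ := classInner_isCharacter_nat hΨ (IsIrrCharacter.isCharacter hϑ)
    have h1 : classInner ϑ ϑ = 1 := classInner_irrCharacter_self (⟨ϑ, hϑ⟩ : IrrCharacter N)
    rw [hsum', classInner_add_left, h1, ha]
    have : ((1 + a : ℕ) : ℂ) ≠ 0 := by exact_mod_cast (by omega : 1 + a ≠ 0)
    push_cast at this
    exact this
  have hϑcf : IsClassFunction N ϑ := IsCharacter.isClassFunction (IsIrrCharacter.isCharacter hϑ)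
  set T := inertia N ϑ with hTdef
  have hNT : N ≤ T := le_inertia N hϑcf
  haveI : Fintype T := Fintype.ofFinite T
  set N' : Subgroup T := N.subgroupOf T with hN'
  haveI : Fintype N' := Fintype.ofFinite N'
  let ϑ' : N' → ℂ := fun x => ϑ ⟨(x : T), Subgroup.mem_subgroupOf.mp x.2⟩
  let ΧT : T → ℂ := fun t => χ t
  have hΧTcf : IsClassFunction T ΧT := fun t s => hχcf t s
  have h1 : classInner (indFun N' ϑ') ΧT ≠ 0 := by
    rw [frobenius_reciprocity N' ϑ' ΧT hΧTcf]
    have h2 : classInner ϑ' (fun x : N' => ΧT x) = classInner ϑ (fun a : N => χ a) := by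
      rw [classInner_def, classInner_def]
      let eqv : N' ≃* N := Subgroup.subgroupOfEquivOfLe hNT
      rw [Nat.card_congr eqv.toEquiv]
      congr 1
      rw [← Equiv.sum_comp eqv.toEquiv (fun a : N => ϑ a * conj (χ a))]
      rfl
    rw [h2, ← classInner_conj_symm]
    intro h
    apply hcon
    have := congrArg (starRingEnd ℂ) h
    simpa using this
  obtain ⟨ψ, hψ1, hψ2⟩ := exists_common_constituent _ ΧT hΧTcf h1
  have hcc := Cfsg.Agent.Lib.Helper11.clifford_correspondence N T ϑ hϑ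
    (fun g => Iff.rfl) hNT ψ ψ ψ.2 ψ.2 hψ1 hψ1
  have hind : indFun T (ψ : T → ℂ) = χ := by
    apply eq_of_irr_of_classInner_ne_zero' hcc.1 hχ
    rw [frobenius_reciprocity T _ χ hχcf, ← classInner_conj_symm]
    intro h
    apply hψ2
    have := congrArg (starRingEnd ℂ) h
    simpa using this
  refine ⟨T, ψ, hNT, ?_, ψ.2, hind⟩
  intro hTtop
  apply hnh
  have hall : ∀ g : G, conjFun N g ϑ = ϑ := by
    intro g
    have hg : g ∈ T := by rw [hTtop]; exact Subgroup.mem_top g
    exact hg
  have hcl := clifford_restriction N hχ hϑ hcon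
  have hset : {ψ' : N → ℂ | ∃ g : G, ψ' = conjFun N g ϑ} = {ϑ} := by
    ext ψ'
    constructor
    · rintro ⟨g, rfl⟩
      exact hall g
    · intro h
      exact ⟨1, by rw [Set.mem_singleton_iff.mp h, hall 1]⟩
  rw [hset, finsum_mem_singleton] at hcl
  obtain ⟨e, he⟩ := classInner_isCharacter_nat hres (IsIrrCharacter.isCharacter hϑ)
  exact ⟨ϑ, e, hϑ, by rw [← he]; exact hcl⟩

end Irr

end Cfsg.Agent.Lib.Helper2.BergerTools
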