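import Mathlib
import Cfsg.Prelude.Def_Characters
import Cfsg.Agent.Lib.Helper2.BergerTools

/-!
# The fibre product reduction for Berger's theorem (helper2 library)

`H` maximal in `Γ` with `M ⊓ H = C`, `M ⊔ H = ⊤`, `M, C` normal, `Γ` solvable, `δ` a character of
`H` with `δ^Γ` irreducible, and `C` acting through a `Γ`-invariant linear character `ζ` in `δ`.
Then `δ^Γ` is induced from a proper subgroup containing a normal subgroup strictly above `C`.
The proof passes to the fibre product `{(x, y) ∈ Γ × H : x y⁻¹ ∈ M}`, where `δ^Γ` pulls back to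
a product of a character induced from a *linear* character and a character of the whole group.
-/

set_option autoImplicit false
set_option linter.style.haveILetI false
set_option linter.unusedSectionVars false

namespace Cfsg.Agent.Lib.Helper2.BergerFibre

open Cfsg
open Cfsg.Agent.Lib.Helper2
open scoped ComplexConjugate

universe u

section Fibre

variable {Γ : Type u} [Group Γ] (H M : Subgroup Γ) [hM : M.Normal]

/-- the fibre product of `Γ` and `H` over `Γ / M` -/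
def fib : Subgroup (Γ × H) where
  carrier := {z | z.1 * ((z.2 : H) : Γ)⁻¹ ∈ M}
  one_mem' := by
    show (1 : Γ × H).1 * (((1 : Γ × H).2 : H) : Γ)⁻¹ ∈ M
    simp
  mul_mem' := by
    intro a b ha hb
    have ha' : a.1 * ((a.2 : H) : Γ)⁻¹ ∈ M := ha
    have hb' : b.1 * ((b.2 : H) : Γ)⁻¹ ∈ M := hb
    show (a * b).1 * (((a * b).2 : H) : Γ)⁻¹ ∈ M
    have h1 : (a * b).1 * (((a * b).2 : H) : Γ)⁻¹
        = (a.1 * (b.1 * ((b.2 : H) : Γ)⁻¹) * a.1⁻¹) * (a.1 * ((a.2 : H) : Γ)⁻¹) := by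
      simp only [Prod.fst_mul, Prod.snd_mul, Subgroup.coe_mul, mul_inv_rev]
      group
    rw [h1]
    exact M.mul_mem (hM.conj_mem _ hb' _) ha'
  inv_mem' := by
    intro a ha
    have ha' : a.1 * ((a.2 : H) : Γ)⁻¹ ∈ M := ha
    show a⁻¹.1 * (((a⁻¹).2 : H) : Γ)⁻¹ ∈ M
    have h1 : a⁻¹.1 * (((a⁻¹).2 : H) : Γ)⁻¹
        = a.1⁻¹ * (a.1 * ((a.2 : H) : Γ)⁻¹)⁻¹ * a.1⁻¹⁻¹ := by
      simp only [Prod.fst_inv, Prod.snd_inv, Subgroup.coe_inv, mul_inv_rev, inv_inv]
      group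
    rw [h1]
    exact hM.conj_mem _ (M.inv_mem ha') _

/-- first projection -/
def p1 : fib H M →* Γ := (MonoidHom.fst Γ H).comp (fib H M).subtype

/-- second projection -/
def p2 : fib H M →* H := (MonoidHom.snd Γ H).comp (fib H M).subtype

/-- the difference `x y⁻¹` -/
def wd (z : fib H M) : Γ := p1 H M z * ((p2 H M z : H) : Γ)⁻¹

theorem wd_mem_M (z : fib H M) : wd H M z ∈ M := z.2

theorem wd_one : wd H M 1 = 1 := by
  simp [wd]

theorem wd_mul (a b : fib H M) :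
    wd H M (a * b) = (p1 H M a * wd H M b * (p1 H M a)⁻¹) * wd H M a := by
  simp only [wd, map_mul, Subgroup.coe_mul, mul_inv_rev]
  group

theorem wd_conj (g c : fib H M) :
    wd H M (g⁻¹ * c * g) = ((p1 H M g)⁻¹ * p1 H M c * p1 H M g)
      * (((p2 H M g : H) : Γ)⁻¹ * ((p2 H M c : H) : Γ)⁻¹ * ((p2 H M g : H) : Γ)) := by
  simp only [wd, map_mul, map_inv, Subgroup.coe_mul, Subgroup.coe_inv, mul_inv_rev, inv_inv]
  group

theorem p1_surjective (hsup : M ⊔ H = ⊤) : Function.Surjective (p1 H M) := by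
  intro x
  have hx : x ∈ (M ⊔ H : Subgroup Γ) := by rw [hsup]; exact Subgroup.mem_top x
  have hx' : x ∈ ((M ⊔ H : Subgroup Γ) : Set Γ) := hx
  rw [Subgroup.normal_mul] at hx'
  obtain ⟨m, hm, y, hy, rfl⟩ := Set.mem_mul.mp hx'
  refine ⟨⟨(m * y, ⟨y, hy⟩), ?_⟩, rfl⟩
  show m * y * y⁻¹ ∈ M
  rw [mul_inv_cancel_right]
  exact hm

local notation "Hs" => Subgroup.comap (p1 H M) H

variable (C : Subgroup Γ) [hC : C.Normal]

local notation "Cs" => Subgroup.comap (p1 H M) C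

theorem reduced [Fintype Γ] [hsolv : Group.IsSolvable Γ]
    (hCH : C ≤ H) (hinf : M ⊓ H = C) (hsup : M ⊔ H = ⊤) (hmax : IsCoatom H)
    (δ : H → ℂ) (hδ : IsCharacter H δ) (hγ : IsIrrCharacter Γ (indFun H δ))
    (ζ : Γ → ℂ) (hζ1 : ζ 1 = 1)
    (hζmul : ∀ a ∈ C, ∀ b ∈ C, ζ (a * b) = ζ a * ζ b)
    (hζinv : ∀ (g : Γ), ∀ a ∈ C, ζ (g * a * g⁻¹) = ζ a)
    (hδζ : ∀ (w : Γ) (hw : w ∈ C) (x : H), δ (⟨w, hCH hw⟩ * x) = ζ w * δ x) :
    ∃ (T N : Subgroup Γ) (Φ : T → ℂ), N.Normal ∧ C ≤ N ∧ N ≠ C ∧ N ≤ T ∧ T ≠ ⊤ ∧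
      IsCharacter T Φ ∧ indFun T Φ = indFun H δ := by
  classical
  haveI : Fintype (fib H M) := Fintype.ofFinite _
  have hp1 := p1_surjective H M hsup
  have hζinv' : ∀ (g : Γ), ∀ a ∈ C, ζ (g⁻¹ * a * g) = ζ a := by
    intro g a ha
    have := hζinv g⁻¹ a ha
    rwa [inv_inv] at this
  have hconjC : ∀ (g : Γ), ∀ a ∈ C, g⁻¹ * a * g ∈ C := by
    intro g a ha
    have := hC.conj_mem a ha g⁻¹
    rwa [inv_inv] at this
  have hmemC : ∀ z : fib H M, p1 H M z ∈ H → wd H M z ∈ C := by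
    intro z hz
    rw [← hinf]
    exact Subgroup.mem_inf.mpr ⟨wd_mem_M H M z, H.mul_mem hz (H.inv_mem (p2 H M z).2)⟩
  -- the linear character
  let ϑm : Hs →* ℂ :=
    { toFun := fun z => ζ (wd H M (z : fib H M))
      map_one' := by
        show ζ (wd H M ((1 : Hs) : fib H M)) = 1
        rw [Subgroup.coe_one, wd_one, hζ1]
      map_mul' := by
        intro a b
        show ζ (wd H M ((a * b : Hs) : fib H M))
          = ζ (wd H M (a : fib H M)) * ζ (wd H M (b : fib H M))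
        have ha : wd H M (a : fib H M) ∈ C := hmemC a.1 a.2
        have hb : wd H M (b : fib H M) ∈ C := hmemC b.1 b.2
        rw [Subgroup.coe_mul, wd_mul, hζmul _ (hC.conj_mem _ hb _) _ ha, hζinv _ _ hb, mul_comm] }
  set ϑs : Hs → ℂ := fun z => ϑm z with hϑs
  have hϑsirr : IsIrrCharacter Hs ϑs := by
    have h := isIrrCharacter_of_monoidHom ϑm.toHomUnits
    exact h
  set κ : fib H M → ℂ := fun z => δ (p2 H M z) with hκ
  have hκchar : IsCharacter (fib H M) κ := IsCharacter.comp hδ (p2 H M)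
  have hκcf : IsClassFunction (fib H M) κ := IsCharacter.isClassFunction hκchar
  have hI1 : ∀ (z : fib H M) (hz : p1 H M z ∈ H),
      δ ⟨p1 H M z, hz⟩ = ζ (wd H M z) * κ z := by
    intro z hz
    have h1 : (⟨p1 H M z, hz⟩ : H) = ⟨wd H M z, hCH (hmemC z hz)⟩ * p2 H M z := by
      apply Subtype.ext
      rw [Subgroup.coe_mul]
      show p1 H M z = wd H M z * ((p2 H M z : H) : Γ)
      rw [wd, inv_mul_cancel_right]
    rw [h1, hδζ _ (hmemC z hz)]
  have hpull : ∀ g : fib H M,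
      indFun Hs (fun h : Hs => δ ⟨p1 H M (h : fib H M), h.2⟩) g = indFun H δ (p1 H M g) :=
    fun g => BergerTools.indFun_comp_surj (p1 H M) hp1 H δ g
  have hfun : (fun h : Hs => δ ⟨p1 H M (h : fib H M), h.2⟩)
      = ϑs * fun h : Hs => κ (h : fib H M) := by
    funext h
    rw [Pi.mul_apply]
    exact hI1 h.1 h.2
  have hprod : (fun g : fib H M => indFun H δ (p1 H M g)) = indFun Hs ϑs * κ := by
    rw [← Cfsg.Agent.Lib.Helper7.indFun_mul_restrict Hs ϑs κ hκcf, ← hfun]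
    funext g
    exact (hpull g).symm
  have hγs : IsIrrCharacter (fib H M) (indFun Hs ϑs * κ) := by
    rw [← hprod]
    exact Cfsg.Agent.Lib.Helper25.isIrrCharacter_comp (p1 H M) hp1 hγ
  have hχs : IsIrrCharacter (fib H M) (indFun Hs ϑs) :=
    BergerTools.irr_of_mul_irr
      (indFun_isCharacter Hs ϑs (IsIrrCharacter.isCharacter hϑsirr)) hκchar hγs
  haveI hCsn : (Cs).Normal := hC.comap (p1 H M)
  have hCsHs : Cs ≤ Hs := Subgroup.comap_mono hCH
  have hmaxs : IsCoatom Hs := Subgroup.isCoatom_comap_of_surjective hp1 hmax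
  have hsolvq : Group.IsSolvable (fib H M ⧸ Cs) := inferInstance
  have hϑsC : IsIrrCharacter Cs (fun x : Cs => ϑs ⟨(x : fib H M), hCsHs x.2⟩) := by
    have h := isIrrCharacter_of_monoidHom (ϑm.comp (Subgroup.inclusion hCsHs)).toHomUnits
    exact h
  have hex : ∃ Ms : Subgroup (fib H M), Ms.Normal ∧ Cs ≤ Ms ∧
      ¬ ∃ (φ : Ms → ℂ) (e : ℕ), IsIrrCharacter Ms φ ∧
        (fun m : Ms => indFun Hs ϑs (m : fib H M)) = (e : ℂ) • φ := by
    by_contra hcon
    apply QuasiPrim.main Cs Hs hCsHs hmaxs hsolvq ϑs hϑsirr hϑsC hχs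
    intro Ms hMsn hCM
    by_contra h
    exact hcon ⟨Ms, hMsn, hCM, h⟩
  obtain ⟨Ms, hMsn, hCM, hnh⟩ := hex
  haveI := hMsn
  obtain ⟨Ts, ψs, hMT, hTtop, hψs, hinds⟩ :=
    BergerTools.exists_ind_of_not_hom Ms (indFun Hs ϑs) hχs hnh
  haveI : Fintype Ts := Fintype.ofFinite Ts
  have hΦs : IsCharacter Ts (ψs * fun t : Ts => κ (t : fib H M)) :=
    isCharacter_mul (IsIrrCharacter.isCharacter hψs) (IsCharacter.restrict hκchar Ts)
  have hindΦs : ∀ x : fib H M,
      indFun Ts (ψs * fun t : Ts => κ (t : fib H M)) x = indFun H δ (p1 H M x) := by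
    intro x
    rw [Cfsg.Agent.Lib.Helper7.indFun_mul_restrict Ts ψs κ hκcf, hinds]
    exact (congrFun hprod x).symm
  have hkerT : (p1 H M).ker ≤ Ts :=
    ((Subgroup.ker_le_comap (p1 H M) C).trans hCM).trans hMT
  obtain ⟨Φ, hΦ, hindΦ⟩ :=
    BergerTools.descent (p1 H M) hp1 Ts hkerT hΦs (indFun H δ) hindΦs
  refine ⟨Ts.map (p1 H M), Ms.map (p1 H M), Φ, hMsn.map (p1 H M) hp1, ?_, ?_,
    Subgroup.map_mono hMT, ?_, hΦ, hindΦ⟩
  · rw [← Subgroup.map_comap_eq_self_of_surjective hp1 C]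
    exact Subgroup.map_mono hCM
  · intro heq
    have hMs : Ms = Cs := by
      apply le_antisymm _ hCM
      rw [← heq]
      exact Subgroup.le_comap_map _ _
    subst hMs
    apply hnh
    refine ⟨fun x : Cs => ϑs ⟨(x : fib H M), hCsHs x.2⟩, (Hs).index, hϑsC, ?_⟩
    funext m
    rw [Pi.smul_apply, smul_eq_mul]
    refine BergerTools.ind_apply_of_invariant Hs Cs hCsHs ϑs ?_ (m : fib H M) m.2
    intro g k hk hk'
    show ζ (wd H M (g⁻¹ * k * g)) = ζ (wd H M k)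
    have ha : p1 H M k ∈ C := hk
    have hwk : wd H M k ∈ C := hmemC k (hCH ha)
    have hb : ((p2 H M k : H) : Γ)⁻¹ ∈ C := by
      have h1 : ((p2 H M k : H) : Γ)⁻¹ = (p1 H M k)⁻¹ * wd H M k := by
        rw [wd, inv_mul_cancel_left]
      rw [h1]
      exact C.mul_mem (C.inv_mem ha) hwk
    rw [wd_conj, hζmul _ (hconjC _ _ ha) _ (hconjC _ _ hb), hζinv' _ _ ha, hζinv' _ _ hb,
      ← hζmul _ ha _ hb]
    rfl
  · intro htop
    apply hTtop
    rw [← Subgroup.comap_map_eq_self hkerT, htop, Subgroup.comap_top]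

end Fibre

end Cfsg.Agent.Lib.Helper2.BergerFibre
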