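import Mathlib
import Cfsg.Prelude.Def_Characters
import Cfsg.Agent.Lib.Helper2.BergerFibre

/-!
# Berger's theorem: a quasi-primitive irreducible character of a solvable group is primitive
(helper2 library)

If `χ = ϑ^G` with `H` maximal, `L = core_G(H)` and `χ_L = e φ`, pass to the central extension
`hatG L ρ` (`ρ` affording `φ`), where `φ` extends to a character `τ`; write the pull-back of `ϑ`
as `δ τ` (Gallagher); then `δ^Γ` falls under `BergerFibre.reduced`, and descending back to `G`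
shows `χ` is induced from a proper subgroup containing a normal subgroup strictly above `L`.
Iterating contradicts finiteness.
-/

set_option autoImplicit false
set_option linter.style.haveILetI false
set_option linter.unusedSectionVars false

namespace Cfsg.Agent.Lib.Helper2.BergerMain

open Cfsg
open Cfsg.Agent.Lib.Helper2
open Cfsg.Agent.Lib.Helper2.CentralExt
open scoped ComplexConjugate

universe u

theorem smul_id_mul_smul_id {n : ℕ} (a c : ℂ) :
    (a • (LinearMap.id : (Fin n → ℂ) →ₗ[ℂ] (Fin n → ℂ))) * (c • LinearMap.id)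
      = (a * c) • LinearMap.id := by
  rw [smul_mul_smul_comm, ← Module.End.one_eq_id, mul_one]

section Step

variable {G : Type u} [Group G] [Fintype G] [hGs : Group.IsSolvable G]
  (L : Subgroup G) [hLn : L.Normal] [Fintype L] {d : ℕ} (ρ : Representation ℂ L (Fin d → ℂ))
  (H M : Subgroup G) [hMn : M.Normal]

local notation "prj" => proj L ρ
set_option quotPrecheck false in
local notation "Γ" => ↥(hatG L ρ)
local notation "Hh" => Subgroup.comap (proj L ρ) H
local notation "Mh" => Subgroup.comap (proj L ρ) M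
local notation "Ch" => Subgroup.comap (proj L ρ) L
local notation "τ" => Representation.character (rep L ρ)
local notation "Np" => Subgroup.subgroupOf (MonoidHom.range (incl L ρ)) (Subgroup.comap (proj L ρ) H)

theorem step_core (hρ : ρ.IsIrreducible)
    (hinv : ∀ (g : G) (n : L), ρ.character (MulAut.conjNormal g n) = ρ.character n)
    (hLH : L ≤ H) (hmax : IsCoatom H) (hMHL : M ⊓ H = L) (hMH : M ⊔ H = ⊤)
    (χ : G → ℂ) (hχ : IsIrrCharacter G χ) (ϑ : H → ℂ) (hϑ : IsIrrCharacter H ϑ)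
    (hind : indFun H ϑ = χ)
    (hcon : classInner ρ.character (fun n : L => ϑ ⟨(n : G), hLH n.2⟩) ≠ 0) :
    ∃ (T N : Subgroup G) (Ξ : T → ℂ), N.Normal ∧ L ≤ N ∧ N ≠ L ∧ N ≤ T ∧ T ≠ ⊤ ∧
      IsCharacter T Ξ ∧ indFun T Ξ = χ := by
  classical
  haveI hfin : Finite Γ := finite_hatG L ρ hρ
  haveI : Fintype Γ := Fintype.ofFinite _
  haveI : Fintype H := Fintype.ofFinite H
  have hsurj : Function.Surjective prj := proj_surjective L ρ hρ hinv
  -- solvability of the central extension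
  haveI hΓsolv : Group.IsSolvable Γ := by
    have hcomm : ∀ a b : (proj L ρ).ker, a * b = b * a := by
      intro a b
      have ha := ker_le_center L ρ hρ a.1 (MonoidHom.mem_ker.mp a.2)
      apply Subtype.ext
      exact ((Subgroup.mem_center_iff.mp ha) b.1).symm
    haveI : Group.IsSolvable (proj L ρ).ker := Group.isSolvable_of_comm hcomm
    exact Group.isSolvable_of_ker_le_range ((proj L ρ).ker.subtype) (proj L ρ)
      (by rw [Subgroup.range_subtype])
  have hτchar : IsCharacter Γ τ := ⟨d, rep L ρ, rfl⟩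
  have hτcf : IsClassFunction Γ τ := IsCharacter.isClassFunction hτchar
  -- the subgroups upstairs
  haveI hMhn : (Mh).Normal := hMn.comap prj
  haveI hCn : (Ch).Normal := hLn.comap prj
  have hCH : Ch ≤ Hh := Subgroup.comap_mono hLH
  have hinf : Mh ⊓ Hh = Ch := by
    rw [← Subgroup.comap_inf, hMHL]
  have hsup : Mh ⊔ Hh = ⊤ := by
    rw [Subgroup.comap_sup_eq (f := proj L ρ) M H hsurj, hMH, Subgroup.comap_top]
  have hmaxh : IsCoatom Hh := Subgroup.isCoatom_comap_of_surjective hsurj hmax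
  haveI : Fintype Hh := Fintype.ofFinite _
  -- the pulled back characters
  have hϑhirr : IsIrrCharacter Hh (fun x : Hh => ϑ ⟨prj (x : Γ), x.2⟩) :=
    Cfsg.Agent.Lib.Helper25.isIrrCharacter_comp (MonoidHom.subgroupComap prj H)
      (MonoidHom.subgroupComap_surjective_of_surjective prj H hsurj) hϑ
  have hϑhcf : IsClassFunction Hh (fun x : Hh => ϑ ⟨prj (x : Γ), x.2⟩) :=
    IsCharacter.isClassFunction (IsIrrCharacter.isCharacter hϑhirr)
  have hχh : (fun x : Γ => χ (prj x)) = indFun Hh (fun x : Hh => ϑ ⟨prj (x : Γ), x.2⟩) := by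
    funext x
    rw [← hind]
    exact (BergerTools.indFun_comp_surj prj hsurj H ϑ x).symm
  have hχhirr : IsIrrCharacter Γ (fun x => χ (prj x)) :=
    Cfsg.Agent.Lib.Helper25.isIrrCharacter_comp prj hsurj hχ
  -- Gallagher
  have hΛH : (incl L ρ).range ≤ Hh := by
    rintro _ ⟨n, rfl⟩
    show prj (incl L ρ n) ∈ H
    rw [proj_incl]
    exact hLH n.2
  haveI hN'n : (Np).Normal := Subgroup.Normal.subgroupOf inferInstance _
  haveI : Fintype Np := Fintype.ofFinite _
  let τH : Hh → ℂ := fun x => τ (x : Γ)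
  have hτHchar : IsCharacter Hh τH := IsCharacter.restrict hτchar _
  let e' : Np ≃* L := (Subgroup.subgroupOfEquivOfLe hΛH).trans
    (MonoidHom.ofInjective (incl_injective L ρ)).symm
  have he' : ∀ y : Np, ((y : Hh) : Γ) = incl L ρ (e' y) := by
    intro y
    have := (MonoidHom.ofInjective (incl_injective L ρ)).apply_symm_apply
      (Subgroup.subgroupOfEquivOfLe hΛH y)
    exact (congrArg Subtype.val this).symm
  have hres' : ((fun _ : Np => (1 : ℂ)) * fun n : Np => τH (n : Hh)) = ρ.character ∘ e' := by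
    funext y
    rw [Pi.mul_apply, one_mul, Function.comp_apply]
    show τ ((y : Hh) : Γ) = _
    rw [he' y]
    show LinearMap.trace ℂ _ (rep L ρ (incl L ρ (e' y))) = LinearMap.trace ℂ _ (ρ (e' y))
    rw [rep_incl]
  have hprod : IsIrrCharacter Np ((fun _ : Np => (1 : ℂ)) * fun n : Np => τH (n : Hh)) := by
    rw [hres']
    exact Cfsg.Agent.Lib.Helper11.isIrrCharacter_comp_equiv e' ⟨d, ρ, hρ, rfl⟩
  have h1inv : ∀ g : Hh, Cfsg.Agent.Lib.Helper11.conjFn Np g (fun _ => (1 : ℂ)) = fun _ => 1 :=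
    fun g => rfl
  obtain ⟨-, -, h3⟩ := Cfsg.Agent.Lib.Helper7.gallagher_rigidity Np
    (Cfsg.Agent.Lib.Helper2.isIrrCharacter_one) h1inv hτHchar hprod
  have hover : classInner (indFun Np ((fun _ : Np => (1 : ℂ)) * fun n : Np => τH (n : Hh)))
      (fun x : Hh => ϑ ⟨prj (x : Γ), x.2⟩) ≠ 0 := by
    rw [frobenius_reciprocity Np _ _ hϑhcf, hres']
    have h2 : classInner (ρ.character ∘ e')
        (fun y : Np => (fun x : Hh => ϑ ⟨prj (x : Γ), x.2⟩) (y : Hh))
        = classInner ρ.character (fun n : L => ϑ ⟨(n : G), hLH n.2⟩) := by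
      rw [classInner_def, classInner_def, Nat.card_congr e'.toEquiv]
      congr 1
      rw [← Equiv.sum_comp e'.toEquiv
        (fun n : L => ρ.character n * conj (ϑ ⟨(n : G), hLH n.2⟩))]
      apply Finset.sum_congr rfl
      intro y _
      have hy : (⟨prj ((y : Hh) : Γ), (y : Hh).2⟩ : H) = ⟨((e' y : L) : G), hLH (e' y).2⟩ := by
        apply Subtype.ext
        show prj ((y : Hh) : Γ) = ((e' y : L) : G)
        rw [he' y, proj_incl]
      show ρ.character (e' y) * conj (ϑ ⟨prj ((y : Hh) : Γ), (y : Hh).2⟩)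
        = ρ.character (e' y) * conj (ϑ ⟨((e' y : L) : G), hLH (e' y).2⟩)
      rw [hy]
    rw [h2]
    exact hcon
  obtain ⟨β, hβ, hβ1, hβϑ⟩ := h3 _ hϑhirr hover
  have hconst := const_on_of_lies_over_one Np hβ hβ1
  have hβ1ne := IsIrrCharacter.apply_one_ne_zero hβ
  have hγτ : indFun Hh β * τ = fun x : Γ => χ (prj x) := by
    rw [hχh, ← hβϑ]
    exact (Cfsg.Agent.Lib.Helper7.indFun_mul_restrict Hh β τ hτcf).symm
  have hγchar : IsCharacter Γ (indFun Hh β) :=
    indFun_isCharacter Hh β (IsIrrCharacter.isCharacter hβ)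
  have hγirr : IsIrrCharacter Γ (indFun Hh β) :=
    BergerTools.irr_of_mul_irr hγchar hτchar (by rw [hγτ]; exact hχhirr)
  -- the scalar action of `C`
  obtain ⟨b, Y, hY, rfl⟩ := hβ
  haveI := hY
  have hb : Y.character 1 = (b : ℂ) := by rw [Representation.char_one, finrank_fin]
  have hb0 : (b : ℂ) ≠ 0 := by rw [← hb]; exact hβ1ne
  have hΛker : ∀ n : L, Y ⟨incl L ρ n, hΛH ⟨n, rfl⟩⟩ = 1 := by
    intro n
    rw [Cfsg.Agent.Lib.Helper25.rep_apply_eq_one_iff]
    exact hconst ⟨incl L ρ n, hΛH ⟨n, rfl⟩⟩ (Subgroup.mem_subgroupOf.mpr ⟨n, rfl⟩)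
  have hY2 : ∀ (n : L) (z : Γ) (hzH : z ∈ Hh),
      Y ⟨incl L ρ n * z, mul_mem (hΛH ⟨n, rfl⟩) hzH⟩ = Y ⟨z, hzH⟩ := by
    intro n z hzH
    have h1 : (⟨incl L ρ n * z, mul_mem (hΛH ⟨n, rfl⟩) hzH⟩ : Hh)
        = ⟨incl L ρ n, hΛH ⟨n, rfl⟩⟩ * ⟨z, hzH⟩ := rfl
    rw [h1, map_mul, hΛker n, one_mul]
  let sc0 : Hh → ℂ := fun x => Y.character x / (b : ℂ)
  have hsc_of : ∀ (x : Hh) (ω : ℂ),
      Y x = ω • (LinearMap.id : (Fin b → ℂ) →ₗ[ℂ] (Fin b → ℂ)) → sc0 x = ω := by
    intro x ω hx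
    show Y.character x / (b : ℂ) = ω
    have h1 : Y.character x = ω * (b : ℂ) := by
      show LinearMap.trace ℂ _ (Y x) = _
      rw [hx, map_smul, LinearMap.trace_id, finrank_fin, smul_eq_mul]
    rw [h1, mul_div_assoc, div_self hb0, mul_one]
  have hK1 : ∀ (w : Γ) (hw : w ∈ Ch), ∃ ω : ℂ,
      ∀ g : Γ, Y ⟨g * w * g⁻¹, hCH (hCn.conj_mem w hw g)⟩ = ω • LinearMap.id := by
    intro w hw
    obtain ⟨n, z, hz, hwz⟩ := exists_incl_mul_central L ρ hρ w hw
    have hzH : z ∈ Hh := by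
      have h1 : z = (incl L ρ n)⁻¹ * w := by rw [hwz]; group
      rw [h1]
      exact mul_mem (inv_mem (hΛH ⟨n, rfl⟩)) (hCH hw)
    have hzc : (⟨z, hzH⟩ : Hh) ∈ Subgroup.center Hh := by
      rw [Subgroup.mem_center_iff]
      intro g
      apply Subtype.ext
      exact Subgroup.mem_center_iff.mp hz g.1
    obtain ⟨ω, hω⟩ := exists_smul_id_of_mem_center Y hzc
    refine ⟨ω, fun g => ?_⟩
    have hg : g * w * g⁻¹ = incl L ρ (MulAut.conjNormal (prj g) n) * z := by
      rw [hwz]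
      have hgz : g * z * g⁻¹ = z := by
        rw [Subgroup.mem_center_iff.mp hz g, mul_inv_cancel_right]
      calc g * (incl L ρ n * z) * g⁻¹ = (g * incl L ρ n * g⁻¹) * (g * z * g⁻¹) := by group
        _ = _ := by rw [conj_incl, hgz]
    have h2 : (⟨g * w * g⁻¹, hCH (hCn.conj_mem w hw g)⟩ : Hh)
        = ⟨incl L ρ (MulAut.conjNormal (prj g) n) * z, mul_mem (hΛH ⟨_, rfl⟩) hzH⟩ :=
      Subtype.ext hg
    rw [h2, hY2 _ _ hzH, hω]
  have hζmem : ∀ (w : Γ) (hw : w ∈ Hh), extendByZero Hh sc0 w = sc0 ⟨w, hw⟩ :=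
    fun w hw => extendByZero_of_mem Hh sc0 hw
  have hscal : ∀ (w : Γ) (hw : w ∈ Ch),
      Y ⟨w, hCH hw⟩ = sc0 ⟨w, hCH hw⟩ • LinearMap.id ∧
      ∀ g : Γ, sc0 ⟨g * w * g⁻¹, hCH (hCn.conj_mem w hw g)⟩ = sc0 ⟨w, hCH hw⟩ := by
    intro w hw
    obtain ⟨ω, hω⟩ := hK1 w hw
    have h1 : Y ⟨w, hCH hw⟩ = ω • LinearMap.id := by
      have h := hω 1
      have h' : (⟨1 * w * 1⁻¹, hCH (hCn.conj_mem w hw 1)⟩ : Hh) = ⟨w, hCH hw⟩ :=
        Subtype.ext (by simp)
      rwa [h'] at h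
    have h2 : sc0 ⟨w, hCH hw⟩ = ω := hsc_of _ ω h1
    refine ⟨by rw [h2]; exact h1, fun g => ?_⟩
    rw [h2]
    exact hsc_of _ ω (hω g)
  have hζ1 : extendByZero Hh sc0 1 = 1 := by
    rw [hζmem 1 (one_mem _)]
    apply hsc_of
    have h1 : (⟨1, one_mem _⟩ : Hh) = 1 := rfl
    rw [h1, map_one, one_smul]
    rfl
  have hζmul : ∀ a ∈ Ch, ∀ c ∈ Ch,
      extendByZero Hh sc0 (a * c) = extendByZero Hh sc0 a * extendByZero Hh sc0 c := by
    intro a ha c hc
    rw [hζmem a (hCH ha), hζmem c (hCH hc), hζmem (a * c) (hCH (mul_mem ha hc))]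
    apply hsc_of
    have h1 : (⟨a * c, hCH (mul_mem ha hc)⟩ : Hh) = ⟨a, hCH ha⟩ * ⟨c, hCH hc⟩ := rfl
    rw [h1, map_mul, (hscal a ha).1, (hscal c hc).1, smul_id_mul_smul_id]
  have hζinv : ∀ (g : Γ), ∀ a ∈ Ch,
      extendByZero Hh sc0 (g * a * g⁻¹) = extendByZero Hh sc0 a := by
    intro g a ha
    rw [hζmem a (hCH ha), hζmem (g * a * g⁻¹) (hCH (hCn.conj_mem a ha g))]
    exact (hscal a ha).2 g
  have hδζ : ∀ (w : Γ) (hw : w ∈ Ch) (x : Hh),
      Y.character (⟨w, hCH hw⟩ * x) = extendByZero Hh sc0 w * Y.character x := by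
    intro w hw x
    rw [hζmem w (hCH hw)]
    show LinearMap.trace ℂ _ (Y (⟨w, hCH hw⟩ * x))
      = sc0 ⟨w, hCH hw⟩ * LinearMap.trace ℂ _ (Y x)
    rw [map_mul, (hscal w hw).1, smul_mul_assoc, map_smul, smul_eq_mul,
      ← Module.End.one_eq_id, one_mul]
  -- the reduced theorem
  obtain ⟨T, N, Φ, hNn, hCN, hNC, hNT, hTtop, hΦ, hindΦ⟩ :=
    BergerFibre.reduced Hh Mh Ch hCH hinf hsup hmaxh Y.character ⟨b, Y, rfl⟩ hγirr
      (extendByZero Hh sc0) hζ1 hζmul hζinv hδζ
  haveI : Fintype T := Fintype.ofFinite T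
  have hΞ' : IsCharacter T (Φ * fun t : T => τ (t : Γ)) :=
    isCharacter_mul hΦ (IsCharacter.restrict hτchar T)
  have hindΞ' : ∀ x : Γ, indFun T (Φ * fun t : T => τ (t : Γ)) x = χ (prj x) := by
    intro x
    rw [Cfsg.Agent.Lib.Helper7.indFun_mul_restrict T Φ τ hτcf, hindΦ, hγτ]
  have hkerT : (proj L ρ).ker ≤ T := ((Subgroup.ker_le_comap prj L).trans hCN).trans hNT
  obtain ⟨Ξ₀, hΞ₀, hindΞ₀⟩ := BergerTools.descent prj hsurj T hkerT hΞ' χ hindΞ'
  refine ⟨T.map prj, N.map prj, Ξ₀, hNn.map prj hsurj, ?_, ?_, Subgroup.map_mono hNT, ?_,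
    hΞ₀, hindΞ₀⟩
  · have h1 : L = (Ch).map prj := (Subgroup.map_comap_eq_self_of_surjective hsurj L).symm
    calc L = (Ch).map prj := h1
      _ ≤ N.map prj := Subgroup.map_mono hCN
  · intro heq
    apply hNC
    apply le_antisymm _ hCN
    calc N ≤ (N.map prj).comap prj := Subgroup.le_comap_map _ _
      _ = Ch := by rw [heq]
  · intro htop
    apply hTtop
    rw [← Subgroup.comap_map_eq_self hkerT, htop, Subgroup.comap_top]

end Step

section Final

variable {G : Type u} [Group G] [Fintype G] [hGs : Group.IsSolvable G]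

theorem step (χ : G → ℂ) (hχ : IsIrrCharacter G χ)
    (hqp : ∀ N : Subgroup G, N.Normal → ∃ (ϑ : N → ℂ) (e : ℕ), IsIrrCharacter N ϑ ∧
      (fun n : N => χ n) = (e : ℂ) • ϑ)
    (H : Subgroup G) (hmax : IsCoatom H) (ϑ : H → ℂ) (hϑ : IsIrrCharacter H ϑ)
    (hind : indFun H ϑ = χ) :
    ∃ (T N : Subgroup G) (Ξ : T → ℂ), N.Normal ∧ H.normalCore ≤ N ∧ N ≠ H.normalCore ∧ N ≤ T ∧
      T ≠ ⊤ ∧ IsCharacter T Ξ ∧ indFun T Ξ = χ := by
  classical
  have hLH : H.normalCore ≤ H := H.normalCore_le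
  have hLtop : H.normalCore ≠ ⊤ := fun h => hmax.1 (top_le_iff.mp (h ▸ hLH))
  haveI : Fintype H.normalCore := Fintype.ofFinite _
  haveI : Fintype H := Fintype.ofFinite H
  have hχchar := IsIrrCharacter.isCharacter hχ
  have hχcf : IsClassFunction G χ := IsCharacter.isClassFunction hχchar
  obtain ⟨φ, e, hφ, hres⟩ := hqp H.normalCore inferInstance
  have hL0 : (Nat.card H.normalCore : ℂ) ≠ 0 := by
    have : 0 < Nat.card H.normalCore := Nat.card_pos
    exact_mod_cast this.ne'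
  have hH0 : (Nat.card H : ℂ) ≠ 0 := by
    have : 0 < Nat.card H := Nat.card_pos
    exact_mod_cast this.ne'
  have he : (e : ℂ) ≠ 0 := by
    intro h0
    have h1 : χ 1 = (e : ℂ) * φ 1 := congrFun hres 1
    rw [h0, zero_mul] at h1
    exact IsIrrCharacter.apply_one_ne_zero hχ h1
  have hφinv : ∀ (g : G) (n : H.normalCore), φ (MulAut.conjNormal g n) = φ n := by
    intro g n
    have h1 : χ ((MulAut.conjNormal g n : H.normalCore) : G)
        = (e : ℂ) * φ (MulAut.conjNormal g n) := congrFun hres _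
    have h2 : χ (n : G) = (e : ℂ) * φ n := congrFun hres n
    have h3 : χ ((MulAut.conjNormal g n : H.normalCore) : G) = χ (n : G) := by
      rw [MulAut.conjNormal_apply]
      exact hχcf n g
    rw [h3, h2] at h1
    exact (mul_left_cancel₀ he h1).symm
  have hcon0 : classInner (fun n : H.normalCore => ϑ ⟨(n : G), hLH n.2⟩) φ ≠ 0 := by
    have hW := QuasiPrim.W_eq H ϑ H.normalCore inferInstance
    rw [hind, QuasiPrim.hom_norm H.normalCore hφ e hres] at hW
    have hsum : ∑ g : G, QuasiPrim.cut H.normalCore (extendByZero H ϑ) g * conj (χ g)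
        = (e : ℂ) * ((Nat.card H.normalCore : ℂ) *
          classInner (fun n : H.normalCore => ϑ ⟨(n : G), hLH n.2⟩) φ) := by
      have h1 : ∀ g : G, QuasiPrim.cut H.normalCore (extendByZero H ϑ) g * conj (χ g)
          = QuasiPrim.cut H.normalCore (fun g => extendByZero H ϑ g * conj (χ g)) g := by
        intro g
        by_cases hg : g ∈ H.normalCore
        · rw [QuasiPrim.cut_of_mem (extendByZero H ϑ) hg,
            QuasiPrim.cut_of_mem (fun g => extendByZero H ϑ g * conj (χ g)) hg]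
        · rw [QuasiPrim.cut_of_not_mem (extendByZero H ϑ) hg,
            QuasiPrim.cut_of_not_mem (fun g => extendByZero H ϑ g * conj (χ g)) hg, zero_mul]
      rw [Finset.sum_congr rfl (fun g _ => h1 g), QuasiPrim.sum_cut, classInner_def,
        ← mul_assoc (Nat.card H.normalCore : ℂ), mul_inv_cancel₀ hL0, one_mul, Finset.mul_sum]
      apply Finset.sum_congr rfl
      intro x _
      have h2 : χ (x : G) = (e : ℂ) * φ x := congrFun hres x
      show extendByZero H ϑ (x : G) * conj (χ (x : G))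
        = (e : ℂ) * (ϑ ⟨(x : G), hLH x.2⟩ * conj (φ x))
      rw [extendByZero_of_mem H ϑ (hLH x.2), h2, map_mul, Complex.conj_natCast]
      ring
    rw [hsum] at hW
    intro h0
    rw [h0] at hW
    have hne : (Nat.card H : ℂ) * ((e : ℂ) ^ 2 * (Nat.card H.normalCore : ℂ)) ≠ 0 :=
      mul_ne_zero hH0 (mul_ne_zero (pow_ne_zero 2 he) hL0)
    apply hne
    rw [hW]
    ring
  have hcon : classInner φ (fun n : H.normalCore => ϑ ⟨(n : G), hLH n.2⟩) ≠ 0 := by
    intro h0
    apply hcon0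
    rw [← classInner_conj_symm, h0, map_zero]
  obtain ⟨d, ρ, hρ, rfl⟩ := hφ
  obtain ⟨M, p, a, hMn, hLM, hML, hp, hcardM, habM, hminM⟩ :=
    QuasiPrim.exists_layer H.normalCore
      (inferInstance : Group.IsSolvable (G ⧸ H.normalCore)) hLtop
  haveI := hMn
  have hMH : M ⊔ H = ⊤ := by
    apply hmax.2
    refine lt_of_le_of_ne le_sup_right ?_
    intro h
    apply hML
    apply le_antisymm _ hLM
    apply Subgroup.normal_le_normalCore.mpr
    exact le_sup_left.trans h.symm.le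
  have hMHL : M ⊓ H = H.normalCore :=
    le_antisymm (QuasiPrim.inf_le_core H M M hMH (fun m hm y hy => habM y hy m hm))
      (le_inf hLM hLH)
  exact step_core H.normalCore ρ H M hρ hφinv hLH hmax hMHL hMH χ hχ ϑ hϑ hind hcon

omit hGs in
theorem up (χ : G → ℂ) (hχ : IsIrrCharacter G χ) (T : Subgroup G) (hT : T ≠ ⊤) (Ξ : T → ℂ)
    (hΞ : IsCharacter T Ξ) (hind : indFun T Ξ = χ) :
    ∃ (H : Subgroup G) (ϑ : H → ℂ), IsCoatom H ∧ T ≤ H ∧ IsIrrCharacter H ϑ ∧
      indFun H ϑ = χ := by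
  classical
  obtain ⟨H, hH, hTH⟩ := (eq_top_or_exists_le_coatom T).resolve_left hT
  haveI : Fintype H := Fintype.ofFinite H
  have hchar : IsCharacter (T.subgroupOf H)
      (fun x : T.subgroupOf H => Ξ ⟨((x : H) : G), Subgroup.mem_subgroupOf.mp x.2⟩) :=
    IsCharacter.comp hΞ (Subgroup.subgroupOfEquivOfLe hTH).toMonoidHom
  have hϑchar : IsCharacter H (indFun (T.subgroupOf H)
      (fun x => Ξ ⟨((x : H) : G), Subgroup.mem_subgroupOf.mp x.2⟩)) :=
    indFun_isCharacter _ _ hchar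
  have htrans : indFun H (indFun (T.subgroupOf H)
      (fun x => Ξ ⟨((x : H) : G), Subgroup.mem_subgroupOf.mp x.2⟩)) = χ := by
    rw [indFun_trans T H hTH Ξ]
    exact hind
  refine ⟨H, _, hH, hTH, ?_, htrans⟩
  apply BergerTools.irr_of_ind_irr H hϑchar
  rw [htrans]
  exact hχ

theorem berger_aux (χ : G → ℂ) (hχ : IsIrrCharacter G χ)
    (hqp : ∀ N : Subgroup G, N.Normal → ∃ (ϑ : N → ℂ) (e : ℕ), IsIrrCharacter N ϑ ∧
      (fun n : N => χ n) = (e : ℂ) • ϑ) :
    ∀ (n : ℕ) (H : Subgroup G), IsCoatom H →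
      (∃ ϑ : H → ℂ, IsIrrCharacter H ϑ ∧ indFun H ϑ = χ) →
      Nat.card G ≤ Nat.card H.normalCore + n → False := by
  intro n
  induction n with
  | zero =>
    intro H hmax _ hle
    have h1 : H.normalCore = ⊤ := Subgroup.eq_top_of_le_card _ (by simpa using hle)
    exact hmax.1 (top_le_iff.mp (h1 ▸ H.normalCore_le))
  | succ n ih =>
    rintro H hmax ⟨ϑ, hϑ, hind⟩ hle
    obtain ⟨T, N, Ξ, hNn, hLN, hNL, hNT, hTtop, hΞ, hindΞ⟩ := step χ hχ hqp H hmax ϑ hϑ hind
    obtain ⟨H', ϑ', hH', hTH', hϑ', hind'⟩ := up χ hχ T hTtop Ξ hΞ hindΞ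
    apply ih H' hH' ⟨ϑ', hϑ', hind'⟩
    haveI := hNn
    have h1 : N ≤ H'.normalCore := Subgroup.normal_le_normalCore.mpr (hNT.trans hTH')
    have h2 : Nat.card H.normalCore < Nat.card N := by
      by_contra hcon
      push Not at hcon
      exact hNL (Subgroup.eq_of_le_of_card_ge hLN hcon).symm
    have h3 : Nat.card N ≤ Nat.card H'.normalCore := Subgroup.card_le_of_le h1
    omega

/-- **Berger's theorem**: a quasi-primitive irreducible character of a finite solvable group is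
not induced from any proper subgroup. -/
theorem berger (χ : G → ℂ) (hχ : IsIrrCharacter G χ)
    (hqp : ∀ N : Subgroup G, N.Normal → ∃ (ϑ : N → ℂ) (e : ℕ), IsIrrCharacter N ϑ ∧
      (fun n : N => χ n) = (e : ℂ) • ϑ)
    (K : Subgroup G) (hK : K ≠ ⊤) (ψ : K → ℂ) (hψ : IsCharacter K ψ) : indFun K ψ ≠ χ := by
  intro hind
  obtain ⟨H, ϑ, hH, -, hϑ, hindH⟩ := up χ hχ K hK ψ hψ hind
  exact berger_aux χ hχ hqp (Nat.card G) H hH ⟨ϑ, hϑ, hindH⟩ (Nat.le_add_left _ _)

end Final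

end Cfsg.Agent.Lib.Helper2.BergerMain
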