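import Mathlib
import Cfsg.Prelude.Def_Characters
import Cfsg.Agent.Lib.Helper2.Elementary
import Cfsg.Agent.Lib.Helper2.MGroup
import Cfsg.Agent.Lib.Helper2.DirectProduct
import Cfsg.Agent.Lib.Helper7.Gallagher

/-!
# Brauer's induction theorem from the `p`-local statement (S0874) (helper2 library)
-/

set_option autoImplicit false

universe u

namespace Cfsg.Agent.Lib.Helper2

open scoped ComplexConjugate

namespace Brauer

section Trans

variable {G : Type*} [Group G] [Fintype G]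

/-- transitivity of induction for a subgroup of a subgroup -/
theorem indFun_indFun_map (T : Subgroup G) [Fintype T] (S : Subgroup T) (μ : S → ℂ) :
    Cfsg.indFun T (Cfsg.indFun S μ) = Cfsg.indFun (S.map T.subtype)
      (fun x => μ ((S.equivMapOfInjective T.subtype T.subtype_injective).symm x)) := by
  have hle : S.map T.subtype ≤ T := Subgroup.map_subtype_le S
  rw [← indFun_trans (S.map T.subtype) T hle]
  congr 1
  have hSeq : S = (S.map T.subtype).subgroupOf T :=
    (Subgroup.comap_map_eq_self_of_injective T.subtype_injective S).symm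
  apply MGroup.indFun_congr hSeq
  intro t ht ht'
  have : (S.equivMapOfInjective T.subtype T.subtype_injective).symm
      ⟨(t : G), Subgroup.mem_subgroupOf.mp ht'⟩ = ⟨t, ht⟩ := by
    rw [MulEquiv.symm_apply_eq]
    apply Subtype.ext
    rfl
  simp only
  rw [this]

end Trans

section Spans

variable (G : Type u) [Group G] [Fintype G]

/-- `ℤ`-combinations of functions induced from linear characters of elementary subgroups -/
def BrauerSpan : AddSubgroup (G → ℂ) where
  carrier := {f | ∃ l : List ((E : Subgroup G) × ((E →* ℂˣ) × ℤ)),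
    (∀ t ∈ l, ∃ p : ℕ, p.Prime ∧ Cfsg.IsElementary p t.1) ∧
    f = (l.map fun t => (t.2.2 : ℂ) • Cfsg.indFun t.1 (fun e => (t.2.1 e : ℂ))).sum}
  zero_mem' := ⟨[], by simp, by simp⟩
  add_mem' := by
    rintro f g ⟨l₁, h₁, rfl⟩ ⟨l₂, h₂, rfl⟩
    refine ⟨l₁ ++ l₂, ?_, by rw [List.map_append, List.sum_append]⟩
    intro t ht
    rcases List.mem_append.mp ht with h | h
    · exact h₁ t h
    · exact h₂ t h
  neg_mem' := by
    rintro f ⟨l, h, rfl⟩
    refine ⟨l.map (fun t => ⟨t.1, (t.2.1, -t.2.2)⟩), ?_, ?_⟩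
    · intro t ht
      obtain ⟨s, hs, rfl⟩ := List.mem_map.mp ht
      exact h s hs
    · rw [List.map_map]
      clear h
      induction l with
      | nil => simp
      | cons a l ih =>
        rw [List.map_cons, List.sum_cons, List.map_cons, List.sum_cons, neg_add, ih]
        congr 1
        simp

/-- `ℤ`-combinations of functions induced from characters of elementary subgroups -/
def ElemSpan : AddSubgroup (G → ℂ) where
  carrier := {f | ∃ l : List ((E : Subgroup G) × ((E → ℂ) × ℤ)),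
    (∀ t ∈ l, (∃ p : ℕ, p.Prime ∧ Cfsg.IsElementary p t.1) ∧ Cfsg.IsCharacter t.1 t.2.1) ∧
    f = (l.map fun t => (t.2.2 : ℂ) • Cfsg.indFun t.1 t.2.1).sum}
  zero_mem' := ⟨[], by simp, by simp⟩
  add_mem' := by
    rintro f g ⟨l₁, h₁, rfl⟩ ⟨l₂, h₂, rfl⟩
    refine ⟨l₁ ++ l₂, ?_, by rw [List.map_append, List.sum_append]⟩
    intro t ht
    rcases List.mem_append.mp ht with h | h
    · exact h₁ t h
    · exact h₂ t h
  neg_mem' := by
    rintro f ⟨l, h, rfl⟩
    refine ⟨l.map (fun t => ⟨t.1, (t.2.1, -t.2.2)⟩), ?_, ?_⟩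
    · intro t ht
      obtain ⟨s, hs, rfl⟩ := List.mem_map.mp ht
      exact h s hs
    · rw [List.map_map]
      clear h
      induction l with
      | nil => simp
      | cons a l ih =>
        rw [List.map_cons, List.sum_cons, List.map_cons, List.sum_cons, neg_add, ih]
        congr 1
        simp

variable {G}

theorem mem_brauerSpan_iff {f : G → ℂ} : f ∈ BrauerSpan G ↔
    ∃ l : List ((E : Subgroup G) × ((E →* ℂˣ) × ℤ)),
      (∀ t ∈ l, ∃ p : ℕ, p.Prime ∧ Cfsg.IsElementary p t.1) ∧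
      f = (l.map fun t => (t.2.2 : ℂ) • Cfsg.indFun t.1 (fun e => (t.2.1 e : ℂ))).sum := Iff.rfl

theorem mem_elemSpan_iff {f : G → ℂ} : f ∈ ElemSpan G ↔
    ∃ l : List ((E : Subgroup G) × ((E → ℂ) × ℤ)),
      (∀ t ∈ l, (∃ p : ℕ, p.Prime ∧ Cfsg.IsElementary p t.1) ∧ Cfsg.IsCharacter t.1 t.2.1) ∧
      f = (l.map fun t => (t.2.2 : ℂ) • Cfsg.indFun t.1 t.2.1).sum := Iff.rfl

end Spans

end Brauer

end Cfsg.Agent.Lib.Helper2

namespace Cfsg.Agent.Lib.Helper2

open scoped ComplexConjugate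

namespace Brauer

section Main

variable {G : Type u} [Group G] [Fintype G]

/-- **B1**: a character of an elementary subgroup induces into `BrauerSpan` -/
theorem indFun_mem_brauerSpan (E : Subgroup G) {p : ℕ} (hp : p.Prime)
    (hE : Cfsg.IsElementary p E) {φ : E → ℂ} (hφ : Cfsg.IsCharacter E φ) :
    Cfsg.indFun E φ ∈ BrauerSpan G := by
  classical
  haveI : Fintype E := Fintype.ofFinite E
  haveI : Group.IsNilpotent E := Elementary.isNilpotent hp hE
  obtain ⟨m, rfl⟩ := IsCharacter.exists_multiset_irr hφ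
  induction m using Multiset.induction_on with
  | empty =>
    rw [Multiset.map_zero, Multiset.sum_zero, Cfsg.Agent.Lib.Helper11.indFun_zero]
    exact zero_mem _
  | cons ψ s ih =>
    rw [Multiset.map_cons, Multiset.sum_cons, Cfsg.Agent.Lib.Helper11.indFun_add]
    refine add_mem ?_ (ih (isCharacter_multiset_sum s))
    obtain ⟨H, lam, hlam⟩ := MGroup.isMonomial_of_isNilpotent (ψ : E → ℂ) ψ.2
    rw [hlam, indFun_indFun_map E H]
    set eH := H.equivMapOfInjective E.subtype E.subtype_injective with heH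
    refine ⟨[⟨H.map E.subtype, (lam.comp eH.symm.toMonoidHom, 1)⟩], ?_, ?_⟩
    · intro t ht
      rw [List.mem_singleton] at ht
      rw [ht]
      exact ⟨p, hp, Elementary.of_mulEquiv eH (Elementary.subgroup hp hE H)⟩
    · simp

/-- **B2**: `ElemSpan · (characters) ⊆ BrauerSpan` -/
theorem mul_mem_brauerSpan {f χ : G → ℂ} (hf : f ∈ ElemSpan G) (hχ : Cfsg.IsCharacter G χ) :
    f * χ ∈ BrauerSpan G := by
  have hχcf : Cfsg.IsClassFunction G χ := IsCharacter.isClassFunction hχ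
  obtain ⟨l, hl, rfl⟩ := hf
  induction l with
  | nil => simp
  | cons a l ih =>
    rw [List.map_cons, List.sum_cons, add_mul]
    refine add_mem ?_ (ih (fun t ht => hl t (List.mem_cons_of_mem _ ht)))
    obtain ⟨⟨p, hp, hE⟩, hφ⟩ := hl a List.mem_cons_self
    have h1 : ((a.2.2 : ℂ) • Cfsg.indFun a.1 a.2.1) * χ
        = (a.2.2 : ℤ) • Cfsg.indFun a.1 (a.2.1 * fun e : a.1 => χ e) := by
      rw [Cfsg.Agent.Lib.Helper7.indFun_mul_restrict a.1 a.2.1 χ hχcf]
      funext g
      simp [mul_assoc]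
    rw [h1]
    apply zsmul_mem
    exact indFun_mem_brauerSpan a.1 hp hE (isCharacter_mul hφ (IsCharacter.restrict hχ a.1))

/-- **B3**: the gcd argument -/
theorem one_mem_elemSpan
    (h874 : ∀ p : ℕ, p.Prime → ∃ (m : ℤ) (l : List ((E : Subgroup G) × ((E → ℂ) × ℤ))),
      ¬ (p : ℤ) ∣ m ∧ (∀ t ∈ l, Cfsg.IsElementary p t.1 ∧ Cfsg.IsCharacter t.1 t.2.1) ∧
      (fun _ : G => (m : ℂ)) = (l.map fun t => (t.2.2 : ℂ) • Cfsg.indFun t.1 t.2.1).sum) :
    (fun _ : G => (1 : ℂ)) ∈ ElemSpan G := by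
  -- the additive map `ℤ → (G → ℂ)`
  let ι : ℤ →+ (G → ℂ) :=
    { toFun := fun n => fun _ => (n : ℂ)
      map_zero' := by funext; simp
      map_add' := fun a b => by funext; simp }
  let I : Ideal ℤ := AddSubgroup.toIntSubmodule ((ElemSpan G).comap ι)
  have hmem : ∀ n : ℤ, n ∈ I ↔ (fun _ : G => (n : ℂ)) ∈ ElemSpan G := fun n => Iff.rfl
  have hprime : ∀ p : ℕ, p.Prime → ∃ m : ℤ, m ∈ I ∧ ¬ (p : ℤ) ∣ m := by
    intro p hp
    obtain ⟨m, l, hpm, hl, hsum⟩ := h874 p hp
    refine ⟨m, ?_, hpm⟩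
    rw [hmem, hsum]
    exact ⟨l, fun t ht => ⟨⟨p, hp, (hl t ht).1⟩, (hl t ht).2⟩, rfl⟩
  obtain ⟨d, hd⟩ := (IsPrincipalIdealRing.principal I).principal
  have hdvd : ∀ n ∈ I, d ∣ n := by
    intro n hn
    rw [hd] at hn
    exact (Submodule.mem_span_singleton.mp hn).elim fun c hc => ⟨c, by rw [← hc]; simp [mul_comm]⟩
  have hunit : d.natAbs = 1 := by
    by_contra hne
    obtain ⟨q, hq, hqd⟩ := Nat.exists_prime_and_dvd hne
    obtain ⟨m, hmI, hqm⟩ := hprime q hq
    apply hqm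
    have h1 : (q : ℤ) ∣ d := Int.natCast_dvd.mpr hqd
    exact h1.trans (hdvd m hmI)
  have h1I : (1 : ℤ) ∈ I := by
    rw [hd]
    apply Submodule.mem_span_singleton.mpr
    rcases Int.natAbs_eq d with h | h
    · exact ⟨1, by rw [h, hunit]; simp⟩
    · exact ⟨-1, by rw [h, hunit]; simp⟩
  have := (hmem 1).mp h1I
  simpa using this

/-- **Brauer's induction theorem**, assuming the `p`-local statement S0874 -/
theorem brauer_induction
    (h874 : ∀ p : ℕ, p.Prime → ∃ (m : ℤ) (l : List ((E : Subgroup G) × ((E → ℂ) × ℤ))),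
      ¬ (p : ℤ) ∣ m ∧ (∀ t ∈ l, Cfsg.IsElementary p t.1 ∧ Cfsg.IsCharacter t.1 t.2.1) ∧
      (fun _ : G => (m : ℂ)) = (l.map fun t => (t.2.2 : ℂ) • Cfsg.indFun t.1 t.2.1).sum)
    (χ : G → ℂ) (hχ : Cfsg.IsCharacter G χ) :
    ∃ l : List ((E : Subgroup G) × ((E →* ℂˣ) × ℤ)),
      (∀ t ∈ l, ∃ p : ℕ, p.Prime ∧ Cfsg.IsElementary p t.1) ∧
      χ = (l.map fun t => (t.2.2 : ℂ) • Cfsg.indFun t.1 (fun e => (t.2.1 e : ℂ))).sum := by
  have h1 := mul_mem_brauerSpan (one_mem_elemSpan h874) hχ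
  have h2 : (fun _ : G => (1 : ℂ)) * χ = χ := by
    funext g; simp
  rw [h2] at h1
  exact mem_brauerSpan_iff.mp h1

end Main

end Brauer

end Cfsg.Agent.Lib.Helper2
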