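import Mathlib
import Cfsg.Prelude.Def_Characters
import Cfsg.Agent.Lib.Helper2.RationalChars

/-!
# Galois descent for polynomial expressions in a root of unity
(helper2 library)
-/

set_option autoImplicit false

namespace Cfsg.Agent.Lib.Helper2

open Module Polynomial
open scoped ComplexConjugate

section Abstract

theorem exists_rat_of_forall_aeval_pow_eq_aux (N : ℕ) [NeZero N] {K : Type*} [Field K]
    [Algebra ℚ K] [IsCyclotomicExtension {N} ℚ K] (φ : K →ₐ[ℚ] ℂ) (ζK : K)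
    (hζK : IsPrimitiveRoot ζK N) (P : ℚ[X])
    (h : ∀ m : ℕ, m.Coprime N → aeval ((φ ζK) ^ m) P = aeval (φ ζK) P) :
    ∃ q : ℚ, aeval (φ ζK) P = (q : ℂ) := by
  haveI : IsGalois ℚ K := IsCyclotomicExtension.isGalois {N} ℚ K
  haveI : FiniteDimensional ℚ K := IsCyclotomicExtension.finiteDimensional {N} ℚ K
  have hN : 0 < N := Nat.pos_of_ne_zero (NeZero.ne N)
  set αK : K := aeval ζK P with hαK
  have hφα : φ αK = aeval (φ ζK) P := by
    rw [hαK, aeval_algHom_apply]
  have hfix : ∀ σ : K ≃ₐ[ℚ] K, σ αK = αK := by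
    intro σ
    have h1 : (σ ζK) ^ N = 1 := by rw [← map_pow, hζK.pow_eq_one, map_one]
    obtain ⟨m, _, hm⟩ := hζK.eq_pow_of_pow_eq_one h1
    have hprim : IsPrimitiveRoot (σ ζK) N := hζK.map_of_injective σ.injective
    rw [← hm] at hprim
    have hcop : m.Coprime N := (hζK.pow_iff_coprime hN m).mp hprim
    apply φ.toRingHom.injective
    change φ (σ αK) = φ αK
    rw [hφα, hαK, ← aeval_algHom_apply σ, ← hm, ← aeval_algHom_apply φ, map_pow]
    exact h m hcop
  have hbot : αK ∈ (⊥ : IntermediateField ℚ K) := (IsGalois.mem_bot_iff_fixed αK).mpr hfix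
  rw [IntermediateField.mem_bot] at hbot
  obtain ⟨q, hq⟩ := hbot
  refine ⟨q, ?_⟩
  rw [← hφα, ← hq, eq_ratCast (algebraMap ℚ K) q, map_ratCast]

/-- Galois descent: a polynomial expression (with rational coefficients) in a primitive `N`-th
root of unity `ζ ∈ ℂ` that is invariant under `ζ ↦ ζ ^ m` for all `m` prime to `N` is rational. -/
theorem exists_rat_of_forall_aeval_pow_eq (N : ℕ) [NeZero N] (ζ : ℂ) (hζ : IsPrimitiveRoot ζ N)
    (P : ℚ[X]) (h : ∀ m : ℕ, m.Coprime N → aeval (ζ ^ m) P = aeval ζ P) :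
    ∃ q : ℚ, aeval ζ P = (q : ℂ) := by
  letI : Algebra ℚ (CyclotomicField N ℚ) := CyclotomicField.algebra N ℚ
  haveI : IsCyclotomicExtension {N} ℚ (CyclotomicField N ℚ) :=
    CyclotomicField.isCyclotomicExtension N ℚ
  haveI : FiniteDimensional ℚ (CyclotomicField N ℚ) :=
    IsCyclotomicExtension.finiteDimensional {N} ℚ _
  let φ : CyclotomicField N ℚ →ₐ[ℚ] ℂ := IsAlgClosed.lift
  obtain ⟨ζ₀, hζ₀⟩ := IsCyclotomicExtension.exists_isPrimitiveRoot ℚ (CyclotomicField N ℚ)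
    (Set.mem_singleton N) (NeZero.ne N)
  have hφζ : IsPrimitiveRoot (φ ζ₀) N := hζ₀.map_of_injective φ.toRingHom.injective
  obtain ⟨a, _, ha⟩ := hφζ.eq_pow_of_pow_eq_one hζ.pow_eq_one
  have hN : 0 < N := Nat.pos_of_ne_zero (NeZero.ne N)
  have hacop : a.Coprime N := by
    rw [← ha] at hζ
    exact (hφζ.pow_iff_coprime hN a).mp hζ
  have hζK : IsPrimitiveRoot (ζ₀ ^ a) N := hζ₀.pow_of_coprime a hacop
  have hφ : φ (ζ₀ ^ a) = ζ := by rw [map_pow, ha]
  have key := exists_rat_of_forall_aeval_pow_eq_aux N φ (ζ₀ ^ a) hζK P (by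
    rw [hφ]; exact h)
  rw [hφ] at key
  exact key

end Abstract

end Cfsg.Agent.Lib.Helper2
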