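import Mathlib
import Cfsg.Prelude.Def_Characters
import Cfsg.Agent.Lib.Helper2.GaloisDescent
import Cfsg.Agent.Lib.Helper2.Integrality

/-!
# Burnside: a nonlinear irreducible character has a zero
(helper2 library)
-/

set_option autoImplicit false

namespace Cfsg.Agent.Lib.Helper2

open Module Polynomial
open scoped ComplexConjugate

section

variable {G : Type*} [Group G] [Fintype G]
variable {V : Type*} [AddCommGroup V] [Module ℂ V] [FiniteDimensional ℂ V]

/-- The product of the Galois conjugates `χ(g^u)`, `u ∈ (ℤ/|G|)ˣ`, is an integer. -/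
theorem exists_int_prod_char_pow (ρ : Representation ℂ G V) (g : G) (N : ℕ) [NeZero N]
    (hNG : Nat.card G = N) :
    ∃ z : ℤ, ∏ u : (ZMod N)ˣ, ρ.character (g ^ (u : ZMod N).val) = (z : ℂ) := by
  classical
  have hN : N ≠ 0 := NeZero.ne N
  have hζ := Complex.isPrimitiveRoot_exp N hN
  set ζ := Complex.exp (2 * Real.pi * Complex.I / N) with hζdef
  have hζ' : IsPrimitiveRoot ζ (Nat.card G) := by rw [hNG]; exact hζ
  obtain ⟨k, hk⟩ := exists_exponents ρ g ζ hζ'
  let P : ℚ[X] := ∑ i, X ^ (k i)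
  have hP : ∀ m : ℕ, ρ.character (g ^ m) = aeval (ζ ^ m) P := by
    intro m
    rw [hk m]
    simp only [P, map_sum, map_pow, aeval_X, ← pow_mul]
  let e : (ZMod N)ˣ → ℕ := fun u => (u : ZMod N).val
  let Q : ℚ[X] := ∏ u : (ZMod N)ˣ, expand ℚ (e u) P
  have hQ : ∀ z : ℂ, aeval z Q = ∏ u : (ZMod N)ˣ, aeval (z ^ (e u)) P := by
    intro z
    simp only [Q, map_prod, expand_aeval]
  have hβ : aeval ζ Q = ∏ u : (ZMod N)ˣ, ρ.character (g ^ (e u)) := by
    rw [hQ]
    apply Finset.prod_congr rfl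
    intro u _
    rw [hP]
  have hinv : ∀ a : ℕ, a.Coprime N → aeval (ζ ^ a) Q = aeval ζ Q := by
    intro a ha
    rw [hβ, hQ]
    let a' : (ZMod N)ˣ := ZMod.unitOfCoprime a ha
    rw [← Equiv.prod_comp (Equiv.mulLeft a') (fun u => ρ.character (g ^ (e u)))]
    apply Finset.prod_congr rfl
    intro u _
    rw [← pow_mul, ← hP]
    congr 1
    have h1 : e (a' * u) = (a * e u) % N := by
      change ((a' * u : (ZMod N)ˣ) : ZMod N).val = _
      rw [Units.val_mul, ZMod.val_mul, ZMod.coe_unitOfCoprime, ZMod.val_natCast]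
      change (a % N * e u) % N = (a * e u) % N
      exact Nat.mod_mul_mod a (e u) N
    change g ^ (a * e u) = g ^ (e (a' * u))
    rw [h1, ← hNG, pow_mod_natCard]
  obtain ⟨q, hq⟩ := exists_rat_of_forall_aeval_pow_eq N ζ hζ Q hinv
  have hint : IsIntegral ℤ (aeval ζ Q) := by
    rw [hβ]
    apply IsIntegral.prod
    intro u _
    exact char_isIntegral ρ _
  obtain ⟨z, hz⟩ := exists_int_of_isIntegral_of_rat q hq hint
  exact ⟨z, by rw [← hz, hβ]⟩

/-- An irreducible representation of degree greater than one has a character with a zero. -/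
theorem exists_char_eq_zero (ρ : Representation ℂ G V) [ρ.IsIrreducible]
    (hdeg : 1 < finrank ℂ V) : ∃ g : G, ρ.character g = 0 := by
  classical
  by_contra hcon
  simp only [not_exists] at hcon
  obtain ⟨N, hNG⟩ : ∃ N : ℕ, Nat.card G = N := ⟨_, rfl⟩
  have hNdef : N = Nat.card G := hNG.symm
  have hN : N ≠ 0 := by rw [hNdef]; exact Nat.card_pos.ne'
  haveI : NeZero N := ⟨hN⟩
  let U := (ZMod N)ˣ
  let e : U → ℕ := fun u => (u : ZMod N).val
  have hcop : ∀ u : U, (Nat.card G).Coprime (e u) := fun u => by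
    rw [hNG]; exact (ZMod.val_coe_unit_coprime u).symm
  let z : G → U → ℝ := fun g u => ‖ρ.character (g ^ (e u))‖ ^ 2
  have hz0 : ∀ g u, 0 ≤ z g u := fun g u => sq_nonneg _
  -- Step 1: sum of squares
  have hsumsq : ∑ g : G, ‖ρ.character g‖ ^ 2 = (N : ℝ) := by
    have h1 := classInner_irr_self ρ
    rw [classInner_def] at h1
    have hne : (Nat.card G : ℂ) ≠ 0 := card_ne_zero_complex
    have h2 : ∑ g : G, ρ.character g * conj (ρ.character g) = (Nat.card G : ℂ) := by
      field_simp at h1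
      rw [h1]
    have h3 : ∀ g : G, ρ.character g * conj (ρ.character g)
        = ((‖ρ.character g‖ ^ 2 : ℝ) : ℂ) := by
      intro g
      rw [Complex.mul_conj, Complex.normSq_eq_norm_sq]
    simp only [h3] at h2
    rw [← Complex.ofReal_sum] at h2
    have h4 : ((∑ g : G, ‖ρ.character g‖ ^ 2 : ℝ) : ℂ) = ((N : ℝ) : ℂ) := by
      rw [h2]; simp [hNdef]
    exact_mod_cast h4
  -- Step 2: each power map is a bijection
  have hsumu : ∀ u : U, ∑ g : G, z g u = (N : ℝ) := by
    intro u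
    rw [← hsumsq]
    exact Equiv.sum_comp (powCoprime (hcop u)) (fun g => ‖ρ.character g‖ ^ 2)
  -- Step 3/4: AM-GM
  have hUpos : 0 < Fintype.card U := Fintype.card_pos
  have hUposR : (0 : ℝ) < (Fintype.card U : ℝ) := by exact_mod_cast hUpos
  have hge : ∀ g : G, (Fintype.card U : ℝ) ≤ ∑ u : U, z g u := by
    intro g
    obtain ⟨w, hw⟩ := exists_int_prod_char_pow ρ g N hNG
    have hw0 : w ≠ 0 := by
      intro h0
      rw [h0, Int.cast_zero] at hw
      obtain ⟨u, _, hu⟩ := Finset.prod_eq_zero_iff.mp hw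
      exact hcon _ hu
    have hprod : 1 ≤ ∏ u : U, z g u := by
      have h1 : ∏ u : U, z g u = ‖(w : ℂ)‖ ^ 2 := by
        rw [← hw, norm_prod, ← Finset.prod_pow]
      rw [h1, Complex.norm_intCast]
      have h2 : (1 : ℝ) ≤ |(w : ℝ)| := by
        have : (1 : ℤ) ≤ |w| := Int.one_le_abs hw0
        exact_mod_cast this
      nlinarith
    have hamgm := Real.geom_mean_le_arith_mean Finset.univ (fun _ : U => (1 : ℝ)) (z g)
      (fun _ _ => zero_le_one) (by simp [hUposR]) (fun u _ => hz0 g u)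
    simp only [Real.rpow_one, Finset.sum_const, Finset.card_univ, nsmul_eq_mul, mul_one,
      one_mul] at hamgm
    have h3 : (1 : ℝ) ≤ (∏ u : U, z g u) ^ ((Fintype.card U : ℝ))⁻¹ :=
      Real.one_le_rpow hprod (inv_nonneg.mpr hUposR.le)
    have h4 := le_trans h3 hamgm
    rwa [le_div_iff₀ hUposR, one_mul] at h4
  -- Step 5: the identity contributes more
  have hone : ∑ u : U, z 1 u = (Fintype.card U : ℝ) * ((finrank ℂ V : ℝ)) ^ 2 := by
    have : ∀ u : U, z 1 u = ((finrank ℂ V : ℝ)) ^ 2 := by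
      intro u
      change ‖ρ.character (1 ^ (e u))‖ ^ 2 = _
      rw [one_pow, Representation.char_one, Complex.norm_natCast]
    simp only [this, Finset.sum_const, Finset.card_univ, nsmul_eq_mul]
  -- Step 6: total
  have htotal : ∑ g : G, ∑ u : U, z g u = (Fintype.card U : ℝ) * (N : ℝ) := by
    rw [Finset.sum_comm]
    simp only [hsumu, Finset.sum_const, Finset.card_univ, nsmul_eq_mul]
  have hsplit : ∑ g : G, ∑ u : U, z g u
      = ∑ u : U, z 1 u + ∑ g ∈ Finset.univ.erase (1 : G), ∑ u : U, z g u :=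
    (Finset.add_sum_erase Finset.univ (fun g => ∑ u : U, z g u) (Finset.mem_univ 1)).symm
  have hrest : ((N : ℝ) - 1) * (Fintype.card U : ℝ)
      ≤ ∑ g ∈ Finset.univ.erase (1 : G), ∑ u : U, z g u := by
    have h1 : ∑ _g ∈ Finset.univ.erase (1 : G), (Fintype.card U : ℝ)
        ≤ ∑ g ∈ Finset.univ.erase (1 : G), ∑ u : U, z g u :=
      Finset.sum_le_sum (fun g _ => hge g)
    rw [Finset.sum_const, Finset.card_erase_of_mem (Finset.mem_univ _), Finset.card_univ,
      nsmul_eq_mul] at h1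
    have h2 : ((Fintype.card G - 1 : ℕ) : ℝ) = (N : ℝ) - 1 := by
      rw [Nat.cast_sub Fintype.card_pos, Nat.cast_one, hNdef, Nat.card_eq_fintype_card]
    rw [h2] at h1
    exact h1
  have hdegR : (1 : ℝ) < (finrank ℂ V : ℝ) := by exact_mod_cast hdeg
  have hsq : (1 : ℝ) < ((finrank ℂ V : ℝ)) ^ 2 := by nlinarith
  rw [hsplit, hone] at htotal
  nlinarith

end

end Cfsg.Agent.Lib.Helper2
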