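import Mathlib
import Cfsg.Agent.Lib.Helper28.CG.Defs

set_option autoImplicit false

namespace Cfsg.Agent.Lib.Helper28.CG

/-- [G3] two subgroups of the same order `n` in a group of order at most `2n` coincide if one of
them has no subgroup of index two -/
theorem eq_of_card_eq_of_no_index_two {A : Type*} [Group A] [Finite A] (B₁ B₂ : Subgroup A)
    (n : ℕ) (h1 : Nat.card B₁ = n) (h2 : Nat.card B₂ = n) (hA : Nat.card A ≤ 2 * n)
    (hno : ∀ N : Subgroup B₁, N.index ≠ 2) : B₁ = B₂ := by
  classical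
  have hnpos : 0 < n := by rw [← h1]; exact Nat.card_pos
  -- index of B₂ in A is at most 2
  have hidx : B₂.index ≤ 2 := by
    have h := Subgroup.card_mul_index B₂
    rw [h2] at h
    by_contra hlt
    have hlt' : 3 ≤ B₂.index := by omega
    have : n * 3 ≤ n * B₂.index := Nat.mul_le_mul_left n hlt'
    omega
  have hidx0 : B₂.index ≠ 0 := Subgroup.index_ne_zero_of_finite
  have hrel : B₂.relIndex B₁ ≤ 2 := by
    have h := Subgroup.relIndex_le_of_le_right (H := B₂) (le_top : B₁ ≤ ⊤)
      (by rw [Subgroup.relIndex_top_right]; exact hidx0)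
    rw [Subgroup.relIndex_top_right] at h
    exact h.trans hidx
  have hrel0 : B₂.relIndex B₁ ≠ 0 := by
    unfold Subgroup.relIndex
    exact Subgroup.index_ne_zero_of_finite
  have hrel2 : B₂.relIndex B₁ ≠ 2 := hno (B₂.subgroupOf B₁)
  have hrel1 : B₂.relIndex B₁ = 1 := by omega
  have hle : B₁ ≤ B₂ := Subgroup.relIndex_eq_one.mp hrel1
  exact Subgroup.eq_of_le_of_card_ge hle (by rw [h1, h2])

end Cfsg.Agent.Lib.Helper28.CG
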