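import Mathlib
import Cfsg.Agent.Lib.Helper28.CG.Defs

set_option autoImplicit false

namespace Cfsg.Agent.Lib.Helper28.CG

namespace Helper2

/-- the index of the centralizer of `k` is at most the number of elements of a conjugation-stable
finite set containing `k`, minus the elements known not to be conjugates -/
theorem index_centralizer_le {H : Type*} [Group H] [Finite H] (K : Subgroup H) [K.Normal]
    (k : H) (hk : k ∈ K) (hk1 : k ≠ 1) :
    (Subgroup.centralizer ({k} : Set H)).index + 1 ≤ Nat.card K := by
  classical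
  set C := Subgroup.centralizer ({k} : Set H) with hC
  -- the map `H ⧸ C → K`, `h C ↦ h k h⁻¹`
  have hwd : ∀ a b : H, (QuotientGroup.leftRel C) a b → a * k * a⁻¹ = b * k * b⁻¹ := by
    intro a b hab
    rw [QuotientGroup.leftRel_apply] at hab
    have h := (Subgroup.mem_centralizer_iff.mp hab) k (Set.mem_singleton k)
    -- h : k * (a⁻¹ * b) = a⁻¹ * b * k
    have : a * k * a⁻¹ = a * (k * (a⁻¹ * b)) * b⁻¹ := by group
    rw [this, h]
    group
  let f : H ⧸ C → K := fun q =>
    Quotient.liftOn' q (fun h => (⟨h * k * h⁻¹, Subgroup.Normal.conj_mem inferInstance k hk h⟩ : K))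
      (fun a b hab => Subtype.ext (hwd a b hab))
  have hf_inj : Function.Injective f := by
    intro q₁ q₂
    refine Quotient.inductionOn₂' q₁ q₂ ?_
    intro a b hab
    have hab' : a * k * a⁻¹ = b * k * b⁻¹ := congrArg Subtype.val hab
    apply Quotient.sound'
    rw [QuotientGroup.leftRel_apply]
    rw [hC, Subgroup.mem_centralizer_iff]
    intro x hx
    rw [Set.mem_singleton_iff] at hx
    subst hx
    have : x * (a⁻¹ * b) = a⁻¹ * (a * x * a⁻¹) * b := by group
    rw [this, hab']
    group
  have hf_ne : ∀ q, f q ≠ 1 := by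
    intro q
    refine Quotient.inductionOn' q ?_
    intro a h
    have h' : a * k * a⁻¹ = 1 := congrArg Subtype.val h
    apply hk1
    have : k = a⁻¹ * (a * k * a⁻¹) * a := by group
    rw [this, h']
    group
  -- count
  have hcard : Nat.card (H ⧸ C) + 1 ≤ Nat.card K := by
    have : Fintype (H ⧸ C) := Fintype.ofFinite _
    have : Fintype K := Fintype.ofFinite _
    rw [Nat.card_eq_fintype_card, Nat.card_eq_fintype_card]
    have himg : (Finset.univ.image f) ⊆ Finset.univ.erase (1 : K) := by
      intro x hx
      rcases Finset.mem_image.mp hx with ⟨q, -, rfl⟩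
      exact Finset.mem_erase.mpr ⟨hf_ne q, Finset.mem_univ _⟩
    have h1 := Finset.card_le_card himg
    rw [Finset.card_image_of_injective _ hf_inj, Finset.card_univ,
      Finset.card_erase_of_mem (Finset.mem_univ _), Finset.card_univ] at h1
    have hpos : 0 < Fintype.card K := Fintype.card_pos
    omega
  rw [Subgroup.index_eq_card]
  exact hcard

end Helper2

/-- [G4] a normal subgroup of exponent two in a group of order 5616 all of whose non-identity
elements have centralizers of order at most 374 is trivial -/
theorem eq_bot_of_exponent_two {H : Type*} [Group H] [Finite H] (hH : Nat.card H = 5616)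
    (K : Subgroup H) [K.Normal] (hK : ∀ k ∈ K, k * k = 1)
    (hc : ∀ k ∈ K, k ≠ 1 → Nat.card (Subgroup.centralizer ({k} : Set H)) ≤ 374) : K = ⊥ := by
  classical
  rw [Subgroup.eq_bot_iff_forall]
  intro k hk
  by_contra hk1
  -- `K` is a 2-group
  have hp : IsPGroup 2 K := by
    intro x
    refine ⟨1, ?_⟩
    have := hK x.1 x.2
    apply Subtype.ext
    simp only [pow_one, Subgroup.coe_pow, Subgroup.coe_one]
    rw [pow_two]
    exact this
  obtain ⟨m, hm⟩ := IsPGroup.iff_card.mp hp
  have hdvd : Nat.card K ∣ Nat.card H := Subgroup.card_subgroup_dvd_card K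
  rw [hm, hH] at hdvd
  have hm4 : m ≤ 4 := by
    by_contra hlt
    have h5 : 5 ≤ m := by omega
    have : 2 ^ 5 ∣ 5616 := (pow_dvd_pow 2 h5).trans hdvd
    norm_num at this
  have hK16 : Nat.card K ≤ 16 := by
    rw [hm]
    calc 2 ^ m ≤ 2 ^ 4 := Nat.pow_le_pow_right (by norm_num) hm4
      _ = 16 := by norm_num
  have hidx := Helper2.index_centralizer_le K k hk hk1
  have hcent := hc k hk hk1
  have hmul := Subgroup.card_mul_index (Subgroup.centralizer ({k} : Set H))
  rw [hH] at hmul
  have hi15 : (Subgroup.centralizer ({k} : Set H)).index ≤ 15 := by omega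
  have : Nat.card (Subgroup.centralizer ({k} : Set H)) * (Subgroup.centralizer ({k} : Set H)).index
      ≤ 374 * 15 := Nat.mul_le_mul hcent hi15
  omega

end Cfsg.Agent.Lib.Helper28.CG
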