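import Mathlib
import Cfsg.Agent.Lib.Helper28.CG.Defs

set_option autoImplicit false

namespace Cfsg.Agent.Lib.Helper28.CG

/-- [G5] a permutation group permuting an injectively indexed family of sets acts on the index set -/
theorem exists_hom_of_image_mem {Y Ω : Type*} (G : Subgroup (Equiv.Perm Y)) (κ : Ω → Set Y)
    (hκ : Function.Injective κ)
    (hG : ∀ σ ∈ G, ∀ a, ∃ b, κ b = (σ : Equiv.Perm Y) '' κ a) :
    ∃ Φ : G →* Equiv.Perm Ω, ∀ (σ : G) (a : Ω), κ (Φ σ a) = ((σ : Equiv.Perm Y) : Y → Y) '' κ a := by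
  classical
  let F : G → Ω → Ω := fun σ a => Classical.choose (hG σ.1 σ.2 a)
  have hF : ∀ (σ : G) (a : Ω), κ (F σ a) = ((σ : Equiv.Perm Y) : Y → Y) '' κ a :=
    fun σ a => Classical.choose_spec (hG σ.1 σ.2 a)
  have hmul : ∀ (σ τ : G) (a : Ω), F (σ * τ) a = F σ (F τ a) := by
    intro σ τ a
    apply hκ
    rw [hF, hF, hF, Set.image_image]
    rfl
  have hone : ∀ a : Ω, F 1 a = a := by
    intro a
    apply hκ
    rw [hF]
    simp
  let Φ : G →* Equiv.Perm Ω :=
    { toFun := fun σ =>
        { toFun := F σ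
          invFun := F σ⁻¹
          left_inv := fun a => by rw [← hmul, inv_mul_cancel, hone]
          right_inv := fun a => by rw [← hmul, mul_inv_cancel, hone] }
      map_one' := by
        ext a
        exact hone a
      map_mul' := by
        intro σ τ
        ext a
        exact hmul σ τ a }
  exact ⟨Φ, fun σ a => hF σ a⟩

end Cfsg.Agent.Lib.Helper28.CG
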