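import Cfsg.Agent.Lib.Helper27.Co1O.Block
import Cfsg.Agent.Lib.Helper27.Co1O.LowP5
import Cfsg.Agent.Lib.Helper16.Co1MP5TC

/-! # The 5-part of the Schur multiplier of `Co₁` is trivial (S2043, block [P5])

The local subgroup `L₃ = P : 4` of order `2500` (`P` a Sylow `5`-subgroup of `K ≃* Co₁`): generators `LowP5.wsH`
(four elements of order `4`), the four power relators and `47` conjugation relators of helper16 (`Co1MP5TC`),
helper16's Todd–Coxeter certificate `p5_check` (index `625` over `⟨x₀⟩`), helper27's lower bound `LowP5.card_ge`;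
glue = `Co1O.Block.part_le_one`. -/

set_option autoImplicit false
set_option maxRecDepth 1000000

namespace Cfsg.Agent.Lib.Helper22.Co1M

open Cfsg Cfsg.H5.TCk Cfsg.Agent.Lib.Helper27.Co1O Cfsg.Agent.Lib.Helper27.Co1O.Block
open Cfsg.Agent.Lib.Helper27.Co1O.LowP5 Cfsg.Agent.Lib.Helper22.Co1M.Helper16

namespace Helper2

/-- the relators of the certificate are the power relators followed by the conjugation relators -/
theorem p5rels_eq : p5rels = relsOf p5ords p5conj := by decide +kernel

/-- the relators hold in `K` (on the five base points) -/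
theorem p5rels_K : p5rels.all (fun r => baseFix (substW wsH r)) = true := by decide +kernel

theorem p5rels_let : p5rels.all (fun r => r.all (fun l => decide (l < 2 * 4))) = true := by decide +kernel

/-- the order of the local subgroup -/
theorem p5card_L :
    Nat.card ↥(Subgroup.closure (Set.range fun i : Fin 4 => genKK wsH wsH_ok i.val)) = 2500 :=
  le_antisymm (le_trans (card_L_le wsH_ok 4 p5rels p5rels_K p5rels_let [[0]] (by decide) 4
    (fun γ' h => hsub_cyc p5ords p5conj (s := 0) (by decide) (by decide) γ' (p5rels_eq ▸ h))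
    48 8 1114 625 p5defs p5log p5_check) (by norm_num)) card_ge

end Helper2

/-- BLOCK [P5]: a stem extension of `Co₁` with a `5`-group as kernel is trivial -/
theorem part_5 {Γ : Type} [Group Γ] [Finite Γ] (σ : Γ →* ↥K) (hσ : IsStemExtension σ)
    (hk : IsPGroup 5 σ.ker) : Nat.card σ.ker ≤ 1 := by
  have : Fact (Nat.Prime 5) := ⟨by norm_num⟩
  exact part_le_one (p := 5) wsH_ok 4 rfl rfl (by decide) p5conj p5rels Helper2.p5rels_eq
    Helper2.p5rels_K Helper2.p5rels_let [[0]] (by decide) 4
    (fun γ' h => hsub_cyc p5ords p5conj (s := 0) (by decide) (by decide) γ' (Helper2.p5rels_eq ▸ h))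
    2500 card_ge 48 8 1114 625 p5defs p5log p5_check (by norm_num) (by norm_num) σ hσ hk

end Cfsg.Agent.Lib.Helper22.Co1M
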