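import Mathlib
import Cfsg.Prelude.Def_Characters
import Cfsg.Agent.Lib.Helper2.PermLemma
import Cfsg.Agent.Lib.Helper25.GenOrtho

/-!
# Counting commutators by characters (helper2 library; uses helper25's generalized orthogonality)
-/

set_option autoImplicit false

namespace Cfsg.Agent.Lib.Helper2

open Module
open scoped ComplexConjugate MonoidAlgebra

section Commutators

universe u

variable {G : Type u} [Group G] [Fintype G]

/-- Frobenius' formula: the number of ways to write `g` as a commutator. -/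
theorem card_commutator_pairs [Fintype (Cfsg.IrrCharacter G)] [DecidableEq G] (g : G) :
    ((Finset.univ.filter (fun p : G × G => g = p.1 * p.2 * p.1⁻¹ * p.2⁻¹)).card : ℂ)
      = (Nat.card G : ℂ) * ∑ χ : Cfsg.IrrCharacter G, (χ : G → ℂ) g⁻¹ / (χ : G → ℂ) 1 := by
  have hG : (Nat.card G : ℂ) ≠ 0 := card_ne_zero_complex
  -- indicator of the identity via the regular character
  have hδ : ∀ x : G, (if x = 1 then (1 : ℂ) else 0)
      = (Nat.card G : ℂ)⁻¹ * ∑ χ : Cfsg.IrrCharacter G, (χ : G → ℂ) 1 * (χ : G → ℂ) x := by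
    intro x
    rw [sum_irr_degree_mul]
    split_ifs
    · rw [inv_mul_cancel₀ hG]
    · rw [mul_zero]
  have h1 : ((Finset.univ.filter (fun p : G × G => g = p.1 * p.2 * p.1⁻¹ * p.2⁻¹)).card : ℂ)
      = ∑ a : G, ∑ b : G, (if g⁻¹ * a * (b * a⁻¹ * b⁻¹) = 1 then (1 : ℂ) else 0) := by
    rw [Finset.card_filter, Nat.cast_sum, Fintype.sum_prod_type]
    apply Finset.sum_congr rfl
    intro a _
    apply Finset.sum_congr rfl
    intro b _
    have : g = a * b * a⁻¹ * b⁻¹ ↔ g⁻¹ * a * (b * a⁻¹ * b⁻¹) = 1 := by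
      constructor
      · intro h; rw [h]; group
      · intro h
        have : g * (g⁻¹ * a * (b * a⁻¹ * b⁻¹)) = g * 1 := by rw [h]
        rw [mul_one] at this
        rw [← this]; group
    simp only [this]
    split_ifs <;> simp
  rw [h1]
  simp only [hδ]
  have h2 : ∀ a : G, ∑ b : G, (Nat.card G : ℂ)⁻¹ * ∑ χ : Cfsg.IrrCharacter G,
      (χ : G → ℂ) 1 * (χ : G → ℂ) (g⁻¹ * a * (b * a⁻¹ * b⁻¹))
      = ∑ χ : Cfsg.IrrCharacter G, (χ : G → ℂ) (g⁻¹ * a) * (χ : G → ℂ) a⁻¹ := by
    intro a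
    rw [← Finset.mul_sum, Finset.sum_comm]
    rw [Finset.mul_sum]
    apply Finset.sum_congr rfl
    intro χ _
    rw [← Finset.mul_sum, Cfsg.Agent.Lib.Helper25.sum_char_mul_conj χ.2]
    have h1 : (χ : G → ℂ) 1 ≠ 0 := IsIrrCharacter.apply_one_ne_zero χ.2
    field_simp
  simp only [h2]
  rw [Finset.sum_comm, Finset.mul_sum]
  apply Finset.sum_congr rfl
  intro χ _
  have := Cfsg.Agent.Lib.Helper25.sum_char_mul_char_inv χ.2 χ.2 g⁻¹
  rw [if_pos rfl] at this
  rw [this]
  ring

/-- An element is a commutator iff `∑ χ(g)/χ(1) ≠ 0`. -/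
theorem isCommutator_iff_sum_ne_zero [Fintype (Cfsg.IrrCharacter G)] (g : G) :
    (∃ a b : G, g = a * b * a⁻¹ * b⁻¹)
      ↔ ∑ χ : Cfsg.IrrCharacter G, (χ : G → ℂ) g / (χ : G → ℂ) 1 ≠ 0 := by
  classical
  have h := card_commutator_pairs g
  have hG : (Nat.card G : ℂ) ≠ 0 := card_ne_zero_complex
  have hconj : ∑ χ : Cfsg.IrrCharacter G, (χ : G → ℂ) g⁻¹ / (χ : G → ℂ) 1
      = conj (∑ χ : Cfsg.IrrCharacter G, (χ : G → ℂ) g / (χ : G → ℂ) 1) := by
    rw [map_sum]
    apply Finset.sum_congr rfl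
    intro χ _
    rw [map_div₀, IrrCharacter.apply_inv, IsCharacter.conj_apply_one (IsIrrCharacter.isCharacter χ.2)]
  constructor
  · rintro ⟨a, b, hab⟩ hzero
    rw [hconj, hzero, map_zero, mul_zero] at h
    have hmem : (a, b) ∈ Finset.univ.filter (fun p : G × G => g = p.1 * p.2 * p.1⁻¹ * p.2⁻¹) := by
      simp [hab]
    have hpos : 0 < (Finset.univ.filter
        (fun p : G × G => g = p.1 * p.2 * p.1⁻¹ * p.2⁻¹)).card := Finset.card_pos.mpr ⟨_, hmem⟩
    have : ((Finset.univ.filter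
        (fun p : G × G => g = p.1 * p.2 * p.1⁻¹ * p.2⁻¹)).card : ℂ) ≠ 0 := by
      exact_mod_cast hpos.ne'
    exact this h
  · intro hne
    by_contra hnot
    simp only [not_exists] at hnot
    have hempty : (Finset.univ.filter
        (fun p : G × G => g = p.1 * p.2 * p.1⁻¹ * p.2⁻¹)) = ∅ := by
      rw [Finset.filter_eq_empty_iff]
      intro p _
      exact hnot p.1 p.2
    rw [hempty, Finset.card_empty, Nat.cast_zero, hconj] at h
    rcases mul_eq_zero.mp h.symm with h0 | h0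
    · exact hG h0
    · apply hne
      have := congrArg conj h0
      simpa using this

end Commutators

end Cfsg.Agent.Lib.Helper2
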