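import Mathlib
import Cfsg.Agent.Lib.Helper2.GlaubermanSolvable
import Cfsg.Agent.Lib.Helper2.DegreeRatio
import Cfsg.Agent.Lib.Helper7.CliffordCentral
import Cfsg.Agent.Lib.Helper25.CosetNorm
import Cfsg.Agent.Lib.Helper25.Codegree
import Cfsg.Agent.Lib.Helper11.Semidirect
import Cfsg.Agent.S0867

/-!
# Counting irreducible characters of degree prime to a Hall complement (helper2 library)

`G = K H`, `K ⊴ G`, `(|K|, |H|) = 1`: the irreducible characters of `G` of degree prime to `|H|`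
are the `θ̂ λ` with `θ ∈ Irr_H(K)`, `λ` linear of `G / K`.  Consequence (Isaacs 13.25-like count):
`#Irr_{H'}(G) = #Irr_{H'}(N_G(H))` for solvable `H`.
-/

set_option autoImplicit false
set_option linter.unusedSectionVars false
set_option linter.style.haveILetI false
set_option linter.unusedVariables false

namespace Cfsg.Agent.Lib.Helper2.CopDeg

open Cfsg Cfsg.Agent.Lib Cfsg.Agent.Lib.Helper2 Cfsg.Agent.Lib.Helper2.GlPG
open scoped ComplexConjugate

universe u

section Constituent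

variable {K : Type*} [Group K] [Fintype K]

/-- a character having an irreducible constituent of the same degree equals it. -/
theorem eq_of_constituent_of_degree_eq {φ : K → ℂ} (hφ : IsCharacter K φ) (θ : IrrCharacter K)
    (hθ : classInner φ (θ : K → ℂ) ≠ 0) (hdeg : φ 1 = (θ : K → ℂ) 1) : φ = (θ : K → ℂ) := by
  classical
  haveI : Fintype (IrrCharacter K) := Fintype.ofFinite _
  have hexp := classFunction_expansion φ (Helper25.isClassFunction_of_char hφ)
  have hm : ∀ ψ : IrrCharacter K, ∃ m : ℕ, classInner φ (ψ : K → ℂ) = (m : ℂ) :=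
    fun ψ => classInner_isCharacter_nat hφ (Helper25.isCharacter_of_irr ψ.2)
  choose m hm using hm
  have hd : ∀ ψ : IrrCharacter K, (ψ : K → ℂ) 1 = (charDegree (ψ : K → ℂ) : ℂ) :=
    fun ψ => Helper25.char_one_eq_charDegree (Helper25.isCharacter_of_irr ψ.2)
  have hpos : ∀ ψ : IrrCharacter K, 0 < charDegree (ψ : K → ℂ) := by
    intro ψ
    apply Nat.pos_of_ne_zero
    intro h
    apply IsIrrCharacter.apply_one_ne_zero ψ.2
    rw [hd, h, Nat.cast_zero]
  have h1 : (charDegree (θ : K → ℂ) : ℂ) =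
      ∑ ψ : IrrCharacter K, ((m ψ * charDegree (ψ : K → ℂ) : ℕ) : ℂ) := by
    have h := congrFun hexp 1
    rw [Finset.sum_apply, hdeg, hd] at h
    rw [h]
    apply Finset.sum_congr rfl
    intro ψ _
    rw [Pi.smul_apply, smul_eq_mul, hm, hd, Nat.cast_mul]
  have h2 : charDegree (θ : K → ℂ) = ∑ ψ : IrrCharacter K, m ψ * charDegree (ψ : K → ℂ) := by
    exact_mod_cast h1
  have hmθ : 0 < m θ := by
    apply Nat.pos_of_ne_zero
    intro h
    apply hθ
    rw [hm, h, Nat.cast_zero]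
  rw [← Finset.add_sum_erase Finset.univ _ (Finset.mem_univ θ)] at h2
  have h3 : charDegree (θ : K → ℂ) ≤ m θ * charDegree (θ : K → ℂ) :=
    Nat.le_mul_of_pos_left _ hmθ
  obtain ⟨A, hA⟩ : ∃ A, A = m θ * charDegree (θ : K → ℂ) := ⟨_, rfl⟩
  obtain ⟨B, hB⟩ : ∃ B, B = ∑ ψ ∈ Finset.univ.erase θ, m ψ * charDegree (ψ : K → ℂ) := ⟨_, rfl⟩
  rw [← hA, ← hB] at h2
  rw [← hA] at h3
  have h4 : B = 0 := by omega
  have h5 : m θ = 1 := by
    have h6 : m θ * charDegree (θ : K → ℂ) = 1 * charDegree (θ : K → ℂ) := by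
      rw [← hA]; omega
    exact Nat.eq_of_mul_eq_mul_right (hpos θ) h6
  have h6 : ∀ ψ ∈ Finset.univ.erase θ, m ψ = 0 := by
    intro ψ hψ
    rw [hB] at h4
    have := (Finset.sum_eq_zero_iff.1 h4) ψ hψ
    rcases Nat.mul_eq_zero.1 this with h | h
    · exact h
    · exact absurd h (hpos ψ).ne'
  calc φ = ∑ ψ : IrrCharacter K, classInner φ (ψ : K → ℂ) • (ψ : K → ℂ) := hexp
    _ = classInner φ (θ : K → ℂ) • (θ : K → ℂ) +
        ∑ ψ ∈ Finset.univ.erase θ, classInner φ (ψ : K → ℂ) • (ψ : K → ℂ) :=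
      (Finset.add_sum_erase Finset.univ _ (Finset.mem_univ θ)).symm
    _ = (θ : K → ℂ) := by
      rw [Finset.sum_eq_zero, add_zero, hm, h5, Nat.cast_one, one_smul]
      intro ψ hψ
      rw [hm, h6 ψ hψ, Nat.cast_zero, zero_smul]

end Constituent

section Restrict

variable {G : Type u} [Group G] [Finite G] (N : Subgroup G) [hN : N.Normal]

/-- an irreducible character of degree prime to the index of `N ⊴ G` restricts irreducibly. -/
theorem restrict_irr_of_coprime (χ : IrrCharacter G)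
    (hcop : (charDegree (χ : G → ℂ)).Coprime N.index) :
    IsIrrCharacter N (fun n : N => (χ : G → ℂ) n) := by
  classical
  haveI := Fintype.ofFinite G
  haveI : Fintype N := Fintype.ofFinite N
  obtain ⟨θ, hθ⟩ := Helper7.exists_constituent_restrict N χ
  obtain ⟨b, d, hd, hbd, hb⟩ := DegreeRatio.main N (χ : G → ℂ) χ.2 (θ : N → ℂ) θ.2 hθ
  have hχc := Helper25.isCharacter_of_irr χ.2
  have hχ1 : charDegree (χ : G → ℂ) = b * d := by
    have := Helper25.char_one_eq_charDegree hχc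
    rw [hbd] at this
    exact_mod_cast this.symm
  have hb1 : b = 1 := by
    have h1 : b ∣ charDegree (χ : G → ℂ) := ⟨d, hχ1⟩
    have h2 := Nat.dvd_gcd h1 hb
    rw [Nat.Coprime.gcd_eq_one hcop] at h2
    exact Nat.dvd_one.1 h2
  have hfun : (fun n : N => (χ : G → ℂ) n) = (θ : N → ℂ) := by
    apply eq_of_constituent_of_degree_eq (IsCharacter.restrict hχc N) θ hθ
    show (χ : G → ℂ) ((1 : N) : G) = (θ : N → ℂ) 1
    rw [hd]
    have : ((1 : N) : G) = 1 := rfl
    rw [this, hbd, hb1, one_mul]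
  rw [hfun]
  exact θ.2

/-- an invariant irreducible character of a normal Hall subgroup extends. -/
theorem exists_ext_coprime (θ : IrrCharacter N)
    (hinv : ∀ (g : G) (n : N),
      (θ : N → ℂ) ⟨g * n * g⁻¹, hN.conj_mem (n : G) n.2 g⟩ = (θ : N → ℂ) n)
    (hcop : (Nat.card N).Coprime N.index) :
    ∃ χ : IrrCharacter G, ∀ n : N, (χ : G → ℂ) n = (θ : N → ℂ) n := by
  have hθc := Helper25.isCharacter_of_irr θ.2
  have hcop' : Nat.Coprime N.index (detOrder (θ : N → ℂ) * charDegree (θ : N → ℂ)) :=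
    Nat.Coprime.mul_right
      (Nat.Coprime.coprime_dvd_right (GlCyc.detOrder_dvd_card hθc) hcop.symm)
      (Nat.Coprime.coprime_dvd_right (Helper25.charDegree_dvd_card θ.2) hcop.symm)
  obtain ⟨χ, ⟨hχ, hχN, _⟩, _⟩ := Cfsg.Agent.S0867.result N (θ : N → ℂ) θ.2 hinv _
    (Helper25.char_one_eq_charDegree hθc) hcop'
  exact ⟨⟨χ, hχ⟩, hχN⟩

/-- the count of irreducible characters of degree prime to the order of the quotient. -/
theorem card_coprime_degree {Q : Type*} [Group Q] [Finite Q] (r : G →* Q)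
    (hr : Function.Surjective r) (hker : r.ker = N) (hcop : (Nat.card N).Coprime (Nat.card Q)) :
    Nat.card {χ : IrrCharacter G // (charDegree (χ : G → ℂ)).Coprime (Nat.card Q)} =
      Nat.card {θ : IrrCharacter N // ∀ (g : G) (n : N),
        (θ : N → ℂ) ⟨g * n * g⁻¹, hN.conj_mem (n : G) n.2 g⟩ = (θ : N → ℂ) n} *
      Nat.card (Q →* ℂˣ) := by
  classical
  haveI := Fintype.ofFinite G
  have hidx : N.index = Nat.card Q := by
    rw [← hker, Subgroup.index_ker, MonoidHom.range_eq_top.2 hr, Subgroup.card_top]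
  have hrN : ∀ n : N, r (n : G) = 1 := by
    intro n
    rw [← MonoidHom.mem_ker, hker]
    exact n.2
  have hE : ∀ θ : {θ : IrrCharacter N // ∀ (g : G) (n : N),
      (θ : N → ℂ) ⟨g * n * g⁻¹, hN.conj_mem (n : G) n.2 g⟩ = (θ : N → ℂ) n},
      ∃ χ : IrrCharacter G, ∀ n : N, (χ : G → ℂ) n = (θ.1 : N → ℂ) n :=
    fun θ => exists_ext_coprime N θ.1 θ.2 (by rw [hidx]; exact hcop)
  choose E hE using hE
  have hcopχ : ∀ (χ : IrrCharacter G) (θ : IrrCharacter N),
      (∀ n : N, (χ : G → ℂ) n = (θ : N → ℂ) n) →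
      (charDegree (χ : G → ℂ)).Coprime (Nat.card Q) := by
    intro χ θ h
    have h1 : charDegree (χ : G → ℂ) = charDegree (θ : N → ℂ) := by
      unfold charDegree
      rw [← h 1]
      rfl
    rw [h1]
    exact Nat.Coprime.coprime_dvd_left (Helper25.charDegree_dvd_card θ.2) hcop
  have htw : ∀ (lam : Q →* ℂˣ) (χ : IrrCharacter G),
      IsIrrCharacter G (fun g => (((lam.comp r) g : ℂˣ) : ℂ) * (χ : G → ℂ) g) :=
    fun lam χ => Helper11.isIrrCharacter_twist (lam.comp r) χ.2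
  have htwN : ∀ (lam : Q →* ℂˣ) (χ : IrrCharacter G) (n : N),
      ((lam (r (n : G)) : ℂˣ) : ℂ) * (χ : G → ℂ) n = (χ : G → ℂ) n := by
    intro lam χ n
    rw [hrN, map_one, Units.val_one, one_mul]
  obtain ⟨F, hF⟩ : ∃ F : {θ : IrrCharacter N // ∀ (g : G) (n : N),
      (θ : N → ℂ) ⟨g * n * g⁻¹, hN.conj_mem (n : G) n.2 g⟩ = (θ : N → ℂ) n} × (Q →* ℂˣ) →
      {χ : IrrCharacter G // (charDegree (χ : G → ℂ)).Coprime (Nat.card Q)},
      ∀ x g, (((F x).1 : IrrCharacter G) : G → ℂ) g =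
        ((x.2 (r g) : ℂˣ) : ℂ) * (E x.1 : G → ℂ) g :=
    ⟨fun x => ⟨⟨_, htw x.2 (E x.1)⟩, hcopχ ⟨_, htw x.2 (E x.1)⟩ x.1.1 (fun n => by
      show ((x.2 (r (n : G)) : ℂˣ) : ℂ) * (E x.1 : G → ℂ) n = _
      rw [htwN, hE])⟩, fun x g => rfl⟩
  symm
  rw [← Nat.card_prod]
  apply Nat.card_eq_of_bijective F
  constructor
  · rintro ⟨θ, lam⟩ ⟨θ', lam'⟩ heq
    have h0 : ∀ g : G, ((lam (r g) : ℂˣ) : ℂ) * (E θ : G → ℂ) g =
        ((lam' (r g) : ℂˣ) : ℂ) * (E θ' : G → ℂ) g := by
      intro g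
      rw [← hF (θ, lam) g, ← hF (θ', lam') g, heq]
    have hθ : θ = θ' := by
      apply Subtype.ext
      apply Subtype.ext
      funext n
      have := h0 n
      rw [htwN, htwN, hE, hE] at this
      exact this
    subst hθ
    have hlam : lam = lam' := by
      have hμ := Helper25.hom_eq_one_of_twist_eq N (E θ).2 (by
          have : (fun n : N => (E θ : G → ℂ) n) = (θ.1 : N → ℂ) := funext (hE θ)
          rw [this]; exact θ.1.2) ((lam / lam').comp r) (by
          intro n hn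
          rw [MonoidHom.comp_apply, hrN ⟨n, hn⟩, map_one]) (by
          funext g
          show ((((lam / lam').comp r) g : ℂˣ) : ℂ) * (E θ : G → ℂ) g = (E θ : G → ℂ) g
          have hb : (((lam' (r g)) : ℂˣ) : ℂ) ≠ 0 := Units.ne_zero _
          rw [MonoidHom.comp_apply, MonoidHom.div_apply, Units.val_div_eq_div_val,
            div_mul_eq_mul_div, h0 g, mul_div_cancel_left₀ _ hb])
      ext q
      obtain ⟨g, rfl⟩ := hr q
      have h1 : ((lam / lam').comp r) g = 1 := by rw [hμ]; rfl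
      rw [MonoidHom.comp_apply, MonoidHom.div_apply, div_eq_one] at h1
      rw [h1]
    rw [hlam]
  · rintro ⟨χ, hχ⟩
    have hirr : IsIrrCharacter N (fun n : N => (χ : G → ℂ) n) :=
      restrict_irr_of_coprime N χ (by rw [hidx]; exact hχ)
    have hinvθ : ∀ (g : G) (n : N),
        (χ : G → ℂ) ((⟨g * n * g⁻¹, hN.conj_mem (n : G) n.2 g⟩ : N) : G) = (χ : G → ℂ) n := by
      intro g n
      exact Helper25.isClassFunction_of_char (Helper25.isCharacter_of_irr χ.2) n g
    obtain ⟨θ, hθ⟩ : ∃ θ : {θ : IrrCharacter N // ∀ (g : G) (n : N),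
        (θ : N → ℂ) ⟨g * n * g⁻¹, hN.conj_mem (n : G) n.2 g⟩ = (θ : N → ℂ) n},
        (θ.1 : N → ℂ) = fun n : N => (χ : G → ℂ) n := ⟨⟨⟨_, hirr⟩, hinvθ⟩, rfl⟩
    obtain ⟨β, hβN, hβ⟩ := Helper25.exists_hom_of_two_extensions N hirr (E θ).2 χ.2
      (fun n => by rw [hE θ n, hθ]) (fun n => rfl)
    have hle : r.ker ≤ β.ker := by
      rw [hker]
      intro n hn
      rw [MonoidHom.mem_ker]
      exact hβN ⟨n, hn⟩
    refine ⟨(θ, r.liftOfSurjective hr ⟨β, hle⟩), ?_⟩
    apply Subtype.ext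
    apply Subtype.ext
    funext g
    rw [hF]
    have h1 : (r.liftOfSurjective hr ⟨β, hle⟩) (r g) = β g :=
      MonoidHom.liftOfRightInverse_comp_apply r _ (Function.rightInverse_surjInv hr) ⟨β, hle⟩ g
    have h2 := congrFun hβ g
    show (((r.liftOfSurjective hr ⟨β, hle⟩) (r g) : ℂˣ) : ℂ) * (E θ : G → ℂ) g = (χ : G → ℂ) g
    rw [h1, h2]
    rfl

end Restrict

section Retraction

variable {G : Type*} [Group G]

/-- the retraction of `G = K ⋊ H` onto `H`. -/
theorem exists_retraction (K H : Subgroup G) [K.Normal] (hKH : K ⊔ H = ⊤) (hdis : K ⊓ H = ⊥) :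
    ∃ r : G →* H, r.ker = K ∧ ∀ h : H, r (h : G) = h := by
  have hHK : H ≤ Subgroup.normalizer (K : Set G) := by
    rw [Subgroup.normalizer_eq_top]; exact le_top
  let q : G →* G ⧸ K := QuotientGroup.mk' K
  let f : H →* G ⧸ K := q.comp H.subtype
  have hinj : Function.Injective f := by
    rw [injective_iff_map_eq_one]
    intro h hh
    have h1 : (h : G) ∈ K := (QuotientGroup.eq_one_iff (h : G)).1 hh
    have h2 : (h : G) ∈ K ⊓ H := Subgroup.mem_inf.2 ⟨h1, h.2⟩
    rw [hdis, Subgroup.mem_bot] at h2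
    exact Subtype.ext h2
  have hsurj : Function.Surjective f := by
    intro y
    obtain ⟨g, rfl⟩ := QuotientGroup.mk'_surjective K y
    have hg : g ∈ K ⊔ H := by rw [hKH]; exact Subgroup.mem_top g
    obtain ⟨k, hk, h, hh, rfl⟩ := (Helper11.mem_sup_iff_exists_mul K H hHK g).1 hg
    refine ⟨⟨h, hh⟩, ?_⟩
    show q h = q (k * h)
    have hqk : q k = 1 := (QuotientGroup.eq_one_iff k).2 hk
    rw [map_mul, hqk, one_mul]
  let e : H ≃* G ⧸ K := MulEquiv.ofBijective f ⟨hinj, hsurj⟩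
  refine ⟨e.symm.toMonoidHom.comp q, ?_, ?_⟩
  · ext g
    rw [MonoidHom.mem_ker]
    show e.symm (q g) = 1 ↔ g ∈ K
    rw [map_eq_one_iff e.symm e.symm.injective]
    exact QuotientGroup.eq_one_iff g
  · intro h
    show e.symm (q h) = h
    rw [MulEquiv.symm_apply_eq]
    rfl

end Retraction

section Normalizer

variable {G : Type u} [Group G] [Finite G]

/-- `#Irr_{H'}(G) = #Irr_{H'}(N_G(H))` for `G = K H`, `K ⊴ G`, `(|K|, |H|) = 1`, `H` solvable. -/
theorem card_coprime_degree_normalizer (K H : Subgroup G) [hKn : K.Normal]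
    (hKH : K ⊔ H = ⊤) (hcop : (Nat.card K).Coprime (Nat.card H)) (hsolv : Group.IsSolvable H) :
    Nat.card {χ : IrrCharacter G // (charDegree (χ : G → ℂ)).Coprime (Nat.card H)} =
    Nat.card {η : IrrCharacter (Subgroup.normalizer (H : Set G)) //
      (charDegree (η : Subgroup.normalizer (H : Set G) → ℂ)).Coprime (Nat.card H)} := by
  classical
  haveI := Fintype.ofFinite G
  have hdis : K ⊓ H = ⊥ := disjoint_iff.mp (Subgroup.disjoint_of_coprime_natCard hcop)
  have hHK : H ≤ Subgroup.normalizer (K : Set G) := by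
    rw [Subgroup.normalizer_eq_top]; exact le_top
  obtain ⟨r, hrker, hrH⟩ := exists_retraction K H hKH hdis
  have hrsurj : Function.Surjective r := fun h => ⟨(h : G), hrH h⟩
  rw [card_coprime_degree K r hrsurj hrker hcop]
  obtain ⟨Nm, hNm⟩ : ∃ Nm : Subgroup G, Nm = Subgroup.normalizer (H : Set G) := ⟨_, rfl⟩
  rw [← hNm]
  have hHNm : H ≤ Nm := by rw [hNm]; exact Subgroup.le_normalizer
  have hcent : ∀ x : G, x ∈ K → x ∈ Nm → x ∈ Subgroup.centralizer (H : Set G) := by
    intro x hxK hxN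
    rw [hNm] at hxN
    exact Helper1.mem_centralizer_of_mem_normalizer hHK hdis hxK hxN
  have hcn : Subgroup.centralizer (H : Set G) ≤ Nm := by
    rw [hNm]; exact Subgroup.centralizer_le_normalizer _
  let e : ↥(K.subgroupOf Nm) ≃* ↥(K ⊓ Subgroup.centralizer (H : Set G)) :=
    { toFun := fun x => ⟨((x : Nm) : G), Subgroup.mem_inf.2 ⟨Subgroup.mem_subgroupOf.1 x.2,
        hcent _ (Subgroup.mem_subgroupOf.1 x.2) (x : Nm).2⟩⟩
      invFun := fun c => ⟨⟨(c : G), hcn (Subgroup.mem_inf.1 c.2).2⟩,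
        Subgroup.mem_subgroupOf.2 (Subgroup.mem_inf.1 c.2).1⟩
      left_inv := fun x => rfl
      right_inv := fun c => rfl
      map_mul' := fun x y => rfl }
  let rN : Nm →* H := r.comp Nm.subtype
  have hrNsurj : Function.Surjective rN := fun h => ⟨⟨(h : G), hHNm h.2⟩, hrH h⟩
  have hrNker : rN.ker = K.subgroupOf Nm := by
    ext x
    rw [MonoidHom.mem_ker, Subgroup.mem_subgroupOf, ← hrker, MonoidHom.mem_ker]
    rfl
  have hcopN : (Nat.card (K.subgroupOf Nm)).Coprime (Nat.card H) := by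
    rw [Nat.card_congr e.toEquiv]
    exact Nat.Coprime.coprime_dvd_left (Subgroup.card_dvd_of_le inf_le_left) hcop
  rw [card_coprime_degree (K.subgroupOf Nm) rN hrNsurj hrNker hcopN]
  congr 1
  -- the `G`-side count
  have ha : Nat.card {θ : IrrCharacter K // ∀ (g : G) (n : K),
      (θ : K → ℂ) ⟨g * n * g⁻¹, hKn.conj_mem (n : G) n.2 g⟩ = (θ : K → ℂ) n} =
      Nat.card (IrrCharacter ↥(K ⊓ Subgroup.centralizer (H : Set G))) := by
    obtain ⟨π, hπ⟩ := GlSolv.glS_solvable (Nat.card H) H rfl hsolv K hHK hcop _ rfl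
    rw [← GlSolv.card_inv_irr hπ]
    apply Nat.card_congr
    apply Equiv.subtypeEquivRight
    intro θ
    constructor
    · intro hinv s hs g g' hg
      have : g' = ⟨s * g * s⁻¹, hKn.conj_mem (g : G) g.2 s⟩ := Subtype.ext hg
      rw [this]
      exact hinv s g
    · intro hinv g n
      have hle : K ⊔ H ≤ invSubgroup K (θ : K → ℂ) :=
        sup_le (le_invSubgroup
          (Helper25.isClassFunction_of_char (Helper25.isCharacter_of_irr θ.2)))
          (fun s hs => ⟨hHK hs, hinv s hs⟩)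
      have hg : g ∈ invSubgroup K (θ : K → ℂ) := hle (by rw [hKH]; exact Subgroup.mem_top g)
      exact hg.2 n _ rfl
  -- the `N`-side count
  have hall : ∀ (β : IrrCharacter ↥(K.subgroupOf Nm)) (y : Nm) (n : ↥(K.subgroupOf Nm)),
      (β : ↥(K.subgroupOf Nm) → ℂ) ⟨y * n * y⁻¹,
        (inferInstance : (K.subgroupOf Nm).Normal).conj_mem (n : Nm) n.2 y⟩ =
      (β : ↥(K.subgroupOf Nm) → ℂ) n := by
    intro β y n
    have hy : (y : G) ∈ K ⊔ H := by rw [hKH]; exact Subgroup.mem_top _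
    obtain ⟨k, hk, h, hh, hykh⟩ := (Helper11.mem_sup_iff_exists_mul K H hHK (y : G)).1 hy
    have hhN : h ∈ Nm := hHNm hh
    have hkN : k ∈ Nm := by
      have : k = (y : G) * h⁻¹ := by rw [hykh]; group
      rw [this]; exact mul_mem y.2 (inv_mem hhN)
    obtain ⟨k', hk'⟩ : ∃ k' : ↥(K.subgroupOf Nm), ((k' : Nm) : G) = k :=
      ⟨⟨⟨k, hkN⟩, Subgroup.mem_subgroupOf.2 hk⟩, rfl⟩
    have hnc : ((n : Nm) : G) ∈ Subgroup.centralizer (H : Set G) :=
      hcent _ (Subgroup.mem_subgroupOf.1 n.2) (n : Nm).2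
    have hcomm : h * ((n : Nm) : G) = ((n : Nm) : G) * h :=
      (Subgroup.mem_centralizer_iff.1 hnc) h hh
    have heq : (⟨y * n * y⁻¹,
        (inferInstance : (K.subgroupOf Nm).Normal).conj_mem (n : Nm) n.2 y⟩ :
          ↥(K.subgroupOf Nm)) = k' * n * k'⁻¹ := by
      apply Subtype.ext
      apply Subtype.ext
      show (y : G) * ((n : Nm) : G) * (y : G)⁻¹ =
        ((k' : Nm) : G) * ((n : Nm) : G) * ((k' : Nm) : G)⁻¹
      rw [hykh, hk']
      calc k * h * ((n : Nm) : G) * (k * h)⁻¹ = k * (h * ((n : Nm) : G)) * h⁻¹ * k⁻¹ := by group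
        _ = k * (((n : Nm) : G) * h) * h⁻¹ * k⁻¹ := by rw [hcomm]
        _ = k * ((n : Nm) : G) * k⁻¹ := by group
    rw [heq]
    exact Helper25.isClassFunction_of_char (Helper25.isCharacter_of_irr β.2) n k'
  have hb : Nat.card {β : IrrCharacter ↥(K.subgroupOf Nm) // ∀ (y : Nm) (n : ↥(K.subgroupOf Nm)),
      (β : ↥(K.subgroupOf Nm) → ℂ) ⟨y * n * y⁻¹,
        (inferInstance : (K.subgroupOf Nm).Normal).conj_mem (n : Nm) n.2 y⟩ =
      (β : ↥(K.subgroupOf Nm) → ℂ) n} = Nat.card (IrrCharacter ↥(K.subgroupOf Nm)) :=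
    Nat.card_congr (Equiv.subtypeUnivEquiv hall)
  have hcardIrr : Nat.card (IrrCharacter ↥(K.subgroupOf Nm)) =
      Nat.card (IrrCharacter ↥(K ⊓ Subgroup.centralizer (H : Set G))) := by
    apply Nat.card_congr
    exact
      { toFun := fun β => ⟨(β : ↥(K.subgroupOf Nm) → ℂ) ∘ e.symm,
          Helper11.isIrrCharacter_comp_equiv e.symm β.2⟩
        invFun := fun γ => ⟨(γ : ↥(K ⊓ Subgroup.centralizer (H : Set G)) → ℂ) ∘ e,
          Helper11.isIrrCharacter_comp_equiv e γ.2⟩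
        left_inv := fun β => Subtype.ext (funext fun x =>
          congrArg (β : ↥(K.subgroupOf Nm) → ℂ) (e.symm_apply_apply x))
        right_inv := fun γ => Subtype.ext (funext fun c =>
          congrArg (γ : ↥(K ⊓ Subgroup.centralizer (H : Set G)) → ℂ) (e.apply_symm_apply c)) }
  exact ha.trans (hb.trans hcardIrr).symm

end Normalizer

end Cfsg.Agent.Lib.Helper2.CopDeg
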