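import Mathlib
import Cfsg.Prelude
import Cfsg.Agent.Lib.Helper9.Signalizer
import Cfsg.Agent.Lib.Helper1.Basic
import Cfsg.Agent.Lib.Helper13.PNilpotent
import Cfsg.Agent.Lib.Helper13.Frobenius
import Cfsg.Agent.Lib.Helper16.SylowInf
import Cfsg.Agent.Lib.Lead.SylowSplit
import Cfsg.Agent.Lib.Helper1.AbelianSylowTransfer

/-!
# Cyclic Sylow `p`-subgroup and abelian `p'`-subgroups (helper2), part A

Internal (subgroup-level) forms of "has a normal `p`-complement" and "has a normal Sylow
`p`-subgroup", and cardinality lemmas about joins of subgroups.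
-/

set_option autoImplicit false
set_option linter.unusedSectionVars false
set_option linter.unusedVariables false

open Subgroup
open scoped commutatorElement

namespace Cfsg.Agent.Lib.Helper2.CycSyl

variable {G : Type*} [Group G] [Finite G]

/-- if `Q` normalizes `K` (or conversely), both lie in `H`, and `|Q|` is prime to `|H : K|`, then
`Q ≤ K`. -/
theorem le_of_coprime_of_le_normalizer {K Q H : Subgroup G} (hK : K ≤ H) (hQ : Q ≤ H)
    (hn : Q ≤ normalizer (K : Set G) ∨ K ≤ normalizer (Q : Set G)) {m : ℕ}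
    (hH : Nat.card H = Nat.card K * m) (hcop : (Nat.card Q).Coprime m) : Q ≤ K := by
  have hdvd : Nat.card ↥(K ⊔ Q) ∣ Nat.card K * Nat.card Q := by
    rcases hn with hn | hn
    · exact Cfsg.Agent.Lib.Helper9.card_sup_dvd_of_le_normalizer hn
    · rw [sup_comm, mul_comm]; exact Cfsg.Agent.Lib.Helper9.card_sup_dvd_of_le_normalizer hn
  have hKX : Nat.card K ∣ Nat.card ↥(K ⊔ Q) := Subgroup.card_dvd_of_le le_sup_left
  obtain ⟨c, hc⟩ := hKX
  have hXH : Nat.card ↥(K ⊔ Q) ∣ Nat.card H := Subgroup.card_dvd_of_le (sup_le hK hQ)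
  have hKpos : 0 < Nat.card K := Nat.card_pos
  have hc1 : c ∣ Nat.card Q := by
    rw [hc] at hdvd; exact Nat.dvd_of_mul_dvd_mul_left hKpos hdvd
  have hc2 : c ∣ m := by
    rw [hc, hH] at hXH; exact Nat.dvd_of_mul_dvd_mul_left hKpos hXH
  have hc3 : c = 1 := Nat.eq_one_of_dvd_coprimes hcop hc1 hc2
  have hKQ : K = K ⊔ Q :=
    Subgroup.eq_of_le_of_card_ge le_sup_left (by rw [hc, hc3, mul_one])
  rw [hKQ]; exact le_sup_right

/-- two subgroups of `H` of coprime orders whose orders multiply to `|H|` generate `H`. -/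
theorem sup_eq_of_card_mul {A B H : Subgroup G} (hA : A ≤ H) (hB : B ≤ H)
    (hcop : (Nat.card A).Coprime (Nat.card B)) (hH : Nat.card H = Nat.card A * Nat.card B) :
    A ⊔ B = H := by
  have h1 : Nat.card A ∣ Nat.card ↥(A ⊔ B) := Subgroup.card_dvd_of_le le_sup_left
  have h2 : Nat.card B ∣ Nat.card ↥(A ⊔ B) := Subgroup.card_dvd_of_le le_sup_right
  have h3 : Nat.card A * Nat.card B ∣ Nat.card ↥(A ⊔ B) := hcop.mul_dvd_of_dvd_of_dvd h1 h2
  have h4 : Nat.card H ≤ Nat.card ↥(A ⊔ B) := by
    rw [hH]; exact Nat.le_of_dvd Nat.card_pos h3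
  exact Subgroup.eq_of_le_of_card_ge (sup_le hA hB) h4

omit [Finite G] in
/-- (copied from helper1, `BG151.commute_of_trivial_on_omega`, to keep the import closure small) an element `y` of order prime to `p` normalizing an abelian `p`-subgroup `T` and centralizing
all elements `z` of `T` with `z ^ p = 1` centralizes `T`. -/
theorem commute_of_trivial_on_omega {p : ℕ} [Fact p.Prime] {T : Subgroup G} {y : G}
    (hTp : IsPGroup p T) (hTc : ∀ a ∈ T, ∀ b ∈ T, a * b = b * a)
    (hy : y ∈ Subgroup.normalizer (T : Set G)) (hcop : (orderOf y).Coprime p)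
    (hΩ : ∀ z ∈ T, z ^ p = 1 → y * z = z * y) : ∀ t ∈ T, y * t = t * y := by
  have key : ∀ k : ℕ, ∀ t ∈ T, t ^ (p ^ k) = 1 → y * t = t * y := by
    intro k
    induction k with
    | zero =>
      intro t ht h
      rw [pow_zero, pow_one] at h
      rw [h, mul_one, one_mul]
    | succ k ih =>
      intro t ht h
      have htp : t ^ p ∈ T := T.pow_mem ht p
      have h1 : y * t ^ p = t ^ p * y := by
        apply ih _ htp
        rw [← pow_mul, ← pow_succ']
        exact h
      have hyt : y * t * y⁻¹ ∈ T := (Subgroup.mem_normalizer_iff.mp hy t).mp ht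
      set z := t⁻¹ * (y * t * y⁻¹) with hz
      have hzT : z ∈ T := T.mul_mem (T.inv_mem ht) hyt
      have hzp : z ^ p = 1 := by
        have hc : Commute t⁻¹ (y * t * y⁻¹) := hTc _ (T.inv_mem ht) _ hyt
        rw [hz, hc.mul_pow, conj_pow, inv_pow]
        have : y * t ^ p * y⁻¹ = t ^ p := by rw [h1]; group
        rw [this, inv_mul_cancel]
      have hyz : y * z = z * y := hΩ z hzT hzp
      have hconj : y * t * y⁻¹ = t * z := by rw [hz]; group
      have hpow : ∀ j : ℕ, y ^ j * t * (y ^ j)⁻¹ = t * z ^ j := by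
        intro j
        induction j with
        | zero => simp
        | succ j ihj =>
          have hyzj : y * z ^ j = z ^ j * y := by
            have : Commute y (z ^ j) := (show Commute y z from hyz).pow_right j
            exact this
          calc y ^ (j + 1) * t * (y ^ (j + 1))⁻¹
              = y * (y ^ j * t * (y ^ j)⁻¹) * y⁻¹ := by rw [pow_succ']; group
            _ = y * (t * z ^ j) * y⁻¹ := by rw [ihj]
            _ = (y * t * y⁻¹) * (y * z ^ j * y⁻¹) := by group
            _ = (t * z) * (z ^ j) := by rw [hconj, hyzj]; group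
            _ = t * z ^ (j + 1) := by rw [pow_succ']; group
      have h2 := hpow (orderOf y)
      rw [pow_orderOf_eq_one, one_mul, inv_one, mul_one] at h2
      have h3 : z ^ orderOf y = 1 := by
        have : t * z ^ orderOf y = t * 1 := by rw [mul_one]; exact h2.symm
        exact mul_left_cancel this
      have h4 : orderOf z ∣ Nat.gcd (orderOf y) p :=
        Nat.dvd_gcd (orderOf_dvd_of_pow_eq_one h3) (orderOf_dvd_of_pow_eq_one hzp)
      rw [hcop.gcd_eq_one, Nat.dvd_one, orderOf_eq_one_iff] at h4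
      rw [h4, mul_one] at hconj
      calc y * t = (y * t * y⁻¹) * y := by group
        _ = t * y := by rw [hconj]
  intro t ht
  obtain ⟨k, hk⟩ := hTp ⟨t, ht⟩
  apply key k t ht
  have := congrArg Subtype.val hk
  simpa using this

variable (p : ℕ) [Fact p.Prime]

/-- `H` has a normal `p`-complement (internal form). -/
def PNil (H : Subgroup G) : Prop :=
  ∃ K : Subgroup G, K ≤ H ∧ H ≤ normalizer (K : Set G) ∧ (Nat.card K).Coprime p ∧
    ∃ k : ℕ, Nat.card H = Nat.card K * p ^ k

/-- `H` has a normal Sylow `p`-subgroup (internal form). -/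
def PClo (H : Subgroup G) : Prop :=
  ∃ S : Subgroup G, S ≤ H ∧ H ≤ normalizer (S : Set G) ∧ IsPGroup p S ∧
    ∃ m : ℕ, Nat.card H = Nat.card S * m ∧ m.Coprime p

/-- the hypotheses of the theorem, in subgroup form. -/
structure Hyp (G : Type*) [Group G] : Prop where
  cyc : ∀ S : Subgroup G, IsPGroup p S → IsCyclic S
  ab : ∀ H : Subgroup G, (Nat.card H).Coprime p → ∀ a ∈ H, ∀ b ∈ H, a * b = b * a

variable {p}

/-- a Sylow `p`-subgroup of `H`, as a subgroup of `G`. -/
theorem exists_sylow_le (H : Subgroup G) :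
    ∃ S : Subgroup G, S ≤ H ∧ IsPGroup p S ∧ ∃ m : ℕ, Nat.card H = Nat.card S * m ∧ m.Coprime p := by
  have hp : p.Prime := Fact.out
  obtain ⟨S₀⟩ : Nonempty (Sylow p H) := inferInstance
  refine ⟨(S₀ : Subgroup H).map H.subtype, Subgroup.map_subtype_le _, ?_, (S₀ : Subgroup H).index, ?_, ?_⟩
  · exact S₀.2.map H.subtype
  · rw [Nat.card_congr ((S₀ : Subgroup H).equivMapOfInjective H.subtype H.subtype_injective).symm.toEquiv]
    exact (Subgroup.card_mul_index (S₀ : Subgroup H)).symm
  · exact ((Nat.Prime.coprime_iff_not_dvd hp).mpr S₀.not_dvd_index).symm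

omit [Finite G] in
theorem le_normalizer_map_subtype (H : Subgroup G) (K : Subgroup H) (hKn : K.Normal) :
    H ≤ normalizer ((K.map H.subtype : Subgroup G) : Set G) := by
  intro x hx
  rw [Subgroup.mem_normalizer_iff]
  intro y
  constructor
  · rintro ⟨z, hz, rfl⟩
    exact ⟨⟨x, hx⟩ * z * ⟨x, hx⟩⁻¹, hKn.conj_mem z hz ⟨x, hx⟩, rfl⟩
  · rintro ⟨z, hz, hzy⟩
    refine ⟨⟨x, hx⟩⁻¹ * z * ⟨x, hx⟩, ?_, ?_⟩
    · have := hKn.conj_mem z hz (⟨x, hx⟩⁻¹ : H)
      simpa using this
    · have : (z : G) = x * y * x⁻¹ := hzy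
      simp [this, mul_assoc]

theorem pNil_of_hasNormalPComplement (H : Subgroup G) (h : Cfsg.HasNormalPComplement p H) :
    PNil p H := by
  obtain ⟨K, hKn, hcop, k, hk⟩ := Cfsg.Agent.Lib.Helper13.hasNormalPComplement_iff_exists.mp h
  refine ⟨K.map H.subtype, Subgroup.map_subtype_le _, le_normalizer_map_subtype H K hKn, ?_, k, ?_⟩
  · rwa [Nat.card_congr (K.equivMapOfInjective H.subtype H.subtype_injective).symm.toEquiv]
  · rw [Nat.card_congr (K.equivMapOfInjective H.subtype H.subtype_injective).symm.toEquiv, ← hk]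
    exact (Subgroup.card_mul_index K).symm

theorem pClo_of_normal_sylow (H : Subgroup G) (S₀ : Sylow p H) (hS : (S₀ : Subgroup H).Normal) :
    PClo p H := by
  have hp : p.Prime := Fact.out
  refine ⟨(S₀ : Subgroup H).map H.subtype, Subgroup.map_subtype_le _,
    le_normalizer_map_subtype H _ hS, S₀.2.map H.subtype,
    (S₀ : Subgroup H).index, ?_, ?_⟩
  · rw [Nat.card_congr ((S₀ : Subgroup H).equivMapOfInjective H.subtype H.subtype_injective).symm.toEquiv]
    exact (Subgroup.card_mul_index (S₀ : Subgroup H)).symm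
  · exact ((Nat.Prime.coprime_iff_not_dvd hp).mpr S₀.not_dvd_index).symm

end Cfsg.Agent.Lib.Helper2.CycSyl
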