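import Mathlib
import Cfsg.Prelude
import Cfsg.Agent.Lib.Helper2.CycSylA
import Cfsg.Agent.Lib.Helper1.FpfCyclic
import Cfsg.Agent.Lib.Helper7.SylowBasic

/-!
# Cyclic Sylow `p`-subgroup and abelian `p'`-subgroups (helper2), part B

The minimal counterexample: no proper normal subgroups of `p`-power or `p'` index; every Sylow
`q`-subgroup (`q ≠ p`) has order `≡ 1 (mod p)`.
-/

set_option autoImplicit false
set_option linter.unusedSectionVars false
set_option linter.unusedVariables false

open Subgroup Pointwise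
open scoped commutatorElement

namespace Cfsg.Agent.Lib.Helper2.CycSyl

variable {G : Type*} [Group G] [Finite G] {p : ℕ} [Fact p.Prime]

theorem hasNormalPComplement_of_pNil_top (h : PNil p (⊤ : Subgroup G)) :
    Cfsg.HasNormalPComplement p G := by
  obtain ⟨K, -, hKn, hcop, k, hk⟩ := h
  rw [Cfsg.Agent.Lib.Helper13.hasNormalPComplement_iff_exists]
  refine ⟨K, normalizer_eq_top_iff.mp (top_le_iff.mp hKn), hcop, k, ?_⟩
  have h1 := Subgroup.card_mul_index K
  rw [Subgroup.card_top] at hk
  rw [hk] at h1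
  exact Nat.eq_of_mul_eq_mul_left Nat.card_pos h1

theorem pNil_top_of_hasNormalPComplement (h : Cfsg.HasNormalPComplement p G) :
    PNil p (⊤ : Subgroup G) := by
  obtain ⟨K, hKn, hcop, k, hk⟩ := Cfsg.Agent.Lib.Helper13.hasNormalPComplement_iff_exists.mp h
  refine ⟨K, le_top, ?_, hcop, k, ?_⟩
  · rw [normalizer_eq_top_iff.mpr hKn]
  · rw [Subgroup.card_top, ← hk]; exact (Subgroup.card_mul_index K).symm

theorem pClo_top_of_normal (P : Sylow p G) (h : (P : Subgroup G).Normal) :
    PClo p (⊤ : Subgroup G) := by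
  have hp : p.Prime := Fact.out
  refine ⟨P, le_top, ?_, P.2, (P : Subgroup G).index, ?_, ?_⟩
  · rw [normalizer_eq_top_iff.mpr h]
  · rw [Subgroup.card_top]; exact (Subgroup.card_mul_index (P : Subgroup G)).symm
  · exact ((Nat.Prime.coprime_iff_not_dvd hp).mpr P.not_dvd_index).symm

theorem normal_of_pClo_top (h : PClo p (⊤ : Subgroup G)) (P : Sylow p G) :
    (P : Subgroup G).Normal := by
  have hp : p.Prime := Fact.out
  obtain ⟨S, -, hSn, hS, m, hm, hcop⟩ := h
  have hSn' : S.Normal := normalizer_eq_top_iff.mp (top_le_iff.mp hSn)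
  have hPS : (P : Subgroup G) ≤ S := by
    apply le_of_coprime_of_le_normalizer (H := ⊤) le_top le_top
      (Or.inl (by rw [normalizer_eq_top_iff.mpr hSn']; exact le_top)) hm
    obtain ⟨n, hn⟩ := IsPGroup.iff_card.mp P.2
    rw [hn]
    exact Nat.Coprime.pow_left n hcop.symm
  have : S = P := P.is_maximal' hS hPS
  rw [← this]; exact hSn'

/-- uniqueness of the `p`-part. -/
theorem pow_eq_of_mul_eq_mul {q a b n k : ℕ} (hq : q.Prime) (ha : a.Coprime q) (hb : b.Coprime q)
    (h : q ^ n * a = q ^ k * b) : n = k ∧ a = b := by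
  have ha0 : a ≠ 0 := by
    rintro rfl; rw [Nat.coprime_zero_left] at ha; exact hq.one_lt.ne' ha
  have hb0 : b ≠ 0 := by
    rintro rfl; rw [Nat.coprime_zero_left] at hb; exact hq.one_lt.ne' hb
  have hqa : ¬ q ∣ a := fun hd => hq.one_lt.ne' (Nat.eq_one_of_dvd_coprimes ha.symm (dvd_refl q) hd |>.symm ▸ rfl)
  have hqb : ¬ q ∣ b := fun hd => hq.one_lt.ne' (Nat.eq_one_of_dvd_coprimes hb.symm (dvd_refl q) hd |>.symm ▸ rfl)
  have h1 : (q ^ n * a).factorization q = n := by
    rw [Nat.factorization_mul (pow_ne_zero _ hq.ne_zero) ha0, Finsupp.add_apply,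
      hq.factorization_pow, Finsupp.single_eq_same, Nat.factorization_eq_zero_of_not_dvd hqa, add_zero]
  have h2 : (q ^ k * b).factorization q = k := by
    rw [Nat.factorization_mul (pow_ne_zero _ hq.ne_zero) hb0, Finsupp.add_apply,
      hq.factorization_pow, Finsupp.single_eq_same, Nat.factorization_eq_zero_of_not_dvd hqb, add_zero]
  have hnk : n = k := by rw [← h1, ← h2, h]
  refine ⟨hnk, ?_⟩
  rw [hnk] at h
  exact Nat.eq_of_mul_eq_mul_left (pow_pos hq.pos k) h

/-- the minimal counterexample. -/
structure MC (p : ℕ) [Fact p.Prime] (G : Type*) [Group G] [Finite G] : Prop where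
  hyp : Hyp p G
  ih : ∀ H : Subgroup G, H ≠ ⊤ → PNil p H ∨ PClo p H
  nn : ¬ PNil p (⊤ : Subgroup G)
  nc : ¬ PClo p (⊤ : Subgroup G)

namespace MC

variable (mc : MC p G)
include mc

theorem sylow_comm (P : Sylow p G) : ∀ a ∈ (P : Subgroup G), ∀ b ∈ (P : Subgroup G), a * b = b * a := by
  intro a ha b hb
  have hcyc : IsCyclic (P : Subgroup G) := mc.hyp.cyc P P.2
  obtain ⟨g, hg⟩ := hcyc.exists_generator
  obtain ⟨i, hi⟩ := hg ⟨a, ha⟩
  obtain ⟨j, hj⟩ := hg ⟨b, hb⟩
  have := (Commute.zpow_zpow_self g i j).eq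
  simp only [] at hi hj
  rw [hi, hj] at this
  exact congrArg Subtype.val this

theorem sylow_le_commutator (P : Sylow p G) :
    (P : Subgroup G) ≤ ⁅(P : Subgroup G), normalizer ((P : Subgroup G) : Set G)⁆ := by
  have hcyc : IsCyclic (P : Subgroup G) := mc.hyp.cyc P P.2
  rcases Cfsg.Agent.Lib.Lead.cyclic_sylow_dichotomy P hcyc with h | h
  · exfalso
    rw [commutator_eq_bot_iff_le_centralizer, le_centralizer_iff] at h
    apply mc.nn
    apply pNil_top_of_hasNormalPComplement
    exact ⟨P, _, inferInstance, MonoidHom.ker_transferSylow_isComplement' P h⟩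
  · exact h

/-- a `p`-element of `N_G(P)` lies in `P`. -/
theorem mem_sylow_of_mem_normalizer (P : Sylow p G) {t : G}
    (ht : t ∈ normalizer ((P : Subgroup G) : Set G)) {j : ℕ} (htj : orderOf t = p ^ j) :
    t ∈ (P : Subgroup G) := by
  have hp : p.Prime := Fact.out
  have h1 : zpowers t ≤ (P : Subgroup G) := by
    apply le_of_coprime_of_le_normalizer (H := normalizer ((P : Subgroup G) : Set G))
      le_normalizer (by rwa [zpowers_le]) (Or.inl (by rwa [zpowers_le]))
      (m := (P : Subgroup G).relIndex (normalizer ((P : Subgroup G) : Set G)))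
    · rw [mul_comm]
      exact (Cfsg.Agent.Lib.Helper16.relIndex_mul_card_of_le le_normalizer).symm
    · rw [Nat.card_zpowers, htj]
      apply Nat.Coprime.pow_left
      rw [Nat.Prime.coprime_iff_not_dvd hp]
      intro hdvd
      exact P.not_dvd_index (hdvd.trans (relIndex_dvd_index_of_le le_normalizer))
  exact h1 (mem_zpowers t)

/-- (II') a normal subgroup of `p`-power index is everything. -/
theorem eq_top_of_index_pow (H : Subgroup G) [hH : H.Normal] {k : ℕ} (hk : H.index = p ^ k) :
    H = ⊤ := by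
  have hp : p.Prime := Fact.out
  obtain ⟨P⟩ : Nonempty (Sylow p G) := inferInstance
  have hPH : (P : Subgroup G) ≤ H := by
    refine (mc.sylow_le_commutator P).trans ?_
    rw [commutator_le]
    intro a ha n hn
    obtain ⟨t, u, ht, hu, hnt, ⟨j, htj⟩, hucop⟩ := Cfsg.Agent.Lib.Helper16.exists_p_decomp' p n
    have hzn : zpowers n ≤ normalizer ((P : Subgroup G) : Set G) := by rwa [zpowers_le]
    have htP : t ∈ (P : Subgroup G) := mc.mem_sylow_of_mem_normalizer P (hzn ht) htj
    have huH : u ∈ H := Cfsg.Agent.Lib.Helper13.mem_of_coprime_of_index_pow H hk u hucop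
    rw [← QuotientGroup.eq_one_iff, ← QuotientGroup.mk'_apply, map_commutatorElement, hnt, map_mul]
    have h1 : (QuotientGroup.mk' H) u = 1 := by
      rw [QuotientGroup.mk'_apply, QuotientGroup.eq_one_iff]; exact huH
    rw [h1, mul_one, commutatorElement_eq_one_iff_commute]
    exact (show Commute a t from mc.sylow_comm P a ha t htP).map (QuotientGroup.mk' H)
  have h1 : H.index ∣ (P : Subgroup G).index := Subgroup.index_dvd_of_le hPH
  rw [hk] at h1
  rcases Nat.eq_zero_or_pos k with h0 | h0
  · rw [h0, pow_zero] at hk; exact Subgroup.index_eq_one.mp hk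
  · exfalso
    exact P.not_dvd_index ((dvd_pow_self p h0.ne').trans h1)

/-- a normal `p'`-subgroup is central. -/
theorem le_center_of_normal_coprime (K : Subgroup G) [hKn : K.Normal] (hK : (Nat.card K).Coprime p) :
    K ≤ center G := by
  have hp : p.Prime := Fact.out
  have hidx : ∀ {d : ℕ}, d.Prime → d ∣ (centralizer (K : Set G)).index → d = p := by
    intro r hr hrd
    by_contra hne
    haveI : Fact r.Prime := ⟨hr⟩
    obtain ⟨R⟩ : Nonempty (Sylow r G) := inferInstance
    have hRC : (R : Subgroup G) ≤ centralizer (K : Set G) := by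
      intro a ha
      rw [mem_centralizer_iff]
      intro b hb
      have hcard : (Nat.card ↥(K ⊔ (R : Subgroup G))).Coprime p := by
        have h1 := Cfsg.Agent.Lib.Helper9.card_sup_dvd_of_le_normalizer (X := K) (Y := (R : Subgroup G))
          (by rw [normalizer_eq_top_iff.mpr hKn]; exact le_top)
        apply Nat.Coprime.coprime_dvd_left h1
        apply Nat.Coprime.mul_left hK
        obtain ⟨n, hn⟩ := IsPGroup.iff_card.mp R.2
        rw [hn]
        apply Nat.Coprime.pow_left
        rw [Nat.coprime_primes hr hp]; exact hne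
      exact mc.hyp.ab _ hcard b (le_sup_left (a := K) hb) a (le_sup_right (b := (R : Subgroup G)) ha)
    exact R.not_dvd_index (hrd.trans (Subgroup.index_dvd_of_le hRC))
  have hk := Nat.eq_prime_pow_of_unique_prime_dvd
    (Subgroup.index_ne_zero_of_finite (H := centralizer (K : Set G))) hidx
  have htop := mc.eq_top_of_index_pow (centralizer (K : Set G)) hk
  intro x hx
  rw [mem_center_iff]
  intro g
  have hg : g ∈ centralizer (K : Set G) := htop ▸ mem_top g
  exact (mem_centralizer_iff.mp hg x hx).symm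

/-- (I) there is no proper normal subgroup of index prime to `p`. -/
theorem false_of_index_coprime (H : Subgroup G) [hH : H.Normal] (hne : H ≠ ⊤)
    (hcop : H.index.Coprime p) : False := by
  have hp : p.Prime := Fact.out
  obtain ⟨P⟩ : Nonempty (Sylow p G) := inferInstance
  obtain ⟨n, hn⟩ := IsPGroup.iff_card.mp P.2
  have hcopP : ∀ {m : ℕ}, m.Coprime p → (Nat.card (P : Subgroup G)).Coprime m := by
    intro m hm; rw [hn]; exact Nat.Coprime.pow_left n hm.symm
  have hPH : (P : Subgroup G) ≤ H :=
    le_of_coprime_of_le_normalizer (K := H) (Q := P) (H := ⊤) le_top le_top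
      (Or.inl (by rw [normalizer_eq_top_iff.mpr hH]; exact le_top)) (m := H.index)
      (by rw [Subgroup.card_top]; exact (Subgroup.card_mul_index H).symm) (hcopP hcop)
  have hrel : ((P : Subgroup G).relIndex H).Coprime p := by
    rw [Nat.coprime_comm, Nat.Prime.coprime_iff_not_dvd hp]
    intro hdvd
    exact P.not_dvd_index (hdvd.trans (relIndex_dvd_index_of_le hPH))
  have hcardH : Nat.card H = Nat.card (P : Subgroup G) * (P : Subgroup G).relIndex H := by
    rw [mul_comm]; exact (Cfsg.Agent.Lib.Helper16.relIndex_mul_card_of_le hPH).symm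
  have key : H ≤ normalizer ((P : Subgroup G) : Set G) → False := by
    intro hHn
    apply mc.nc
    apply pClo_top_of_normal P
    constructor
    intro a ha g
    have hQ : MulAut.conj g • (P : Subgroup G) ≤ H := by
      rw [Cfsg.Agent.Lib.Helper1.conj_smul_le_iff]
      intro h hh; exact hH.conj_mem h (hPH hh) g
    have hQP : MulAut.conj g • (P : Subgroup G) ≤ P := by
      apply le_of_coprime_of_le_normalizer (H := H) hPH hQ (Or.inl (hQ.trans hHn)) hcardH
      rw [Cfsg.Agent.Lib.Helper1.card_conj_smul]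
      exact hcopP hrel
    apply hQP
    rw [Cfsg.Agent.Lib.Helper1.mem_conj_smul]
    have : g⁻¹ * (g * a * g⁻¹) * g = a := by group
    rw [this]; exact ha
  rcases mc.ih H hne with ⟨K, hKH, hHK, hKcop, k, hk⟩ | ⟨S, hSH, hHS, hS, m, hm, hmcop⟩
  · -- normal p-complement `K` of `H`
    have hKn : K.Normal := by
      constructor
      intro a ha g
      have hQ : MulAut.conj g • K ≤ H := by
        rw [Cfsg.Agent.Lib.Helper1.conj_smul_le_iff]
        intro h hh; exact hH.conj_mem h (hKH hh) g
      have hQK : MulAut.conj g • K ≤ K := by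
        apply le_of_coprime_of_le_normalizer (H := H) hKH hQ (Or.inl (hQ.trans hHK)) hk
        rw [Cfsg.Agent.Lib.Helper1.card_conj_smul]
        exact Nat.Coprime.pow_right k hKcop
      apply hQK
      rw [Cfsg.Agent.Lib.Helper1.mem_conj_smul]
      have : g⁻¹ * (g * a * g⁻¹) * g = a := by group
      rw [this]; exact ha
    have hKZ : K ≤ center G := mc.le_center_of_normal_coprime K hKcop
    have hpk : Nat.card (P : Subgroup G) = p ^ k := by
      have h1 : p ^ n * (P : Subgroup G).relIndex H = p ^ k * Nat.card K := by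
        rw [← hn, ← hcardH, hk, mul_comm]
      rw [hn, (pow_eq_of_mul_eq_mul hp hrel hKcop h1).1]
    have hsup : K ⊔ (P : Subgroup G) = H := by
      apply sup_eq_of_card_mul hKH hPH
      · rw [hpk]; exact Nat.Coprime.pow_right k hKcop
      · rw [hpk]; exact hk
    apply key
    rw [← hsup]
    apply sup_le _ le_normalizer
    intro x hx
    rw [mem_normalizer_iff]
    intro y
    have hxc := mem_center_iff.mp (hKZ hx)
    have : x * y * x⁻¹ = y := by rw [← hxc y, mul_inv_cancel_right]
    rw [this]
  · -- normal Sylow subgroup `S` of `H`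
    have hPS : (P : Subgroup G) ≤ S :=
      le_of_coprime_of_le_normalizer (H := H) hSH hPH (Or.inl (hPH.trans hHS)) hm (hcopP hmcop)
    have hSP : S = P := P.is_maximal' hS hPS
    apply key
    rw [← hSP]; exact hHS

section step1

variable {q : ℕ} [Fact q.Prime] (hqp : q ≠ p) (Q : Sylow q G)
include hqp

theorem card_sylow_coprime : (Nat.card (Q : Subgroup G)).Coprime p := by
  have hp : p.Prime := Fact.out
  have hq : q.Prime := Fact.out
  obtain ⟨n, hn⟩ := IsPGroup.iff_card.mp Q.2
  rw [hn]
  apply Nat.Coprime.pow_left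
  rw [Nat.coprime_primes hq hp]; exact hqp

theorem sylow_q_comm : ∀ a ∈ (Q : Subgroup G), ∀ b ∈ (Q : Subgroup G), a * b = b * a :=
  mc.hyp.ab Q (mc.card_sylow_coprime hqp Q)

theorem inf_centralizer_normalizer_eq_bot :
    (Q : Subgroup G) ⊓ centralizer (normalizer ((Q : Subgroup G) : Set G) : Set G) = ⊥ := by
  haveI : IsMulCommutative Q :=
    ⟨⟨fun a b => Subtype.ext (mc.sylow_q_comm hqp Q a a.2 b b.2)⟩⟩
  obtain ⟨N, hN, ⟨e⟩⟩ := Cfsg.Agent.Lib.Helper1.exists_quotient_equiv_inf_centralizer_normalizer Q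
  have hidx : N.index = Nat.card ↥((Q : Subgroup G) ⊓
      centralizer (normalizer ((Q : Subgroup G) : Set G) : Set G)) := by
    rw [Subgroup.index_eq_card]; exact Nat.card_congr e.toEquiv
  have hdvd : N.index ∣ Nat.card (Q : Subgroup G) := by
    rw [hidx]; exact Subgroup.card_dvd_of_le inf_le_left
  have hNtop : N = ⊤ := by
    by_contra hne
    exact mc.false_of_index_coprime N hne
      (Nat.Coprime.coprime_dvd_left hdvd (mc.card_sylow_coprime hqp Q))
  rw [hNtop, Subgroup.index_top] at hidx
  exact Subgroup.card_eq_one.mp hidx.symm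

theorem normalizer_sylow_ne_top (hQ : (Q : Subgroup G) ≠ ⊥) :
    normalizer ((Q : Subgroup G) : Set G) ≠ ⊤ := by
  intro htop
  haveI hQn : (Q : Subgroup G).Normal := normalizer_eq_top_iff.mp htop
  have hZ : (Q : Subgroup G) ≤ center G :=
    mc.le_center_of_normal_coprime (Q : Subgroup G) (mc.card_sylow_coprime hqp Q)
  apply hQ
  rw [eq_bot_iff, ← mc.inf_centralizer_normalizer_eq_bot hqp Q]
  intro x hx
  refine Subgroup.mem_inf.mpr ⟨hx, ?_⟩
  rw [mem_centralizer_iff]
  intro g _
  exact mem_center_iff.mp (hZ hx) g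

/-- a Sylow `p`-subgroup of `N_G(Q)` has no nontrivial fixed points on `Q`. -/
theorem inf_centralizer_eq_bot_of_sylow (hQ : (Q : Subgroup G) ≠ ⊥) {S : Subgroup G}
    (hSN : S ≤ normalizer ((Q : Subgroup G) : Set G)) (hS : IsPGroup p S) {m : ℕ}
    (hm : Nat.card (normalizer ((Q : Subgroup G) : Set G)) = Nat.card S * m) (hmcop : m.Coprime p) :
    (Q : Subgroup G) ⊓ centralizer (S : Set G) = ⊥ := by
  have hp : p.Prime := Fact.out
  have hQcop := mc.card_sylow_coprime hqp Q
  obtain ⟨j, hj⟩ := IsPGroup.iff_card.mp hS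
  rw [eq_bot_iff, ← mc.inf_centralizer_normalizer_eq_bot hqp Q]
  intro z hz
  obtain ⟨hzQ, hzS⟩ := Subgroup.mem_inf.mp hz
  refine Subgroup.mem_inf.mpr ⟨hzQ, ?_⟩
  -- it suffices that `N_G(Q)` centralizes `z`
  suffices hsuff : normalizer ((Q : Subgroup G) : Set G) ≤ centralizer ({z} : Set G) by
    rw [mem_centralizer_iff]
    intro n hn
    have := mem_centralizer_iff.mp (hsuff hn) z (Set.mem_singleton z)
    exact this.symm
  have hSz : S ≤ centralizer ({z} : Set G) := by
    intro s hs
    rw [mem_centralizer_iff]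
    intro y hy
    rw [Set.mem_singleton_iff] at hy
    rw [hy]
    exact (mem_centralizer_iff.mp hzS s hs).symm
  rcases mc.ih _ (mc.normalizer_sylow_ne_top hqp Q hQ) with
    ⟨K, hKN, hNK, hKcop, k, hk⟩ | ⟨S', hS'N, hNS', hS', m', hm', hm'cop⟩
  · have hQK : (Q : Subgroup G) ≤ K :=
      le_of_coprime_of_le_normalizer hKN le_normalizer (Or.inr hKN) hk
        (Nat.Coprime.pow_right k hQcop)
    have hKz : K ≤ centralizer ({z} : Set G) := by
      intro x hx
      rw [mem_centralizer_iff]
      intro y hy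
      rw [Set.mem_singleton_iff] at hy
      rw [hy]
      exact mc.hyp.ab K hKcop z (hQK hzQ) x hx
    have h1 : p ^ j * m = p ^ k * Nat.card K := by
      rw [← hj, ← hm, hk, mul_comm]
    obtain ⟨hjk, hmK⟩ := pow_eq_of_mul_eq_mul hp hmcop hKcop h1
    have hsup : K ⊔ S = normalizer ((Q : Subgroup G) : Set G) := by
      apply sup_eq_of_card_mul hKN hSN
      · rw [hj]; exact Nat.Coprime.pow_right j hKcop
      · rw [hk, hj, hjk]
    rw [← hsup]
    exact sup_le hKz hSz
  · have hSS' : S ≤ S' :=
      le_of_coprime_of_le_normalizer hS'N hSN (Or.inl (hSN.trans hNS')) hm'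
        (by rw [hj]; exact Nat.Coprime.pow_left j hm'cop.symm)
    obtain ⟨j', hj'⟩ := IsPGroup.iff_card.mp hS'
    have h1 : p ^ j * m = p ^ j' * m' := by rw [← hj, ← hm, hm', hj']
    obtain ⟨hjj', -⟩ := pow_eq_of_mul_eq_mul hp hmcop hm'cop h1
    have hSeq : S = S' := Subgroup.eq_of_le_of_card_ge hSS' (by rw [hj, hj', hjj'])
    intro n hn
    obtain ⟨t, u, ht, hu, hnt, ⟨i, hti⟩, hucop⟩ := Cfsg.Agent.Lib.Helper16.exists_p_decomp' p n
    have hzn : zpowers n ≤ normalizer ((Q : Subgroup G) : Set G) := by rwa [zpowers_le]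
    have htS : zpowers t ≤ S := by
      apply le_of_coprime_of_le_normalizer hSN ((zpowers_le.mpr (hzn ht)))
        (Or.inl ((zpowers_le.mpr (hzn ht)).trans (hSeq ▸ hNS'))) hm
      rw [Nat.card_zpowers, hti]
      exact Nat.Coprime.pow_left i hmcop.symm
    have hucard : (Nat.card ↥((Q : Subgroup G) ⊔ zpowers u)).Coprime p := by
      have h1 := Cfsg.Agent.Lib.Helper9.card_sup_dvd_of_le_normalizer (X := (Q : Subgroup G))
        (Y := zpowers u) (zpowers_le.mpr (hzn hu))
      apply Nat.Coprime.coprime_dvd_left h1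
      apply Nat.Coprime.mul_left hQcop
      rw [Nat.card_zpowers]; exact hucop
    have huz : u ∈ centralizer ({z} : Set G) := by
      rw [mem_centralizer_iff]
      intro y hy
      rw [Set.mem_singleton_iff] at hy
      rw [hy]
      exact mc.hyp.ab _ hucard z (le_sup_left (a := (Q : Subgroup G)) hzQ) u
        (le_sup_right (b := zpowers u) (mem_zpowers u))
    rw [hnt]
    exact mul_mem (hSz (htS (mem_zpowers t))) huz

/-- the order of a Sylow `q`-subgroup is `≡ 1 (mod p)`. -/
theorem card_sylow_modEq_one (hQ : (Q : Subgroup G) ≠ ⊥) :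
    Nat.card (Q : Subgroup G) ≡ 1 [MOD p] := by
  obtain ⟨S, hSN, hS, m, hm, hmcop⟩ :=
    exists_sylow_le (p := p) (normalizer ((Q : Subgroup G) : Set G))
  have hbot := mc.inf_centralizer_eq_bot_of_sylow hqp Q hQ hSN hS hm hmcop
  let φ : S →* MulAut (Q : Subgroup G) := Cfsg.Agent.Lib.Helper1.conjHomOn S (Q : Subgroup G) hSN
  letI : MulAction S (Q : Subgroup G) := MulAction.compHom (Q : Subgroup G) φ
  have h1 := hS.card_modEq_card_fixedPoints (Q : Subgroup G)
  have hfix : MulAction.fixedPoints S (Q : Subgroup G) = {1} := by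
    ext z
    rw [MulAction.mem_fixedPoints, Set.mem_singleton_iff]
    constructor
    · intro h
      have hz : (z : G) ∈ (Q : Subgroup G) ⊓ centralizer (S : Set G) := by
        refine Subgroup.mem_inf.mpr ⟨z.2, ?_⟩
        rw [mem_centralizer_iff]
        intro s hs
        have h2 : ((φ ⟨s, hs⟩) z : G) = (z : G) := congrArg Subtype.val (h ⟨s, hs⟩)
        rw [Cfsg.Agent.Lib.Helper1.conjHomOn_apply] at h2
        have h3 : s * (z : G) * s⁻¹ = (z : G) := h2
        calc s * (z : G) = s * (z : G) * s⁻¹ * s := by group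
          _ = (z : G) * s := by rw [h3]
      rw [hbot, mem_bot] at hz
      exact Subtype.ext hz
    · rintro rfl s
      exact map_one (φ s)
  rw [hfix] at h1
  simpa using h1

end step1

/-- the index of a Sylow `p`-subgroup is `≡ 1 (mod p)`. -/
theorem index_sylow_modEq_one (P : Sylow p G) : (P : Subgroup G).index ≡ 1 [MOD p] := by
  have hp : p.Prime := Fact.out
  have hn0 : Nat.card G ≠ 0 := Nat.card_pos.ne'
  have hprod := Nat.prod_primeFactors_pow_factorization hn0
  have hP := P.card_eq_multiplicity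
  have hidx : (P : Subgroup G).index =
      ∏ r ∈ (Nat.card G).primeFactors.erase p, r ^ (Nat.card G).factorization r := by
    have h1 := Subgroup.card_mul_index (P : Subgroup G)
    by_cases hmem : p ∈ (Nat.card G).primeFactors
    · rw [← Finset.mul_prod_erase _ _ hmem, ← hP] at hprod
      rw [hprod] at h1
      exact Nat.eq_of_mul_eq_mul_left Nat.card_pos h1
    · rw [Finset.erase_eq_of_notMem hmem, ← hprod]
      have h0 : (Nat.card G).factorization p = 0 := by
        rw [← Finsupp.notMem_support_iff, Nat.support_factorization]; exact hmem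
      rw [hP, h0, pow_zero, one_mul] at h1
      exact h1
  rw [hidx, ← ZMod.natCast_eq_natCast_iff, Nat.cast_prod, Nat.cast_one]
  apply Finset.prod_eq_one
  intro r hr
  rw [Finset.mem_erase] at hr
  obtain ⟨hrp, hr⟩ := hr
  have hrprime : r.Prime := Nat.prime_of_mem_primeFactors hr
  haveI : Fact r.Prime := ⟨hrprime⟩
  obtain ⟨R⟩ : Nonempty (Sylow r G) := inferInstance
  have hR : (R : Subgroup G) ≠ ⊥ := by
    intro hbot
    have h2 := R.card_eq_multiplicity
    have h3 : Nat.card (R : Subgroup G) = 1 := by rw [hbot, Subgroup.card_bot]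
    have h4 : (Nat.card G).factorization r ≠ 0 := by
      rw [← Finsupp.mem_support_iff, Nat.support_factorization]; exact hr
    have h5 : 1 < r ^ (Nat.card G).factorization r := Nat.one_lt_pow h4 hrprime.one_lt
    have h6 : Nat.card (R : Subgroup G) = r ^ (Nat.card G).factorization r := h2
    omega
  have h7 := mc.card_sylow_modEq_one hrp R hR
  have h8 : Nat.card (R : Subgroup G) = r ^ (Nat.card G).factorization r := R.card_eq_multiplicity
  rw [h8, ← ZMod.natCast_eq_natCast_iff, Nat.cast_one] at h7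
  exact h7

/-- `|N_G(P) : P| ≡ 1 (mod p)`. -/
theorem relIndex_normalizer_modEq_one (P : Sylow p G) :
    (P : Subgroup G).relIndex (normalizer ((P : Subgroup G) : Set G)) ≡ 1 [MOD p] := by
  have h1 := mc.index_sylow_modEq_one P
  have h2 : (normalizer ((P : Subgroup G) : Set G)).index ≡ 1 [MOD p] := by
    have h' : Nat.card (Sylow p G) = (normalizer ((P : Subgroup G) : Set G)).index :=
      Sylow.card_eq_index_normalizer P
    rw [← h']; exact _root_.card_sylow_modEq_one p G
  rw [← Subgroup.relIndex_mul_index (le_normalizer (H := (P : Subgroup G)))] at h1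
  have h3 : (P : Subgroup G).relIndex (normalizer ((P : Subgroup G) : Set G)) *
      (normalizer ((P : Subgroup G) : Set G)).index ≡
      (P : Subgroup G).relIndex (normalizer ((P : Subgroup G) : Set G)) * 1 [MOD p] :=
    Nat.ModEq.mul_left _ h2
  rw [mul_one] at h3
  exact h3.symm.trans h1

/-- the centralizer of a Sylow `p`-subgroup `P` is strictly bigger than `P`. -/
theorem not_centralizer_le (P : Sylow p G) : ¬ centralizer ((P : Subgroup G) : Set G) ≤ P := by
  intro hle
  have hp : p.Prime := Fact.out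
  have hPC : (P : Subgroup G) ≤ centralizer ((P : Subgroup G) : Set G) := by
    intro a ha
    rw [mem_centralizer_iff]
    intro b hb
    exact mc.sylow_comm P b hb a ha
  have hCP : centralizer ((P : Subgroup G) : Set G) = P := le_antisymm hle hPC
  have hdvd := Cfsg.Agent.Lib.Helper7.relIndex_centralizer_normalizer_dvd (P : Subgroup G)
  rw [hCP] at hdvd
  haveI hcyc : IsCyclic (P : Subgroup G) := mc.hyp.cyc P P.2
  rw [IsCyclic.card_mulAut] at hdvd
  obtain ⟨n, hn⟩ := IsPGroup.iff_card.mp P.2
  rw [hn] at hdvd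
  set e := (P : Subgroup G).relIndex (normalizer ((P : Subgroup G) : Set G)) with he
  have hecop : e.Coprime p := by
    rw [Nat.coprime_comm, Nat.Prime.coprime_iff_not_dvd hp]
    intro hd
    exact P.not_dvd_index (hd.trans (relIndex_dvd_index_of_le le_normalizer))
  have hmod := mc.relIndex_normalizer_modEq_one P
  have he1 : e = 1 := by
    rcases Nat.eq_zero_or_pos n with h0 | h0
    · rw [h0, pow_zero, Nat.totient_one] at hdvd
      exact Nat.dvd_one.mp hdvd
    · rw [Nat.totient_prime_pow hp h0] at hdvd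
      have h2 : e ∣ p - 1 :=
        Nat.Coprime.dvd_of_dvd_mul_left (Nat.Coprime.pow_right _ hecop) hdvd
      have h3 : e ≤ p - 1 := Nat.le_of_dvd (by have := hp.two_le; omega) h2
      have h4 : e % p = 1 % p := hmod
      rw [Nat.mod_eq_of_lt (by have := hp.two_le; omega), Nat.mod_eq_of_lt hp.one_lt] at h4
      exact h4
  have hNP : normalizer ((P : Subgroup G) : Set G) ≤ P := Subgroup.relIndex_eq_one.mp he1
  apply mc.nn
  apply pNil_top_of_hasNormalPComplement
  exact ⟨P, _, inferInstance, MonoidHom.ker_transferSylow_isComplement' P (hNP.trans hPC)⟩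

end MC

end Cfsg.Agent.Lib.Helper2.CycSyl
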