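import Mathlib
import Cfsg.Prelude
import Cfsg.Agent.Lib.Helper2.CycSylB

/-!
# Cyclic Sylow `p`-subgroup and abelian `p'`-subgroups (helper2), part C

In the minimal counterexample, an element `x` of prime order `q ≠ p` centralizing a Sylow
`p`-subgroup `P` forces `q = 2`, `p = 3` and a very tight structure.
-/

set_option autoImplicit false
set_option linter.unusedSectionVars false
set_option linter.unusedVariables false

open Subgroup Pointwise
open scoped commutatorElement

namespace Cfsg.Agent.Lib.Helper2.CycSyl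

variable {G : Type*} [Group G] [Finite G] {p : ℕ} [Fact p.Prime]

/-- in a finite group, `g H g⁻¹ ⊆ H` implies `g ∈ N_G(H)`. -/
theorem mem_normalizer_of_conj_mem {H : Subgroup G} {g : G} (h : ∀ a ∈ H, g * a * g⁻¹ ∈ H) :
    g ∈ normalizer (H : Set G) := by
  have hle : zpowers g ≤ normalizer (H : Set G) := by
    apply Cfsg.Agent.Lib.Helper1.le_normalizer_of_forall_conj_mem'
    intro x hx n hn
    rw [← (isOfFinOrder_of_finite g).mem_powers_iff_mem_zpowers, Submonoid.mem_powers_iff] at hx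
    obtain ⟨k, rfl⟩ := hx
    induction k generalizing n with
    | zero => simpa using hn
    | succ k ih =>
      have h1 := h _ (ih n hn)
      have : g ^ (k + 1) * n * (g ^ (k + 1))⁻¹ = g * (g ^ k * n * (g ^ k)⁻¹) * g⁻¹ := by
        rw [pow_succ']; group
      rw [this]; exact h1
  exact hle (mem_zpowers g)

omit [Finite G] in
/-- the elements of order dividing `n` in a commutative subgroup. -/
def Om (A : Subgroup G) (hA : ∀ a ∈ A, ∀ b ∈ A, a * b = b * a) (n : ℕ) : Subgroup G where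
  carrier := {v | v ∈ A ∧ v ^ n = 1}
  mul_mem' := by
    rintro a b ⟨ha, ha'⟩ ⟨hb, hb'⟩
    exact ⟨mul_mem ha hb, by
      rw [(show Commute a b from hA a ha b hb).mul_pow, ha', hb', one_mul]⟩
  one_mem' := ⟨one_mem _, one_pow _⟩
  inv_mem' := by
    rintro a ⟨ha, ha'⟩
    exact ⟨inv_mem ha, by rw [inv_pow, ha', inv_one]⟩

omit [Finite G] in
theorem mem_Om {A : Subgroup G} {hA : ∀ a ∈ A, ∀ b ∈ A, a * b = b * a} {n : ℕ} {v : G} :
    v ∈ Om A hA n ↔ v ∈ A ∧ v ^ n = 1 := Iff.rfl

namespace MC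

variable (mc : MC p G)
include mc

/-- some element of prime order `q ≠ p` centralizes `P`. -/
theorem exists_prime_order_centralizer (P : Sylow p G) :
    ∃ (x : G) (q : ℕ), q.Prime ∧ q ≠ p ∧ x ∈ centralizer ((P : Subgroup G) : Set G) ∧
      orderOf x = q := by
  have hp : p.Prime := Fact.out
  have hnot := mc.not_centralizer_le P
  have hPC : (P : Subgroup G) ≤ centralizer ((P : Subgroup G) : Set G) := by
    intro a ha
    rw [mem_centralizer_iff]
    intro b hb
    exact mc.sylow_comm P b hb a ha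
  set C := centralizer ((P : Subgroup G) : Set G) with hC
  have hrel1 : (P : Subgroup G).relIndex C ≠ 1 := by
    intro h1
    exact hnot (Subgroup.relIndex_eq_one.mp h1)
  obtain ⟨q, hq, hqd⟩ := Nat.exists_prime_and_dvd hrel1
  have hqp : q ≠ p := by
    rintro rfl
    exact P.not_dvd_index (hqd.trans (relIndex_dvd_index_of_le hPC))
  haveI : Fact q.Prime := ⟨hq⟩
  have hqC : q ∣ Nat.card C := by
    rw [← Cfsg.Agent.Lib.Helper16.relIndex_mul_card_of_le hPC]
    exact Dvd.dvd.mul_right hqd _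
  obtain ⟨x, hx⟩ := exists_prime_orderOf_dvd_card' q hqC
  exact ⟨(x : G), q, hq, hqp, x.2, by rw [Subgroup.orderOf_coe]; exact hx⟩

section withx

variable (P : Sylow p G) {x : G} {q : ℕ} [Fact q.Prime] (hqp : q ≠ p)
  (hxP : x ∈ centralizer ((P : Subgroup G) : Set G)) (hx : orderOf x = q)
include hqp hxP hx

theorem x_ne_one : x ≠ 1 := by
  have hq : q.Prime := Fact.out
  rintro rfl
  rw [orderOf_one] at hx
  exact hq.one_lt.ne hx

theorem sylow_le_centralizer_x : (P : Subgroup G) ≤ centralizer ({x} : Set G) := by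
  intro a ha
  rw [mem_centralizer_iff]
  intro y hy
  rw [Set.mem_singleton_iff] at hy
  rw [hy]
  exact (mem_centralizer_iff.mp hxP a ha).symm

/-- (★) `C_G(x) ≤ N_G(P)`. -/
theorem centralizer_x_le_normalizer :
    centralizer ({x} : Set G) ≤ normalizer ((P : Subgroup G) : Set G) := by
  have hp : p.Prime := Fact.out
  have hq : q.Prime := Fact.out
  have hx1 := mc.x_ne_one P hqp hxP hx
  -- a Sylow `q`-subgroup containing `x`
  have hzq : IsPGroup q (zpowers x) := by
    apply IsPGroup.of_card (n := 1)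
    rw [Nat.card_zpowers, hx, pow_one]
  obtain ⟨Q, hxQ'⟩ := hzq.exists_le_sylow
  have hxQ : x ∈ (Q : Subgroup G) := hxQ' (mem_zpowers x)
  have hQbot : (Q : Subgroup G) ≠ ⊥ := by
    intro h; rw [h, mem_bot] at hxQ; exact hx1 hxQ
  have hQcop := mc.card_sylow_coprime hqp Q
  have hQH : (Q : Subgroup G) ≤ centralizer ({x} : Set G) := by
    intro a ha
    rw [mem_centralizer_iff]
    intro y hy
    rw [Set.mem_singleton_iff] at hy
    rw [hy]
    exact mc.sylow_q_comm hqp Q x hxQ a ha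
  have hPH := mc.sylow_le_centralizer_x P hqp hxP hx
  have hne : centralizer ({x} : Set G) ≠ ⊤ := by
    intro htop
    have hxc : x ∈ (Q : Subgroup G) ⊓ centralizer (normalizer ((Q : Subgroup G) : Set G) : Set G) := by
      refine Subgroup.mem_inf.mpr ⟨hxQ, ?_⟩
      rw [mem_centralizer_iff]
      intro g _
      have hg : g ∈ centralizer ({x} : Set G) := htop ▸ mem_top g
      exact (mem_centralizer_iff.mp hg x (Set.mem_singleton x)).symm
    rw [mc.inf_centralizer_normalizer_eq_bot hqp Q, mem_bot] at hxc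
    exact hx1 hxc
  obtain ⟨n, hn⟩ := IsPGroup.iff_card.mp P.2
  rcases mc.ih _ hne with ⟨K, hKH, hHK, hKcop, k, hk⟩ | ⟨S, hSH, hHS, hS, m, hm, hmcop⟩
  · exfalso
    have hQK : (Q : Subgroup G) ≤ K :=
      le_of_coprime_of_le_normalizer hKH hQH (Or.inl (hQH.trans hHK)) hk
        (Nat.Coprime.pow_right k hQcop)
    have hKab := mc.hyp.ab K hKcop
    -- `P` normalizes `Q`
    have hPN : (P : Subgroup G) ≤ normalizer ((Q : Subgroup G) : Set G) := by
      apply Cfsg.Agent.Lib.Helper1.le_normalizer_of_forall_conj_mem'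
      intro g hg y hy
      have hgK : g * y * g⁻¹ ∈ K := by
        have := (mem_normalizer_iff.mp (hHK (hPH hg)) y).mp (hQK hy)
        exact this
      -- `Q ⊔ ⟨g y g⁻¹⟩` is a `q`-group
      have hzn : zpowers (g * y * g⁻¹) ≤ normalizer ((Q : Subgroup G) : Set G) := by
        rw [zpowers_le]
        apply mem_normalizer_of_conj_mem
        intro a ha
        have h1 : (g * y * g⁻¹) * a = a * (g * y * g⁻¹) := hKab _ hgK a (hQK ha)
        rw [h1, mul_inv_cancel_right]; exact ha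
      have hcard := Cfsg.Agent.Lib.Helper9.card_sup_dvd_of_le_normalizer hzn
      obtain ⟨j, hj⟩ := IsPGroup.iff_card.mp Q.2
      have ho : orderOf (g * y * g⁻¹) ∣ q ^ j := by
        have h1 : orderOf (g * y * g⁻¹) = orderOf y := by
          have := (MulAut.conj g).orderOf_eq y
          simpa [MulAut.conj_apply] using this
        rw [h1, ← hj, ← Subgroup.orderOf_mk y hy]
        exact orderOf_dvd_natCard _
      rw [hj, Nat.card_zpowers] at hcard
      have hcard2 : Nat.card ↥((Q : Subgroup G) ⊔ zpowers (g * y * g⁻¹)) ∣ q ^ (j + j) := by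
        rw [pow_add]; exact hcard.trans (Nat.mul_dvd_mul_left _ ho)
      obtain ⟨i, -, hi⟩ := (Nat.dvd_prime_pow hq).mp hcard2
      have hqg : IsPGroup q ↥((Q : Subgroup G) ⊔ zpowers (g * y * g⁻¹)) := IsPGroup.of_card hi
      have heq := Q.is_maximal' hqg le_sup_left
      have : g * y * g⁻¹ ∈ (Q : Subgroup G) ⊔ zpowers (g * y * g⁻¹) :=
        le_sup_right (a := (Q : Subgroup G)) (mem_zpowers _)
      rw [heq] at this
      exact this
    have hbot := mc.inf_centralizer_eq_bot_of_sylow hqp Q hQbot hPN P.2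
      (m := (P : Subgroup G).relIndex (normalizer ((Q : Subgroup G) : Set G)))
      (by rw [mul_comm]; exact (Cfsg.Agent.Lib.Helper16.relIndex_mul_card_of_le hPN).symm)
      (by
        rw [Nat.coprime_comm, Nat.Prime.coprime_iff_not_dvd hp]
        intro hd
        exact P.not_dvd_index (hd.trans (relIndex_dvd_index_of_le hPN)))
    have : x ∈ (Q : Subgroup G) ⊓ centralizer ((P : Subgroup G) : Set G) :=
      Subgroup.mem_inf.mpr ⟨hxQ, hxP⟩
    rw [hbot, mem_bot] at this
    exact hx1 this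
  · have hPS : (P : Subgroup G) ≤ S :=
      le_of_coprime_of_le_normalizer hSH hPH (Or.inl (hPH.trans hHS)) hm
        (by rw [hn]; exact Nat.Coprime.pow_left n hmcop.symm)
    have hSP : S = P := P.is_maximal' hS hPS
    rw [← hSP]; exact hHS

/-- (◇) if a conjugate `g x g⁻¹` still centralizes `P` then `g ∈ N_G(P)`. -/
theorem mem_normalizer_of_conj_mem_centralizer {g : G}
    (hg : g * x * g⁻¹ ∈ centralizer ((P : Subgroup G) : Set G)) :
    g ∈ normalizer ((P : Subgroup G) : Set G) := by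
  have hp : p.Prime := Fact.out
  have hstar := mc.centralizer_x_le_normalizer P hqp hxP hx
  obtain ⟨n, hn⟩ := IsPGroup.iff_card.mp P.2
  -- `g⁻¹ P g ≤ N_G(P)`
  have h1 : MulAut.conj g⁻¹ • (P : Subgroup G) ≤ normalizer ((P : Subgroup G) : Set G) := by
    rw [Cfsg.Agent.Lib.Helper1.conj_smul_le_iff]
    intro a ha
    apply hstar
    rw [mem_centralizer_iff]
    intro y hy
    rw [Set.mem_singleton_iff] at hy
    rw [hy]
    have h2 : a * (g * x * g⁻¹) = (g * x * g⁻¹) * a := (mem_centralizer_iff.mp hg a ha)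
    have h3 : x * (g⁻¹ * a * g⁻¹⁻¹) = g⁻¹ * ((g * x * g⁻¹) * a) * g := by group
    have h4 : (g⁻¹ * a * g⁻¹⁻¹) * x = g⁻¹ * (a * (g * x * g⁻¹)) * g := by group
    rw [h3, h4, h2]
  have h2 : MulAut.conj g⁻¹ • (P : Subgroup G) ≤ P := by
    apply le_of_coprime_of_le_normalizer (H := normalizer ((P : Subgroup G) : Set G))
      le_normalizer h1 (Or.inl h1)
      (m := (P : Subgroup G).relIndex (normalizer ((P : Subgroup G) : Set G)))
    · rw [mul_comm]
      exact (Cfsg.Agent.Lib.Helper16.relIndex_mul_card_of_le le_normalizer).symm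
    · rw [Cfsg.Agent.Lib.Helper1.card_conj_smul, hn]
      apply Nat.Coprime.pow_left
      rw [Nat.Prime.coprime_iff_not_dvd hp]
      intro hdvd
      exact P.not_dvd_index (hdvd.trans (relIndex_dvd_index_of_le le_normalizer))
  have h3 : g⁻¹ ∈ normalizer ((P : Subgroup G) : Set G) := by
    apply mem_normalizer_of_conj_mem
    intro a ha
    apply h2
    rw [Cfsg.Agent.Lib.Helper1.mem_conj_smul]
    have : g⁻¹⁻¹ * (g⁻¹ * a * g⁻¹⁻¹) * g⁻¹ = a := by group
    rw [this]; exact ha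
  have := inv_mem h3
  rwa [inv_inv] at this

/-- some `p`-element `y` normalizing a Sylow `q`-subgroup `Q ∋ x` does not commute with `x`. -/
theorem exists_nonfixing (Q : Sylow q G) (hxQ : x ∈ (Q : Subgroup G)) :
    ∃ y : G, y ∈ normalizer ((Q : Subgroup G) : Set G) ∧ (∃ i : ℕ, orderOf y = p ^ i) ∧
      y * x ≠ x * y := by
  have hx1 := mc.x_ne_one P hqp hxP hx
  have hQbot : (Q : Subgroup G) ≠ ⊥ := by
    intro h; rw [h, mem_bot] at hxQ; exact hx1 hxQ
  obtain ⟨S, hSN, hS, m, hm, hmcop⟩ :=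
    exists_sylow_le (p := p) (normalizer ((Q : Subgroup G) : Set G))
  have hbot := mc.inf_centralizer_eq_bot_of_sylow hqp Q hQbot hSN hS hm hmcop
  by_contra hcon
  push Not at hcon
  have : x ∈ (Q : Subgroup G) ⊓ centralizer (S : Set G) := by
    refine Subgroup.mem_inf.mpr ⟨hxQ, ?_⟩
    rw [mem_centralizer_iff]
    intro y hy
    obtain ⟨i, hi⟩ := (IsPGroup.iff_orderOf.mp hS) ⟨y, hy⟩
    rw [Subgroup.orderOf_mk] at hi
    exact hcon y (hSN hy) ⟨i, hi⟩
  rw [hbot, mem_bot] at this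
  exact hx1 this

/-- a `p`-element not commuting with `x` is not in `N_G(P)`. -/
theorem not_mem_normalizer_of_not_commute {y : G} {i : ℕ} (hy : orderOf y = p ^ i)
    (hyx : y * x ≠ x * y) : y ∉ normalizer ((P : Subgroup G) : Set G) := by
  intro hyN
  have hyP := mc.mem_sylow_of_mem_normalizer P hyN hy
  exact hyx (mem_centralizer_iff.mp hxP y hyP)

/-- a conjugate `y x y⁻¹` by such a `y` does not centralize `P`. -/
theorem conj_not_mem_centralizer {y : G} {i : ℕ} (hy : orderOf y = p ^ i)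
    (hyx : y * x ≠ x * y) : y * x * y⁻¹ ∉ centralizer ((P : Subgroup G) : Set G) := by
  intro h
  exact mc.not_mem_normalizer_of_not_commute P hqp hxP hx hy hyx
    (mc.mem_normalizer_of_conj_mem_centralizer P hqp hxP hx h)

/-- `q` divides `p - 1`. -/
theorem q_dvd_pred (Q : Sylow q G) (hxQ : x ∈ (Q : Subgroup G)) : q ∣ p - 1 := by
  have hp : p.Prime := Fact.out
  have hq : q.Prime := Fact.out
  obtain ⟨y, hyN, ⟨i, hyi⟩, hyx⟩ := mc.exists_nonfixing P hqp hxP hx Q hxQ
  have h1 := mc.conj_not_mem_centralizer P hqp hxP hx hyi hyx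
  have hQH : (Q : Subgroup G) ≤ centralizer ({x} : Set G) := by
    intro a ha
    rw [mem_centralizer_iff]
    intro z hz
    rw [Set.mem_singleton_iff] at hz
    rw [hz]
    exact mc.sylow_q_comm hqp Q x hxQ a ha
  have hx1Q : y * x * y⁻¹ ∈ (Q : Subgroup G) := (mem_normalizer_iff.mp hyN x).mp hxQ
  have hx1N : y * x * y⁻¹ ∈ normalizer ((P : Subgroup G) : Set G) :=
    mc.centralizer_x_le_normalizer P hqp hxP hx (hQH hx1Q)
  set ψ := (P : Subgroup G).normalizerMonoidHom with hψ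
  set w : normalizer ((P : Subgroup G) : Set G) := ⟨y * x * y⁻¹, hx1N⟩ with hw
  have hw1 : ψ w ≠ 1 := by
    intro h
    have : w ∈ ψ.ker := h
    rw [hψ, Subgroup.normalizerMonoidHom_ker, mem_subgroupOf] at this
    exact h1 this
  have hwq : (ψ w) ^ q = 1 := by
    rw [← map_pow]
    have : w ^ q = 1 := by
      apply Subtype.ext
      rw [Subgroup.coe_pow]
      show (y * x * y⁻¹) ^ q = 1
      rw [conj_pow, ← hx, pow_orderOf_eq_one, mul_one, mul_inv_cancel]
    rw [this, map_one]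
  have ho : orderOf (ψ w) = q := orderOf_eq_prime hwq hw1
  have hdvd : q ∣ Nat.card (MulAut (P : Subgroup G)) := ho ▸ orderOf_dvd_natCard _
  haveI hcyc : IsCyclic (P : Subgroup G) := mc.hyp.cyc P P.2
  rw [IsCyclic.card_mulAut] at hdvd
  obtain ⟨n, hn⟩ := IsPGroup.iff_card.mp P.2
  rw [hn] at hdvd
  rcases Nat.eq_zero_or_pos n with h0 | h0
  · rw [h0, pow_zero, Nat.totient_one] at hdvd
    exact absurd (Nat.dvd_one.mp hdvd) hq.one_lt.ne'
  · rw [Nat.totient_prime_pow hp h0] at hdvd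
    rcases (Nat.Prime.dvd_mul hq).mp hdvd with h | h
    · exact absurd ((Nat.prime_dvd_prime_iff_eq hq hp).mp (hq.dvd_of_dvd_pow h)) hqp
    · exact h

/-- the key counting: `Ω₁(Q)` has order `q²` and `Ω₁(Q) ∩ C_G(P)` has order `q`. -/
theorem card_Om (Q : Sylow q G) (hxQ : x ∈ (Q : Subgroup G)) :
    Nat.card (Om (Q : Subgroup G) (mc.sylow_q_comm hqp Q) q) = q ^ 2 ∧
    Nat.card ↥(Om (Q : Subgroup G) (mc.sylow_q_comm hqp Q) q ⊓
      centralizer ((P : Subgroup G) : Set G)) = q := by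
  have hp : p.Prime := Fact.out
  have hq : q.Prime := Fact.out
  have hx1 := mc.x_ne_one P hqp hxP hx
  have hqd := mc.q_dvd_pred P hqp hxP hx Q hxQ
  obtain ⟨y, hyN, ⟨i, hyi⟩, hyx⟩ := mc.exists_nonfixing P hqp hxP hx Q hxQ
  have hynN := mc.not_mem_normalizer_of_not_commute P hqp hxP hx hyi hyx
  set V := Om (Q : Subgroup G) (mc.sylow_q_comm hqp Q) q with hV
  set V₀ := V ⊓ centralizer ((P : Subgroup G) : Set G) with hV₀
  have hVQ : V ≤ (Q : Subgroup G) := fun v hv => (mem_Om.mp hv).1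
  have hQH : (Q : Subgroup G) ≤ centralizer ({x} : Set G) := by
    intro a ha
    rw [mem_centralizer_iff]
    intro z hz
    rw [Set.mem_singleton_iff] at hz
    rw [hz]
    exact mc.sylow_q_comm hqp Q x hxQ a ha
  have hVN : V ≤ normalizer ((P : Subgroup G) : Set G) :=
    hVQ.trans (hQH.trans (mc.centralizer_x_le_normalizer P hqp hxP hx))
  have hxV : x ∈ V := mem_Om.mpr ⟨hxQ, by rw [← hx, pow_orderOf_eq_one]⟩
  have hxV₀ : x ∈ V₀ := Subgroup.mem_inf.mpr ⟨hxV, hxP⟩
  -- `y` normalizes `V`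
  have hyV : ∀ v ∈ V, y * v * y⁻¹ ∈ V := by
    intro v hv
    obtain ⟨hvQ, hvq⟩ := mem_Om.mp hv
    refine mem_Om.mpr ⟨(mem_normalizer_iff.mp hyN v).mp hvQ, ?_⟩
    rw [conj_pow, hvq, mul_one, mul_inv_cancel]
  -- elements of `V₀` have order `q`
  have hord : ∀ v ∈ V₀, v ≠ 1 → orderOf v = q := by
    intro v hv hv1
    exact orderOf_eq_prime (mem_Om.mp (Subgroup.mem_inf.mp hv).1).2 hv1
  -- `V₀ ∩ y V₀ y⁻¹ = 1`
  have hdisj : ∀ v ∈ V₀, y * v * y⁻¹ ∈ V₀ → v = 1 := by
    intro v hv hv'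
    by_contra hv1
    exact hynN (mc.mem_normalizer_of_conj_mem_centralizer P hqp (Subgroup.mem_inf.mp hv).2
      (hord v hv hv1) (Subgroup.mem_inf.mp hv').2)
  -- `|V₀|² ≤ |V|`
  have hsq : Nat.card V₀ * Nat.card V₀ ≤ Nat.card V := by
    rw [← Nat.card_prod]
    let f : V₀ × V₀ → V := fun ab =>
      ⟨(ab.1 : G) * (y * (ab.2 : G) * y⁻¹),
        mul_mem (Subgroup.mem_inf.mp ab.1.2).1 (hyV _ (Subgroup.mem_inf.mp ab.2.2).1)⟩
    apply Nat.card_le_card_of_injective f
    rintro ⟨a, b⟩ ⟨a', b'⟩ hab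
    have hab' : (a : G) * (y * (b : G) * y⁻¹) = (a' : G) * (y * (b' : G) * y⁻¹) :=
      congrArg Subtype.val hab
    have h1 : y * ((b : G) * (b' : G)⁻¹) * y⁻¹ = (a : G)⁻¹ * (a' : G) := by
      have : y * ((b : G) * (b' : G)⁻¹) * y⁻¹ = (y * (b : G) * y⁻¹) * (y * (b' : G) * y⁻¹)⁻¹ := by
        group
      rw [this, eq_inv_mul_iff_mul_eq, ← mul_assoc, hab', mul_inv_cancel_right]
    have h2 : (b : G) * (b' : G)⁻¹ = 1 := by
      apply hdisj _ (mul_mem b.2 (inv_mem b'.2))
      rw [h1]; exact mul_mem (inv_mem a.2) a'.2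
    have hbb : (b : G) = (b' : G) := mul_inv_eq_one.mp h2
    have haa : (a : G) = (a' : G) := by
      rw [hbb] at hab'; exact mul_right_cancel hab'
    exact Prod.ext (Subtype.ext haa) (Subtype.ext hbb)
  -- `|V| ≤ |V₀| q`
  have hp2 : p ≠ 2 := by
    rintro rfl
    exact absurd (Nat.dvd_one.mp hqd) hq.one_lt.ne'
  obtain ⟨n, hn⟩ := IsPGroup.iff_card.mp P.2
  haveI hcyc : IsCyclic (P : Subgroup G) := mc.hyp.cyc P P.2
  haveI hcycA : IsCyclic (MulAut (P : Subgroup G)) := by
    have e := IsCyclic.mulAutMulEquiv (P : Subgroup G)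
    haveI : IsCyclic (ZMod (Nat.card (P : Subgroup G)))ˣ := by
      rw [hn]; exact ZMod.isCyclic_units_of_prime_pow p hp hp2 n
    exact isCyclic_of_surjective e.symm e.symm.surjective
  set φ : V →* MulAut (P : Subgroup G) :=
    Cfsg.Agent.Lib.Helper1.conjHomOn V (P : Subgroup G) hVN with hφ
  have hcardV : Nat.card V = Nat.card φ.ker * Nat.card φ.range := by
    rw [← Subgroup.index_ker, Subgroup.card_mul_index]
  have hker : Nat.card φ.ker ≤ Nat.card V₀ := by
    let f : φ.ker → V₀ := fun v => ⟨((v : V) : G), by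
      refine Subgroup.mem_inf.mpr ⟨(v : V).2, ?_⟩
      rw [mem_centralizer_iff]
      intro a ha
      have h1 : φ (v : V) = 1 := v.2
      have h2 : ((φ (v : V)) ⟨a, ha⟩ : G) = a := by rw [h1]; rfl
      have h3 : ((v : V) : G) * a * ((v : V) : G)⁻¹ = a := h2
      calc a * ((v : V) : G) = ((v : V) : G) * a * ((v : V) : G)⁻¹ * ((v : V) : G) := by rw [h3]
        _ = ((v : V) : G) * a := by group⟩
    apply Nat.card_le_card_of_injective f
    intro v v' hvv
    have : (((v : V) : G)) = ((v' : V) : G) := congrArg (fun z : V₀ => (z : G)) hvv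
    exact Subtype.ext (Subtype.ext this)
  have hrange : Nat.card φ.range ∣ q := by
    rw [← IsCyclic.exponent_eq_card]
    apply Monoid.exponent_dvd_of_forall_pow_eq_one
    rintro ⟨g, v, rfl⟩
    apply Subtype.ext
    rw [Subgroup.coe_pow, Subgroup.coe_one, ← map_pow]
    have : v ^ q = 1 := by
      apply Subtype.ext
      rw [Subgroup.coe_pow, Subgroup.coe_one]
      exact (mem_Om.mp v.2).2
    rw [this, map_one]
  have hle : Nat.card V ≤ Nat.card V₀ * q := by
    rw [hcardV]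
    exact Nat.mul_le_mul hker (Nat.le_of_dvd hq.pos hrange)
  -- arithmetic
  obtain ⟨j, hj⟩ := IsPGroup.iff_card.mp Q.2
  have hV₀Q : Nat.card V₀ ∣ q ^ j := by
    rw [← hj]; exact Subgroup.card_dvd_of_le (inf_le_left.trans hVQ)
  obtain ⟨i₀, -, hi₀⟩ := (Nat.dvd_prime_pow hq).mp hV₀Q
  have hV₀1 : Nat.card V₀ ≠ 1 := by
    intro h1
    have := Subgroup.card_eq_one.mp h1
    rw [this, mem_bot] at hxV₀
    exact hx1 hxV₀
  have hi₀pos : i₀ ≠ 0 := by
    rintro rfl
    rw [pow_zero] at hi₀; exact hV₀1 hi₀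
  have hV₀pos : 0 < Nat.card V₀ := Nat.card_pos
  have h3 : Nat.card V₀ ≤ q := by
    have : Nat.card V₀ * Nat.card V₀ ≤ Nat.card V₀ * q := hsq.trans hle
    exact Nat.le_of_mul_le_mul_left this hV₀pos
  have h4 : q ≤ Nat.card V₀ := by
    rw [hi₀]
    calc q = q ^ 1 := (pow_one q).symm
      _ ≤ q ^ i₀ := Nat.pow_le_pow_right hq.pos (Nat.one_le_iff_ne_zero.mpr hi₀pos)
  have h5 : Nat.card V₀ = q := le_antisymm h3 h4
  refine ⟨?_, h5⟩
  rw [h5] at hsq hle
  rw [sq]
  exact le_antisymm hle hsq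

/-- the exceptional configuration: `q = 2`, `p = 3`, and a `3`-element `y` normalizing `Q` that
fixes no nontrivial element of `Ω₁(Q)`. -/
theorem exceptional_primes (Q : Sylow q G) (hxQ : x ∈ (Q : Subgroup G)) :
    q = 2 ∧ p = 3 ∧ ∃ y : G, y ∈ normalizer ((Q : Subgroup G) : Set G) ∧
      (∃ i : ℕ, orderOf y = p ^ i) ∧ y * x ≠ x * y ∧
      ∀ v ∈ Om (Q : Subgroup G) (mc.sylow_q_comm hqp Q) q, y * v = v * y → v = 1 := by
  have hp : p.Prime := Fact.out
  have hq : q.Prime := Fact.out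
  have hx1 := mc.x_ne_one P hqp hxP hx
  have hqd := mc.q_dvd_pred P hqp hxP hx Q hxQ
  obtain ⟨hcardV, -⟩ := mc.card_Om P hqp hxP hx Q hxQ
  obtain ⟨y, hyN, ⟨i, hyi⟩, hyx⟩ := mc.exists_nonfixing P hqp hxP hx Q hxQ
  set V := Om (Q : Subgroup G) (mc.sylow_q_comm hqp Q) q with hV
  have hxV : x ∈ V := mem_Om.mpr ⟨hxQ, by rw [← hx, pow_orderOf_eq_one]⟩
  set Y := zpowers y with hY
  have hYp : IsPGroup p Y := by
    apply IsPGroup.of_card (n := i)
    rw [hY, Nat.card_zpowers, hyi]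
  have hYN : Y ≤ normalizer ((Q : Subgroup G) : Set G) := by rwa [hY, zpowers_le]
  have hYV : Y ≤ normalizer (V : Set G) := by
    apply Cfsg.Agent.Lib.Helper1.le_normalizer_of_forall_conj_mem'
    intro g hg v hv
    obtain ⟨hvQ, hvq⟩ := mem_Om.mp hv
    refine mem_Om.mpr ⟨(mem_normalizer_iff.mp (hYN hg) v).mp hvQ, ?_⟩
    rw [conj_pow, hvq, mul_one, mul_inv_cancel]
  let ψ : Y →* MulAut V := Cfsg.Agent.Lib.Helper1.conjHomOn Y V hYV
  letI : MulAction Y V := MulAction.compHom V ψ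
  have h1 := hYp.card_modEq_card_fixedPoints V
  set F := V ⊓ centralizer (Y : Set G) with hF
  have hcardF : Nat.card (MulAction.fixedPoints Y V) = Nat.card F := by
    apply Nat.card_congr
    refine ⟨fun v => ⟨((v : V) : G), ?_⟩, fun w => ⟨⟨(w : G), (Subgroup.mem_inf.mp w.2).1⟩, ?_⟩,
      fun v => rfl, fun w => rfl⟩
    · refine Subgroup.mem_inf.mpr ⟨(v : V).2, ?_⟩
      rw [mem_centralizer_iff]
      intro g hg
      have h2 : ((ψ ⟨g, hg⟩) (v : V) : G) = ((v : V) : G) :=
        congrArg Subtype.val (v.2 ⟨g, hg⟩)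
      have h3 : g * ((v : V) : G) * g⁻¹ = ((v : V) : G) := h2
      calc g * ((v : V) : G) = g * ((v : V) : G) * g⁻¹ * g := by group
        _ = ((v : V) : G) * g := by rw [h3]
    · intro g
      apply Subtype.ext
      show (g : G) * (w : G) * (g : G)⁻¹ = (w : G)
      have := mem_centralizer_iff.mp (Subgroup.mem_inf.mp w.2).2 (g : G) g.2
      rw [this, mul_inv_cancel_right]
  rw [hcardF, hcardV] at h1
  have hFV : F ≤ V := inf_le_left
  have hFd : Nat.card F ∣ q ^ 2 := by rw [← hcardV]; exact Subgroup.card_dvd_of_le hFV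
  obtain ⟨m, hm2, hm⟩ := (Nat.dvd_prime_pow hq).mp hFd
  have hxF : x ∉ F := by
    intro hxF
    have := mem_centralizer_iff.mp (Subgroup.mem_inf.mp hxF).2 y (mem_zpowers y)
    exact hyx this
  have hmne : m ≠ 2 := by
    rintro rfl
    have : F = V := Subgroup.eq_of_le_of_card_ge hFV (by rw [hm, hcardV])
    rw [this] at hxF
    exact hxF hxV
  have hq2 := hq.two_le
  have hp2 := hp.two_le
  have hqle : q ≤ p - 1 := Nat.le_of_dvd (by omega) hqd
  have hnd1 : ¬ p ∣ q - 1 := by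
    intro h
    have := Nat.le_of_dvd (by omega) h
    omega
  rw [hm] at h1
  have hdvd : p ∣ q ^ 2 - q ^ m :=
    (Nat.modEq_iff_dvd' (Nat.pow_le_pow_right hq.pos hm2)).mp h1.symm
  have hm01 : m = 0 ∨ m = 1 := by omega
  rcases hm01 with rfl | rfl
  · -- `p ∣ q² - 1`
    rw [pow_zero] at hdvd hm
    have hfac : q ^ 2 - 1 = (q - 1) * (q + 1) := by
      obtain ⟨k, rfl⟩ : ∃ k, q = k + 1 := ⟨q - 1, by omega⟩
      rw [Nat.add_sub_cancel]
      apply Nat.sub_eq_of_eq_add
      ring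
    rw [hfac] at hdvd
    rcases (Nat.Prime.dvd_mul hp).mp hdvd with h | h
    · exact absurd h hnd1
    · have hle := Nat.le_of_dvd (by omega) h
      have hpq : p = q + 1 := by omega
      have hq2' : q = 2 := by
        rcases hq.eq_two_or_odd with h2 | h2
        · exact h2
        · exfalso
          rcases hp.eq_two_or_odd with h3 | h3
          · omega
          · omega
      refine ⟨hq2', by omega, y, hyN, ⟨i, hyi⟩, hyx, ?_⟩
      intro v hv hvy
      have hFbot : F = ⊥ := Subgroup.card_eq_one.mp hm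
      have hvF : v ∈ F := by
        refine Subgroup.mem_inf.mpr ⟨hv, ?_⟩
        rw [mem_centralizer_iff]
        intro g hg
        obtain ⟨k, rfl⟩ := mem_zpowers_iff.mp hg
        exact ((show Commute y v from hvy).zpow_left k).eq
      rw [hFbot, mem_bot] at hvF
      exact hvF
  · -- `p ∣ q² - q`
    exfalso
    rw [pow_one] at hdvd
    have hfac : q ^ 2 - q = q * (q - 1) := by
      obtain ⟨k, rfl⟩ : ∃ k, q = k + 1 := ⟨q - 1, by omega⟩
      rw [Nat.add_sub_cancel]
      apply Nat.sub_eq_of_eq_add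
      ring
    rw [hfac] at hdvd
    rcases (Nat.Prime.dvd_mul hp).mp hdvd with h | h
    · exact hqp ((Nat.prime_dvd_prime_iff_eq hp hq).mp h).symm
    · exact hnd1 h

end withx

end MC

end Cfsg.Agent.Lib.Helper2.CycSyl
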