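import Mathlib
import Cfsg.Prelude
import Cfsg.Agent.Lib.Helper2.CycSylC

/-!
# Cyclic Sylow `p`-subgroup and abelian `p'`-subgroups (helper2), part D

The exceptional configuration (`p = 3`, an involution centralizing a Sylow `3`-subgroup): structure
of the involutions.
-/

set_option autoImplicit false
set_option linter.unusedSectionVars false
set_option linter.unusedVariables false

open Subgroup Pointwise
open scoped commutatorElement

namespace Cfsg.Agent.Lib.Helper2.CycSyl

variable {G : Type*} [Group G] [Finite G] {p : ℕ} [Fact p.Prime]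

omit [Finite G] in
theorem mul_self_of_orderOf_two {s : G} (hs : orderOf s = 2) : s * s = 1 := by
  rw [← sq, ← hs, pow_orderOf_eq_one]

omit [Finite G] in
theorem inv_of_orderOf_two {s : G} (hs : orderOf s = 2) : s⁻¹ = s :=
  inv_eq_of_mul_eq_one_left (mul_self_of_orderOf_two hs)

omit [Finite G] in
theorem ne_one_of_orderOf_two {s : G} (hs : orderOf s = 2) : s ≠ 1 := by
  rintro rfl
  rw [orderOf_one] at hs
  omega

omit [Finite G] in
theorem orderOf_conj_eq (g s : G) : orderOf (g * s * g⁻¹) = orderOf s := by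
  have := (MulAut.conj g).orderOf_eq s
  simpa [MulAut.conj_apply] using this

omit [Finite G] in
/-- an involution inverts its product with another involution. -/
theorem conj_mul_of_orderOf_two {s s' : G} (hs : orderOf s = 2) (hs' : orderOf s' = 2) :
    s * (s * s') * s⁻¹ = (s * s')⁻¹ ∧ s' * (s * s') * s'⁻¹ = (s * s')⁻¹ := by
  have h1 := mul_self_of_orderOf_two hs
  have h2 := mul_self_of_orderOf_two hs'
  rw [inv_of_orderOf_two hs, inv_of_orderOf_two hs', mul_inv_rev, inv_of_orderOf_two hs,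
    inv_of_orderOf_two hs']
  constructor
  · rw [← mul_assoc, h1, one_mul]
  · rw [mul_assoc s' (s * s') s', mul_assoc s s' s', h2, mul_one]

omit [Finite G] in
/-- if `s` inverts `d` it normalizes `⟨d⟩`. -/
theorem mem_normalizer_zpowers_of_conj_inv [Finite G] {s d : G} (h : s * d * s⁻¹ = d⁻¹) :
    s ∈ normalizer ((zpowers d : Subgroup G) : Set G) := by
  apply mem_normalizer_of_conj_mem
  intro a ha
  obtain ⟨k, rfl⟩ := mem_zpowers_iff.mp ha
  have : s * d ^ k * s⁻¹ = (d⁻¹) ^ k := by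
    rw [← h]
    simp
  rw [this]
  exact zpow_mem (inv_mem (mem_zpowers d)) k

omit [Finite G] in
/-- in a subgroup of order `2` there is only one nonidentity element. -/
theorem eq_of_card_two [Finite G] {K : Subgroup G} (hK : Nat.card K = 2) {a b : G} (ha : a ∈ K)
    (hb : b ∈ K) (ha1 : a ≠ 1) (hb1 : b ≠ 1) : a = b := by
  classical
  by_contra hab
  have hS : ({1, a, b} : Finset G).card = 3 := by
    have h1 : a ∉ ({b} : Finset G) := by rw [Finset.mem_singleton]; exact hab
    have h2 : (1 : G) ∉ ({a, b} : Finset G) := by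
      rw [Finset.mem_insert, Finset.mem_singleton]
      rintro (h | h)
      · exact ha1 h.symm
      · exact hb1 h.symm
    rw [Finset.card_insert_of_notMem h2, Finset.card_insert_of_notMem h1, Finset.card_singleton]
  have hsub : (({1, a, b} : Finset G) : Set G) ⊆ (K : Set G) := by
    intro v hv
    rw [Finset.mem_coe, Finset.mem_insert, Finset.mem_insert, Finset.mem_singleton] at hv
    rcases hv with rfl | rfl | rfl
    · exact K.one_mem
    · exact ha
    · exact hb
  have := Set.ncard_le_ncard hsub (Set.toFinite _)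
  rw [Set.ncard_coe_finset, hS, ← Nat.card_coe_set_eq] at this
  have h2 : Nat.card ↥(K : Set G) = 2 := hK
  omega

namespace MC

variable (mc : MC p G)
include mc

/-- the exceptional configuration occurs. -/
theorem exists_involution_centralizer :
    p = 3 ∧ ∃ (P : Sylow p G) (x : G), x ∈ centralizer ((P : Subgroup G) : Set G) ∧
      orderOf x = 2 := by
  obtain ⟨P⟩ : Nonempty (Sylow p G) := inferInstance
  obtain ⟨x, q, hq, hqp, hxP, hx⟩ := mc.exists_prime_order_centralizer P
  haveI : Fact q.Prime := ⟨hq⟩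
  have hzq : IsPGroup q (zpowers x) := by
    apply IsPGroup.of_card (n := 1)
    rw [Nat.card_zpowers, hx, pow_one]
  obtain ⟨Q, hxQ'⟩ := hzq.exists_le_sylow
  have hxQ : x ∈ (Q : Subgroup G) := hxQ' (mem_zpowers x)
  obtain ⟨hq2, hp3, -⟩ := mc.exceptional_primes P hqp hxP hx Q hxQ
  subst hq2
  exact ⟨hp3, P, x, hxP, hx⟩

/-- in the cyclic group `P`, the elements killed by `p` lie in any subgroup of order `p`. -/
theorem mem_zpowers_of_pow_eq_one (P : Sylow p G) {z a : G} (hz : z ∈ (P : Subgroup G))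
    (hzp : orderOf z = p) (ha : a ∈ (P : Subgroup G)) (hap : a ^ p = 1) : a ∈ zpowers z := by
  have hp : p.Prime := Fact.out
  by_cases ha1 : a = 1
  · rw [ha1]; exact one_mem _
  have hoa : orderOf a = p := orderOf_eq_prime hap ha1
  have hz1 : z ≠ 1 := by
    rintro rfl
    rw [orderOf_one] at hzp
    exact hp.one_lt.ne hzp
  haveI hcyc : IsCyclic (P : Subgroup G) := mc.hyp.cyc P P.2
  set X := (zpowers a).subgroupOf (P : Subgroup G) with hX
  set Y := (zpowers z).subgroupOf (P : Subgroup G) with hY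
  have hne : X ⊓ Y ≠ ⊥ := by
    intro hbot
    rcases Cfsg.Agent.Lib.Lead.cyclic_pgroup_disjoint (p := p) P.isPGroup' X Y hbot with h | h
    · have : (⟨a, ha⟩ : (P : Subgroup G)) ∈ X := by
        rw [hX, mem_subgroupOf]; exact mem_zpowers a
      rw [h, mem_bot] at this
      exact ha1 (congrArg Subtype.val this)
    · have : (⟨z, hz⟩ : (P : Subgroup G)) ∈ Y := by
        rw [hY, mem_subgroupOf]; exact mem_zpowers z
      rw [h, mem_bot] at this
      exact hz1 (congrArg Subtype.val this)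
  obtain ⟨⟨w, hw⟩, hw1⟩ := (Subgroup.ne_bot_iff_exists_ne_one).mp hne
  obtain ⟨hwX, hwY⟩ := Subgroup.mem_inf.mp hw
  rw [hX, mem_subgroupOf] at hwX
  rw [hY, mem_subgroupOf] at hwY
  have hw1' : (w : G) ≠ 1 := by
    intro h
    apply hw1
    apply Subtype.ext
    apply Subtype.ext
    exact h
  have hcard : Nat.card (zpowers a) = p := by rw [Nat.card_zpowers, hoa]
  have hmem : (⟨a, mem_zpowers a⟩ : zpowers a) ∈ zpowers (⟨(w : G), hwX⟩ : zpowers a) := by
    apply mem_zpowers_of_prime_card hcard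
    intro h
    exact hw1' (congrArg Subtype.val h)
  obtain ⟨k, hk⟩ := mem_zpowers_iff.mp hmem
  have hk' : (w : G) ^ k = a := by
    have := congrArg Subtype.val hk
    simpa using this
  rw [← hk']
  exact zpow_mem hwY k

section withx

variable (P : Sylow p G) {x : G} (h2p : 2 ≠ p)
  (hxP : x ∈ centralizer ((P : Subgroup G) : Set G)) (hx : orderOf x = 2)
include h2p hxP hx

/-- structure of a Sylow `2`-subgroup containing `x`. -/
theorem sylow_two_structure (Q : Sylow 2 G) (hxQ : x ∈ (Q : Subgroup G)) :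
    ∃ y : G, y ∈ normalizer ((Q : Subgroup G) : Set G) ∧
      y * x * y⁻¹ ∈ normalizer ((P : Subgroup G) : Set G) ∧
      y * x * y⁻¹ ∉ centralizer ((P : Subgroup G) : Set G) ∧
      ∀ v ∈ (Q : Subgroup G), v ^ 2 = 1 →
        v = 1 ∨ v = x ∨ v = y * x * y⁻¹ ∨ v = y * (y * x * y⁻¹) * y⁻¹ := by
  classical
  have hx1 := mc.x_ne_one P h2p hxP hx
  obtain ⟨-, -, y, hyN, ⟨i, hyi⟩, hyx, hfix⟩ := mc.exceptional_primes P h2p hxP hx Q hxQ
  obtain ⟨hcardV, -⟩ := mc.card_Om P h2p hxP hx Q hxQ
  set V := Om (Q : Subgroup G) (mc.sylow_q_comm h2p Q) 2 with hV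
  have hQH : (Q : Subgroup G) ≤ centralizer ({x} : Set G) := by
    intro a ha
    rw [mem_centralizer_iff]
    intro z hz
    rw [Set.mem_singleton_iff] at hz
    rw [hz]
    exact mc.sylow_q_comm h2p Q x hxQ a ha
  have hx1Q : y * x * y⁻¹ ∈ (Q : Subgroup G) := (mem_normalizer_iff.mp hyN x).mp hxQ
  have hx1N : y * x * y⁻¹ ∈ normalizer ((P : Subgroup G) : Set G) :=
    mc.centralizer_x_le_normalizer P h2p hxP hx (hQH hx1Q)
  have hx1C := mc.conj_not_mem_centralizer P h2p hxP hx hyi hyx
  refine ⟨y, hyN, hx1N, hx1C, ?_⟩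
  have hyV : ∀ v ∈ V, y * v * y⁻¹ ∈ V := by
    intro v hv
    obtain ⟨hvQ, hvq⟩ := mem_Om.mp hv
    refine mem_Om.mpr ⟨(mem_normalizer_iff.mp hyN v).mp hvQ, ?_⟩
    rw [conj_pow, hvq, mul_one, mul_inv_cancel]
  have hxV : x ∈ V := mem_Om.mpr ⟨hxQ, by rw [← hx, pow_orderOf_eq_one]⟩
  set x₁ := y * x * y⁻¹ with hx₁
  set x₂ := y * x₁ * y⁻¹ with hx₂
  have hx₁V : x₁ ∈ V := hyV x hxV
  have hx₂V : x₂ ∈ V := hyV x₁ hx₁V
  have hx₁1 : x₁ ≠ 1 := by
    intro h
    apply hx1
    have : x = y⁻¹ * x₁ * y := by rw [hx₁]; group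
    rw [this, h]; group
  have hx₂1 : x₂ ≠ 1 := by
    intro h
    apply hx₁1
    have : x₁ = y⁻¹ * x₂ * y := by rw [hx₂]; group
    rw [this, h]; group
  have hx₁x : x₁ ≠ x := by
    intro h
    apply hyx
    have : y * x = x₁ * y := by rw [hx₁]; group
    rw [this, h]
  have hx₂x₁ : x₂ ≠ x₁ := by
    intro h
    apply hx₁1
    apply hfix x₁ hx₁V
    have : y * x₁ = x₂ * y := by rw [hx₂]; group
    rw [this, h]
  have hx₂x : x₂ ≠ x := by
    intro h
    -- then `x * x₁` is fixed by `y`
    have hcomm : x * x₁ = x₁ * x := mc.sylow_q_comm h2p Q x hxQ x₁ hx1Q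
    have hfixed : y * (x * x₁) = (x * x₁) * y := by
      have h1 : y * (x * x₁) = (y * x * y⁻¹) * (y * x₁ * y⁻¹) * y := by group
      rw [h1, ← hx₁, ← hx₂, h, ← hcomm]
    have h3 := hfix (x * x₁) (mul_mem hxV hx₁V) hfixed
    have hxx : x * x = 1 := by rw [← sq, ← hx, pow_orderOf_eq_one]
    apply hx₁x
    calc x₁ = x * (x * x₁) := by rw [← mul_assoc, hxx, one_mul]
      _ = x := by rw [h3, mul_one]
  -- the four elements exhaust `V`
  let S : Finset G := {1, x, x₁, x₂}
  have hScard : S.card = 4 := by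
    have h1 : x₁ ∉ ({x₂} : Finset G) := by
      rw [Finset.mem_singleton]; exact fun h => hx₂x₁ h.symm
    have h2 : x ∉ ({x₁, x₂} : Finset G) := by
      rw [Finset.mem_insert, Finset.mem_singleton]
      rintro (h | h)
      · exact hx₁x h.symm
      · exact hx₂x h.symm
    have h3 : (1 : G) ∉ ({x, x₁, x₂} : Finset G) := by
      rw [Finset.mem_insert, Finset.mem_insert, Finset.mem_singleton]
      rintro (h | h | h)
      · exact hx1 h.symm
      · exact hx₁1 h.symm
      · exact hx₂1 h.symm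
    rw [Finset.card_insert_of_notMem h3, Finset.card_insert_of_notMem h2,
      Finset.card_insert_of_notMem h1, Finset.card_singleton]
  have hSV : (S : Set G) ⊆ (V : Set G) := by
    intro v hv
    rw [Finset.mem_coe, Finset.mem_insert, Finset.mem_insert, Finset.mem_insert,
      Finset.mem_singleton] at hv
    rcases hv with rfl | rfl | rfl | rfl
    · exact V.one_mem
    · exact hxV
    · exact hx₁V
    · exact hx₂V
  have hSeq : (S : Set G) = (V : Set G) := by
    apply Set.eq_of_subset_of_ncard_le hSV _ (Set.toFinite _)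
    rw [Set.ncard_coe_finset, hScard, ← Nat.card_coe_set_eq]
    exact hcardV.le
  intro v hvQ hv2
  have hvV : v ∈ (V : Set G) := mem_Om.mpr ⟨hvQ, hv2⟩
  rw [← hSeq, Finset.mem_coe, Finset.mem_insert, Finset.mem_insert, Finset.mem_insert,
    Finset.mem_singleton] at hvV
  exact hvV

omit hxP hx in
/-- two non-commuting involutions have a product of order divisible by `p`. -/
theorem p_dvd_orderOf_mul {s s' : G} (hs : orderOf s = 2) (hs' : orderOf s' = 2)
    (hne : s * s' ≠ s' * s) : p ∣ orderOf (s * s') := by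
  have hp : p.Prime := Fact.out
  by_contra hnd
  apply hne
  have hcop : (orderOf (s * s')).Coprime p :=
    ((Nat.Prime.coprime_iff_not_dvd hp).mpr hnd).symm
  have hsN : zpowers s ≤ normalizer ((zpowers (s * s') : Subgroup G) : Set G) := by
    rw [zpowers_le]
    exact mem_normalizer_zpowers_of_conj_inv (conj_mul_of_orderOf_two hs hs').1
  have hcard : (Nat.card ↥(zpowers (s * s') ⊔ zpowers s)).Coprime p := by
    have h1 := Cfsg.Agent.Lib.Helper9.card_sup_dvd_of_le_normalizer hsN
    apply Nat.Coprime.coprime_dvd_left h1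
    rw [Nat.card_zpowers, Nat.card_zpowers, hs]
    apply Nat.Coprime.mul_left hcop
    rw [Nat.coprime_primes Nat.prime_two hp]; exact h2p
  have hab := mc.hyp.ab _ hcard s (le_sup_right (a := zpowers (s * s')) (mem_zpowers s)) (s * s')
    (le_sup_left (b := zpowers s) (mem_zpowers (s * s')))
  -- `s (s s') = (s s') s`
  have h1 := mul_self_of_orderOf_two hs
  have h2 : s' = s * s' * s := by rw [← hab, ← mul_assoc, h1, one_mul]
  calc s * s' = s * (s * s' * s) := by rw [← h2]
    _ = s' * s := by rw [← mul_assoc, ← mul_assoc, h1, one_mul]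

/-- a conjugate of `x` centralizes the conjugate Sylow subgroup. -/
theorem conj_mem_centralizer_smul (g : G) :
    g * x * g⁻¹ ∈ centralizer (((g • P : Sylow p G) : Subgroup G) : Set G) := by
  rw [mem_centralizer_iff]
  intro a ha
  rw [SetLike.mem_coe, Sylow.coe_subgroup_smul, Cfsg.Agent.Lib.Helper1.mem_conj_smul] at ha
  have h1 := mem_centralizer_iff.mp hxP _ ha
  have h2 : a * (g * x * g⁻¹) = g * ((g⁻¹ * a * g) * x) * g⁻¹ := by group
  have h3 : (g * x * g⁻¹) * a = g * (x * (g⁻¹ * a * g)) * g⁻¹ := by group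
  rw [h2, h3, h1]

/-- every involution is conjugate to `x`. -/
theorem involution_conj {s : G} (hs : orderOf s = 2) : ∃ g : G, s = g * x * g⁻¹ := by
  have hz2 : ∀ t : G, orderOf t = 2 → IsPGroup 2 (zpowers t) := fun t ht =>
    IsPGroup.of_card (n := 1) (by rw [Nat.card_zpowers, ht, pow_one])
  obtain ⟨Q, hxQ'⟩ := (hz2 x hx).exists_le_sylow
  obtain ⟨Q', hsQ'⟩ := (hz2 s hs).exists_le_sylow
  have hxQ := hxQ' (mem_zpowers x)
  have hsQ := hsQ' (mem_zpowers s)
  obtain ⟨g, hg⟩ := MulAction.exists_smul_eq G Q' Q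
  have hgs : g * s * g⁻¹ ∈ (Q : Subgroup G) := by
    rw [← hg, Sylow.coe_subgroup_smul, Cfsg.Agent.Lib.Helper1.mem_conj_smul]
    have : g⁻¹ * (g * s * g⁻¹) * g = s := by group
    rw [this]; exact hsQ
  obtain ⟨y, hyN, -, -, hall⟩ := mc.sylow_two_structure P h2p hxP hx Q hxQ
  have hsq : (g * s * g⁻¹) ^ 2 = 1 := by
    rw [conj_pow, ← hs, pow_orderOf_eq_one, mul_one, mul_inv_cancel]
  have hsg : s = g⁻¹ * (g * s * g⁻¹) * g := by group
  rcases hall _ hgs hsq with h | h | h | h
  · exfalso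
    rw [h] at hsg
    apply ne_one_of_orderOf_two hs
    rw [hsg]; group
  · refine ⟨g⁻¹, ?_⟩
    rw [hsg, h, inv_inv]
  · refine ⟨g⁻¹ * y, ?_⟩
    rw [hsg, h]; group
  · refine ⟨g⁻¹ * y * y, ?_⟩
    rw [hsg, h]; group

/-- every involution centralizes some Sylow `p`-subgroup. -/
theorem exists_sylow_of_involution {s : G} (hs : orderOf s = 2) :
    ∃ P' : Sylow p G, s ∈ centralizer ((P' : Subgroup G) : Set G) := by
  obtain ⟨g, rfl⟩ := mc.involution_conj P h2p hxP hx hs
  exact ⟨g • P, mc.conj_mem_centralizer_smul P h2p hxP hx g⟩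

/-- every Sylow `p`-subgroup is centralized by some involution. -/
theorem exists_involution_of_sylow (P' : Sylow p G) :
    ∃ x' : G, x' ∈ centralizer ((P' : Subgroup G) : Set G) ∧ orderOf x' = 2 := by
  obtain ⟨g, rfl⟩ := MulAction.exists_smul_eq G P P'
  exact ⟨g * x * g⁻¹, mc.conj_mem_centralizer_smul P h2p hxP hx g, by rw [orderOf_conj_eq, hx]⟩

/-- the involution centralizing `P` is unique. -/
theorem involution_unique {s : G} (hsP : s ∈ centralizer ((P : Subgroup G) : Set G))
    (hs : orderOf s = 2) : s = x := by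
  have hp : p.Prime := Fact.out
  by_cases hcomm : s * x = x * s
  · -- `s` and `x` lie in a common Sylow `2`-subgroup
    have hxN : zpowers x ≤ normalizer ((zpowers s : Subgroup G) : Set G) := by
      rw [zpowers_le]
      apply mem_normalizer_of_conj_mem
      intro a ha
      obtain ⟨k, rfl⟩ := mem_zpowers_iff.mp ha
      have : Commute x (s ^ k) := (show Commute x s from hcomm.symm).zpow_right k
      rw [this.eq, mul_inv_cancel_right]
      exact zpow_mem (mem_zpowers s) k
    have hcard := Cfsg.Agent.Lib.Helper9.card_sup_dvd_of_le_normalizer hxN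
    rw [Nat.card_zpowers, Nat.card_zpowers, hs, hx] at hcard
    have hcard' : Nat.card ↥(zpowers s ⊔ zpowers x) ∣ 2 ^ 2 := by norm_num; exact hcard
    obtain ⟨i, -, hi⟩ := (Nat.dvd_prime_pow Nat.prime_two).mp hcard'
    have hA : IsPGroup 2 ↥(zpowers s ⊔ zpowers x) := IsPGroup.of_card hi
    obtain ⟨Q, hQ⟩ := hA.exists_le_sylow
    have hsQ : s ∈ (Q : Subgroup G) := hQ (le_sup_left (b := zpowers x) (mem_zpowers s))
    have hxQ : x ∈ (Q : Subgroup G) := hQ (le_sup_right (a := zpowers s) (mem_zpowers x))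
    obtain ⟨-, hcard₀⟩ := mc.card_Om P h2p hxP hx Q hxQ
    apply eq_of_card_two hcard₀ _ _ (ne_one_of_orderOf_two hs) (ne_one_of_orderOf_two hx)
    · exact Subgroup.mem_inf.mpr ⟨mem_Om.mpr ⟨hsQ, by rw [← hs, pow_orderOf_eq_one]⟩, hsP⟩
    · exact Subgroup.mem_inf.mpr ⟨mem_Om.mpr ⟨hxQ, by rw [← hx, pow_orderOf_eq_one]⟩, hxP⟩
  · exfalso
    have hdvd := mc.p_dvd_orderOf_mul h2p hs hx hcomm
    set d := s * x with hd
    set z := d ^ (orderOf d / p) with hz
    have hzp : orderOf z = p :=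
      orderOf_pow_orderOf_div (isOfFinOrder_of_finite d).orderOf_pos.ne' hdvd
    have hdC : d ∈ centralizer ((P : Subgroup G) : Set G) := mul_mem hsP hxP
    have hzC : z ∈ centralizer ((P : Subgroup G) : Set G) := pow_mem hdC _
    have hCN : centralizer ((P : Subgroup G) : Set G) ≤ normalizer ((P : Subgroup G) : Set G) :=
      Subgroup.centralizer_le_normalizer _
    have hzP : z ∈ (P : Subgroup G) :=
      mc.mem_sylow_of_mem_normalizer P (hCN hzC) (j := 1) (by rw [hzp, pow_one])
    have hinv : s * z * s⁻¹ = z⁻¹ := by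
      rw [hz, ← conj_pow, (conj_mul_of_orderOf_two hs hx).1, inv_pow]
    have hsz : z * s = s * z := mem_centralizer_iff.mp hsP z hzP
    have hzz : z = z⁻¹ := by
      rw [← hinv, ← hsz, mul_inv_cancel_right]
    have hz2 : z ^ 2 = 1 := by
      rw [sq]
      nth_rewrite 2 [hzz]
      exact mul_inv_cancel z
    have h2 : p ∣ 2 := hzp ▸ orderOf_dvd_of_pow_eq_one hz2
    exact h2p ((Nat.prime_dvd_prime_iff_eq hp Nat.prime_two).mp h2).symm

/-- `N_G(P) ≤ C_G(x)`. -/
theorem normalizer_le_centralizer_x :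
    normalizer ((P : Subgroup G) : Set G) ≤ centralizer ({x} : Set G) := by
  intro n hn
  have h1 := mc.conj_mem_centralizer_smul P h2p hxP hx n
  have hnP : n • P = P := Sylow.smul_eq_iff_mem_normalizer.mpr hn
  rw [hnP] at h1
  have h2 := mc.involution_unique P h2p hxP hx h1 (by rw [orderOf_conj_eq, hx])
  rw [mem_centralizer_iff]
  intro y hy
  rw [Set.mem_singleton_iff] at hy
  rw [hy]
  calc x * n = (n * x * n⁻¹) * n := by rw [h2]
    _ = n * x := by group

/-- `N_G(⟨z⟩) ≤ N_G(P)` for `z ∈ P` of order `p`. -/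
theorem normalizer_zpowers_le {z : G} (hz : z ∈ (P : Subgroup G)) (hzp : orderOf z = p) :
    normalizer ((zpowers z : Subgroup G) : Set G) ≤ normalizer ((P : Subgroup G) : Set G) := by
  have hp : p.Prime := Fact.out
  have hz2 : IsPGroup 2 (zpowers x) :=
    IsPGroup.of_card (n := 1) (by rw [Nat.card_zpowers, hx, pow_one])
  obtain ⟨Q, hxQ'⟩ := hz2.exists_le_sylow
  have hxQ := hxQ' (mem_zpowers x)
  obtain ⟨y, hyN, hx₁N, hx₁C, -⟩ := mc.sylow_two_structure P h2p hxP hx Q hxQ
  set x₁ := y * x * y⁻¹ with hx₁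
  have hx₁o : orderOf x₁ = 2 := by rw [hx₁, orderOf_conj_eq, hx]
  have hcop2 : (2 : ℕ).Coprime p := by
    rw [Nat.coprime_primes Nat.prime_two hp]; exact h2p
  -- `x₁` does not centralize `z`
  have hx₁z : x₁ * z ≠ z * x₁ := by
    intro hcomm
    apply hx₁C
    rw [mem_centralizer_iff]
    intro t ht
    refine (commute_of_trivial_on_omega P.2 (mc.sylow_comm P) hx₁N (by rw [hx₁o]; exact hcop2)
      ?_ t ht).symm
    intro z' hz' hz'p
    obtain ⟨k, rfl⟩ := mem_zpowers_iff.mp (mc.mem_zpowers_of_pow_eq_one P hz hzp hz' hz'p)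
    exact ((show Commute x₁ z from hcomm).zpow_right k).eq
  -- `x₁` normalizes `⟨z⟩`
  have hx₁Z : x₁ ∈ normalizer ((zpowers z : Subgroup G) : Set G) := by
    apply mem_normalizer_of_conj_mem
    intro a ha
    apply mc.mem_zpowers_of_pow_eq_one P hz hzp
    · exact (mem_normalizer_iff.mp hx₁N a).mp (zpowers_le.mpr hz ha)
    · rw [conj_pow]
      have : a ^ p = 1 := by
        obtain ⟨k, rfl⟩ := mem_zpowers_iff.mp ha
        rw [← zpow_natCast, ← zpow_mul, mul_comm, zpow_mul, zpow_natCast, ← hzp,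
          pow_orderOf_eq_one, one_zpow]
      rw [this, mul_one, mul_inv_cancel]
  have hPZ : (P : Subgroup G) ≤ normalizer ((zpowers z : Subgroup G) : Set G) := by
    intro a ha
    apply mem_normalizer_of_conj_mem
    intro b hb
    have : a * b = b * a := mc.sylow_comm P a ha b (zpowers_le.mpr hz hb)
    rw [this, mul_inv_cancel_right]; exact hb
  have hne : normalizer ((zpowers z : Subgroup G) : Set G) ≠ ⊤ := by
    intro htop
    haveI hZn : (zpowers z).Normal := normalizer_eq_top_iff.mp htop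
    have hidx : (centralizer ((zpowers z : Subgroup G) : Set G)).index ∣ p - 1 := by
      have h1 := Cfsg.Agent.Lib.Helper7.relIndex_centralizer_normalizer_dvd (zpowers z)
      rw [htop, Subgroup.relIndex_top_right] at h1
      haveI : IsCyclic (zpowers z) := inferInstance
      rw [IsCyclic.card_mulAut, Nat.card_zpowers, hzp, Nat.totient_prime hp] at h1
      exact h1
    have hcopi : (centralizer ((zpowers z : Subgroup G) : Set G)).index.Coprime p := by
      apply Nat.Coprime.coprime_dvd_left hidx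
      rw [Nat.coprime_comm, Nat.Prime.coprime_iff_not_dvd hp]
      intro h
      have h2 := hp.two_le
      have := Nat.le_of_dvd (by omega) h
      omega
    have hCtop : centralizer ((zpowers z : Subgroup G) : Set G) = ⊤ := by
      by_contra hCne
      exact mc.false_of_index_coprime _ hCne hcopi
    apply hx₁z
    have : x₁ ∈ centralizer ((zpowers z : Subgroup G) : Set G) := hCtop ▸ mem_top x₁
    exact (mem_centralizer_iff.mp this z (mem_zpowers z)).symm
  obtain ⟨n, hn⟩ := IsPGroup.iff_card.mp P.2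
  rcases mc.ih _ hne with ⟨K, hKH, hHK, hKcop, k, hk⟩ | ⟨S, hSH, hHS, hS, m, hm, hmcop⟩
  · exfalso
    have hx₁K : x₁ ∈ K := by
      have : zpowers x₁ ≤ K := by
        apply le_of_coprime_of_le_normalizer hKH (zpowers_le.mpr hx₁Z)
          (Or.inl ((zpowers_le.mpr hx₁Z).trans hHK)) hk
        rw [Nat.card_zpowers, hx₁o]
        exact Nat.Coprime.pow_right k hcop2
      exact this (mem_zpowers x₁)
    have hKP : K ⊓ (P : Subgroup G) = ⊥ := by
      apply (Subgroup.disjoint_of_coprime_natCard _).eq_bot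
      rw [hn]; exact Nat.Coprime.pow_right n hKcop
    apply hx₁C
    rw [mem_centralizer_iff]
    intro a ha
    have hc : a * x₁ * a⁻¹ * x₁⁻¹ ∈ K ⊓ (P : Subgroup G) := by
      refine Subgroup.mem_inf.mpr ⟨?_, ?_⟩
      · exact mul_mem ((mem_normalizer_iff.mp (hHK (hPZ ha)) x₁).mp hx₁K) (inv_mem hx₁K)
      · have : a * x₁ * a⁻¹ * x₁⁻¹ = a * (x₁ * a⁻¹ * x₁⁻¹) := by group
        rw [this]
        exact mul_mem ha ((mem_normalizer_iff.mp hx₁N a⁻¹).mp (inv_mem ha))
    rw [hKP, mem_bot] at hc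
    calc a * x₁ = (a * x₁ * a⁻¹ * x₁⁻¹) * x₁ * a := by group
      _ = x₁ * a := by rw [hc, one_mul]
  · have hPS : (P : Subgroup G) ≤ S :=
      le_of_coprime_of_le_normalizer hSH hPZ (Or.inl (hPZ.trans hHS)) hm
        (by rw [hn]; exact Nat.Coprime.pow_left n hmcop.symm)
    have hSP : S = P := P.is_maximal' hS hPS
    rw [← hSP]; exact hHS

/-- two non-commuting involutions commute with exactly one common involution. -/
theorem common_of_not_commute {s s' : G} (hs : orderOf s = 2) (hs' : orderOf s' = 2)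
    (hne : s * s' ≠ s' * s) :
    ∃ u : G, orderOf u = 2 ∧ u * s = s * u ∧ u * s' = s' * u ∧
      ∀ w : G, orderOf w = 2 → w * s = s * w → w * s' = s' * w → w = u := by
  have hp : p.Prime := Fact.out
  have hdvd := mc.p_dvd_orderOf_mul h2p hs hs' hne
  set d := s * s' with hd
  set z := d ^ (orderOf d / p) with hz
  have hzp : orderOf z = p :=
    orderOf_pow_orderOf_div (isOfFinOrder_of_finite d).orderOf_pos.ne' hdvd
  have hzpg : IsPGroup p (zpowers z) :=
    IsPGroup.of_card (n := 1) (by rw [Nat.card_zpowers, hzp, pow_one])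
  obtain ⟨P', hzP''⟩ := hzpg.exists_le_sylow
  have hzP' : z ∈ (P' : Subgroup G) := hzP'' (mem_zpowers z)
  obtain ⟨x', hx'P', hx'⟩ := mc.exists_involution_of_sylow P h2p hxP hx P'
  have hsinv : s * z * s⁻¹ = z⁻¹ := by
    rw [hz, ← conj_pow, (conj_mul_of_orderOf_two hs hs').1, inv_pow]
  have hs'inv : s' * z * s'⁻¹ = z⁻¹ := by
    rw [hz, ← conj_pow, (conj_mul_of_orderOf_two hs hs').2, inv_pow]
  have hNle := mc.normalizer_zpowers_le P' h2p hx'P' hx' hzP' hzp
  have hNC := mc.normalizer_le_centralizer_x P' h2p hx'P' hx'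
  have hsC : s ∈ centralizer ({x'} : Set G) :=
    hNC (hNle (mem_normalizer_zpowers_of_conj_inv hsinv))
  have hs'C : s' ∈ centralizer ({x'} : Set G) :=
    hNC (hNle (mem_normalizer_zpowers_of_conj_inv hs'inv))
  refine ⟨x', hx', mem_centralizer_iff.mp hsC x' (Set.mem_singleton x'),
    mem_centralizer_iff.mp hs'C x' (Set.mem_singleton x'), ?_⟩
  intro w hw hws hws'
  have hwd : Commute w d := (show Commute w s from hws).mul_right (show Commute w s' from hws')
  have hwz : Commute w z := hwd.pow_right _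
  have hwNz : w ∈ normalizer ((zpowers z : Subgroup G) : Set G) := by
    apply mem_normalizer_of_conj_mem
    intro a ha
    obtain ⟨k, rfl⟩ := mem_zpowers_iff.mp ha
    rw [(hwz.zpow_right k).eq, mul_inv_cancel_right]
    exact ha
  have hwN : w ∈ normalizer ((P' : Subgroup G) : Set G) := hNle hwNz
  have hcop2 : (orderOf w).Coprime p := by
    rw [hw, Nat.coprime_primes Nat.prime_two hp]; exact h2p
  have hwC : w ∈ centralizer ((P' : Subgroup G) : Set G) := by
    rw [mem_centralizer_iff]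
    intro t ht
    refine (commute_of_trivial_on_omega P'.2 (mc.sylow_comm P') hwN hcop2 ?_ t ht).symm
    intro z' hz' hz'p
    obtain ⟨k, rfl⟩ := mem_zpowers_iff.mp (mc.mem_zpowers_of_pow_eq_one P' hzP' hzp hz' hz'p)
    exact (hwz.zpow_right k).eq
  exact mc.involution_unique P' h2p hx'P' hx' hwC hw

/-- two distinct commuting involutions commute with exactly one further involution, their
product. -/
theorem common_of_commute {s s' w : G} (hs : orderOf s = 2) (hs' : orderOf s' = 2)
    (hw : orderOf w = 2) (hss' : s ≠ s') (hc : s * s' = s' * s) (hws : w * s = s * w)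
    (hws' : w * s' = s' * w) (hw1 : w ≠ s) (hw2 : w ≠ s') : w = s * s' := by
  -- `s, s', w` generate a `2`-group
  have hs'N : zpowers s' ≤ normalizer ((zpowers s : Subgroup G) : Set G) := by
    rw [zpowers_le]
    apply mem_normalizer_of_conj_mem
    intro a ha
    obtain ⟨k, rfl⟩ := mem_zpowers_iff.mp ha
    have : Commute s' (s ^ k) := (show Commute s' s from hc.symm).zpow_right k
    rw [this.eq, mul_inv_cancel_right]
    exact ha
  have hcard1 := Cfsg.Agent.Lib.Helper9.card_sup_dvd_of_le_normalizer hs'N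
  rw [Nat.card_zpowers, Nat.card_zpowers, hs, hs'] at hcard1
  have hBw : zpowers s ⊔ zpowers s' ≤ centralizer ({w} : Set G) := by
    apply sup_le
    · rw [zpowers_le, mem_centralizer_iff]
      intro y hy
      rw [Set.mem_singleton_iff] at hy
      rw [hy]; exact hws
    · rw [zpowers_le, mem_centralizer_iff]
      intro y hy
      rw [Set.mem_singleton_iff] at hy
      rw [hy]; exact hws'
  have hwN : zpowers w ≤ normalizer ((zpowers s ⊔ zpowers s' : Subgroup G) : Set G) := by
    rw [zpowers_le]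
    apply mem_normalizer_of_conj_mem
    intro a ha
    have := mem_centralizer_iff.mp (hBw ha) w (Set.mem_singleton w)
    rw [this, mul_inv_cancel_right]
    exact ha
  have hcard2 := Cfsg.Agent.Lib.Helper9.card_sup_dvd_of_le_normalizer hwN
  rw [Nat.card_zpowers, hw] at hcard2
  have hcard3 : Nat.card ↥((zpowers s ⊔ zpowers s') ⊔ zpowers w) ∣ 2 ^ 3 := by
    refine hcard2.trans ?_
    have : (2 : ℕ) ^ 3 = (2 * 2) * 2 := by norm_num
    rw [this]
    exact Nat.mul_dvd_mul_right hcard1 2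
  obtain ⟨i, -, hi⟩ := (Nat.dvd_prime_pow Nat.prime_two).mp hcard3
  have hA : IsPGroup 2 ↥((zpowers s ⊔ zpowers s') ⊔ zpowers w) := IsPGroup.of_card hi
  obtain ⟨Q, hQ⟩ := hA.exists_le_sylow
  have hsQ : s ∈ (Q : Subgroup G) :=
    hQ (le_sup_left (b := zpowers w) (le_sup_left (b := zpowers s') (mem_zpowers s)))
  have hs'Q : s' ∈ (Q : Subgroup G) :=
    hQ (le_sup_left (b := zpowers w) (le_sup_right (a := zpowers s) (mem_zpowers s')))
  have hwQ : w ∈ (Q : Subgroup G) :=
    hQ (le_sup_right (a := zpowers s ⊔ zpowers s') (mem_zpowers w))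
  obtain ⟨P_s, hsP⟩ := mc.exists_sylow_of_involution P h2p hxP hx hs
  obtain ⟨y, -, -, -, hall⟩ := mc.sylow_two_structure P_s h2p hsP hs Q hsQ
  have h1 := mul_self_of_orderOf_two hs
  have h2 := mul_self_of_orderOf_two hs'
  have hss1 : s * s' ≠ 1 := by
    intro h
    apply hss'
    calc s = s * (s' * s') := by rw [h2, mul_one]
      _ = s' := by rw [← mul_assoc, h, one_mul]
  have hsss : s * s' ≠ s := by
    intro h
    apply ne_one_of_orderOf_two hs'
    calc s' = s * (s * s') := by rw [← mul_assoc, h1, one_mul]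
      _ = 1 := by rw [h, h1]
  have hsss' : s * s' ≠ s' := by
    intro h
    apply ne_one_of_orderOf_two hs
    calc s = (s * s') * s' := by rw [mul_assoc, h2, mul_one]
      _ = 1 := by rw [h, h2]
  have hsq : (s * s') ^ 2 = 1 := by
    rw [sq]
    calc s * s' * (s * s') = s * (s' * s) * s' := by group
      _ = s * (s * s') * s' := by rw [hc]
      _ = (s * s) * (s' * s') := by group
      _ = 1 := by rw [h1, h2, one_mul]
  have key : ∀ v ∈ (Q : Subgroup G), v ^ 2 = 1 → v ≠ 1 → v ≠ s →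
      v = y * s * y⁻¹ ∨ v = y * (y * s * y⁻¹) * y⁻¹ := by
    intro v hv hv2 hv1 hvs
    rcases hall v hv hv2 with h | h | h | h
    · exact absurd h hv1
    · exact absurd h hvs
    · exact Or.inl h
    · exact Or.inr h
  have hA := key s' hs'Q (by rw [← hs', pow_orderOf_eq_one]) (ne_one_of_orderOf_two hs')
    (Ne.symm hss')
  have hB := key w hwQ (by rw [← hw, pow_orderOf_eq_one]) (ne_one_of_orderOf_two hw) hw1
  have hC := key (s * s') (mul_mem hsQ hs'Q) hsq hss1 hsss
  rcases hA with a | a <;> rcases hB with b | b <;> rcases hC with c | c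
  · exact absurd (b.trans a.symm) hw2
  · exact absurd (b.trans a.symm) hw2
  · exact absurd (c.trans a.symm) hsss'
  · exact b.trans c.symm
  · exact b.trans c.symm
  · exact absurd (c.trans a.symm) hsss'
  · exact absurd (b.trans a.symm) hw2
  · exact absurd (b.trans a.symm) hw2

/-- there are two non-commuting involutions. -/
theorem exists_noncommuting :
    ∃ s s' : G, orderOf s = 2 ∧ orderOf s' = 2 ∧ s * s' ≠ s' * s := by
  have hp : p.Prime := Fact.out
  have hz2 : IsPGroup 2 (zpowers x) :=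
    IsPGroup.of_card (n := 1) (by rw [Nat.card_zpowers, hx, pow_one])
  obtain ⟨Q, hxQ'⟩ := hz2.exists_le_sylow
  have hxQ := hxQ' (mem_zpowers x)
  obtain ⟨y, hyN, hx₁N, hx₁C, -⟩ := mc.sylow_two_structure P h2p hxP hx Q hxQ
  set x₁ := y * x * y⁻¹ with hx₁
  have hx₁o : orderOf x₁ = 2 := by rw [hx₁, orderOf_conj_eq, hx]
  rw [mem_centralizer_iff] at hx₁C
  push Not at hx₁C
  obtain ⟨a, ha, hax⟩ := hx₁C
  refine ⟨x₁, a * x₁ * a⁻¹, hx₁o, by rw [orderOf_conj_eq, hx₁o], ?_⟩
  intro hcomm
  have h1 := mul_self_of_orderOf_two hx₁o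
  have hinv := inv_of_orderOf_two hx₁o
  obtain ⟨c, hc⟩ : ∃ c : G, c = x₁ * (a * x₁ * a⁻¹) := ⟨_, rfl⟩
  have hcP : c ∈ (P : Subgroup G) := by
    have : c = (x₁ * a * x₁⁻¹) * a⁻¹ := by rw [hc, hinv]; group
    rw [this]
    exact mul_mem ((mem_normalizer_iff.mp hx₁N a).mp ha) (inv_mem ha)
  have hc2 : c ^ 2 = 1 := by
    rw [sq]
    have h3 : (a * x₁ * a⁻¹) * (a * x₁ * a⁻¹) = 1 := by
      calc (a * x₁ * a⁻¹) * (a * x₁ * a⁻¹) = a * (x₁ * x₁) * a⁻¹ := by group
        _ = 1 := by rw [h1, mul_one, mul_inv_cancel]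
    calc c * c = x₁ * ((a * x₁ * a⁻¹) * x₁) * (a * x₁ * a⁻¹) := by rw [hc]; group
      _ = x₁ * (x₁ * (a * x₁ * a⁻¹)) * (a * x₁ * a⁻¹) := by rw [hcomm]
      _ = (x₁ * x₁) * ((a * x₁ * a⁻¹) * (a * x₁ * a⁻¹)) := by group
      _ = 1 := by rw [h1, h3, one_mul]
  obtain ⟨n, hn⟩ := IsPGroup.iff_card.mp P.2
  have ho1 : orderOf c ∣ 2 := orderOf_dvd_of_pow_eq_one hc2
  have ho2 : orderOf c ∣ p ^ n := by
    rw [← hn, ← Subgroup.orderOf_mk c hcP]
    exact orderOf_dvd_natCard _
  have hcop : (2 : ℕ).Coprime (p ^ n) := by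
    apply Nat.Coprime.pow_right
    rw [Nat.coprime_primes Nat.prime_two hp]; exact h2p
  have ho : orderOf c = 1 := Nat.eq_one_of_dvd_coprimes hcop ho1 ho2
  rw [orderOf_eq_one_iff] at ho
  apply hax
  -- `x₁ (a x₁ a⁻¹) = 1` gives `a x₁ = x₁ a`
  have h4 : a * x₁ * a⁻¹ = x₁ := by
    calc a * x₁ * a⁻¹ = (x₁ * x₁) * (a * x₁ * a⁻¹) := by rw [h1, one_mul]
      _ = x₁ * c := by rw [hc]; group
      _ = x₁ := by rw [ho, mul_one]
  calc a * x₁ = (a * x₁ * a⁻¹) * a := by group
    _ = x₁ * a := by rw [h4]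

end withx

end MC

end Cfsg.Agent.Lib.Helper2.CycSyl
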