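import Mathlib
import Cfsg.Prelude
import Cfsg.Agent.Lib.Helper2.CycSylD
import Cfsg.Agent.Lib.Helper2.Friendship

/-!
# Cyclic Sylow `p`-subgroup and abelian `p'`-subgroups (helper2), part E

The commuting graph on involutions of the minimal counterexample is a friendship graph; the
friendship theorem gives the final contradiction.  Main theorem `cyclic_sylow_main`.
-/

set_option autoImplicit false
set_option linter.unusedSectionVars false
set_option linter.unusedVariables false

open Subgroup Pointwise
open scoped commutatorElement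

namespace Cfsg.Agent.Lib.Helper2.CycSyl

/-- the involutions of a group. -/
abbrev Invol (G : Type*) [Group G] : Type _ := {s : G // orderOf s = 2}

/-- the commuting graph on involutions. -/
def commGraph (G : Type*) [Group G] : SimpleGraph (Invol G) where
  Adj s t := s ≠ t ∧ (s : G) * (t : G) = (t : G) * (s : G)
  symm := ⟨fun s t h => ⟨h.1.symm, h.2.symm⟩⟩
  loopless := ⟨fun s h => h.1 rfl⟩

variable {G : Type*} [Group G] [Finite G] {p : ℕ} [Fact p.Prime]

/-- there is no minimal counterexample. -/
theorem MC.false (mc : MC p G) : False := by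
  classical
  obtain ⟨hp3, P, x, hxP, hx⟩ := mc.exists_involution_centralizer
  have h2p : 2 ≠ p := by omega
  haveI : Fintype (Invol G) := Fintype.ofFinite _
  haveI : Nonempty (Invol G) := ⟨⟨x, hx⟩⟩
  have hF : FriendshipThm.Friendship (commGraph G) := by
    intro v w hvw
    rw [Fintype.card_eq_one_iff]
    have hvw' : (v : G) ≠ (w : G) := fun h => hvw (Subtype.ext h)
    have hv1 := mul_self_of_orderOf_two v.2
    have hw1 := mul_self_of_orderOf_two w.2
    by_cases hc : (v : G) * (w : G) = (w : G) * (v : G)
    · -- commuting involutions: the unique common neighbour is the product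
      have hc1 : (v : G) * (w : G) ≠ 1 := by
        intro h
        apply hvw'
        calc (v : G) = (v : G) * ((w : G) * (w : G)) := by rw [hw1, mul_one]
          _ = (w : G) := by rw [← mul_assoc, h, one_mul]
      have hc2 : ((v : G) * (w : G)) ^ 2 = 1 := by
        rw [sq]
        calc (v : G) * (w : G) * ((v : G) * (w : G))
            = (v : G) * ((w : G) * (v : G)) * (w : G) := by group
          _ = (v : G) * ((v : G) * (w : G)) * (w : G) := by rw [hc]
          _ = ((v : G) * (v : G)) * ((w : G) * (w : G)) := by group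
          _ = 1 := by rw [hv1, hw1, one_mul]
      have ho : orderOf ((v : G) * (w : G)) = 2 := orderOf_eq_prime hc2 hc1
      have hcv : (v : G) * (w : G) ≠ (v : G) := by
        intro h
        apply ne_one_of_orderOf_two w.2
        calc (w : G) = (v : G) * ((v : G) * (w : G)) := by rw [← mul_assoc, hv1, one_mul]
          _ = 1 := by rw [h, hv1]
      have hcw : (v : G) * (w : G) ≠ (w : G) := by
        intro h
        apply ne_one_of_orderOf_two v.2
        calc (v : G) = ((v : G) * (w : G)) * (w : G) := by rw [mul_assoc, hw1, mul_one]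
          _ = 1 := by rw [h, hw1]
      refine ⟨⟨⟨(v : G) * (w : G), ho⟩, ?_⟩, ?_⟩
      · rw [SimpleGraph.mem_commonNeighbors]
        refine ⟨⟨fun h => hcv (congrArg Subtype.val h).symm, ?_⟩,
          ⟨fun h => hcw (congrArg Subtype.val h).symm, ?_⟩⟩
        · show (v : G) * ((v : G) * (w : G)) = (v : G) * (w : G) * (v : G)
          rw [mul_assoc, hc]
        · show (w : G) * ((v : G) * (w : G)) = (v : G) * (w : G) * (w : G)
          rw [← mul_assoc, hc]
      · rintro ⟨y, hy⟩
        rw [SimpleGraph.mem_commonNeighbors] at hy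
        obtain ⟨⟨hvy, hvy'⟩, ⟨hwy, hwy'⟩⟩ := hy
        apply Subtype.ext
        apply Subtype.ext
        show (y : G) = (v : G) * (w : G)
        exact mc.common_of_commute P h2p hxP hx v.2 w.2 y.2 hvw' hc hvy'.symm hwy'.symm
          (fun h => hvy (Subtype.ext h).symm) (fun h => hwy (Subtype.ext h).symm)
    · -- non-commuting involutions
      obtain ⟨u, hu, huv, huw, huniq⟩ := mc.common_of_not_commute P h2p hxP hx v.2 w.2 hc
      have huv' : u ≠ (v : G) := by
        rintro rfl
        exact hc huw
      have huw' : u ≠ (w : G) := by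
        rintro rfl
        exact hc huv.symm
      refine ⟨⟨⟨u, hu⟩, ?_⟩, ?_⟩
      · rw [SimpleGraph.mem_commonNeighbors]
        exact ⟨⟨fun h => huv' (congrArg Subtype.val h).symm, huv.symm⟩,
          ⟨fun h => huw' (congrArg Subtype.val h).symm, huw.symm⟩⟩
      · rintro ⟨y, hy⟩
        rw [SimpleGraph.mem_commonNeighbors] at hy
        obtain ⟨⟨hvy, hvy'⟩, ⟨hwy, hwy'⟩⟩ := hy
        apply Subtype.ext
        apply Subtype.ext
        show (y : G) = u
        exact huniq y y.2 hvy'.symm hwy'.symm
  obtain ⟨u, hu⟩ := FriendshipThm.friendship_theorem hF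
  obtain ⟨P_u, huP⟩ := mc.exists_sylow_of_involution P h2p hxP hx u.2
  obtain ⟨s, s', hs, hs', hne⟩ := mc.exists_noncommuting P h2p hxP hx
  obtain ⟨g, hg⟩ := mc.involution_conj P_u h2p huP u.2 hs
  -- `t = g⁻¹ s' g` commutes with `u`
  have hto : orderOf (g⁻¹ * s' * g) = 2 := by
    have := orderOf_conj_eq g⁻¹ s'
    rw [inv_inv] at this
    rw [this, hs']
  have hcomm : (u : G) * (g⁻¹ * s' * g) = (g⁻¹ * s' * g) * (u : G) := by
    by_cases h : u = ⟨g⁻¹ * s' * g, hto⟩
    · have : (u : G) = g⁻¹ * s' * g := congrArg Subtype.val h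
      rw [← this]
    · exact (hu ⟨g⁻¹ * s' * g, hto⟩ h).2
  apply hne
  have hs'g : s' = g * (g⁻¹ * s' * g) * g⁻¹ := by group
  rw [hg, hs'g]
  calc g * (u : G) * g⁻¹ * (g * (g⁻¹ * s' * g) * g⁻¹)
      = g * ((u : G) * (g⁻¹ * s' * g)) * g⁻¹ := by group
    _ = g * ((g⁻¹ * s' * g) * (u : G)) * g⁻¹ := by rw [hcomm]
    _ = g * (g⁻¹ * s' * g) * g⁻¹ * (g * (u : G) * g⁻¹) := by group

/-- the hypotheses pass to subgroups. -/
theorem Hyp.subgroup (h : Hyp p G) (H : Subgroup G) : Hyp p H := by
  constructor
  · intro S hS
    have h1 : IsCyclic (S.map H.subtype) := h.cyc _ (hS.map H.subtype)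
    exact isCyclic_of_surjective (S.equivMapOfInjective H.subtype H.subtype_injective).symm
      (S.equivMapOfInjective H.subtype H.subtype_injective).symm.surjective
  · intro L hL a ha b hb
    have hcard : (Nat.card (L.map H.subtype)).Coprime p := by
      rwa [Nat.card_congr (L.equivMapOfInjective H.subtype H.subtype_injective).symm.toEquiv]
    have := h.ab _ hcard (a : G) ⟨a, ha, rfl⟩ (b : G) ⟨b, hb, rfl⟩
    exact Subtype.ext this

universe u

/-- main theorem, internal form. -/
theorem cyclic_sylow_aux (n : ℕ) : ∀ (G : Type u) [Group G] [Finite G], Nat.card G = n →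
    Hyp p G → PNil p (⊤ : Subgroup G) ∨ PClo p (⊤ : Subgroup G) := by
  induction n using Nat.strong_induction_on with
  | _ n ih =>
    intro G _ _ hn hyp
    by_contra hcon
    push Not at hcon
    obtain ⟨hnn, hnc⟩ := hcon
    refine MC.false (p := p) (G := G) ⟨hyp, ?_, hnn, hnc⟩
    intro H hH
    have hlt : Nat.card H < n := hn ▸ Cfsg.Agent.Lib.Helper1.card_subgroup_lt_of_ne_top hH
    rcases ih _ hlt H rfl (hyp.subgroup H) with h | h
    · exact Or.inl (pNil_of_hasNormalPComplement H (hasNormalPComplement_of_pNil_top h))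
    · obtain ⟨S₀⟩ : Nonempty (Sylow p H) := inferInstance
      exact Or.inr (pClo_of_normal_sylow H S₀ (normal_of_pClo_top h S₀))

/-- **Main theorem**: a finite group with a cyclic Sylow `p`-subgroup all of whose `p'`-subgroups are
abelian has a normal `p`-complement or a normal Sylow `p`-subgroup. -/
theorem cyclic_sylow_main {G : Type u} [Group G] [Finite G] (P : Sylow p G)
    (hcyc : IsCyclic (P : Subgroup G))
    (hab : ∀ H : Subgroup G, ¬ p ∣ Nat.card H → IsMulCommutative H) :
    Cfsg.HasNormalPComplement p G ∨ (P : Subgroup G).Normal := by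
  have hp : p.Prime := Fact.out
  have hyp : Hyp p G := by
    constructor
    · intro S hS
      obtain ⟨Q', hSQ'⟩ := hS.exists_le_sylow
      obtain ⟨g, hg⟩ := MulAction.exists_smul_eq G P Q'
      haveI hQ'c : IsCyclic (Q' : Subgroup G) := by
        rw [← hg, Sylow.coe_subgroup_smul]
        exact isCyclic_of_surjective (Subgroup.equivSMul (MulAut.conj g) (P : Subgroup G))
          (Subgroup.equivSMul (MulAut.conj g) (P : Subgroup G)).surjective
      haveI : IsCyclic (S.subgroupOf (Q' : Subgroup G)) := inferInstance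
      exact isCyclic_of_surjective (Subgroup.subgroupOfEquivOfLe hSQ')
        (Subgroup.subgroupOfEquivOfLe hSQ').surjective
    · intro H hH a ha b hb
      have hnd : ¬ p ∣ Nat.card H := by
        rw [← Nat.Prime.coprime_iff_not_dvd hp]; exact hH.symm
      haveI := hab H hnd
      have := mul_comm' (⟨a, ha⟩ : H) ⟨b, hb⟩
      exact congrArg Subtype.val this
  rcases cyclic_sylow_aux (p := p) _ G rfl hyp with h | h
  · exact Or.inl (hasNormalPComplement_of_pNil_top h)
  · exact Or.inr (normal_of_pClo_top h P)

end Cfsg.Agent.Lib.Helper2.CycSyl
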