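import Cfsg.Agent.Lib.Helper16.StCCB.Defs

/-!
# S2400, type `D₄`, `|K| ≥ 3`: orthogonal pairs of roots by conjugation

For an orthogonal pair `(r', s')` of roots of a simply laced system pick a root `b` with
`r = r' - b`, `s = s' - b` roots (then `r ⟂ s`, and `q = b + r + s` is a root).  Conjugating the
relation `φ_s(u) φ_r(t) = φ_r(t) φ_s(u) c` (`c` central) by `φ_b(1)` and re-ordering with the
relations (R2) of the NON-orthogonal pairs `(b,r)`, `(b,s)`, `(r,s')`, `(r',s)` gives that the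
central defect of `(r', s')` is trivial.  Pure group theory (no hypothesis on the field).
-/

set_option autoImplicit false

namespace Cfsg.Agent.Lib.Helper2.D4CC

open Cfsg.Agent.Lib.Helper14.StCC.B

variable {K E : Type*} [Field K] [Group E]

/-- the abstract re-ordering computation -/
theorem defect_eq_one (g R Sx R' S' Q1 Q2 c c' : E)
    (hbr : R * g = g * R * R') (hbs : Sx * g = g * Sx * S')
    (ha : S' * R = R * S' * Q1) (hb : Sx * R' = R' * Sx * Q2)
    (hQ1R' : Q1 * R' = R' * Q1) (hQ2S' : Q2 * S' = S' * Q2) (hQQ : Q2 * Q1 = 1)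
    (hcz : ∀ x : E, x * c = c * x) (hc_ : Sx * R = R * Sx * c)
    (hc'z : ∀ z : E, z * c' = c' * z) (hd : S' * R' = R' * S' * c') : c' = 1 := by
  -- conjugation by `g`
  have hconjR : g⁻¹ * R * g = R * R' := by
    rw [mul_assoc, hbr]
    group
  have hconjS : g⁻¹ * Sx * g = Sx * S' := by
    rw [mul_assoc, hbs]
    group
  have hconjc : g⁻¹ * c * g = c := by
    rw [hcz g⁻¹]
    group
  have E1 : Sx * S' * (R * R') = R * R' * (Sx * S') * c := by
    have e1 : g⁻¹ * (Sx * R) * g = g⁻¹ * (R * Sx * c) * g := by rw [hc_]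
    have e2 : g⁻¹ * (Sx * R) * g = (g⁻¹ * Sx * g) * (g⁻¹ * R * g) := by group
    have e3 : g⁻¹ * (R * Sx * c) * g = (g⁻¹ * R * g) * (g⁻¹ * Sx * g) * (g⁻¹ * c * g) := by group
    rw [e2, e3, hconjR, hconjS, hconjc] at e1
    exact e1
  -- re-ordering the left side
  have E2 : Sx * S' * (R * R') = R * R' * (Sx * S') * (c' * c) := by
    calc Sx * S' * (R * R') = Sx * (S' * R) * R' := by group
      _ = Sx * (R * S' * Q1) * R' := by rw [ha]
      _ = (Sx * R) * S' * (Q1 * R') := by group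
      _ = (R * Sx * c) * S' * (R' * Q1) := by rw [hc_, hQ1R']
      _ = R * Sx * c * (S' * R') * Q1 := by group
      _ = R * Sx * c * (R' * S' * c') * Q1 := by rw [hd]
      _ = R * Sx * (c * (R' * S' * c' * Q1)) := by group
      _ = R * Sx * ((R' * S' * c' * Q1) * c) := by rw [← hcz (R' * S' * c' * Q1)]
      _ = R * Sx * (R' * S' * (c' * Q1)) * c := by group
      _ = R * Sx * (R' * S' * (Q1 * c')) * c := by rw [← hc'z Q1]
      _ = R * (Sx * R') * S' * Q1 * c' * c := by group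
      _ = R * (R' * Sx * Q2) * S' * Q1 * c' * c := by rw [hb]
      _ = R * R' * Sx * (Q2 * S') * Q1 * c' * c := by group
      _ = R * R' * Sx * (S' * Q2) * Q1 * c' * c := by rw [hQ2S']
      _ = R * R' * Sx * S' * (Q2 * Q1) * c' * c := by group
      _ = R * R' * Sx * S' * 1 * c' * c := by rw [hQQ]
      _ = R * R' * (Sx * S') * (c' * c) := by group
  have h := E2.symm.trans E1
  have h2 := mul_left_cancel h
  exact mul_eq_right.mp h2

/-- the conjugation lemma for orthogonal pairs -/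
theorem commP_of_conj (φ : ℕ → K → E) {r s b r' s' q : ℕ} {α β γ1 γ2 : ℤ}
    (hbr : ∀ v t : K, φ r t * φ b v = φ b v * φ r t * φ r' ((β : K) * (-v) ^ 1 * t ^ 1))
    (hbs : ∀ v u : K, φ s u * φ b v = φ b v * φ s u * φ s' ((α : K) * (-v) ^ 1 * u ^ 1))
    (hrs' : ∀ t x : K, φ s' x * φ r t = φ r t * φ s' x * φ q ((γ1 : K) * (-t) ^ 1 * x ^ 1))
    (hr's : ∀ y u : K, φ s u * φ r' y = φ r' y * φ s u * φ q ((γ2 : K) * (-y) ^ 1 * u ^ 1))
    (hqr' : CommP φ q r') (hqs' : CommP φ q s')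
    (hrs : ∀ t u : K, ∃ c : E, (∀ x : E, x * c = c * x) ∧ φ s u * φ r t = φ r t * φ s u * c)
    (hr's' : ∀ y x : K, ∃ c : E, (∀ z : E, z * c = c * z) ∧
      φ s' x * φ r' y = φ r' y * φ s' x * c)
    (haddq : AddP φ q)
    (hid : γ1 * α + γ2 * β = 0) (hα : α = 1 ∨ α = -1) (hβ : β = 1 ∨ β = -1) :
    CommP φ r' s' := by
  have hq0 : φ q 0 = 1 := by
    have h := haddq 0 0
    rw [add_zero] at h
    exact mul_eq_left.mp h
  have hidK : (γ1 : K) * α + γ2 * β = 0 := by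
    have h := congrArg (Int.cast : ℤ → K) hid
    simpa using h
  -- the claim in the `(t, u)` parametrisation
  have main : ∀ t u : K,
      φ s' ((α : K) * (-1) ^ 1 * u ^ 1) * φ r' ((β : K) * (-1) ^ 1 * t ^ 1) =
        φ r' ((β : K) * (-1) ^ 1 * t ^ 1) * φ s' ((α : K) * (-1) ^ 1 * u ^ 1) := by
    intro t u
    obtain ⟨c, hcz, hc_⟩ := hrs t u
    obtain ⟨c', hc'z, hd⟩ := hr's' ((β : K) * (-1) ^ 1 * t ^ 1) ((α : K) * (-1) ^ 1 * u ^ 1)
    have hQQ : φ q ((γ2 : K) * (-((β : K) * (-1) ^ 1 * t ^ 1)) ^ 1 * u ^ 1) *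
        φ q ((γ1 : K) * (-t) ^ 1 * ((α : K) * (-1) ^ 1 * u ^ 1) ^ 1) = 1 := by
      rw [haddq, ← hq0]
      congr 1
      have : (γ2 : K) * (-((β : K) * (-1) ^ 1 * t ^ 1)) ^ 1 * u ^ 1 +
          (γ1 : K) * (-t) ^ 1 * ((α : K) * (-1) ^ 1 * u ^ 1) ^ 1 =
          ((γ1 : K) * α + γ2 * β) * (t * u) := by ring
      rw [this, hidK, zero_mul]
    have hc'1 : c' = 1 :=
      defect_eq_one (φ b 1) (φ r t) (φ s u) (φ r' ((β : K) * (-1) ^ 1 * t ^ 1))
        (φ s' ((α : K) * (-1) ^ 1 * u ^ 1))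
        (φ q ((γ1 : K) * (-t) ^ 1 * ((α : K) * (-1) ^ 1 * u ^ 1) ^ 1))
        (φ q ((γ2 : K) * (-((β : K) * (-1) ^ 1 * t ^ 1)) ^ 1 * u ^ 1)) c c'
        (hbr 1 t) (hbs 1 u) (hrs' t _) (hr's _ u) (hqr' _ _) (hqs' _ _) hQQ hcz hc_ hc'z hd
    rw [hd, hc'1, mul_one]
  -- back to arbitrary arguments
  have hαK : (α : K) * α = 1 := by
    rcases hα with rfl | rfl <;> simp
  have hβK : (β : K) * β = 1 := by
    rcases hβ with rfl | rfl <;> simp
  intro y0 x0
  have h := main (-(β : K) * y0) (-(α : K) * x0)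
  have ey : (β : K) * (-1) ^ 1 * (-(β : K) * y0) ^ 1 = y0 := by
    have : (β : K) * (-1) ^ 1 * (-(β : K) * y0) ^ 1 = ((β : K) * β) * y0 := by ring
    rw [this, hβK, one_mul]
  have ex : (α : K) * (-1) ^ 1 * (-(α : K) * x0) ^ 1 = x0 := by
    have : (α : K) * (-1) ^ 1 * (-(α : K) * x0) ^ 1 = ((α : K) * α) * x0 := by ring
    rw [this, hαK, one_mul]
  rw [ey, ex] at h
  exact h.symm

end Cfsg.Agent.Lib.Helper2.D4CC
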