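import Cfsg.Agent.Lib.Helper16.F4CC.Defs
import Cfsg.Agent.Lib.Helper26.StCCGen

/-!
# S2103 farm (architect helper16): the one-term commutator trick

If `x_s(u)` is a commutator `[x_b(y)⁻¹, x_a(x)⁻¹]` of root elements commuting with `x_r(t)`, then
every lift of `x_r(t)` commutes with every lift of `x_s(u)` in a central extension.
General core lemma, the `DecP` version (coefficient `±1`, `±2`, characteristic `≠ 2`) and a spare of
the `CommData1` version ([FA6], no hypothesis on the field).  All names in the sub-namespace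
`Helper2`.
-/

set_option autoImplicit false

namespace Cfsg.Agent.Lib.Helper16.F4CC.Helper2

open Cfsg.Lie Cfsg.Agent.Lib.Helper8.Chev Cfsg.Agent.Lib.Helper14.StCC
open Cfsg.Agent.Lib.Helper26.StCC
open scoped commutatorElement

variable {D : ChevalleyDatum} {K : Type*} [Field K] {Γ : Type*} [Group Γ] {E : Type*} [Group E]

/-- core: `commTerms a b = [(s, N, 1, 1)]` with `N` invertible in `K`, `a` and `b` commuting
with `r` -/
theorem lifts_commute_core (S : StRep D K Γ)
    (ψ : E →* Γ) (hψ : Function.Surjective ψ) (hc : ψ.ker ≤ Subgroup.center E)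
    {r s a b : ℕ} {N : ℤ} (hr : r < D.nroots) (ha : a < D.nroots) (hb : b < D.nroots)
    (hba : b ≠ a) (hbna : b ≠ D.neg a) (hT : D.commTerms a b = [(s, N, 1, 1)])
    (hN : (N : K) ≠ 0)
    (har : a ≠ r) (hanr : a ≠ D.neg r) (hTa : D.commTerms r a = [])
    (hbr : b ≠ r) (hbnr : b ≠ D.neg r) (hTb : D.commTerms r b = []) :
    ∀ (A B : E) (t u : K), ψ A = S.x r t → ψ B = S.x s u → A * B = B * A := by
  -- commutation in `Γ`
  have comm0 : ∀ q, q < D.nroots → q ≠ r → q ≠ D.neg r → D.commTerms r q = [] →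
      ∀ t u : K, S.x q u * S.x r t = S.x r t * S.x q u := by
    intro q hq h1 h2 h3 t u
    have := S.comm r hr q hq h1 h2 t u
    rw [ChevalleyDatum.commWord, h3] at this
    simpa using this
  have hxa := comm0 a ha har hanr hTa
  have hxb := comm0 b hb hbr hbnr hTb
  -- the commutator formula
  have hform : ∀ x y : K, S.x s (-(N : K) * x * y) = ⁅(S.x b y)⁻¹, (S.x a x)⁻¹⁆ := by
    intro x y
    have h1 := S.comm a ha b hb hba hbna x y
    rw [ChevalleyDatum.commWord, hT] at h1
    simp only [List.map_cons, List.map_nil, wS_cons, wS_nil, mul_one, pow_one] at h1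
    have e1 : (N : K) * (-x) * y = -(N : K) * x * y := by ring
    rw [e1] at h1
    rw [commutatorElement_def, inv_inv, inv_inv, mul_assoc ((S.x b y)⁻¹ * (S.x a x)⁻¹), h1]
    group
  intro A B t u hA hB
  have hP : ψ (Function.surjInv hψ (S.x b 1)⁻¹) = (S.x b 1)⁻¹ := Function.surjInv_eq hψ _
  have hQ : ψ (Function.surjInv hψ (S.x a (-u / (N : K)))⁻¹) = (S.x a (-u / (N : K)))⁻¹ :=
    Function.surjInv_eq hψ _
  have hu : -(N : K) * (-u / (N : K)) * 1 = u := by
    field_simp
  have h1 : ⁅A, B⁆ = ⁅A, ⁅Function.surjInv hψ (S.x b 1)⁻¹,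
      Function.surjInv hψ (S.x a (-u / (N : K)))⁻¹⁆⁆ := by
    apply comm_eq_of_map_eq ψ hc rfl
    rw [hB, map_commutatorElement, hP, hQ, ← hform, hu]
  have h2 : ⁅A, B⁆ = 1 := by
    rw [h1, commutatorElement_eq_one_iff_mul_comm]
    apply commute_comm_of_commute ψ hc
    · rw [hA, hP, S.x_inv hb]
      exact (hxb t (-1)).symm
    · rw [hA, hQ, S.x_inv ha]
      exact (hxa t (-(-u / (N : K)))).symm
  exact commutatorElement_eq_one_iff_mul_comm.mp h2

/-- the `DecP` version: over a field of characteristic `≠ 2` the lifts of `x_r(t)` and `x_s(u)`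
commute -/
theorem lifts_commute_of_decP (S : StRep D K Γ)
    (ψ : E →* Γ) (hψ : Function.Surjective ψ) (hc : ψ.ker ≤ Subgroup.center E)
    (h2 : (2 : K) ≠ 0) {r s : ℕ} (hr : r < D.nroots) (hd : DecP D r s) :
    ∀ (A B : E) (t u : K), ψ A = S.x r t → ψ B = S.x s u → A * B = B * A := by
  obtain ⟨a, b, N, ha, hb, hba, hbna, hT, hN, ⟨har, hanr, hTa⟩, ⟨hbr, hbnr, hTb⟩⟩ := hd
  have hN' : (N : K) ≠ 0 := by
    rcases hN with rfl | rfl | rfl | rfl
    · simp
    · simp
    · simpa using h2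
    · simpa using h2
  exact lifts_commute_core S ψ hψ hc hr ha hb hba hbna hT hN' har hanr hTa hbr hbnr hTb

/-- spare of [FA6] (`CommData1` version, no hypothesis on the field) -/
theorem lifts_commute_of_commData1_spare (S : StRep D K Γ)
    (ψ : E →* Γ) (hψ : Function.Surjective ψ) (hc : ψ.ker ≤ Subgroup.center E)
    {r : ℕ} (hr : r < D.nroots) (hd : CommData1 D r) :
    ∀ (A B : E) (t u : K), ψ A = S.x r t → ψ B = S.x r u → A * B = B * A := by
  obtain ⟨a, b, ε, ha, hb, hba, hbna, hT, hε, ⟨har, hanr, hTa⟩, ⟨hbr, hbnr, hTb⟩⟩ := hd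
  have hε' : (ε : K) ≠ 0 := by
    rcases hε with rfl | rfl
    · simp
    · simp
  exact lifts_commute_core S ψ hψ hc hr ha hb hba hbna hT hε' har hanr hTa hbr hbnr hTb

end Cfsg.Agent.Lib.Helper16.F4CC.Helper2
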