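import Cfsg.Agent.Lib.Helper16.StCCB.Asm
import Cfsg.Agent.Lib.Helper2.F4CCDecP

/-!
# S2103 farm (architect helper16): generalised assembly of Part B

`comm_main_gen`: the assembly `comm_main_of` of Part B with the hypothesis `|K| > 4` replaced by
`|K| ≥ 3` and the table fact `hperp` replaced by `PerpP` (a coweight `m ⟂ r` with `⟨s, m⟩ = ±1`, or
`⟨s, m⟩ = ±2` together with the commutator data `DecP` used when every `v ≠ 0` has `v² = 1`,
i.e. over `F₃`).  All names in the sub-namespace `Helper2` (spare / accelerator for helper16's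
Part B').
-/

set_option autoImplicit false

namespace Cfsg.Agent.Lib.Helper16.F4CC.Helper2

open Cfsg.Lie Cfsg.Agent.Lib.Helper8.Chev Cfsg.Agent.Lib.Helper14.StCC
open Cfsg.Agent.Lib.Helper14.StCC.B

variable {D : ChevalleyDatum} {K : Type*} [Field K] {Γ : Type*} [Group Γ] {E : Type*} [Group E]

/-- a unit `v` with `v ^ e ≠ 1` for `e = ±1`: any `c ≠ 0, 1` -/
theorem zpow_pm_one_ne_one {c : K} (hc1 : c ≠ 1) {e : ℤ} (he : e = 1 ∨ e = -1) :
    c ^ e ≠ 1 := by
  rcases he with rfl | rfl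
  · rw [zpow_one]; exact hc1
  · rw [zpow_neg_one]
    intro h
    apply hc1
    have := inv_eq_one.mp h
    exact this

/-- a unit `v` with `v ^ e ≠ 1` for `e = ±2`, when `v ^ 2 ≠ 1` -/
theorem zpow_pm_two_ne_one {v : K} (hv2 : v ^ 2 ≠ 1) {e : ℤ} (he : e = 2 ∨ e = -2) :
    v ^ e ≠ 1 := by
  rcases he with rfl | rfl
  · intro h
    apply hv2
    have : v ^ (2 : ℤ) = v ^ (2 : ℕ) := zpow_ofNat v 2
    rw [← this]; exact h
  · intro h
    apply hv2
    have h1 : v ^ (-2 : ℤ) = (v ^ (2 : ℕ))⁻¹ := by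
      rw [zpow_neg]
      congr 1
      exact zpow_ofNat v 2
    rw [h1] at h
    exact inv_eq_one.mp h

/-- if every unit squares to `1` and there is `c ≠ 0, 1`, then `2 ≠ 0` -/
theorem two_ne_zero_of_sq {c : K} (hc0 : c ≠ 0) (hc1 : c ≠ 1) (hsq : ∀ v : K, v ≠ 0 → v ^ 2 = 1) :
    (2 : K) ≠ 0 := by
  intro h2
  apply hc1
  have h := hsq c hc0
  have h3 : (c - 1) * (c + 1) = 0 := by ring_nf; rw [h]; ring
  rcases mul_eq_zero.mp h3 with h4 | h4
  · exact sub_eq_zero.mp h4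
  · -- `c = -1 = 1` as `2 = 0`
    have : c = -1 := eq_neg_of_add_eq_zero_left h4
    rw [this]
    have h5 : (1 : K) + 1 = 0 := by rw [one_add_one_eq_two]; exact h2
    exact (eq_neg_of_add_eq_zero_left h5).symm

/-- the generalised assembly of Part B, from `ShapeP`, `PerpP` and the weights of the terms -/
theorem comm_main_gen (S : StRep D K Γ) (hK3 : ∃ c : K, c ≠ 0 ∧ c ≠ 1)
    (ψ : E →* Γ) (hψ : Function.Surjective ψ) (hc : ψ.ker ≤ Subgroup.center E)
    (L : RootLift S ψ)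
    (hshape : ∀ r s : ℕ, r < D.nroots → s < D.nroots → s ≠ r → s ≠ D.neg r → ShapeP D r s)
    (hperp : ∀ r s : ℕ, r < D.nroots → s < D.nroots → s ≠ r → s ≠ D.neg r → PerpP D r s)
    (hwt : ∀ (m : ℕ → ℤ) (r s : ℕ), r < D.nroots → s < D.nroots → s ≠ r → s ≠ D.neg r →
      ∀ c ∈ D.commTerms r s, c.1 < D.nroots ∧
        wt D m c.1 = (c.2.2.1 : ℤ) * wt D m r + (c.2.2.2 : ℤ) * wt D m s) :
    ∀ r < D.nroots, ∀ s < D.nroots, s ≠ r → s ≠ D.neg r → ∀ t u : K,
      L.φ s u * L.φ r t = L.φ r t * L.φ s u * wS L.φ (D.commWord K r s t u) := by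
  classical
  have V := valid0_of_mem S.hD
  obtain ⟨c0, hc00, hc01⟩ := hK3
  have addP : ∀ q < D.nroots, AddP L.φ q := fun q hq => L.add q hq
  -- the two tools
  have toolU : ∀ r s : ℕ, r < D.nroots → s < D.nroots → s ≠ r → s ≠ D.neg r →
      (∀ b t u : K, L.φ s u * tW L.φ (D.commTerms r s) t (b * u) *
        (tW L.φ (D.commTerms r s) t u)⁻¹ * (L.φ s u)⁻¹ =
        tW L.φ (D.commTerms r s) t ((b - 1) * u)) →
      ∀ t u : K, L.φ s u * L.φ r t = L.φ r t * L.φ s u * wS L.φ (D.commWord K r s t u) := by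
    intro r s hr hs h1 h2 hstar
    rcases hperp r s hr hs h1 h2 with ⟨m, hm0, hm1⟩ | ⟨⟨m, hm0, hm2⟩, hT, -, hdec⟩
    · exact comm_of_star S ψ hψ hc L hr hs h1 h2 m hm0 hc00 (zpow_pm_one_ne_one hc01 hm1)
        (fun c hc' => hwt m r s hr hs h1 h2 c hc') (fun t u => hstar _ t u)
    · by_cases hex : ∃ v : K, v ≠ 0 ∧ v ^ 2 ≠ 1
      · obtain ⟨v, hv, hv2⟩ := hex
        exact comm_of_star S ψ hψ hc L hr hs h1 h2 m hm0 hv (zpow_pm_two_ne_one hv2 hm2)
          (fun c hc' => hwt m r s hr hs h1 h2 c hc') (fun t u => hstar _ t u)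
      · have hsq : ∀ v : K, v ≠ 0 → v ^ 2 = 1 := by
          intro v hv
          by_contra hne
          exact hex ⟨v, hv, hne⟩
        have h2K := two_ne_zero_of_sq hc00 hc01 hsq
        intro t u
        have hcm := lifts_commute_of_decP S ψ hψ hc h2K hr hdec (L.φ r t) (L.φ s u) t u
          (L.map r hr t) (L.map s hs u)
        rw [ChevalleyDatum.commWord, hT]
        simp only [List.map_nil, wS_nil, mul_one]
        exact hcm.symm
  have toolT : ∀ r s : ℕ, r < D.nroots → s < D.nroots → s ≠ r → s ≠ D.neg r →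
      (∀ a t u : K, L.φ r t * (tW L.φ (D.commTerms r s) t u)⁻¹ *
        tW L.φ (D.commTerms r s) (a * t) u * (L.φ r t)⁻¹ =
        tW L.φ (D.commTerms r s) ((a - 1) * t) u) →
      ∀ t u : K, L.φ s u * L.φ r t = L.φ r t * L.φ s u * wS L.φ (D.commWord K r s t u) := by
    intro r s hr hs h1 h2 hstar
    have h2' : r ≠ D.neg s := by
      intro h; apply h2; rw [h, V.neg_neg hs]
    rcases hperp s r hs hr h1.symm h2' with ⟨m, hm0, hm1⟩ | ⟨⟨m, hm0, hm2⟩, -, hT, hdec⟩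
    · exact comm_of_star' S ψ hψ hc L hr hs h1 h2 m hm0 hc00 (zpow_pm_one_ne_one hc01 hm1)
        (fun c hc' => hwt m r s hr hs h1 h2 c hc') (fun t u => hstar _ t u)
    · by_cases hex : ∃ v : K, v ≠ 0 ∧ v ^ 2 ≠ 1
      · obtain ⟨v, hv, hv2⟩ := hex
        exact comm_of_star' S ψ hψ hc L hr hs h1 h2 m hm0 hv (zpow_pm_two_ne_one hv2 hm2)
          (fun c hc' => hwt m r s hr hs h1 h2 c hc') (fun t u => hstar _ t u)
      · have hsq : ∀ v : K, v ≠ 0 → v ^ 2 = 1 := by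
          intro v hv
          by_contra hne
          exact hex ⟨v, hv, hne⟩
        have h2K := two_ne_zero_of_sq hc00 hc01 hsq
        intro t u
        have hcm := lifts_commute_of_decP S ψ hψ hc h2K hs hdec (L.φ s u) (L.φ r t) u t
          (L.map s hs u) (L.map r hr t)
        rw [ChevalleyDatum.commWord, hT]
        simp only [List.map_nil, wS_nil, mul_one]
        exact hcm
  -- height 0
  have P0 : ∀ a b : ℕ, NilP D a b → CommP L.φ a b := by
    intro a b ⟨ha, hb, h1, h2, hT⟩ x y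
    have := toolU a b ha hb h1 h2 (by intro b' t u; rw [hT]; exact star_shape0 L.φ b b' t u) x y
    rw [wS_commWord, hT, tW_nil, mul_one] at this
    exact this.symm
  -- height 1
  have P1 : ∀ (a b q : ℕ) (N : ℤ), OneP D a b q N → NilP D b q → ∀ x y : K,
      L.φ b y * L.φ a x = L.φ a x * L.φ b y * L.φ q ((N : K) * (-x) ^ 1 * y ^ 1) := by
    intro a b q N ⟨ha, hb, h1, h2, hT⟩ hn x y
    have := toolU a b ha hb h1 h2 (by
      intro b' t u; rw [hT]
      exact star_shape1 L.φ (addP q hn.2.1) (P0 b q hn) b' t u) x y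
    rw [wS_commWord, hT, tW_cons, tW_nil, mul_one] at this
    exact this
  intro r hr s hs h1 h2
  rcases hshape r s hr hs h1 h2 with hT | ⟨q, C, hT, hn⟩ |
    ⟨q1, q2, C1, C2, hT, n12, ns1, ns2⟩ | ⟨q1, q2, C1, C2, hT, n12, nr1, nr2⟩ |
    ⟨q1, q2, q3, C11, C21, C12, κ, hT, n12, n13, n23, ns2, ns3, o, hid⟩ |
    ⟨q1, q2, q3, q4, C11, C21, C31, C32, N, N', hT, n13, n14, n23, n24, n34, ns1, ns2, ns4, o12,
      os3, hid⟩ |
    ⟨q1, q2, q3, q4, C11, C12, C13, C23, N, N', hT, n13, n14, n23, n24, n34, nr1, nr2, nr4, o12,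
      or3, hid⟩
  · exact toolU r s hr hs h1 h2 (by intro b t u; rw [hT]; exact star_shape0 L.φ s b t u)
  · exact toolU r s hr hs h1 h2 (by
      intro b t u; rw [hT]
      exact star_shape1 L.φ (addP q hn.2.1) (P0 s q hn) b t u)
  · exact toolU r s hr hs h1 h2 (by
      intro b t u; rw [hT]
      exact star_shape2 L.φ (addP q1 n12.1) (addP q2 n12.2.1) (P0 _ _ n12) (P0 _ _ ns1)
        (P0 _ _ ns2) b t u)
  · exact toolT r s hr hs h1 h2 (by
      intro a t u; rw [hT]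
      exact star_shape2' L.φ (addP q1 n12.1) (addP q2 n12.2.1) (P0 _ _ n12) (P0 _ _ nr1)
        (P0 _ _ nr2) a t u)
  · exact toolU r s hr hs h1 h2 (by
      intro b t u; rw [hT]
      exact Helper16.star_shape3 L.φ (addP s hs) (addP q1 n12.1) (addP q2 n12.2.1) (addP q3 n13.2.1)
        (P0 _ _ n12) (P0 _ _ n13) (P0 _ _ n23) (P0 _ _ ns2) (P0 _ _ ns3)
        (P1 s q1 q3 κ o n13) hid b t u)
  · exact toolU r s hr hs h1 h2 (by
      intro b t u; rw [hT]
      exact Helper12.star_shape4 L.φ (addP s hs) (addP q1 n13.1) (addP q2 n23.1) (addP q3 n13.2.1)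
        (addP q4 n14.2.1) (P0 _ _ n13) (P0 _ _ n14) (P0 _ _ n23) (P0 _ _ n24) (P0 _ _ n34)
        (P0 _ _ ns1) (P0 _ _ ns2) (P0 _ _ ns4) (P1 q1 q2 q4 N o12 n24) (P1 s q3 q4 N' os3 n34)
        hid b t u)
  · exact toolT r s hr hs h1 h2 (by
      intro a t u; rw [hT]
      exact Helper12.star_shape4' L.φ (addP r hr) (addP q1 n13.1) (addP q2 n23.1) (addP q3 n13.2.1)
        (addP q4 n14.2.1) (P0 _ _ n13) (P0 _ _ n14) (P0 _ _ n23) (P0 _ _ n24) (P0 _ _ n34)
        (P0 _ _ nr1) (P0 _ _ nr2) (P0 _ _ nr4) (P1 q1 q2 q4 N o12 n24) (P1 r q3 q4 N' or3 n34)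
        hid a t u)

end Cfsg.Agent.Lib.Helper16.F4CC.Helper2
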