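import Cfsg.Agent.Lib.Helper2.D4CCConj
import Cfsg.Agent.Lib.Helper2.F4CCAsmB
import Cfsg.Agent.Lib.Helper16.StCCB.AsmGen
import Cfsg.Agent.Lib.Helper20.StCCBB0

/-!
# S2400, type `D₄` (any datum with the table facts), `|K| ≥ 3`: Part B from the pair table

For every admissible ordered pair `(r, s)`: either a coweight orthogonal to `r` with value `±1` on
`s` (`TorP`: the torus trick works with any `v ≠ 0, 1`), or the pair is orthogonal and comes with
the data `ConjP` of the conjugation lemma `commP_of_conj`, all of whose auxiliary pairs satisfy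
`TorP`.  Generic in the datum `D`.
-/

set_option autoImplicit false

namespace Cfsg.Agent.Lib.Helper2.D4CC

open Cfsg.Lie Cfsg.Agent.Lib.Helper8.Chev Cfsg.Agent.Lib.Helper14.StCC
open Cfsg.Agent.Lib.Helper14.StCC.B

/-- a coweight orthogonal to `a` with value `±1` on `b` -/
def TorP (D : ChevalleyDatum) (a b : ℕ) : Prop :=
  ∃ m : ℕ → ℤ, wt D m a = 0 ∧ (wt D m b = 1 ∨ wt D m b = -1)

/-- the data of the conjugation lemma for the orthogonal pair `(r', s')`: `r' = b + r`,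
`s' = b + s`, `q = r + s' = r' + s` -/
def ConjP (D : ChevalleyDatum) (r' s' : ℕ) : Prop :=
  ∃ (b r s q : ℕ) (α β γ1 γ2 : ℤ),
    OneP D b r r' β ∧ OneP D b s s' α ∧ OneP D r s' q γ1 ∧ OneP D r' s q γ2 ∧
    NilP D r s ∧ NilP D r' s' ∧ NilP D q r' ∧ NilP D q s' ∧
    NilP D r r' ∧ NilP D s s' ∧ NilP D s' q ∧ NilP D s q ∧
    TorP D b r ∧ TorP D r r' ∧ TorP D b s ∧ TorP D s s' ∧ TorP D r s' ∧ TorP D s' q ∧
    TorP D r' s ∧ TorP D s q ∧ TorP D q r' ∧ TorP D q s' ∧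
    γ1 * α + γ2 * β = 0 ∧ (α = 1 ∨ α = -1) ∧ (β = 1 ∨ β = -1)

/-- the table fact for the ordered pair `(r, s)` -/
def PairP (D : ChevalleyDatum) (r s : ℕ) : Prop :=
  TorP D r s ∨ (D.commTerms r s = [] ∧ D.commTerms s r = [] ∧ ConjP D r s)

variable {D : ChevalleyDatum} {K : Type*} [Field K] {Γ : Type*} [Group Γ] {E : Type*} [Group E]

open Cfsg.Agent.Lib.Helper16.F4CC.Helper2 (zpow_pm_one_ne_one)

/-- commuting pair with a torus tool: the lifts commute -/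
theorem nilComm (S : StRep D K Γ) {c0 : K} (hc00 : c0 ≠ 0) (hc01 : c0 ≠ 1)
    (ψ : E →* Γ) (hψ : Function.Surjective ψ) (hc : ψ.ker ≤ Subgroup.center E)
    (L : RootLift S ψ) {a b : ℕ} (hn : NilP D a b) (ht : TorP D a b) : CommP L.φ a b := by
  obtain ⟨ha, hb, h1, h2, hT⟩ := hn
  obtain ⟨m, hm0, hm1⟩ := ht
  have key := comm_of_star S ψ hψ hc L ha hb h1 h2 m hm0 hc00 (zpow_pm_one_ne_one hc01 hm1)
    (fun c hc' => by rw [hT] at hc'; simp at hc')
    (fun t u => by rw [hT]; exact star_shape0 L.φ b _ t u)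
  intro x y
  have h := key x y
  rw [wS_commWord, hT, tW_nil, mul_one] at h
  exact h.symm

/-- one-term pair with torus tools: the relation (R2) for the lifts -/
theorem oneRel (S : StRep D K Γ) {c0 : K} (hc00 : c0 ≠ 0) (hc01 : c0 ≠ 1)
    (ψ : E →* Γ) (hψ : Function.Surjective ψ) (hc : ψ.ker ≤ Subgroup.center E)
    (L : RootLift S ψ) {a b q : ℕ} {N : ℤ} (ho : OneP D a b q N) (hn : NilP D b q)
    (ht : TorP D a b) (ht' : TorP D b q) :
    ∀ x y : K, L.φ b y * L.φ a x = L.φ a x * L.φ b y * L.φ q ((N : K) * (-x) ^ 1 * y ^ 1) := by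
  have hbq := nilComm S hc00 hc01 ψ hψ hc L hn ht'
  obtain ⟨ha, hb, h1, h2, hT⟩ := ho
  obtain ⟨m, hm0, hm1⟩ := ht
  have key := comm_of_star S ψ hψ hc L ha hb h1 h2 m hm0 hc00 (zpow_pm_one_ne_one hc01 hm1)
    (fun c hc' => wt_commTerms S.hD m ha hb h1 h2 hc')
    (fun t u => by
      rw [hT]
      exact star_shape1 L.φ (L.add q hn.2.1) hbq _ t u)
  intro x y
  have h := key x y
  rw [wS_commWord, hT, tW_cons, tW_nil, mul_one] at h
  exact h

/-- the central defect of a commuting pair -/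
theorem nil_defect (S : StRep D K Γ) (ψ : E →* Γ) (hc : ψ.ker ≤ Subgroup.center E)
    (L : RootLift S ψ) {a b : ℕ} (hn : NilP D a b) (t u : K) :
    ∃ c : E, (∀ x : E, x * c = c * x) ∧ L.φ b u * L.φ a t = L.φ a t * L.φ b u * c := by
  obtain ⟨ha, hb, h1, h2, hT⟩ := hn
  obtain ⟨c, hcz, h0⟩ := defect_central hc L ha hb h1 h2
    (fun c hc' => by rw [hT] at hc'; simp at hc') t u
  refine ⟨c, hcz, ?_⟩
  rw [hT, tW_nil, mul_one] at h0
  exact h0

/-- orthogonal pairs: the lifts commute, by the conjugation lemma -/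
theorem commP_of_conjP (S : StRep D K Γ) {c0 : K} (hc00 : c0 ≠ 0) (hc01 : c0 ≠ 1)
    (ψ : E →* Γ) (hψ : Function.Surjective ψ) (hc : ψ.ker ≤ Subgroup.center E)
    (L : RootLift S ψ) {r' s' : ℕ} (h : ConjP D r' s') : CommP L.φ r' s' := by
  obtain ⟨b, r, s, q, α, β, γ1, γ2, obr, obs, ors', or's, nrs, nr's', nqr', nqs', nrr', nss',
    ns'q, nsq, tbr, trr', tbs, tss', trs', ts'q, tr's, tsq, tqr', tqs', hid, hα, hβ⟩ := h
  exact commP_of_conj L.φ
    (oneRel S hc00 hc01 ψ hψ hc L obr nrr' tbr trr')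
    (oneRel S hc00 hc01 ψ hψ hc L obs nss' tbs tss')
    (oneRel S hc00 hc01 ψ hψ hc L ors' ns'q trs' ts'q)
    (oneRel S hc00 hc01 ψ hψ hc L or's nsq tr's tsq)
    (nilComm S hc00 hc01 ψ hψ hc L nqr' tqr')
    (nilComm S hc00 hc01 ψ hψ hc L nqs' tqs')
    (nil_defect S ψ hc L nrs)
    (nil_defect S ψ hc L nr's')
    (L.add q nqr'.1) hid hα hβ

/-- PART B from the pair table: the lifts satisfy the commutator relations (R2) -/
theorem comm_of_pairP (S : StRep D K Γ) (hK3 : ∃ c : K, c ≠ 0 ∧ c ≠ 1)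
    (ψ : E →* Γ) (hψ : Function.Surjective ψ) (hc : ψ.ker ≤ Subgroup.center E)
    (L : RootLift S ψ)
    (hshape : ∀ r s : ℕ, r < D.nroots → s < D.nroots → s ≠ r → s ≠ D.neg r → ShapeP D r s)
    (hpair : ∀ r s : ℕ, r < D.nroots → s < D.nroots → s ≠ r → s ≠ D.neg r → PairP D r s) :
    ∀ r < D.nroots, ∀ s < D.nroots, s ≠ r → s ≠ D.neg r → ∀ t u : K,
      L.φ s u * L.φ r t = L.φ r t * L.φ s u * wS L.φ (D.commWord K r s t u) := by
  obtain ⟨c0, hc00, hc01⟩ := hK3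
  refine comm_main_gen S ψ hψ hc L hshape ?_
    (fun m _ _ hr hs h1 h2 _ hc' => wt_commTerms S.hD m hr hs h1 h2 hc')
  intro r s hr hs h1 h2
  rcases hpair r s hr hs h1 h2 with ⟨m, hm0, hm1⟩ | ⟨hT, hT', hconj⟩
  · exact Or.inl ⟨m, c0, hm0, hc00, zpow_pm_one_ne_one hc01 hm1⟩
  · exact Or.inr ⟨hT, hT', commP_of_conjP S hc00 hc01 ψ hψ hc L hconj⟩

end Cfsg.Agent.Lib.Helper2.D4CC
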