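import Cfsg.Agent.Lib.Helper2.D4CCTab
import Cfsg.Agent.Lib.Helper14.StCC.SectionCore
import Cfsg.Agent.Lib.Helper9.StCCBBTSmall
import Cfsg.Agent.Lib.Helper20.F4CCFA6
import Cfsg.Agent.Lib.Helper25.F4CCFA
import Cfsg.Agent.S2395

/-!
# S2400, type `D₄`: every central extension of the group presented by (R1), (R2) splits, over
EVERY field with at least three elements (one uniform proof: torus trick with `v ≠ 0, 1` for the
non-orthogonal pairs, conjugation lemma for the orthogonal ones).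
-/

set_option autoImplicit false

namespace Cfsg.Agent.Lib.Helper2.D4CC

open Cfsg.Lie Cfsg.Agent.Lib.Helper8.Chev Cfsg.Agent.Lib.Helper14.StCC
open Cfsg.Agent.Lib.Helper16.F4CC (lifts_commute_of_commData1 exists_rootLift_of)

variable {K : Type*} [Field K] {Γ : Type*} [Group Γ] {E : Type*} [Group E]

theorem hD_D4 : chevD4 ∈ [chevG2, chevB2, chevD4, chevF4, chevE6, chevE7, chevE8] := by simp

/-- PART B for `D₄`, `|K| ≥ 3`: the lifts satisfy the commutator relations (R2). -/
theorem rootLift_comm_D4 (S : StRep chevD4 K Γ) (hK3 : ∃ c : K, c ≠ 0 ∧ c ≠ 1)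
    (ψ : E →* Γ) (hψ : Function.Surjective ψ) (hc : ψ.ker ≤ Subgroup.center E)
    (L : RootLift S ψ) :
    ∀ r < chevD4.nroots, ∀ s < chevD4.nroots, s ≠ r → s ≠ chevD4.neg r → ∀ t u : K,
      L.φ s u * L.φ r t = L.φ r t * L.φ s u * wS L.φ (chevD4.commWord K r s t u) :=
  comm_of_pairP S hK3 ψ hψ hc L (fun _ _ hr hs h1 h2 => B.shapeP_D4 hr hs h1 h2)
    (fun _ _ hr hs h1 h2 => pairP_D4 hr hs h1 h2)

/-- every central extension of the group of type `D₄` presented by (R1), (R2) splits, over every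
field with at least three elements -/
theorem exists_section_D4 (hK3 : ∃ c : K, c ≠ 0 ∧ c ≠ 1) (ψ : E →* chevD4.SteinbergCover K)
    (hψ : Function.Surjective ψ) (hc : ψ.ker ≤ Subgroup.center E) :
    ∃ τ : chevD4.SteinbergCover K →* E, ψ.comp τ = MonoidHom.id _ := by
  have hperf : commutator (chevD4.SteinbergCover K) = ⊤ :=
    Cfsg.Agent.S2395.result chevD4 hD_D4 (fun _ => hK3)
  obtain ⟨L⟩ := exists_rootLift_of
    (scRepOf hD_D4 (scHom hD_D4 K) (fun r t hr => scHom_scGen hD_D4 r t hr)) hK3 hperf ψ hψ hc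
    (fun r hr => lifts_commute_of_commData1 _ ψ hψ hc hr (commData1_D4 hr).2)
    (fun r hr => (commData1_D4 hr).1)
  exact exists_section_of hD_D4 ψ L (rootLift_comm_D4 _ hK3 ψ hψ hc L)

end Cfsg.Agent.Lib.Helper2.D4CC
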