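import Cfsg.Agent.Lib.Helper2.D4CCGen
import Cfsg.Agent.Lib.Helper13.StCCBBMD4
import Cfsg.Agent.Lib.Helper20.F4CCFT1

/-!
# S2400, type `D₄`, `|K| ≥ 3`: the tables

Bool checkers (generic in the datum) for `PairP`, the certificates for `chevD4` (coweights per
root, conjugation data for the 144 orthogonal pairs, `CommData1` data per root) and their kernel
evaluation.
-/

set_option autoImplicit false

namespace Cfsg.Agent.Lib.Helper2.D4CC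

open Cfsg.Lie Cfsg.Agent.Lib.Helper8.Chev Cfsg.Agent.Lib.Helper14.StCC
open Cfsg.Agent.Lib.Helper14.StCC.B
open Cfsg.Agent.Lib.Helper14.StCC.B.Helper13 (dotF tab_spec checkTab tabD4 checkTab_D4)

/-- `TorP` with a list of candidate coweights, as a Bool -/
noncomputable def torB (tab : List (List ℤ)) (ms : List (List ℤ)) (a b : ℕ) : Bool :=
  ms.any fun m => decide (dotF m (tab.getD a []) = 0) &&
    (decide (dotF m (tab.getD b []) = 1) || decide (dotF m (tab.getD b []) = -1))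

theorem torB_spec {D : ChevalleyDatum} {tab : List (List ℤ)} {ms : List (List ℤ)} {a b : ℕ}
    (htab : checkTab D tab = true) (ha : a < D.nroots) (hb : b < D.nroots)
    (h : torB tab ms a b = true) : TorP D a b := by
  simp only [torB, List.any_eq_true, Bool.and_eq_true, Bool.or_eq_true, decide_eq_true_eq] at h
  obtain ⟨m, -, h0, h1⟩ := h
  refine ⟨fun i => m.getD i 0, ?_, ?_⟩
  · rw [tab_spec htab ha]; exact h0
  · rw [tab_spec htab hb]; exact h1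

/-- `NilP` as a Bool -/
def nilB (D : ChevalleyDatum) (a b : ℕ) : Bool :=
  decide (a < D.nroots) && (decide (b < D.nroots) && (!(b == a) && (!(b == D.neg a) &&
    (D.commTerms a b).isEmpty)))

theorem nilB_spec {D : ChevalleyDatum} {a b : ℕ} (h : nilB D a b = true) : NilP D a b := by
  simp only [nilB, Bool.and_eq_true, decide_eq_true_eq, Bool.not_eq_true', beq_eq_false_iff_ne,
    List.isEmpty_iff] at h
  exact h

/-- `OneP` as a Bool -/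
def oneB (D : ChevalleyDatum) (a b q : ℕ) (N : ℤ) : Bool :=
  decide (a < D.nroots) && (decide (b < D.nroots) && (!(b == a) && (!(b == D.neg a) &&
    decide (D.commTerms a b = [(q, N, 1, 1)]))))

theorem oneB_spec {D : ChevalleyDatum} {a b q : ℕ} {N : ℤ} (h : oneB D a b q N = true) :
    OneP D a b q N := by
  simp only [oneB, Bool.and_eq_true, decide_eq_true_eq, Bool.not_eq_true',
    beq_eq_false_iff_ne] at h
  exact h

/-- `ConjP` with explicit witnesses, as a Bool -/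
noncomputable def conjB (D : ChevalleyDatum) (tab : List (List ℤ)) (cm : List (List (List ℤ)))
    (r' s' b r s q : ℕ) (α β γ1 γ2 : ℤ) : Bool :=
  oneB D b r r' β && (oneB D b s s' α && (oneB D r s' q γ1 && (oneB D r' s q γ2 &&
  (nilB D r s && (nilB D r' s' && (nilB D q r' && (nilB D q s' &&
  (nilB D r r' && (nilB D s s' && (nilB D s' q && (nilB D s q &&
  (torB tab (cm.getD b []) b r && (torB tab (cm.getD r []) r r' &&
  (torB tab (cm.getD b []) b s && (torB tab (cm.getD s []) s s' &&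
  (torB tab (cm.getD r []) r s' && (torB tab (cm.getD s' []) s' q &&
  (torB tab (cm.getD r' []) r' s && (torB tab (cm.getD s []) s q &&
  (torB tab (cm.getD q []) q r' && (torB tab (cm.getD q []) q s' &&
  (decide (γ1 * α + γ2 * β = 0) && ((decide (α = 1) || decide (α = -1)) &&
  (decide (β = 1) || decide (β = -1)))))))))))))))))))))))))

theorem conjB_spec {D : ChevalleyDatum} {tab : List (List ℤ)} {cm : List (List (List ℤ))}
    {r' s' b r s q : ℕ} {α β γ1 γ2 : ℤ} (htab : checkTab D tab = true)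
    (h : conjB D tab cm r' s' b r s q α β γ1 γ2 = true) : ConjP D r' s' := by
  simp only [conjB, Bool.and_eq_true, Bool.or_eq_true, decide_eq_true_eq] at h
  obtain ⟨h1, h2, h3, h4, n1, n2, n3, n4, n5, n6, n7, n8, t1, t2, t3, t4, t5, t6, t7, t8, t9, t10,
    hid, hα, hβ⟩ := h
  have o1 := oneB_spec h1
  have o2 := oneB_spec h2
  have o3 := oneB_spec h3
  have o4 := oneB_spec h4
  have m1 := nilB_spec n1
  have m2 := nilB_spec n2
  have m3 := nilB_spec n3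
  have m4 := nilB_spec n4
  have m5 := nilB_spec n5
  have m6 := nilB_spec n6
  have m7 := nilB_spec n7
  have m8 := nilB_spec n8
  have hb : b < D.nroots := o1.1
  have hr : r < D.nroots := o1.2.1
  have hs : s < D.nroots := o2.2.1
  have hr' : r' < D.nroots := m2.1
  have hs' : s' < D.nroots := m2.2.1
  have hq : q < D.nroots := m3.1
  exact ⟨b, r, s, q, α, β, γ1, γ2, o1, o2, o3, o4, m1, m2, m3, m4, m5, m6, m7, m8,
    torB_spec htab hb hr t1, torB_spec htab hr hr' t2, torB_spec htab hb hs t3,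
    torB_spec htab hs hs' t4, torB_spec htab hr hs' t5, torB_spec htab hs' hq t6,
    torB_spec htab hr' hs t7, torB_spec htab hs hq t8, torB_spec htab hq hr' t9,
    torB_spec htab hq hs' t10, hid, hα, hβ⟩

/-- the check of the ordered pair `(r, s)` -/
noncomputable def pairB (D : ChevalleyDatum) (tab : List (List ℤ)) (cm : List (List (List ℤ)))
    (cc : List (List (ℕ × ℕ × ℕ × ℕ × ℕ × ℤ × ℤ × ℤ × ℤ))) (r s : ℕ) : Bool :=
  torB tab (cm.getD r []) r s ||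
    ((D.commTerms r s).isEmpty && ((D.commTerms s r).isEmpty &&
      (cc.getD r []).any fun e => e.1 == s &&
        conjB D tab cm r s e.2.1 e.2.2.1 e.2.2.2.1 e.2.2.2.2.1 e.2.2.2.2.2.1 e.2.2.2.2.2.2.1
          e.2.2.2.2.2.2.2.1 e.2.2.2.2.2.2.2.2))

/-- the check of all admissible ordered pairs -/
noncomputable def checkAll (D : ChevalleyDatum) (tab : List (List ℤ))
    (cm : List (List (List ℤ))) (cc : List (List (ℕ × ℕ × ℕ × ℕ × ℕ × ℤ × ℤ × ℤ × ℤ))) : Bool :=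
  (List.range D.nroots).all fun r => (List.range D.nroots).all fun s =>
    s == r || (s == D.neg r || pairB D tab cm cc r s)

theorem checkAll_spec {D : ChevalleyDatum} {tab : List (List ℤ)} {cm : List (List (List ℤ))}
    {cc : List (List (ℕ × ℕ × ℕ × ℕ × ℕ × ℤ × ℤ × ℤ × ℤ))} (htab : checkTab D tab = true)
    (h : checkAll D tab cm cc = true) {r s : ℕ} (hr : r < D.nroots) (hs : s < D.nroots)
    (h1 : s ≠ r) (h2 : s ≠ D.neg r) : PairP D r s := by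
  simp only [checkAll, List.all_eq_true, List.mem_range, Bool.or_eq_true, beq_iff_eq] at h
  rcases h r hr s hs with hx | hx | hx
  · exact absurd hx h1
  · exact absurd hx h2
  · simp only [pairB, Bool.or_eq_true, Bool.and_eq_true, List.isEmpty_iff, List.any_eq_true,
      beq_iff_eq] at hx
    rcases hx with ht | ⟨hT, hT', e, -, -, hconj⟩
    · exact Or.inl (torB_spec htab hr hs ht)
    · exact Or.inr ⟨hT, hT', conjB_spec htab hconj⟩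

set_option maxHeartbeats 0 in
/-- for every root `a` of `D₄` the coweights orthogonal to `a` that are used -/
def certM_D4 : List (List (List ℤ)) :=
  [[[-1, 0, 0, 0]], [[-1, -1, 0, 0]], [[0, -1, 0, 0]], [[0, -1, 0, 0]], [[-1, 1, 0, 0], [0, -1,
  -1, 0]], [[0, 0, -1, 0]], [[0, -1, 0, 0]], [[-1, -1, 0, 0]], [[-1, -1, 0, 0]], [[-2, -1, 0, 0],
  [-1, -1, -1, 0]], [[-1, 0, 0, 0]], [[-1, 0, 0, 0]], [[-1, 0, 0, 0]], [[-1, 0, 0, 0]], [[-2, -1,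
  0, 0], [-1, -1, -1, 0]], [[-1, -1, 0, 0]], [[-1, -1, 0, 0]], [[0, -1, 0, 0]], [[0, 0, -1, 0]],
  [[-1, 1, 0, 0], [0, -1, -1, 0]], [[0, -1, 0, 0]], [[0, -1, 0, 0]], [[-1, -1, 0, 0]], [[-1, 0,
  0, 0]]]

set_option maxHeartbeats 0 in
/-- for every root `r'` of `D₄` the conjugation data `(s', b, r, s, q, α, β, γ₁, γ₂)` of the
orthogonal pairs `(r', s')` -/
def certC_D4 : List (List (ℕ × ℕ × ℕ × ℕ × ℕ × ℤ × ℤ × ℤ × ℤ)) :=
  [[(5, 1, 9, 17, 4, 1, 1, -1, 1), (10, 1, 9, 20, 7, -1, 1, 1, 1), (11, 1, 9, 21, 8, -1, 1, 1,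
  1), (12, 2, 8, 22, 9, -1, -1, 1, -1), (13, 3, 7, 22, 9, -1, -1, 1, -1), (18, 6, 4, 22, 9, 1,
  -1, -1, -1)], [(4, 0, 14, 17, 5, 1, 1, -1, 1), (7, 0, 14, 20, 10, 1, 1, 1, -1), (8, 0, 14, 21,
  11, 1, 1, 1, -1), (15, 2, 11, 23, 14, 1, 1, 1, -1), (16, 3, 10, 23, 14, 1, 1, 1, -1), (19, 6,
  5, 23, 14, 1, -1, -1, -1)], [(3, 0, 15, 16, 5, -1, -1, -1, 1), (6, 0, 15, 19, 10, -1, -1, 1,
  -1), (9, 0, 15, 22, 12, -1, -1, 1, -1), (14, 1, 12, 23, 15, -1, 1, 1, 1), (17, 4, 10, 23, 15,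
  -1, 1, 1, 1), (20, 7, 5, 23, 15, -1, -1, -1, 1)], [(2, 0, 16, 15, 5, -1, -1, -1, 1), (6, 0, 16,
  19, 11, -1, -1, 1, -1), (9, 0, 16, 22, 13, -1, -1, 1, -1), (14, 1, 13, 23, 16, -1, 1, 1, 1),
  (17, 4, 11, 23, 16, -1, 1, 1, 1), (21, 8, 5, 23, 16, -1, -1, -1, 1)], [(1, 0, 17, 14, 5, 1, 1,
  -1, 1), (7, 0, 17, 20, 12, 1, 1, 1, -1), (8, 0, 17, 21, 13, 1, 1, 1, -1), (15, 2, 13, 23, 17,
  1, 1, 1, -1), (16, 3, 12, 23, 17, 1, 1, 1, -1), (22, 9, 5, 23, 17, 1, -1, -1, -1)], [(0, 1, 17,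
  9, 4, 1, 1, -1, 1), (10, 1, 17, 20, 15, -1, 1, -1, -1), (11, 1, 17, 21, 16, -1, 1, -1, -1),
  (12, 2, 16, 22, 17, -1, 1, -1, -1), (13, 3, 15, 22, 17, -1, 1, -1, -1), (23, 14, 4, 22, 17, 1,
  -1, -1, -1)], [(2, 0, 19, 15, 10, -1, -1, 1, -1), (3, 0, 19, 16, 11, -1, -1, 1, -1), (9, 0, 19,
  22, 18, -1, -1, -1, 1), (14, 1, 18, 23, 19, -1, -1, -1, 1), (20, 7, 11, 23, 19, -1, 1, 1, 1),
  (21, 8, 10, 23, 19, -1, 1, 1, 1)], [(1, 0, 20, 14, 10, 1, 1, 1, -1), (4, 0, 20, 17, 12, 1, 1,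
  1, -1), (8, 0, 20, 21, 18, 1, 1, -1, 1), (15, 2, 18, 23, 20, 1, -1, -1, -1), (19, 6, 12, 23,
  20, 1, 1, 1, -1), (22, 9, 10, 23, 20, 1, 1, 1, -1)], [(1, 0, 21, 14, 11, 1, 1, 1, -1), (4, 0,
  21, 17, 13, 1, 1, 1, -1), (7, 0, 21, 20, 18, 1, 1, -1, 1), (16, 3, 18, 23, 21, 1, -1, -1, -1),
  (19, 6, 13, 23, 21, 1, 1, 1, -1), (22, 9, 11, 23, 21, 1, 1, 1, -1)], [(2, 0, 22, 15, 12, -1,
  -1, 1, -1), (3, 0, 22, 16, 13, -1, -1, 1, -1), (6, 0, 22, 19, 18, -1, -1, -1, 1), (17, 4, 18,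
  23, 22, -1, -1, -1, 1), (20, 7, 13, 23, 22, -1, 1, 1, 1), (21, 8, 12, 23, 22, -1, 1, 1, 1)],
  [(0, 1, 20, 9, 7, 1, -1, -1, -1), (5, 1, 20, 17, 15, 1, -1, 1, 1), (11, 1, 20, 21, 19, -1, -1,
  -1, 1), (12, 2, 19, 22, 20, -1, -1, -1, 1), (18, 6, 15, 22, 20, 1, -1, 1, 1), (23, 14, 7, 22,
  20, 1, 1, -1, 1)], [(0, 1, 21, 9, 8, 1, -1, -1, -1), (5, 1, 21, 17, 16, 1, -1, 1, 1), (10, 1,
  21, 20, 19, -1, -1, -1, 1), (13, 3, 19, 22, 21, -1, -1, -1, 1), (18, 6, 16, 22, 21, 1, -1, 1,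
  1), (23, 14, 8, 22, 21, 1, 1, -1, 1)], [(0, 2, 22, 8, 9, -1, -1, 1, -1), (5, 2, 22, 16, 17, 1,
  -1, 1, 1), (10, 2, 22, 19, 20, -1, -1, -1, 1), (13, 4, 20, 21, 22, -1, -1, -1, 1), (18, 7, 17,
  21, 22, 1, -1, 1, 1), (23, 15, 9, 21, 22, -1, 1, 1, 1)], [(0, 3, 22, 7, 9, -1, -1, 1, -1), (5,
  3, 22, 15, 17, 1, -1, 1, 1), (11, 3, 22, 19, 21, -1, -1, -1, 1), (12, 4, 21, 20, 22, -1, -1,
  -1, 1), (18, 8, 17, 20, 22, 1, -1, 1, 1), (23, 16, 9, 20, 22, -1, 1, 1, 1)], [(2, 1, 23, 12,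
  15, 1, -1, -1, -1), (3, 1, 23, 13, 16, 1, -1, -1, -1), (6, 1, 23, 18, 19, -1, -1, -1, 1), (17,
  5, 19, 22, 23, -1, -1, -1, 1), (20, 10, 16, 22, 23, 1, 1, -1, 1), (21, 11, 15, 22, 23, 1, 1,
  -1, 1)], [(1, 2, 23, 11, 14, 1, 1, 1, -1), (4, 2, 23, 13, 17, 1, 1, 1, -1), (7, 2, 23, 18, 20,
  -1, 1, 1, 1), (16, 5, 20, 21, 23, -1, -1, 1, -1), (19, 10, 17, 21, 23, 1, 1, 1, -1), (22, 12,
  14, 21, 23, 1, 1, 1, -1)], [(1, 3, 23, 10, 14, 1, 1, 1, -1), (4, 3, 23, 12, 17, 1, 1, 1, -1),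
  (8, 3, 23, 18, 21, -1, 1, 1, 1), (15, 5, 21, 20, 23, -1, -1, 1, -1), (19, 11, 17, 20, 23, 1, 1,
  1, -1), (22, 13, 14, 20, 23, 1, 1, 1, -1)], [(2, 4, 23, 10, 15, 1, -1, -1, -1), (3, 4, 23, 11,
  16, 1, -1, -1, -1), (9, 4, 23, 18, 22, -1, -1, -1, 1), (14, 5, 22, 19, 23, -1, -1, -1, 1), (20,
  12, 16, 19, 23, 1, 1, -1, 1), (21, 13, 15, 19, 23, 1, 1, -1, 1)], [(0, 6, 22, 4, 9, -1, 1, 1,
  1), (10, 6, 22, 15, 20, -1, 1, -1, -1), (11, 6, 22, 16, 21, -1, 1, -1, -1), (12, 7, 21, 17, 22,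
  -1, 1, -1, -1), (13, 8, 20, 17, 22, -1, 1, -1, -1), (23, 19, 9, 17, 22, -1, -1, 1, -1)], [(1,
  6, 23, 5, 14, -1, 1, 1, 1), (7, 6, 23, 12, 20, 1, 1, 1, -1), (8, 6, 23, 13, 21, 1, 1, 1, -1),
  (15, 10, 21, 17, 23, 1, 1, 1, -1), (16, 11, 20, 17, 23, 1, 1, 1, -1), (22, 18, 14, 17, 23, -1,
  -1, 1, -1)], [(2, 7, 23, 5, 15, -1, -1, -1, 1), (6, 7, 23, 11, 19, 1, -1, -1, -1), (9, 7, 23,
  13, 22, 1, -1, -1, -1), (14, 10, 22, 16, 23, 1, 1, -1, 1), (17, 12, 19, 16, 23, 1, 1, -1, 1),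
  (21, 18, 15, 16, 23, -1, -1, -1, 1)], [(3, 8, 23, 5, 16, -1, -1, -1, 1), (6, 8, 23, 10, 19, 1,
  -1, -1, -1), (9, 8, 23, 12, 22, 1, -1, -1, -1), (14, 11, 22, 15, 23, 1, 1, -1, 1), (17, 13, 19,
  15, 23, 1, 1, -1, 1), (20, 18, 16, 15, 23, -1, -1, -1, 1)], [(4, 9, 23, 5, 17, -1, 1, 1, 1),
  (7, 9, 23, 10, 20, 1, 1, 1, -1), (8, 9, 23, 11, 21, 1, 1, 1, -1), (15, 12, 21, 14, 23, 1, 1, 1,
  -1), (16, 13, 20, 14, 23, 1, 1, 1, -1), (19, 18, 17, 14, 23, -1, -1, 1, -1)], [(5, 14, 22, 4,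
  17, -1, 1, 1, 1), (10, 14, 22, 7, 20, 1, 1, -1, 1), (11, 14, 22, 8, 21, 1, 1, -1, 1), (12, 15,
  21, 9, 22, 1, -1, -1, -1), (13, 16, 20, 9, 22, 1, -1, -1, -1), (18, 19, 17, 9, 22, -1, -1, 1,
  -1)]]

/-- the certificate `(a, b, ε)` of `CommData1` per root of `D₄` -/
def tabCD_D4 : List (ℕ × ℕ × ℤ) :=
  [(1, 9, 1), (0, 14, 1), (0, 15, -1), (0, 16, -1), (0, 17, 1), (1, 17, 1), (0, 19, -1), (0, 20,
  1), (0, 21, 1), (0, 22, -1), (1, 20, -1), (1, 21, -1), (2, 22, -1), (3, 22, -1), (1, 23, -1),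
  (2, 23, 1), (3, 23, 1), (4, 23, -1), (6, 22, 1), (6, 23, 1), (7, 23, -1), (8, 23, -1), (9, 23,
  1), (14, 22, 1)]

set_option maxRecDepth 1000000 in
theorem checkAll_D4 : checkAll chevD4 tabD4 certM_D4 certC_D4 = true := by decide +kernel

set_option maxRecDepth 1000000 in
theorem checkCD_D4 : Cfsg.Agent.Lib.Helper16.F4CC.Helper20.checkCD1 chevD4 tabCD_D4 = true := by
  decide +kernel

/-- the pair table of `chevD4` -/
theorem pairP_D4 {r s : ℕ} (hr : r < chevD4.nroots) (hs : s < chevD4.nroots) (h1 : s ≠ r)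
    (h2 : s ≠ chevD4.neg r) : PairP chevD4 r s :=
  checkAll_spec checkTab_D4 checkAll_D4 hr hs h1 h2

/-- the Part A table of `chevD4` -/
theorem commData1_D4 {r : ℕ} (hr : r < chevD4.nroots) :
    (∃ m : ℕ → ℤ, wt chevD4 m r = 1) ∧ Cfsg.Agent.Lib.Helper16.F4CC.CommData1 chevD4 r := by
  refine ⟨?_, Cfsg.Agent.Lib.Helper16.F4CC.Helper20.checkCD1_spec checkCD_D4 hr⟩
  refine Cfsg.Agent.Lib.Helper14.StCC.A.Helper27.exists_wt_one (by simp) hr ?_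
  intro h
  exact absurd (congrArg ChevalleyDatum.nroots h) (by decide)

end Cfsg.Agent.Lib.Helper2.D4CC
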