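import Mathlib
import Cfsg.Agent.S0874
import Cfsg.Agent.Lib.Helper2.GlaubermanPair
import Cfsg.Agent.Lib.Helper2.DirectProduct
import Cfsg.Agent.Lib.Helper2.Induction
import Cfsg.Agent.Lib.Helper2.Orthogonality
import Cfsg.Agent.Lib.Helper2.Expansion

/-!
# Dade's theorem on invariant characters and `p`-elementary subgroups (helper2 library; Isaacs 8.24)
-/

set_option autoImplicit false
set_option linter.unusedSectionVars false
set_option linter.unusedVariables false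

namespace Cfsg.Agent.Lib.Helper2.Dade

open Cfsg Cfsg.Agent.Lib Cfsg.Agent.Lib.Helper2 Cfsg.Agent.Lib.Helper2.GlPG
  Cfsg.Agent.Lib.Helper2.GlSolv Cfsg.Agent.Lib.Helper2.GlPair
open scoped ComplexConjugate
open Classical

variable {G : Type*} [Group G] [Fintype G]

/-- the extension by zero of `|ϑ|²`. -/
noncomputable def sq (N : Subgroup G) (ϑ : N → ℂ) : G → ℂ :=
  Cfsg.extendByZero N (fun n => ϑ n * conj (ϑ n))

theorem sq_isClassFunction (N : Subgroup G) [hN : N.Normal] (ϑ : N → ℂ)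
    (hinv : ∀ (g : G) (n : N), ϑ ⟨g * n * g⁻¹, hN.conj_mem (n : G) n.2 g⟩ = ϑ n) :
    Cfsg.IsClassFunction G (sq N ϑ) := by
  intro g h
  by_cases hg : g ∈ N
  · have hg' : h * g * h⁻¹ ∈ N := hN.conj_mem g hg h
    unfold sq
    rw [extendByZero_of_mem N _ hg', extendByZero_of_mem N _ hg]
    have h1 := hinv h ⟨g, hg⟩
    simp only at h1
    rw [h1]
  · have hg' : h * g * h⁻¹ ∉ N := by
      intro h1
      apply hg
      have h2 := hN.conj_mem _ h1 h⁻¹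
      have e : h⁻¹ * (h * g * h⁻¹) * h⁻¹⁻¹ = g := by group
      rwa [e] at h2
    unfold sq
    rw [extendByZero_of_not_mem N _ hg', extendByZero_of_not_mem N _ hg]

theorem conj_sq (N : Subgroup G) (ϑ : N → ℂ) (g : G) : conj (sq N ϑ g) = sq N ϑ g := by
  unfold sq
  by_cases hg : g ∈ N
  · rw [extendByZero_of_mem N _ hg]
    simp [mul_comm]
  · rw [extendByZero_of_not_mem N _ hg]
    simp

/-- the restriction of `ϑ` to `E ⊓ N`. -/
def resN (E N : Subgroup G) (ϑ : N → ℂ) : ↥(E ⊓ N) → ℂ := fun x => ϑ ⟨(x : G), x.2.2⟩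

/-- the product of the restrictions of `φ` and `ϑ` to `E ⊓ N`. -/
def prodN (E N : Subgroup G) (φ : E → ℂ) (ϑ : N → ℂ) : ↥(E ⊓ N) → ℂ :=
  fun x => φ ⟨(x : G), x.2.1⟩ * ϑ ⟨(x : G), x.2.2⟩

theorem resN_isCharacter (E N : Subgroup G) {ϑ : N → ℂ} (h : Cfsg.IsCharacter N ϑ) :
    Cfsg.IsCharacter ↥(E ⊓ N) (resN E N ϑ) :=
  IsCharacter.comp h (Subgroup.inclusion (inf_le_right : E ⊓ N ≤ N))

theorem prodN_isCharacter (E N : Subgroup G) {φ : E → ℂ} {ϑ : N → ℂ}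
    (hφ : Cfsg.IsCharacter E φ) (h : Cfsg.IsCharacter N ϑ) :
    Cfsg.IsCharacter ↥(E ⊓ N) (prodN E N φ ϑ) := by
  have h1 : Cfsg.IsCharacter ↥(E ⊓ N) (fun x : ↥(E ⊓ N) => φ ⟨(x : G), x.2.1⟩) :=
    IsCharacter.comp hφ (Subgroup.inclusion (inf_le_left : E ⊓ N ≤ E))
  exact isCharacter_mul h1 (resN_isCharacter E N h)

/-- the sum over `E` of `φ · |ϑ|²` is a sum over `E ⊓ N`. -/
theorem sum_mul_sq (E N : Subgroup G) (φ : E → ℂ) (ϑ : N → ℂ) :
    ∑ e : E, φ e * sq N ϑ (e : G) =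
      ∑ x : ↥(E ⊓ N), prodN E N φ ϑ x * conj (resN E N ϑ x) := by
  rw [← sum_extendByZero_mul E φ (sq N ϑ)]
  rw [← sum_extendByZero (E ⊓ N) (fun x => prodN E N φ ϑ x * conj (resN E N ϑ x))]
  apply Finset.sum_congr rfl
  intro g _
  by_cases hgE : g ∈ E
  · by_cases hgN : g ∈ N
    · have hgD : g ∈ E ⊓ N := ⟨hgE, hgN⟩
      rw [extendByZero_of_mem E _ hgE, extendByZero_of_mem (E ⊓ N) _ hgD]
      unfold sq
      rw [extendByZero_of_mem N _ hgN]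
      unfold prodN resN
      simp only
      ring
    · have hgD : g ∉ E ⊓ N := fun h => hgN h.2
      rw [extendByZero_of_not_mem (E ⊓ N) _ hgD]
      unfold sq
      rw [extendByZero_of_not_mem N _ hgN, mul_zero]
  · have hgD : g ∉ E ⊓ N := fun h => hgE h.1
    rw [extendByZero_of_not_mem (E ⊓ N) _ hgD, extendByZero_of_not_mem E _ hgE, zero_mul]

theorem card_inf_mul_relIndex (E N : Subgroup G) :
    Nat.card ↥(E ⊓ N) * N.relIndex E = Nat.card E := by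
  have h1 := Subgroup.card_mul_index ((E ⊓ N).subgroupOf E)
  have h2 : Nat.card ((E ⊓ N).subgroupOf E) = Nat.card ↥(E ⊓ N) :=
    Nat.card_congr (Subgroup.subgroupOfEquivOfLe (inf_le_left : E ⊓ N ≤ E)).toEquiv
  have h3 : ((E ⊓ N).subgroupOf E).index = N.relIndex E := by
    show (E ⊓ N).relIndex E = N.relIndex E
    rw [inf_comm]
    exact Subgroup.inf_relIndex_right N E
  rw [h2, h3] at h1
  exact h1

/-- one term of the Brauer sum. -/
theorem term (N : Subgroup G) [hN : N.Normal] (ϑ : N → ℂ) (hϑ : Cfsg.IsCharacter N ϑ)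
    (hinv : ∀ (g : G) (n : N), ϑ ⟨g * n * g⁻¹, hN.conj_mem (n : G) n.2 g⟩ = ϑ n)
    (E : Subgroup G) (φ : E → ℂ) (hφ : Cfsg.IsCharacter E φ) :
    ∃ n : ℕ, Cfsg.classInner (prodN E N φ ϑ) (resN E N ϑ) = (n : ℂ) ∧
      Cfsg.classInner (Cfsg.indFun E φ) (sq N ϑ) * (N.index : ℂ) =
        ((E ⊔ N).index : ℂ) * (n : ℂ) := by
  obtain ⟨n, hn⟩ := classInner_isCharacter_nat (prodN_isCharacter E N hφ hϑ)
    (resN_isCharacter E N hϑ)
  refine ⟨n, hn, ?_⟩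
  rw [frobenius_reciprocity E φ (sq N ϑ) (sq_isClassFunction N ϑ hinv)]
  have h1 : Cfsg.classInner φ (fun h : E => sq N ϑ h) =
      (Nat.card E : ℂ)⁻¹ * ((Nat.card ↥(E ⊓ N) : ℂ) * (n : ℂ)) := by
    rw [classInner_def]
    congr 1
    have h2 : ∑ g : E, φ g * conj (sq N ϑ (g : G)) = ∑ e : E, φ e * sq N ϑ (e : G) := by
      apply Finset.sum_congr rfl
      intro e _
      rw [conj_sq]
    rw [h2, sum_mul_sq, ← hn, classInner_def]
    have hD : (Nat.card ↥(E ⊓ N) : ℂ) ≠ 0 := by exact_mod_cast Nat.card_pos.ne'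
    field_simp
  rw [h1]
  have hE : (Nat.card E : ℂ) ≠ 0 := by exact_mod_cast Nat.card_pos.ne'
  have h3 : (Nat.card ↥(E ⊓ N) : ℂ) * (N.relIndex E : ℂ) = (Nat.card E : ℂ) := by
    exact_mod_cast card_inf_mul_relIndex E N
  have h4 : (N.relIndex E : ℂ) * ((E ⊔ N).index : ℂ) = (N.index : ℂ) := by
    have h5 := Subgroup.relIndex_mul_index (le_sup_right : N ≤ E ⊔ N)
    rw [Subgroup.relIndex_sup_right] at h5
    exact_mod_cast h5
  rw [← h4, ← h3]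
  have hD : (Nat.card ↥(E ⊓ N) : ℂ) ≠ 0 := by exact_mod_cast Nat.card_pos.ne'
  have hr : (N.relIndex E : ℂ) ≠ 0 := by
    intro h0
    rw [h0, mul_zero] at h3
    exact hE h3.symm
  field_simp

theorem classInner_list_sum {H : Type*} [Group H] [Fintype H] {ι : Type*} (l : List ι)
    (f : ι → H → ℂ) (ψ : H → ℂ) :
    Cfsg.classInner (l.map f).sum ψ = (l.map fun t => Cfsg.classInner (f t) ψ).sum := by
  induction l with
  | nil => simp
  | cons a l ih =>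
    rw [List.map_cons, List.sum_cons, List.map_cons, List.sum_cons, classInner_add_left, ih]

/-- the divisibility lemma for the whole list. -/
theorem list_dvd {p : ℕ} (hp : p.Prime) (N : Subgroup G) [hN : N.Normal]
    (hind : ∃ k : ℕ, N.index = p ^ k) (ϑ : N → ℂ) (hϑ : Cfsg.IsCharacter N ϑ)
    (hinv : ∀ (g : G) (n : N), ϑ ⟨g * n * g⁻¹, hN.conj_mem (n : G) n.2 g⟩ = ϑ n)
    (l : List ((E : Subgroup G) × ((E → ℂ) × ℤ)))
    (hl : ∀ t ∈ l, Cfsg.IsCharacter t.1 t.2.1)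
    (hbad : ∀ t ∈ l, ∀ n : ℕ, Cfsg.classInner (prodN t.1 N t.2.1 ϑ) (resN t.1 N ϑ) = (n : ℂ) →
      t.1 ⊔ N = ⊤ → p ∣ n) :
    ∃ z : ℤ, (l.map fun t => Cfsg.classInner ((t.2.2 : ℂ) • Cfsg.indFun t.1 t.2.1) (sq N ϑ)).sum *
      (N.index : ℂ) = (((p : ℤ) * z : ℤ) : ℂ) := by
  induction l with
  | nil => exact ⟨0, by simp⟩
  | cons a l ih =>
    obtain ⟨z, hz⟩ := ih (fun t ht => hl t (List.mem_cons_of_mem _ ht))
      (fun t ht => hbad t (List.mem_cons_of_mem _ ht))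
    obtain ⟨n, hn1, hn2⟩ := term N ϑ hϑ hinv a.1 a.2.1 (hl a List.mem_cons_self)
    have hdvd : p ∣ (a.1 ⊔ N).index * n := by
      by_cases h1 : (a.1 ⊔ N).index = 1
      · have h2 : a.1 ⊔ N = ⊤ := Subgroup.index_eq_one.1 h1
        exact Dvd.dvd.mul_left (hbad a List.mem_cons_self n hn1 h2) _
      · obtain ⟨k, hk⟩ := hind
        have h3 : (a.1 ⊔ N).index ∣ p ^ k := by
          rw [← hk]
          exact Subgroup.index_dvd_of_le le_sup_right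
        obtain ⟨i, _, hi⟩ := (Nat.dvd_prime_pow hp).1 h3
        have hi0 : i ≠ 0 := by
          intro h0
          rw [h0, pow_zero] at hi
          exact h1 hi
        apply Dvd.dvd.mul_right
        rw [hi]
        exact dvd_pow_self p hi0
    obtain ⟨w, hw⟩ := hdvd
    refine ⟨z + a.2.2 * (w : ℤ), ?_⟩
    rw [List.map_cons, List.sum_cons, add_mul, hz, classInner_smul_left, mul_assoc, hn2]
    have h5 : (((a.1 ⊔ N).index : ℂ) * (n : ℂ)) = ((p : ℂ) * (w : ℂ)) := by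
      exact_mod_cast hw
    rw [h5]
    push_cast
    ring

/-- **First half of Dade's theorem**: a `p`-elementary subgroup `E` with `E N = G` and a character
`φ` of `E` with `[φ ϑ, ϑ]_{E ∩ N}` prime to `p`. -/
theorem exists_good {p : ℕ} (hp : p.Prime) (N : Subgroup G) [hN : N.Normal]
    (hind : ∃ k : ℕ, N.index = p ^ k) (ϑ : N → ℂ) (hϑ : Cfsg.IsIrrCharacter N ϑ)
    (hinv : ∀ (g : G) (n : N), ϑ ⟨g * n * g⁻¹, hN.conj_mem (n : G) n.2 g⟩ = ϑ n) :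
    ∃ (E : Subgroup G) (φ : E → ℂ) (n : ℕ), Cfsg.IsElementary p E ∧ Cfsg.IsCharacter E φ ∧
      E ⊔ N = ⊤ ∧ ¬ p ∣ n ∧ Cfsg.classInner (prodN E N φ ϑ) (resN E N ϑ) = (n : ℂ) := by
  by_contra hcon
  push Not at hcon
  obtain ⟨m, l, hpm, hl, hsum⟩ := Cfsg.Agent.S0874.result (G := G) p hp
  have hϑc : Cfsg.IsCharacter N ϑ := IsIrrCharacter.isCharacter hϑ
  obtain ⟨z, hz⟩ := list_dvd hp N hind ϑ hϑc hinv l (fun t ht => (hl t ht).2) (by
    intro t ht n hn htop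
    by_contra hnd
    exact hcon t.1 t.2.1 n (hl t ht).1 (hl t ht).2 htop hnd hn)
  have h1 : Cfsg.classInner (fun _ : G => (m : ℂ)) (sq N ϑ) * (N.index : ℂ) = (m : ℂ) := by
    rw [classInner_def]
    have h2 : ∑ g : G, (m : ℂ) * conj (sq N ϑ g) = (m : ℂ) * (Nat.card N : ℂ) := by
      rw [← Finset.mul_sum]
      congr 1
      have h3 : ∑ g : G, conj (sq N ϑ g) = ∑ g : G, sq N ϑ g :=
        Finset.sum_congr rfl (fun g _ => conj_sq N ϑ g)
      rw [h3]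
      unfold sq
      rw [sum_extendByZero]
      have h4 := classInner_irrCharacter_self (⟨ϑ, hϑ⟩ : Cfsg.IrrCharacter N)
      rw [classInner_def] at h4
      have hN0 : (Nat.card N : ℂ) ≠ 0 := by exact_mod_cast Nat.card_pos.ne'
      field_simp at h4
      exact h4
    rw [h2]
    have h5 : (Nat.card N : ℂ) * (N.index : ℂ) = (Nat.card G : ℂ) := by
      exact_mod_cast Subgroup.card_mul_index N
    have hG0 : (Nat.card G : ℂ) ≠ 0 := by exact_mod_cast Nat.card_pos.ne'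
    rw [← h5] at hG0 ⊢
    have hI0 : (N.index : ℂ) ≠ 0 := right_ne_zero_of_mul hG0
    have hN0 : (Nat.card N : ℂ) ≠ 0 := left_ne_zero_of_mul hG0
    field_simp
  rw [hsum, classInner_list_sum, hz] at h1
  have h6 : (p : ℤ) * z = m := by exact_mod_cast h1
  exact hpm ⟨z, h6.symm⟩

/-- in a `p`-elementary group, a central `p'`-element `z` and any Sylow `p`-subgroup `S` give
`E = ⟨z⟩ S`. -/
theorem elementary_decomp {p : ℕ} [Fact p.Prime] {E : Type*} [Group E] [Finite E]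
    (hE : Cfsg.IsElementary p E) (S : Sylow p E) :
    ∃ z : E, z ∈ Subgroup.center E ∧ Nat.Coprime (orderOf z) p ∧
      ∀ e : E, ∃ a ∈ Subgroup.zpowers z, ∃ s ∈ (S : Subgroup E), e = a * s := by
  obtain ⟨z, hzc, hzcop, k, hk⟩ := hE
  refine ⟨z, hzc, hzcop, ?_⟩
  have hp : p.Prime := Fact.out
  have hAc : Subgroup.zpowers z ≤ Subgroup.center E := Subgroup.zpowers_le.2 hzc
  haveI : (Subgroup.zpowers z).Normal := by
    constructor
    intro a ha e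
    have h1 := Subgroup.mem_center_iff.1 (hAc ha) e
    have e1 : e * a * e⁻¹ = a := by rw [h1]; group
    rw [e1]; exact ha
  have hAS : Subgroup.zpowers z ⊔ (S : Subgroup E) = ⊤ := by
    rw [← Subgroup.index_eq_one]
    have h1 : (Subgroup.zpowers z ⊔ (S : Subgroup E)).index ∣ (Subgroup.zpowers z).index :=
      Subgroup.index_dvd_of_le le_sup_left
    have h2 : (Subgroup.zpowers z ⊔ (S : Subgroup E)).index ∣ (S : Subgroup E).index :=
      Subgroup.index_dvd_of_le le_sup_right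
    rw [hk] at h1
    obtain ⟨i, _, hi⟩ := (Nat.dvd_prime_pow hp).1 h1
    rcases Nat.eq_zero_or_pos i with h0 | h0
    · rw [hi, h0, pow_zero]
    · exfalso
      apply S.not_dvd_index
      apply dvd_trans _ h2
      rw [hi]
      exact dvd_pow_self p h0.ne'
  intro e
  have hmem : e ∈ ((Subgroup.zpowers z ⊔ (S : Subgroup E) : Subgroup E) : Set E) := by
    rw [hAS]; trivial
  rw [Subgroup.normal_mul] at hmem
  obtain ⟨a, ha, s, hs, has⟩ := Set.mem_mul.1 hmem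
  exact ⟨a, ha, s, hs, has.symm⟩

theorem le_normalizer_inf (E N : Subgroup G) [hN : N.Normal] :
    E ≤ Subgroup.normalizer ((E ⊓ N : Subgroup G) : Set G) := by
  intro e he
  apply mem_normalizer_of_conj_mem
  · intro h hh
    exact ⟨E.mul_mem (E.mul_mem he hh.1) (E.inv_mem he), hN.conj_mem h hh.2 e⟩
  · intro h hh
    refine ⟨E.mul_mem (E.mul_mem (E.inv_mem he) hh.1) he, ?_⟩
    have := hN.conj_mem h hh.2 e⁻¹
    rwa [inv_inv] at this

theorem invUnder_resN (E N : Subgroup G) [hN : N.Normal] (ϑ : N → ℂ)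
    (hinv : ∀ (g : G) (n : N), ϑ ⟨g * n * g⁻¹, hN.conj_mem (n : G) n.2 g⟩ = ϑ n) (x : G) :
    InvUnder (E ⊓ N) x (resN E N ϑ) := by
  intro d d' h
  unfold resN
  have e : (⟨(d' : G), d'.2.2⟩ : N) = ⟨x * (d : G) * x⁻¹, hN.conj_mem (d : G) d.2.2 x⟩ :=
    Subtype.ext h
  rw [e]
  exact hinv x ⟨(d : G), d.2.2⟩

theorem invUnder_prodN (E N : Subgroup G) [hN : N.Normal] (φ : E → ℂ)
    (hφ : Cfsg.IsCharacter E φ) (ϑ : N → ℂ)
    (hinv : ∀ (g : G) (n : N), ϑ ⟨g * n * g⁻¹, hN.conj_mem (n : G) n.2 g⟩ = ϑ n) (x : G)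
    (hx : x ∈ E) : InvUnder (E ⊓ N) x (prodN E N φ ϑ) := by
  intro d d' h
  have h1 := invUnder_resN E N ϑ hinv x d d' h
  unfold resN at h1
  unfold prodN
  rw [h1]
  congr 1
  have e : (⟨(d' : G), d'.2.1⟩ : E) = ⟨x, hx⟩ * ⟨(d : G), d.2.1⟩ * ⟨x, hx⟩⁻¹ := Subtype.ext h
  rw [e]
  exact IsCharacter.isClassFunction hφ _ _

theorem classInner_cj_right (D : Subgroup G) (x : G)
    (hx : x ∈ Subgroup.normalizer (D : Set G)) (ψ α : D → ℂ) (hψ : InvUnder D x ψ) :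
    Cfsg.classInner ψ (cj D x hx α) = Cfsg.classInner ψ α := by
  have h1 : cj D x hx ψ = ψ := (invUnder_iff_cj_eq D x hx ψ).1 hψ
  have h2 := cinn_cj D x hx ψ α
  rw [cinn_eq, cinn_eq, h1] at h2
  exact h2

/-- **Second half of Dade's theorem**: an `E`-invariant irreducible constituent of `ϑ` restricted
to `E ∩ N` with multiplicity prime to `p`. -/
theorem exists_inv_constituent {p : ℕ} (hp : p.Prime) (N : Subgroup G) [hN : N.Normal]
    (ϑ : N → ℂ) (hϑ : Cfsg.IsCharacter N ϑ)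
    (hinv : ∀ (g : G) (n : N), ϑ ⟨g * n * g⁻¹, hN.conj_mem (n : G) n.2 g⟩ = ϑ n)
    (E : Subgroup G) (hE : Cfsg.IsElementary p E) (φ : E → ℂ) (hφ : Cfsg.IsCharacter E φ)
    (n : ℕ) (hn : ¬ p ∣ n) (hcl : Cfsg.classInner (prodN E N φ ϑ) (resN E N ϑ) = (n : ℂ)) :
    ∃ (α : Cfsg.IrrCharacter ↥(E ⊓ N)) (k : ℕ), ¬ p ∣ k ∧
      Cfsg.classInner (resN E N ϑ) (α : ↥(E ⊓ N) → ℂ) = (k : ℂ) ∧
      ∀ g ∈ E, InvUnder (E ⊓ N) g (α : ↥(E ⊓ N) → ℂ) := by
  haveI : Fact p.Prime := ⟨hp⟩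
  haveI : Fintype (Cfsg.IrrCharacter ↥(E ⊓ N)) := Fintype.ofFinite _
  have hψ₂ := resN_isCharacter E N hϑ
  have hψ₁ := prodN_isCharacter E N hφ hϑ
  choose n₂ hn₂ using fun α : Cfsg.IrrCharacter ↥(E ⊓ N) =>
    classInner_isCharacter_nat hψ₂ (IsIrrCharacter.isCharacter α.2)
  choose n₁ hn₁ using fun α : Cfsg.IrrCharacter ↥(E ⊓ N) =>
    classInner_isCharacter_nat hψ₁ (IsIrrCharacter.isCharacter α.2)
  have hexp : (n : ℂ) = ∑ α : Cfsg.IrrCharacter ↥(E ⊓ N), ((n₂ α * n₁ α : ℕ) : ℂ) := by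
    have h1 := classFunction_expansion (resN E N ϑ) (IsCharacter.isClassFunction hψ₂)
    rw [← hcl]
    calc Cfsg.classInner (prodN E N φ ϑ) (resN E N ϑ)
        = Cfsg.classInner (prodN E N φ ϑ) (∑ α : Cfsg.IrrCharacter ↥(E ⊓ N),
            Cfsg.classInner (resN E N ϑ) (α : ↥(E ⊓ N) → ℂ) • (α : ↥(E ⊓ N) → ℂ)) := by
          rw [← h1]
      _ = ∑ α : Cfsg.IrrCharacter ↥(E ⊓ N), Cfsg.classInner (prodN E N φ ϑ)
            (Cfsg.classInner (resN E N ϑ) (α : ↥(E ⊓ N) → ℂ) • (α : ↥(E ⊓ N) → ℂ)) :=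
          classInner_sum_right _ _ _
      _ = ∑ α : Cfsg.IrrCharacter ↥(E ⊓ N), ((n₂ α * n₁ α : ℕ) : ℂ) := by
          apply Finset.sum_congr rfl
          intro α _
          rw [classInner_smul_right, hn₂ α, hn₁ α]
          simp
  obtain ⟨S⟩ : Nonempty (Sylow p ↥E) := inferInstance
  obtain ⟨z, hzc, hzcop, hdec⟩ := elementary_decomp hE S
  obtain ⟨Q, hQdef⟩ : ∃ Q : Subgroup G, Q = (S : Subgroup ↥E).map E.subtype := ⟨_, rfl⟩
  have hQp : IsPGroup p Q := by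
    rw [hQdef]
    exact S.isPGroup'.map E.subtype
  have hEn : E ≤ Subgroup.normalizer ((E ⊓ N : Subgroup G) : Set G) := le_normalizer_inf E N
  have hQE : Q ≤ E := by
    rw [hQdef]
    rintro _ ⟨s, _, rfl⟩
    exact s.2
  have hQD : Q ≤ Subgroup.normalizer ((E ⊓ N : Subgroup G) : Set G) := hQE.trans hEn
  have hn₂inv : ∀ (x : G) (hx : x ∈ Q) (α : Cfsg.IrrCharacter ↥(E ⊓ N)),
      n₂ (cjI (E ⊓ N) x (hQD hx) α) = n₂ α := by
    intro x hx α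
    have h1 : (n₂ (cjI (E ⊓ N) x (hQD hx) α) : ℂ) = (n₂ α : ℂ) := by
      rw [← hn₂ (cjI (E ⊓ N) x (hQD hx) α), ← hn₂ α]
      exact classInner_cj_right (E ⊓ N) x (hQD hx) _ _ (invUnder_resN E N ϑ hinv x)
    exact_mod_cast h1
  have hn₁inv : ∀ (x : G) (hx : x ∈ Q) (α : Cfsg.IrrCharacter ↥(E ⊓ N)),
      n₁ (cjI (E ⊓ N) x (hQD hx) α) = n₁ α := by
    intro x hx α
    have h1 : (n₁ (cjI (E ⊓ N) x (hQD hx) α) : ℂ) = (n₁ α : ℂ) := by
      rw [← hn₁ (cjI (E ⊓ N) x (hQD hx) α), ← hn₁ α]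
      exact classInner_cj_right (E ⊓ N) x (hQD hx) _ _
        (invUnder_prodN E N φ hφ ϑ hinv x (hQE hx))
    exact_mod_cast h1
  have hsum := sum_irr_fixed hp Q (E ⊓ N) hQp hQD
    (fun α => ((n₂ α * n₁ α : ℕ) : ZMod p)) (by
      intro x hx α
      show ((n₂ (cjI (E ⊓ N) x (hQD hx) α) * n₁ (cjI (E ⊓ N) x (hQD hx) α) : ℕ) : ZMod p) = _
      rw [hn₂inv x hx α, hn₁inv x hx α])
  have hnat : n = ∑ α : Cfsg.IrrCharacter ↥(E ⊓ N), n₂ α * n₁ α := by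
    have h1 : (n : ℂ) = ((∑ α : Cfsg.IrrCharacter ↥(E ⊓ N), n₂ α * n₁ α : ℕ) : ℂ) := by
      rw [hexp]
      push_cast
      rfl
    exact_mod_cast h1
  have hne : (∑ α : Cfsg.IrrCharacter ↥(E ⊓ N), ((n₂ α * n₁ α : ℕ) : ZMod p)) ≠ 0 := by
    have h1 : (∑ α : Cfsg.IrrCharacter ↥(E ⊓ N), ((n₂ α * n₁ α : ℕ) : ZMod p))
        = ((n : ℕ) : ZMod p) := by
      rw [hnat]
      push_cast
      rfl
    rw [h1]
    intro h0
    exact hn ((ZMod.natCast_eq_zero_iff n p).1 h0)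
  rw [hsum] at hne
  obtain ⟨α, hα, hfα⟩ := Finset.exists_ne_zero_of_sum_ne_zero hne
  have hαfix := (Finset.mem_filter.1 hα).2
  refine ⟨α, n₂ α, ?_, hn₂ α, ?_⟩
  · intro hd
    apply hfα
    rw [ZMod.natCast_eq_zero_iff]
    exact Dvd.dvd.mul_right hd _
  · intro g hg d d' hdd
    obtain ⟨a, ha, s, hs, has⟩ := hdec ⟨g, hg⟩
    have hsQ : ((s : ↥E) : G) ∈ Q := by
      rw [hQdef]
      exact ⟨s, hs, rfl⟩
    apply hαfix _ hsQ d d'
    have hAc : Subgroup.zpowers z ≤ Subgroup.center ↥E := Subgroup.zpowers_le.2 hzc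
    have hcomm := Subgroup.mem_center_iff.1 (hAc ha) (s * ⟨(d : G), d.2.1⟩ * s⁻¹)
    have hg' : g = ((a : ↥E) : G) * ((s : ↥E) : G) := congrArg Subtype.val has
    have hc : ((s : ↥E) : G) * (d : G) * ((s : ↥E) : G)⁻¹ * ((a : ↥E) : G)
        = ((a : ↥E) : G) * (((s : ↥E) : G) * (d : G) * ((s : ↥E) : G)⁻¹) :=
      congrArg Subtype.val hcomm
    have e1 : ((a : ↥E) : G) * ((s : ↥E) : G) * (d : G) * (((a : ↥E) : G) * ((s : ↥E) : G))⁻¹
        = ((a : ↥E) : G) * (((s : ↥E) : G) * (d : G) * ((s : ↥E) : G)⁻¹) * ((a : ↥E) : G)⁻¹ := by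
      group
    rw [hdd, hg', e1, ← hc]
    group

theorem finsum_form (E N : Subgroup G) (ϑ : N → ℂ) (α : ↥(E ⊓ N) → ℂ) :
    (Nat.card ↥(E ⊓ N) : ℂ)⁻¹ * ∑ᶠ x : ↥(E ⊓ N), ϑ ⟨(x : G), x.2.2⟩ * conj (α x)
      = Cfsg.classInner (resN E N ϑ) α := by
  rw [classInner_def, finsum_eq_sum_of_fintype]
  rfl

/-- **Dade's theorem** (Isaacs 8.24). -/
theorem dade {p : ℕ} (hp : p.Prime) (N : Subgroup G) [hN : N.Normal]
    (hind : ∃ k : ℕ, N.index = p ^ k) (ϑ : N → ℂ) (hϑ : Cfsg.IsIrrCharacter N ϑ)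
    (hinv : ∀ (g : G) (n : N), ϑ ⟨g * n * g⁻¹, hN.conj_mem (n : G) n.2 g⟩ = ϑ n) :
    ∃ (E : Subgroup G) (α : Cfsg.IrrCharacter ↥(E ⊓ N)) (k : ℕ), Cfsg.IsElementary p E ∧
      E ⊔ N = ⊤ ∧ ¬ p ∣ k ∧ Cfsg.classInner (resN E N ϑ) (α : ↥(E ⊓ N) → ℂ) = (k : ℂ) ∧
      ∀ g ∈ E, InvUnder (E ⊓ N) g (α : ↥(E ⊓ N) → ℂ) := by
  obtain ⟨E, φ, n, hEl, hφ, htop, hn, hcl⟩ := exists_good hp N hind ϑ hϑ hinv
  obtain ⟨α, k, hk, hkcl, hαinv⟩ := exists_inv_constituent hp N ϑ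
    (IsIrrCharacter.isCharacter hϑ) hinv E hEl φ hφ n hn hcl
  exact ⟨E, α, k, hEl, htop, hk, hkcl, hαinv⟩

end Cfsg.Agent.Lib.Helper2.Dade
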