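import Mathlib
import Cfsg.Agent.Lib.Helper2.Dade
import Cfsg.Agent.Lib.Helper2.Clifford
import Cfsg.Agent.Lib.Helper2.DegreeRatio
import Cfsg.Agent.Lib.Helper2.Linear
import Cfsg.Agent.Lib.Helper2.Regular
import Cfsg.Agent.Lib.Helper25.LinearChar

/-!
# Extension of invariant characters via Dade's theorem (helper2 library; Isaacs 8.26)
-/

set_option autoImplicit false
set_option linter.style.haveILetI false
set_option linter.unusedSectionVars false
set_option linter.unusedVariables false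

namespace Cfsg.Agent.Lib.Helper2.DadeExt

open Cfsg Cfsg.Agent.Lib Cfsg.Agent.Lib.Helper2 Cfsg.Agent.Lib.Helper2.Dade
open scoped ComplexConjugate
open Classical

/-- homomorphisms to `ℂˣ` extend along injective homomorphisms into finite abelian groups. -/
theorem exists_extension_of_injective {A B : Type*} [Group A] [Group B] [Finite B]
    (hB : ∀ x y : B, x * y = y * x) (j : A →* B) (hj : Function.Injective j) (f : A →* ℂˣ) :
    ∃ f' : B →* ℂˣ, ∀ a : A, f' (j a) = f a := by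
  letI : CommGroup B := { (inferInstance : Group B) with mul_comm := hB }
  haveI : NeZero ((Monoid.exponent B : ℕ) : ℂ) := ⟨by
    have : Monoid.exponent B ≠ 0 := Monoid.exponent_ne_zero_of_finite
    exact_mod_cast this⟩
  let e : A ≃* j.range := MonoidHom.ofInjective hj
  let f₀ : j.range →* ℂˣ := f.comp e.symm.toMonoidHom
  obtain ⟨f', hf'⟩ := MonoidHom.domRestrict_surjective ℂ j.range f₀
  refine ⟨f', fun a => ?_⟩
  have h1 : f' (j a) = (MonoidHom.domRestrictHom j.range ℂˣ f') ⟨j a, ⟨a, rfl⟩⟩ := rfl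
  rw [h1, hf']
  show f (e.symm ⟨j a, _⟩) = f a
  congr 1
  apply e.injective
  rw [MulEquiv.apply_symm_apply]
  rfl

/-- a homomorphism on a central subgroup `D` of `p`-power index that agrees on `S ⊓ D` with a
homomorphism on a subgroup `S` of index prime to `p` extends to the whole group. -/
theorem exists_extension_central {Γ : Type*} [Group Γ] [Finite Γ] (D S : Subgroup Γ)
    (hD : D ≤ Subgroup.center Γ) (hcop : Nat.Coprime D.index S.index)
    (α : D →* ℂˣ) (μ : S →* ℂˣ)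
    (hag : ∀ (x : Γ) (hxD : x ∈ D) (hxS : x ∈ S), μ ⟨x, hxS⟩ = α ⟨x, hxD⟩) :
    ∃ β : Γ →* ℂˣ, ∀ d : D, β d = α d := by
  have key : ∀ d ∈ D, ∀ (k : ℕ) (g₀ : Γ), g₀⁻¹ * d ^ k * g₀ = d ^ k := by
    intro d hd k g₀
    have hc := Subgroup.mem_center_iff.1 ((Subgroup.center Γ).pow_mem (hD hd) k) g₀
    rw [mul_assoc, ← hc, inv_mul_cancel_left]
  have h1 : ∀ d : D, MonoidHom.transfer α (d : Γ) = α d ^ D.index := by
    intro d
    rw [MonoidHom.transfer_eq_pow α (d : Γ) (fun k g₀ _ => key d d.2 k g₀), ← map_pow]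
    rfl
  have h2 : ∀ d : D, MonoidHom.transfer μ (d : Γ) = α d ^ S.index := by
    intro d
    rw [MonoidHom.transfer_eq_pow μ (d : Γ) (fun k g₀ _ => key d d.2 k g₀)]
    rw [hag _ (D.pow_mem d.2 _) _, ← map_pow]
    rfl
  obtain ⟨u, v, huv⟩ := Nat.isCoprime_iff_coprime.2 hcop
  refine ⟨{ toFun := fun e => (MonoidHom.transfer α e) ^ u * (MonoidHom.transfer μ e) ^ v
            map_one' := by simp
            map_mul' := fun a b => by
              rw [map_mul, map_mul, mul_zpow, mul_zpow]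
              exact mul_mul_mul_comm _ _ _ _ }, fun d => ?_⟩
  show (MonoidHom.transfer α (d : Γ)) ^ u * (MonoidHom.transfer μ (d : Γ)) ^ v = α d
  rw [h1, h2, ← zpow_natCast, ← zpow_natCast, ← zpow_mul, ← zpow_mul, ← zpow_add]
  have e1 : (D.index : ℤ) * u + (S.index : ℤ) * v = 1 := by rw [← huv]; ring
  rw [e1, zpow_one]

/-- a `p`-subgroup is conjugate into any Sylow `p`-subgroup. -/
theorem exists_conj_mem {G : Type*} [Group G] [Finite G] {p : ℕ} [Fact p.Prime] (P : Sylow p G)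
    (Q : Subgroup G) (hQ : IsPGroup p Q) :
    ∃ g : G, ∀ q ∈ Q, g * q * g⁻¹ ∈ (P : Subgroup G) := by
  obtain ⟨P₁, hP₁⟩ := hQ.exists_le_sylow
  obtain ⟨g, hg⟩ := MulAction.exists_smul_eq G P₁ P
  refine ⟨g, fun q hq => ?_⟩
  have h1 : g * q * g⁻¹ ∈ ((g • P₁ : Sylow p G) : Subgroup G) := by
    rw [Sylow.coe_subgroup_smul]
    have := Subgroup.smul_mem_pointwise_smul q (MulAut.conj g) (P₁ : Subgroup G) (hP₁ hq)
    rwa [MulAut.smul_def, MulAut.conj_apply] at this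
  rw [hg] at h1
  exact h1

/-- elements of order prime to `p` lie in a normal subgroup of `p`-power index. -/
theorem mem_of_coprime_order {G : Type*} [Group G] (N : Subgroup G) [N.Normal] {p k : ℕ}
    (hind : N.index = p ^ k) (z : G) (hz : Nat.Coprime (orderOf z) p) : z ∈ N := by
  have h1 : z ^ N.index ∈ N := Subgroup.pow_index_mem N z
  have hc : Nat.Coprime N.index (orderOf z) := by
    rw [hind]; exact Nat.Coprime.pow_left k hz.symm
  obtain ⟨m, hm⟩ := exists_pow_eq_self_of_coprime hc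
  rw [← hm]
  exact N.pow_mem h1 m

variable {G : Type*} [Group G] [Fintype G]

/-- a sum over `E` weighted by an extension by zero from `N` is a sum over `E ⊓ N`. -/
theorem sum_extendByZero_sub (E N : Subgroup G) (h : N → ℂ) (f : E → ℂ) :
    ∑ e : E, Cfsg.extendByZero N h (e : G) * f e =
      ∑ x : ↥(E ⊓ N), h ⟨(x : G), x.2.2⟩ * f ⟨(x : G), x.2.1⟩ := by
  have h1 : ∑ e : E, Cfsg.extendByZero N h (e : G) * f e
      = ∑ e : E, f e * Cfsg.extendByZero N h (e : G) := by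
    apply Finset.sum_congr rfl
    intro e _
    exact mul_comm _ _
  rw [h1, ← sum_extendByZero_mul E f (Cfsg.extendByZero N h)]
  rw [← sum_extendByZero (E ⊓ N) (fun x => h ⟨(x : G), x.2.2⟩ * f ⟨(x : G), x.2.1⟩)]
  apply Finset.sum_congr rfl
  intro g _
  by_cases hgE : g ∈ E
  · by_cases hgN : g ∈ N
    · have hgD : g ∈ E ⊓ N := ⟨hgE, hgN⟩
      rw [extendByZero_of_mem E _ hgE, extendByZero_of_mem (E ⊓ N) _ hgD,
        extendByZero_of_mem N _ hgN]
      exact mul_comm _ _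
    · have hgD : g ∉ E ⊓ N := fun h => hgN h.2
      rw [extendByZero_of_not_mem (E ⊓ N) _ hgD, extendByZero_of_not_mem N _ hgN, mul_zero]
  · have hgD : g ∉ E ⊓ N := fun h => hgE h.1
    rw [extendByZero_of_not_mem (E ⊓ N) _ hgD, extendByZero_of_not_mem E _ hgE, zero_mul]

/-- **Stage 1**: the `E`-invariant constituent `α` of Dade's theorem is linear and extends to
a character of `E`. -/
theorem exists_linear_ext {p : ℕ} [Fact p.Prime] (N : Subgroup G) [hN : N.Normal]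
    (hind : ∃ k : ℕ, N.index = p ^ k) (P : Sylow p G)
    (hcent : ∀ x ∈ (P : Subgroup G) ⊓ N, ∀ y ∈ (P : Subgroup G), x * y = y * x)
    (hlin : ∀ lam : ↥((P : Subgroup G) ⊓ N) → ℂ, Cfsg.IsCharacter ↥((P : Subgroup G) ⊓ N) lam →
      lam 1 = 1 → ∃ μ : ↥(P : Subgroup G) → ℂ, Cfsg.IsCharacter ↥(P : Subgroup G) μ ∧ μ 1 = 1 ∧
        ∀ x : ↥((P : Subgroup G) ⊓ N), μ ⟨(x : G), x.2.1⟩ = lam x)
    (E : Subgroup G) (hEl : Cfsg.IsElementary p E) (α : ↥(E ⊓ N) → ℂ)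
    (hα : Cfsg.IsIrrCharacter ↥(E ⊓ N) α) :
    ∃ ψ : ↥E → ℂ, Cfsg.IsCharacter ↥E ψ ∧ ∀ x : ↥(E ⊓ N), ψ ⟨(x : G), x.2.1⟩ = α x := by
  have hp : p.Prime := Fact.out
  obtain ⟨k, hk⟩ := hind
  obtain ⟨S⟩ : Nonempty (Sylow p ↥E) := inferInstance
  obtain ⟨z, hzc, hzcop, hdec⟩ := elementary_decomp hEl S
  have hAc : Subgroup.zpowers z ≤ Subgroup.center ↥E := Subgroup.zpowers_le.2 hzc
  have hzN : ((z : ↥E) : G) ∈ N :=
    mem_of_coprime_order N hk (z : G) (by rwa [Subgroup.orderOf_coe])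
  have hQ : IsPGroup p ((S : Subgroup ↥E).map E.subtype) := S.isPGroup'.map E.subtype
  obtain ⟨g, hg⟩ := exists_conj_mem P _ hQ
  have hgS : ∀ s : ↥E, s ∈ (S : Subgroup ↥E) → g * (s : G) * g⁻¹ ∈ (P : Subgroup G) :=
    fun s hs => hg _ ⟨s, hs, rfl⟩
  -- elements of `S ∩ N` commute with `S`
  have hSN_comm : ∀ s ∈ (S : Subgroup ↥E), ((s : ↥E) : G) ∈ N →
      ∀ t ∈ (S : Subgroup ↥E), s * t = t * s := by
    intro s hs hsN t ht
    have h1 := hcent (g * (s : G) * g⁻¹) ⟨hgS s hs, hN.conj_mem _ hsN g⟩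
      (g * (t : G) * g⁻¹) (hgS t ht)
    apply Subtype.ext
    show (s : G) * (t : G) = (t : G) * (s : G)
    have h2 : g * ((s : G) * (t : G)) * g⁻¹ = g * ((t : G) * (s : G)) * g⁻¹ := by
      have e1 : g * ((s : G) * (t : G)) * g⁻¹ = (g * (s : G) * g⁻¹) * (g * (t : G) * g⁻¹) := by
        group
      have e2 : g * ((t : G) * (s : G)) * g⁻¹ = (g * (t : G) * g⁻¹) * (g * (s : G) * g⁻¹) := by
        group
      rw [e1, e2, h1]
    exact mul_left_cancel (mul_right_cancel h2)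
  -- `E ⊓ N` is central in `E`
  have hDcent : ∀ d : ↥E, (d : G) ∈ N → ∀ e : ↥E, d * e = e * d := by
    intro d hdN e
    obtain ⟨a, ha, s, hs, rfl⟩ := hdec d
    obtain ⟨b, hb, t, ht, rfl⟩ := hdec e
    have haN : ((a : ↥E) : G) ∈ N := by
      obtain ⟨i, rfl⟩ := Subgroup.mem_zpowers_iff.1 ha
      have : (((z ^ i : ↥E)) : G) = (z : G) ^ i := by simp
      rw [this]
      exact N.zpow_mem hzN i
    have hsN : ((s : ↥E) : G) ∈ N := by
      have h1 : ((a * s : ↥E) : G) = (a : G) * (s : G) := rfl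
      rw [h1] at hdN
      exact (Subgroup.mul_mem_cancel_left N haN).1 hdN
    have hst : Commute s t := hSN_comm s hs hsN t ht
    have ca : ∀ x : ↥E, Commute a x := fun x => (Subgroup.mem_center_iff.1 (hAc ha) x).symm
    have cb : ∀ x : ↥E, Commute x b := fun x => Subgroup.mem_center_iff.1 (hAc hb) x
    exact (Commute.mul_left (ca _) (Commute.mul_right (cb s) hst)).eq
  have hDcomm : ∀ x y : ↥(E ⊓ N), x * y = y * x := by
    intro x y
    apply Subtype.ext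
    have := hDcent ⟨(x : G), x.2.1⟩ x.2.2 ⟨(y : G), y.2.1⟩
    have h2 : (x : G) * (y : G) = (y : G) * (x : G) := congrArg (Subtype.val : ↥E → G) this
    exact h2
  have hα1 : α 1 = 1 := IsIrrCharacter.apply_one_of_comm hDcomm hα
  obtain ⟨αh, hαh⟩ := exists_monoidHom_of_isIrrCharacter_of_apply_one hα hα1
  -- the groups and homomorphisms
  obtain ⟨SD, hSD⟩ : ∃ SD : Subgroup ↥E, SD = (S : Subgroup ↥E) ⊓ N.subgroupOf E := ⟨_, rfl⟩
  have hSDle : SD ≤ (S : Subgroup ↥E) ⊓ N.subgroupOf E := hSD.le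
  have hSD1 : ∀ s : ↥SD, (s : ↥E) ∈ (S : Subgroup ↥E) := fun s => (hSDle s.2).1
  have hSD2 : ∀ s : ↥SD, ((s : ↥E) : G) ∈ N := fun s =>
    Subgroup.mem_subgroupOf.1 (hSDle s.2).2
  let j : ↥SD →* ↥((P : Subgroup G) ⊓ N) :=
    { toFun := fun s => ⟨g * ((s : ↥E) : G) * g⁻¹, ⟨hgS _ (hSD1 s), hN.conj_mem _ (hSD2 s) g⟩⟩
      map_one' := by apply Subtype.ext; simp
      map_mul' := fun a b => by
        apply Subtype.ext
        show g * (((a : ↥E) : G) * ((b : ↥E) : G)) * g⁻¹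
          = (g * ((a : ↥E) : G) * g⁻¹) * (g * ((b : ↥E) : G) * g⁻¹)
        group }
  have hj : Function.Injective j := by
    intro a b hab
    have h1 : g * ((a : ↥E) : G) * g⁻¹ = g * ((b : ↥E) : G) * g⁻¹ := congrArg Subtype.val hab
    exact Subtype.ext (Subtype.ext (mul_left_cancel (mul_right_cancel h1)))
  let i : ↥SD →* ↥(E ⊓ N) :=
    { toFun := fun s => ⟨((s : ↥E) : G), ⟨(s : ↥E).2, hSD2 s⟩⟩
      map_one' := rfl
      map_mul' := fun a b => rfl }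
  let i' : ↥(N.subgroupOf E) →* ↥(E ⊓ N) :=
    { toFun := fun s => ⟨((s : ↥E) : G), ⟨(s : ↥E).2, Subgroup.mem_subgroupOf.1 s.2⟩⟩
      map_one' := rfl
      map_mul' := fun a b => rfl }
  have hPN : ∀ x y : ↥((P : Subgroup G) ⊓ N), x * y = y * x :=
    fun x y => Subtype.ext (hcent x x.2 y y.2.1)
  obtain ⟨f', hf'⟩ := exists_extension_of_injective hPN j hj (αh.comp i)
  have hlamirr := isIrrCharacter_of_monoidHom f'
  obtain ⟨μ, hμ, hμ1, hμlam⟩ := hlin (fun x => ((f' x : ℂˣ) : ℂ))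
    (IsIrrCharacter.isCharacter hlamirr) (by simp)
  obtain ⟨μh, hμh⟩ := Cfsg.Agent.Lib.Helper25.exists_hom_of_linear hμ hμ1
  let cS : ↥(S : Subgroup ↥E) →* ↥(P : Subgroup G) :=
    { toFun := fun s => ⟨g * ((s : ↥E) : G) * g⁻¹, hgS _ s.2⟩
      map_one' := by apply Subtype.ext; simp
      map_mul' := fun a b => by
        apply Subtype.ext
        show g * (((a : ↥E) : G) * ((b : ↥E) : G)) * g⁻¹
          = (g * ((a : ↥E) : G) * g⁻¹) * (g * ((b : ↥E) : G) * g⁻¹)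
        group }
  have hD : N.subgroupOf E ≤ Subgroup.center ↥E := by
    intro d hd
    rw [Subgroup.mem_center_iff]
    intro e
    exact (hDcent d (Subgroup.mem_subgroupOf.1 hd) e).symm
  have hcop : Nat.Coprime (N.subgroupOf E).index (S : Subgroup ↥E).index := by
    have h1 : (N.subgroupOf E).index ∣ p ^ k := by
      rw [← hk]
      exact Subgroup.relIndex_dvd_index_of_normal N E
    obtain ⟨i, _, hi⟩ := (Nat.dvd_prime_pow hp).1 h1
    rw [hi]
    exact Nat.Coprime.pow_left i ((Nat.Prime.coprime_iff_not_dvd hp).2 S.not_dvd_index)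
  have hag : ∀ (x : ↥E) (hxD : x ∈ N.subgroupOf E) (hxS : x ∈ (S : Subgroup ↥E)),
      (μh.comp cS) ⟨x, hxS⟩ = (αh.comp i') ⟨x, hxD⟩ := by
    intro x hxD hxS
    have hx : x ∈ SD := by rw [hSD]; exact ⟨hxS, hxD⟩
    apply Units.ext
    have e1 : ((μh (cS ⟨x, hxS⟩) : ℂˣ) : ℂ) = μ (cS ⟨x, hxS⟩) := (hμh _).symm
    have e2 : μ (cS ⟨x, hxS⟩) = ((f' (j ⟨x, hx⟩) : ℂˣ) : ℂ) := hμlam (j ⟨x, hx⟩)
    have e3 := hf' ⟨x, hx⟩
    show ((μh (cS ⟨x, hxS⟩) : ℂˣ) : ℂ) = ((αh (i' ⟨x, hxD⟩) : ℂˣ) : ℂ)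
    rw [e1, e2, e3]
    rfl
  obtain ⟨β, hβ⟩ := exists_extension_central (N.subgroupOf E) (S : Subgroup ↥E) hD hcop
    (αh.comp i') (μh.comp cS) hag
  refine ⟨fun e => ((β e : ℂˣ) : ℂ),
    IsIrrCharacter.isCharacter (isIrrCharacter_of_monoidHom β), fun x => ?_⟩
  have h1 := hβ ⟨⟨(x : G), x.2.1⟩, Subgroup.mem_subgroupOf.2 x.2.2⟩
  have h2 : α x = ((αh x : ℂˣ) : ℂ) := congrFun hαh x
  rw [h2]
  have h3 : β ⟨(x : G), x.2.1⟩ = αh x := h1
  show ((β ⟨(x : G), x.2.1⟩ : ℂˣ) : ℂ) = _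
  rw [h3]

/-- **Stage 2**: some irreducible character of `G` contains `ϑ` with multiplicity prime to `p`. -/
theorem exists_not_dvd {p : ℕ} (N : Subgroup G) [hN : N.Normal]
    (ϑ : N → ℂ) (hϑ : Cfsg.IsCharacter N ϑ)
    (hinv : ∀ (g : G) (n : N), ϑ ⟨g * n * g⁻¹, hN.conj_mem (n : G) n.2 g⟩ = ϑ n)
    (E : Subgroup G) (htop : E ⊔ N = ⊤) (α : ↥(E ⊓ N) → ℂ) (k : ℕ) (hk : ¬ p ∣ k)
    (hkcl : Cfsg.classInner (resN E N ϑ) α = (k : ℂ))
    (ψ : ↥E → ℂ) (hψ : Cfsg.IsCharacter ↥E ψ)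
    (hψα : ∀ x : ↥(E ⊓ N), ψ ⟨(x : G), x.2.1⟩ = α x) :
    ∃ (χ : Cfsg.IrrCharacter G) (e : ℕ),
      Cfsg.classInner (fun n : N => (χ : G → ℂ) n) ϑ = (e : ℂ) ∧ ¬ p ∣ e := by
  haveI : Fintype (Cfsg.IrrCharacter G) := Fintype.ofFinite _
  obtain ⟨Θ, hΘ⟩ : ∃ Θ : G → ℂ, Θ = Cfsg.extendByZero N ϑ := ⟨_, rfl⟩
  have hΘcf : Cfsg.IsClassFunction G Θ := by
    intro x g
    rw [hΘ]
    by_cases hx : x ∈ N
    · rw [extendByZero_of_mem N ϑ (hN.conj_mem x hx g), extendByZero_of_mem N ϑ hx]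
      exact hinv g ⟨x, hx⟩
    · have hx' : g * x * g⁻¹ ∉ N := by
        intro h
        apply hx
        have := hN.conj_mem _ h g⁻¹
        have e1 : g⁻¹ * (g * x * g⁻¹) * g⁻¹⁻¹ = x := by group
        rwa [e1] at this
      rw [extendByZero_of_not_mem N ϑ hx', extendByZero_of_not_mem N ϑ hx]
  have hexp := classFunction_expansion Θ hΘcf
  have he : ∀ χ : Cfsg.IrrCharacter G, ∃ e : ℕ,
      Cfsg.classInner (fun n : N => (χ : G → ℂ) n) ϑ = (e : ℂ) :=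
    fun χ => classInner_isCharacter_nat
      (IsCharacter.restrict (IsIrrCharacter.isCharacter χ.2) N) hϑ
  have hb : ∀ χ : Cfsg.IrrCharacter G, ∃ b : ℕ,
      Cfsg.classInner (fun x : ↥E => (χ : G → ℂ) x) ψ = (b : ℂ) :=
    fun χ => classInner_isCharacter_nat
      (IsCharacter.restrict (IsIrrCharacter.isCharacter χ.2) E) hψ
  choose e he using he
  choose b hb using hb
  have hN0 : (Nat.card N : ℂ) ≠ 0 := card_ne_zero_complex
  have hD0 : (Nat.card ↥(E ⊓ N) : ℂ) ≠ 0 := card_ne_zero_complex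
  have hcoef : ∀ χ : Cfsg.IrrCharacter G, Cfsg.classInner Θ (χ : G → ℂ)
      = (Nat.card G : ℂ)⁻¹ * (Nat.card N : ℂ) * (e χ : ℂ) := by
    intro χ
    have h1 : Cfsg.classInner ϑ (fun n : N => (χ : G → ℂ) n) = (e χ : ℂ) := by
      rw [← classInner_conj_symm, he χ, Complex.conj_natCast]
    have hs : ∑ g : G, Cfsg.extendByZero N ϑ g * conj ((χ : G → ℂ) g)
        = ∑ n : N, ϑ n * conj ((χ : G → ℂ) n) :=
      sum_extendByZero_mul N ϑ (fun g => conj ((χ : G → ℂ) g))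
    rw [classInner_def] at h1
    have h2 : ∑ n : N, ϑ n * conj ((χ : G → ℂ) n) = (Nat.card N : ℂ) * (e χ : ℂ) := by
      rw [← h1, mul_inv_cancel_left₀ hN0]
    rw [classInner_def, hΘ, hs, h2, mul_assoc]
  have hΘE : (fun x : ↥E => Θ x) = ∑ χ : Cfsg.IrrCharacter G,
      Cfsg.classInner Θ (χ : G → ℂ) • (fun x : ↥E => (χ : G → ℂ) x) := by
    funext x
    have h1 := congrFun hexp (x : G)
    rw [Finset.sum_apply] at h1
    rw [Finset.sum_apply]
    exact h1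
  have hR : Cfsg.classInner (fun x : ↥E => Θ x) ψ = ∑ χ : Cfsg.IrrCharacter G,
      (Nat.card G : ℂ)⁻¹ * (Nat.card N : ℂ) * (e χ : ℂ) * (b χ : ℂ) := by
    rw [hΘE, classInner_sum_left]
    apply Finset.sum_congr rfl
    intro χ _
    rw [classInner_smul_left, hcoef χ, hb χ]
  have hL : Cfsg.classInner (fun x : ↥E => Θ x) ψ
      = (Nat.card ↥E : ℂ)⁻¹ * ((Nat.card ↥(E ⊓ N) : ℂ) * (k : ℂ)) := by
    rw [classInner_def]
    congr 1
    have h1 : ∑ x : ↥E, Θ (x : G) * conj (ψ x)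
        = ∑ x : ↥(E ⊓ N), ϑ ⟨(x : G), x.2.2⟩ * conj (ψ ⟨(x : G), x.2.1⟩) := by
      rw [hΘ]
      exact sum_extendByZero_sub E N ϑ (fun x => conj (ψ x))
    refine h1.trans ?_
    have h2 : Cfsg.classInner (resN E N ϑ) α = (Nat.card ↥(E ⊓ N) : ℂ)⁻¹ *
        ∑ x : ↥(E ⊓ N), ϑ ⟨(x : G), x.2.2⟩ * conj (ψ ⟨(x : G), x.2.1⟩) := by
      rw [classInner_def]
      congr 1
      apply Finset.sum_congr rfl
      intro x _
      rw [hψα x]
      rfl
    rw [hkcl] at h2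
    rw [h2, mul_inv_cancel_left₀ hD0]
  have hrel : N.relIndex E = N.index := by
    rw [← Subgroup.relIndex_sup_right E N, htop, Subgroup.relIndex_top_right]
  have hidx : (Nat.card ↥E : ℂ) = (Nat.card ↥(E ⊓ N) : ℂ) * (N.index : ℂ) := by
    have h1 := card_inf_mul_relIndex E N
    rw [hrel] at h1
    exact_mod_cast h1.symm
  have hG : (Nat.card G : ℂ) = (Nat.card N : ℂ) * (N.index : ℂ) := by
    exact_mod_cast (Subgroup.card_mul_index N).symm
  have hi0 : (N.index : ℂ) ≠ 0 := by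
    have : N.index ≠ 0 := Subgroup.index_ne_zero_of_finite
    exact_mod_cast this
  have hkey : (k : ℂ) = ∑ χ : Cfsg.IrrCharacter G, ((e χ * b χ : ℕ) : ℂ) := by
    have h := hL.symm.trans hR
    rw [hidx, hG] at h
    have h' : (N.index : ℂ)⁻¹ * (k : ℂ)
        = (N.index : ℂ)⁻¹ * ∑ χ : Cfsg.IrrCharacter G, ((e χ * b χ : ℕ) : ℂ) := by
      rw [Finset.mul_sum]
      convert h using 1
      · field_simp
      · apply Finset.sum_congr rfl
        intro χ _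
        push_cast
        field_simp
    exact mul_left_cancel₀ (inv_ne_zero hi0) h'
  have hkeyN : k = ∑ χ : Cfsg.IrrCharacter G, e χ * b χ := by exact_mod_cast hkey
  by_contra hcon
  apply hk
  rw [hkeyN]
  apply Finset.dvd_sum
  intro χ _
  by_contra hχ
  exact hcon ⟨χ, e χ, he χ, fun h => hχ (Dvd.dvd.mul_right h _)⟩

/-- **Stage 3**: multiplicity prime to `p` of an invariant `ϑ` forces the restriction to be `ϑ`. -/
theorem restrict_eq_of_not_dvd {p : ℕ} (hp : p.Prime) (N : Subgroup G) [hN : N.Normal]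
    (hind : ∃ k : ℕ, N.index = p ^ k) (ϑ : N → ℂ) (hϑ : Cfsg.IsIrrCharacter N ϑ)
    (hinv : ∀ (g : G) (n : N), ϑ ⟨g * n * g⁻¹, hN.conj_mem (n : G) n.2 g⟩ = ϑ n)
    (χ : G → ℂ) (hχ : Cfsg.IsIrrCharacter G χ) (e : ℕ)
    (he : Cfsg.classInner (fun n : N => χ n) ϑ = (e : ℂ)) (hpe : ¬ p ∣ e) :
    ∀ n : N, χ n = ϑ n := by
  have he0 : e ≠ 0 := by rintro rfl; exact hpe (dvd_zero p)
  have hconst : Cfsg.classInner (fun n : N => χ n) ϑ ≠ 0 := by
    rw [he]; exact_mod_cast he0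
  have hcl := clifford_restriction N hχ hϑ hconst
  have hset : {ψ : N → ℂ | ∃ g : G, ψ = conjFun N g ϑ} = {ϑ} := by
    ext ψ
    simp only [Set.mem_ofPred_eq, Set.mem_singleton_iff]
    constructor
    · rintro ⟨g, rfl⟩
      funext n
      rw [conjFun_apply]
      exact hinv g n
    · rintro rfl
      exact ⟨1, (conjFun_one N ψ).symm⟩
  rw [hset, finsum_mem_singleton, he] at hcl
  obtain ⟨b, d, hd, hbd, hb⟩ := DegreeRatio.main N χ hχ ϑ hϑ hconst
  have h1 : χ 1 = (e : ℂ) * ϑ 1 := by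
    have := congrFun hcl 1
    simpa using this
  have hd0 : d ≠ 0 := by
    rintro rfl
    exact IsIrrCharacter.apply_one_ne_zero hϑ (by rw [hd]; simp)
  obtain ⟨k, hk⟩ := hind
  rw [hk] at hb
  have hbe : b = e := by
    have h2 : ((b * d : ℕ) : ℂ) = ((e * d : ℕ) : ℂ) := by
      rw [← hbd, h1, hd]; push_cast; ring
    have h3 : b * d = e * d := by exact_mod_cast h2
    exact Nat.eq_of_mul_eq_mul_right (Nat.pos_of_ne_zero hd0) h3
  rw [hbe] at hb
  obtain ⟨i, _, hi⟩ := (Nat.dvd_prime_pow hp).1 hb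
  have he1 : e = 1 := by
    rcases Nat.eq_zero_or_pos i with h0 | h0
    · rw [hi, h0, pow_zero]
    · exfalso
      apply hpe
      rw [hi]
      exact dvd_pow_self p h0.ne'
  intro n
  have := congrFun hcl n
  rw [he1] at this
  simpa using this

/-- **Isaacs 8.26**. -/
theorem dade_extension (p : ℕ) [Fact p.Prime] (N : Subgroup G) [hN : N.Normal]
    (hind : ∃ k : ℕ, N.index = p ^ k) (P : Sylow p G)
    (hcent : ∀ x ∈ (P : Subgroup G) ⊓ N, ∀ y ∈ (P : Subgroup G), x * y = y * x)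
    (hlin : ∀ lam : ↥((P : Subgroup G) ⊓ N) → ℂ, Cfsg.IsCharacter ↥((P : Subgroup G) ⊓ N) lam →
      lam 1 = 1 → ∃ μ : ↥(P : Subgroup G) → ℂ, Cfsg.IsCharacter ↥(P : Subgroup G) μ ∧ μ 1 = 1 ∧
        ∀ x : ↥((P : Subgroup G) ⊓ N), μ ⟨(x : G), x.2.1⟩ = lam x)
    (ϑ : N → ℂ) (hϑ : Cfsg.IsIrrCharacter N ϑ)
    (hinv : ∀ (g : G) (n : N), ϑ ⟨g * n * g⁻¹, hN.conj_mem (n : G) n.2 g⟩ = ϑ n) :
    ∃ χ : G → ℂ, Cfsg.IsIrrCharacter G χ ∧ ∀ n : N, χ n = ϑ n := by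
  have hp : p.Prime := Fact.out
  obtain ⟨E, α, k, hEl, htop, hk, hkcl, hαinv⟩ := dade hp N hind ϑ hϑ hinv
  obtain ⟨ψ, hψ, hψα⟩ := exists_linear_ext N hind P hcent hlin E hEl (α : ↥(E ⊓ N) → ℂ) α.2
  obtain ⟨χ, e, he, hpe⟩ := exists_not_dvd N ϑ (IsIrrCharacter.isCharacter hϑ) hinv E htop
    (α : ↥(E ⊓ N) → ℂ) k hk hkcl ψ hψ hψα
  exact ⟨χ, χ.2, restrict_eq_of_not_dvd hp N hind ϑ hϑ hinv χ χ.2 e he hpe⟩

end Cfsg.Agent.Lib.Helper2.DadeExt
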