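import Cfsg.Agent.Lib.Helper2.E8CCS
import Cfsg.Agent.Lib.Helper22.StCCBBTE7

/-!
# S2105 / S2106 / S2400: simply laced shape of the commutator formulas of `chevE6`, `chevE7`,
`chevD4` (instances of `Helper2.sl1_of`; names in the sub-namespace `Helper2`, no hypotheses on
`r`, `s` needed).
-/

set_option autoImplicit false
set_option maxRecDepth 100000

namespace Cfsg.Agent.Lib.Helper10.E8CC.Helper2

open Cfsg.Lie Cfsg.Agent.Lib.Helper8.Chev Cfsg.Agent.Lib.Helper14.StCC
open Cfsg.Agent.Lib.Helper14.StCC.B.Helper22

theorem pmB_E6 : pmB chevE6 = true := by decide +kernel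

theorem pmB_E7 : pmB chevE7 = true := by decide +kernel

theorem pmB_D4 : pmB chevD4 = true := by decide +kernel

/-- simply laced shape of every commutator formula of `chevE6` -/
theorem sl1_E6_all (r s : ℕ) : SL1 chevE6 r s := sl1_of slB_E6 pmB_E6 r s

/-- simply laced shape of every commutator formula of `chevE7` -/
theorem sl1_E7_all (r s : ℕ) : SL1 chevE7 r s := sl1_of slB_E7 pmB_E7 r s

/-- simply laced shape of every commutator formula of `chevD4` -/
theorem sl1_D4_all (r s : ℕ) : SL1 chevD4 r s := sl1_of slB_D4 pmB_D4 r s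

/-- simply laced shape of every commutator formula of `chevE8` -/
theorem sl1_E8_all (r s : ℕ) : SL1 chevE8 r s := sl1_of slB_E8 pmB_E8 r s

end Cfsg.Agent.Lib.Helper10.E8CC.Helper2
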