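import Cfsg.Agent.Lib.Helper5.Fi23M.Defs

/-!
# S2054, piece [F1] (helper2): the lift of the spider relator is trivial for a `3`-group kernel

`B̃ = ⟨γh 1, …, γh 9, z⟩`, `z = ev γh rho1`: the relators `relsB` hold in `B̃`, so `|B̃| ≤ 2 |O₈⁺(3):2|`, while
`σ(B̃) = ⟨b, …, j⟩` has order at least `|O₈⁺(3):2|`; so `B̃ ∩ ker σ` has order at most `2` and is a `3`-group.
-/

set_option autoImplicit false

namespace Cfsg.Agent.Lib.Helper5.Fi23M

open Cfsg Cfsg.H5.TCk

namespace Helper2

section Words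

variable {Γ : Type*} {G : Type*} [Group Γ] [Group G]

theorem map_gl' (σ : Γ →* G) (γ : ℕ → Γ) (l : ℕ) : σ (gl γ l) = gl (fun i => σ (γ i)) l := by
  unfold gl
  split_ifs
  · rfl
  · rw [map_inv]

theorem map_ev' (σ : Γ →* G) (γ : ℕ → Γ) (w : List ℕ) : σ (ev γ w) = ev (fun i => σ (γ i)) w := by
  induction w with
  | nil => simp [ev]
  | cons l w ih => simp only [ev, map_mul, ih, map_gl']

theorem ev_rep (γ : ℕ → Γ) (w : List ℕ) (n : ℕ) : ev γ (rep w n) = ev γ w ^ n := by
  induction n with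
  | zero => simp [rep, ev]
  | succ n ih => rw [rep, ev_append, ih, pow_succ']

theorem ev_pair (γ : ℕ → Γ) (x y : ℕ) : ev γ [2 * x, 2 * y] = γ x * γ y := by
  simp only [ev, gl_even, mul_one]

end Words

/-! ### the relations of `Fi₂₃` -/

theorem mem_nodes (x : Cfsg.Spor.Fi23.Gen) : x ∈ Cfsg.Spor.coxNodes Cfsg.Spor.Fi23.edges := by
  cases x <;> decide

theorem cox_rel (x y : Cfsg.Spor.Fi23.Gen) :
    ((PresentedGroup.of x : Cfsg.Spor.Fi23) * PresentedGroup.of y) ^
      Cfsg.Spor.coxLabel Cfsg.Spor.Fi23.edges x y = 1 := by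
  have h : (FreeGroup.of x * FreeGroup.of y) ^ Cfsg.Spor.coxLabel Cfsg.Spor.Fi23.edges x y ∈
      Cfsg.Spor.coxRelators Cfsg.Spor.Fi23.edges ∪ {r | r ∈ Cfsg.Spor.Fi23.extra} :=
    Or.inl ⟨x, mem_nodes x, y, mem_nodes y, rfl⟩
  have := PresentedGroup.one_of_mem h
  rw [map_pow, map_mul] at this
  exact this

theorem label_eq : ∀ i < 10, ∀ j < 10, i ≠ j →
    Cfsg.Spor.coxLabel Cfsg.Spor.Fi23.edges (genL.getD i Cfsg.Spor.Fi23.Gen.a)
      (genL.getD j Cfsg.Spor.Fi23.Gen.a) = mxy i j := by
  decide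

theorem gen_cox {i j : ℕ} (hi : i < 10) (hj : j < 10) (hij : i ≠ j) :
    (gen i * gen j) ^ mxy i j = 1 := by
  rw [← label_eq i hi j hj hij]
  exact cox_rel _ _

theorem ordB_facts : ∀ x < 9, ∀ y < 9, x < y →
    ordB.getD x 0 < 10 ∧ ordB.getD y 0 < 10 ∧ ordB.getD x 0 ≠ ordB.getD y 0 := by
  decide

theorem spider_rel : ev gen rho1 = 1 := by
  have h : (Cfsg.Spor.Fi23.d * Cfsg.Spor.Fi23.c * Cfsg.Spor.Fi23.b * Cfsg.Spor.Fi23.d * Cfsg.Spor.Fi23.e *
      Cfsg.Spor.Fi23.f * Cfsg.Spor.Fi23.d * Cfsg.Spor.Fi23.h * Cfsg.Spor.Fi23.i) ^ 10 ∈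
      Cfsg.Spor.coxRelators Cfsg.Spor.Fi23.edges ∪ {r | r ∈ Cfsg.Spor.Fi23.extra} := by
    refine Or.inr ?_
    show _ ∈ Cfsg.Spor.Fi23.extra
    simp only [Cfsg.Spor.Fi23.extra, List.mem_cons, true_or]
  have h1 := PresentedGroup.one_of_mem h
  rw [rho1, ev_rep, ← h1, map_pow]
  congr 1

end Helper2

open Helper2 in
/-- [F1] -/
theorem rho1_lift_eq_one_of
    (hD : 9904359628800 ≤ Nat.card (Subgroup.closure (Set.range fun i : Fin 9 => gen (ordB.getD i.val 0))))
    (hE : ∀ {Δ : Type} [Group Δ] (γ : ℕ → Δ), (∀ r ∈ relsB, ev γ r = 1) →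
      Subgroup.closure (Set.range fun i : Fin 10 => γ i.val) = ⊤ → Finite Δ ∧ Nat.card Δ ≤ 19808719257600)
    {Γ : Type} [Group Γ] [Finite Γ] (σ : Γ →* Cfsg.Spor.Fi23) (hc : σ.ker ≤ Subgroup.center Γ)
    (hk : IsPGroup 3 σ.ker) (γh : ℕ → Γ) (hσγ : ∀ i, σ (γh i) = gen i) (h2 : ∀ i, γh i ^ 2 = 1)
    (hcox : ∀ i j m : ℕ, (gen i * gen j) ^ m = 1 → (γh i * γh j) ^ m = 1) :
    ev γh rho1 = 1 := by
  classical
  -- `z` and its properties
  set z : Γ := ev γh rho1 with hz
  have hσz : σ z = 1 := by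
    rw [hz, map_ev']
    have : (fun i => σ (γh i)) = gen := funext hσγ
    rw [this]
    exact spider_rel
  have hzc : ∀ g : Γ, g * z = z * g := fun g =>
    Subgroup.mem_center_iff.mp (hc (MonoidHom.mem_ker.mpr hσz)) g
  have hsq : ∀ i, γh i * γh i = 1 := fun i => by rw [← pow_two]; exact h2 i
  -- the ten generators
  let γ' : ℕ → Γ := fun k => if k < 9 then γh (ordB.getD k 0) else if k = 9 then z else 1
  have hγ'lt : ∀ k, k < 9 → γ' k = γh (ordB.getD k 0) := fun k hk => by
    show (if k < 9 then _ else _) = _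
    rw [if_pos hk]
  have hγ'9 : γ' 9 = z := by
    show (if 9 < 9 then _ else _) = _
    rw [if_neg (by norm_num), if_pos rfl]
  have hγ'ge : ∀ k, 10 ≤ k → γ' k = 1 := fun k hk => by
    show (if k < 9 then _ else _) = _
    rw [if_neg (by omega), if_neg (by omega)]
  -- the relators hold in `Γ`
  have hrelΓ : ∀ r ∈ relsB, ev γ' r = 1 := by
    intro r hr
    unfold relsB at hr
    rcases List.mem_append.mp hr with hr | hr
    · rcases List.mem_append.mp hr with hr | hr
      · rcases List.mem_append.mp hr with hr | hr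
        · -- squares
          obtain ⟨x, hx, rfl⟩ := List.mem_map.mp hr
          have hx9 : x < 9 := List.mem_range.mp hx
          rw [ev_pair, hγ'lt x hx9]
          exact hsq _
        · -- Coxeter words
          obtain ⟨x, hx, hr⟩ := List.mem_flatMap.mp hr
          obtain ⟨y, hy, rfl⟩ := List.mem_map.mp hr
          have hx9 : x < 9 := List.mem_range.mp hx
          have hy' := List.mem_filter.mp hy
          have hy9 : y < 9 := List.mem_range.mp hy'.1
          have hxy : x < y := of_decide_eq_true hy'.2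
          obtain ⟨h1, h3, h4⟩ := ordB_facts x hx9 y hy9 hxy
          rw [ev_rep, ev_pair, hγ'lt x hx9, hγ'lt y hy9]
          apply hcox
          have := gen_cox h1 h3 h4
          unfold mxy at this
          unfold adjB
          exact this
      · -- the spider word
        rw [List.mem_singleton] at hr
        subst hr
        rw [ev_append, ev_rep]
        have h19 : ev γ' [19] = z⁻¹ := by
          have : (19 : ℕ) = 2 * 9 + 1 := rfl
          simp only [ev, mul_one]
          rw [this, gl_odd, hγ'9]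
        have hsp : ev γ' spiderB = ev γh spider := by
          simp only [spiderB, spider, ev, mul_one]
          have e : ∀ k, k < 9 → gl γ' (2 * k) = γh (ordB.getD k 0) := fun k hk => by
            rw [gl_even, hγ'lt k hk]
          have e0 := e 0 (by norm_num)
          have e1 := e 1 (by norm_num)
          have e2 := e 2 (by norm_num)
          have e3 := e 3 (by norm_num)
          have e4 := e 4 (by norm_num)
          have e5 := e 5 (by norm_num)
          have e6 := e 6 (by norm_num)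
          norm_num at e0 e1 e2 e3 e4 e5 e6
          rw [e0, e1, e2, e3, e4, e5, e6]
          have f : ∀ k, gl γh (2 * k) = γh k := fun k => gl_even γh k
          have f1 := f 1
          have f2 := f 2
          have f3 := f 3
          have f4 := f 4
          have f5 := f 5
          have f8 := f 8
          have f9 := f 9
          norm_num at f1 f2 f3 f4 f5 f8 f9
          rw [f1, f2, f3, f4, f5, f8, f9]
          simp [ordB]
        rw [h19, hsp, ← ev_rep, ← rho1, ← hz, mul_inv_cancel]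
    · -- `z` is central
      obtain ⟨x, hx, rfl⟩ := List.mem_map.mp hr
      have hx9 : x < 9 := List.mem_range.mp hx
      have h18 : gl γ' 18 = z := by
        have : (18 : ℕ) = 2 * 9 := rfl
        rw [this, gl_even, hγ'9]
      have h19 : gl γ' 19 = z⁻¹ := by
        have : (19 : ℕ) = 2 * 9 + 1 := rfl
        rw [this, gl_odd, hγ'9]
      simp only [ev, mul_one, h18, h19, gl_even]
      rw [hγ'lt x hx9, ← mul_assoc, ← hzc, mul_assoc, mul_inv_cancel_left]
      exact hsq _
  -- the subgroup `B̃`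
  let S : Set Γ := Set.range fun i : Fin 10 => γ' i.val
  let B : Subgroup Γ := Subgroup.closure S
  have hmem : ∀ k, γ' k ∈ B := by
    intro k
    by_cases hk : k < 10
    · exact Subgroup.subset_closure ⟨⟨k, hk⟩, rfl⟩
    · rw [hγ'ge k (by omega)]
      exact B.one_mem
  let γ : ℕ → B := fun k => ⟨γ' k, hmem k⟩
  have hrelB : ∀ r ∈ relsB, ev γ r = 1 := by
    intro r hr
    apply Subtype.ext
    have := map_ev' B.subtype γ r
    rw [Subgroup.coe_subtype] at this
    rw [this]
    exact hrelΓ r hr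
  have hgenB : Subgroup.closure (Set.range fun i : Fin 10 => γ i.val) = ⊤ := by
    have h1 : (Set.range fun i : Fin 10 => γ i.val) = ((↑) ⁻¹' S : Set B) := by
      ext ⟨b, hb⟩
      constructor
      · rintro ⟨i, hi⟩
        exact ⟨i, congrArg Subtype.val hi⟩
      · rintro ⟨i, hi⟩
        exact ⟨i, Subtype.ext hi⟩
    rw [h1]
    exact Subgroup.closure_closure_coe_preimage
  obtain ⟨_, hcardB⟩ := hE γ hrelB hgenB
  -- the restriction of `σ`
  let φ : B →* Cfsg.Spor.Fi23 := σ.comp B.subtype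
  have : Finite φ.range := Finite.of_surjective φ.rangeRestrict φ.rangeRestrict_surjective
  have hle : Subgroup.closure (Set.range fun i : Fin 9 => gen (ordB.getD i.val 0)) ≤ φ.range := by
    rw [Subgroup.closure_le]
    rintro _ ⟨i, rfl⟩
    refine ⟨γ i.val, ?_⟩
    show σ (γ' i.val) = _
    rw [hγ'lt i.val i.isLt, hσγ]
  have hrange : 9904359628800 ≤ Nat.card φ.range := hD.trans (Subgroup.card_le_of_le hle)
  have hmul : Nat.card φ.ker * Nat.card φ.range = Nat.card B := by
    rw [← Subgroup.index_ker]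
    exact Subgroup.card_mul_index φ.ker
  have hker2 : Nat.card φ.ker ≤ 2 := by
    by_contra hcon
    rw [not_le] at hcon
    have : 3 * 9904359628800 ≤ Nat.card φ.ker * Nat.card φ.range := Nat.mul_le_mul hcon hrange
    omega
  have hkp : IsPGroup 3 φ.ker := by
    have : φ.ker = σ.ker.comap B.subtype := (MonoidHom.comap_ker σ B.subtype).symm
    rw [this]
    exact hk.comap_of_injective B.subtype B.subtype_injective
  have : Fact (Nat.Prime 3) := ⟨by norm_num⟩
  obtain ⟨n, hn⟩ := (IsPGroup.iff_card.mp hkp)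
  have hn0 : n = 0 := by
    by_contra h0
    have : 3 ^ 1 ≤ 3 ^ n := Nat.pow_le_pow_right (by norm_num) (Nat.one_le_iff_ne_zero.mpr h0)
    omega
  rw [hn0, pow_zero] at hn
  have hbot : φ.ker = ⊥ := Subgroup.card_eq_one.mp hn
  have hzB : (⟨z, by rw [← hγ'9]; exact hmem 9⟩ : B) ∈ φ.ker := by
    rw [MonoidHom.mem_ker]
    exact hσz
  rw [hbot, Subgroup.mem_bot] at hzB
  exact congrArg Subtype.val hzB

end Cfsg.Agent.Lib.Helper5.Fi23M
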