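import Mathlib
import Cfsg.Agent.Lib.Helper2.FrobeniusGroup

/-!
# Class number of a Frobenius group (helper2 library)
-/

set_option autoImplicit false

namespace Cfsg.Agent.Lib.Helper2

section CommCount

variable {G : Type*} [Group G]

/-- number of elements commuting with `a` -/
noncomputable def commCount (a : G) : ℕ := Nat.card {b : G // Commute a b}

theorem sum_commCount [Fintype G] :
    ∑ a : G, commCount a = Nat.card (ConjClasses G) * Nat.card G := by
  rw [← card_comm_eq_card_conjClasses_mul_card]
  let e : {p : G × G // Commute p.1 p.2} ≃ Σ a : G, {b : G // Commute a b} :=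
    { toFun := fun p => ⟨p.1.1, p.1.2, p.2⟩
      invFun := fun s => ⟨(s.1, s.2.1), s.2.2⟩
      left_inv := fun p => rfl
      right_inv := fun s => rfl }
  rw [Nat.card_congr e, Nat.card_sigma]
  rfl

theorem commCount_one : commCount (1 : G) = Nat.card G := by
  unfold commCount
  exact Nat.card_congr (Equiv.subtypeUnivEquiv (fun b => Commute.one_left b))

theorem commCount_conj (u a : G) : commCount (u⁻¹ * a * u) = commCount a := by
  unfold commCount
  refine Nat.card_congr
    { toFun := fun b => ⟨u * b.1 * u⁻¹, ?_⟩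
      invFun := fun b => ⟨u⁻¹ * b.1 * u, ?_⟩
      left_inv := fun b => by apply Subtype.ext; simp [mul_assoc]
      right_inv := fun b => by apply Subtype.ext; simp [mul_assoc] }
  · have h := b.2
    unfold Commute SemiconjBy at h ⊢
    calc a * (u * b.1 * u⁻¹) = u * ((u⁻¹ * a * u) * b.1) * u⁻¹ := by group
      _ = u * (b.1 * (u⁻¹ * a * u)) * u⁻¹ := by rw [h]
      _ = u * b.1 * u⁻¹ * a := by group
  · have h := b.2
    unfold Commute SemiconjBy at h ⊢
    calc u⁻¹ * a * u * (u⁻¹ * b.1 * u) = u⁻¹ * (a * b.1) * u := by group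
      _ = u⁻¹ * (b.1 * a) * u := by rw [h]
      _ = u⁻¹ * b.1 * u * (u⁻¹ * a * u) := by group

theorem commCount_subgroup (S : Subgroup G) (a : S) (h : ∀ b : G, Commute (a : G) b → b ∈ S) :
    commCount (a : G) = commCount a := by
  unfold commCount
  refine Nat.card_congr
    { toFun := fun b => ⟨⟨b.1, h b.1 b.2⟩, ?_⟩
      invFun := fun b => ⟨b.1.1, ?_⟩
      left_inv := fun b => rfl
      right_inv := fun b => rfl }
  · have hb := b.2
    unfold Commute SemiconjBy at hb ⊢
    exact Subtype.ext hb
  · have hb := b.2
    unfold Commute SemiconjBy at hb ⊢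
    exact congrArg Subtype.val hb

end CommCount

end Cfsg.Agent.Lib.Helper2

namespace Cfsg.Agent.Lib.Helper2

section Frobenius

variable {G : Type*} [Group G] [Finite G] (K H : Subgroup G) [hK : K.Normal]

include hK in
/-- the centraliser of a nontrivial element of a Frobenius complement lies in the complement -/
theorem mem_of_commute_of_fpf (hKH : K ⊓ H = ⊥) (hKH' : K ⊔ H = ⊤)
    (hfpf : ∀ h ∈ H, h ≠ 1 → ∀ k ∈ K, h * k = k * h → k = 1) {h : G} (hh : h ∈ H) (hh1 : h ≠ 1)
    {y : G} (hy : Commute h y) : y ∈ H := by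
  have hy' : y ∈ ((K ⊔ H : Subgroup G) : Set G) := by rw [hKH']; trivial
  rw [Subgroup.normal_mul] at hy'
  obtain ⟨x, hx, h', hh', rfl⟩ := hy'
  have hc : h * (x * h') = x * h' * h := hy
  -- the commutator of `h'` and `h` lies in `K ⊓ H`
  have hcK : h' * h * h'⁻¹ * h⁻¹ ∈ K := by
    have : h' * h * h'⁻¹ * h⁻¹ = x⁻¹ * (h * x * h⁻¹) := by
      have h1 : h' * h = x⁻¹ * (h * (x * h')) := by rw [hc]; group
      calc h' * h * h'⁻¹ * h⁻¹ = x⁻¹ * (h * (x * h')) * h'⁻¹ * h⁻¹ := by rw [h1]
        _ = x⁻¹ * (h * x * h⁻¹) := by group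
    rw [this]
    exact K.mul_mem (K.inv_mem hx) (hK.conj_mem x hx h)
  have hcH : h' * h * h'⁻¹ * h⁻¹ ∈ H :=
    H.mul_mem (H.mul_mem (H.mul_mem hh' hh) (H.inv_mem hh')) (H.inv_mem hh)
  have hc1 : h' * h * h'⁻¹ * h⁻¹ = 1 := by
    have : h' * h * h'⁻¹ * h⁻¹ ∈ K ⊓ H := ⟨hcK, hcH⟩
    rw [hKH] at this
    exact Subgroup.mem_bot.mp this
  have hcomm : h' * h = h * h' := by
    calc h' * h = (h' * h * h'⁻¹ * h⁻¹) * (h * h') := by group
      _ = h * h' := by rw [hc1, one_mul]
  have hx1 : x = 1 := by
    apply hfpf h hh hh1 x hx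
    have : h * x * h' = x * h * h' := by
      calc h * x * h' = h * (x * h') := by group
        _ = x * h' * h := hc
        _ = x * (h' * h) := by group
        _ = x * (h * h') := by rw [hcomm]
        _ = x * h * h' := by group
    exact mul_right_cancel this
  simpa [hx1] using hh'

end Frobenius

end Cfsg.Agent.Lib.Helper2

namespace Cfsg.Agent.Lib.Helper2

section FrobeniusMain

variable {G : Type*} [Group G] [Finite G] (K H : Subgroup G) [hK : K.Normal]

include hK in
theorem frobenius_class_number (hKH : K ⊓ H = ⊥) (hKH' : K ⊔ H = ⊤)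
    (hfpf : ∀ h ∈ H, h ≠ 1 → ∀ k ∈ K, h * k = k * h → k = 1) :
    Nat.card H * Nat.card (ConjClasses G) + 1 =
      Nat.card H * Nat.card (ConjClasses H) + Nat.card (ConjClasses K) := by
  classical
  haveI : Fintype G := Fintype.ofFinite G
  haveI : Fintype K := Fintype.ofFinite K
  haveI : Fintype H := Fintype.ofFinite H
  have hcompl : Subgroup.IsComplement' K H :=
    Subgroup.isComplement'_of_disjoint_and_mul_eq_univ (disjoint_iff.mpr hKH)
      (by rw [← Subgroup.normal_mul, hKH']; rfl)
  have hcard : Nat.card K * Nat.card H = Nat.card G := hcompl.card_mul_card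
  have hbij : Function.Bijective (fun p : K × H => (p.1 : G) * (p.2 : G)) := hcompl
  let e : K × H ≃ G := Equiv.ofBijective _ hbij
  set n := Nat.card K with hn
  set h := Nat.card H with hh
  have hnpos : 0 < n := Nat.card_pos
  -- the main sum
  have hS1 : ∑ g : G, commCount g = ∑ y : H, ∑ x : K, commCount ((x : G) * (y : G)) := by
    rw [← Equiv.sum_comp e, Fintype.sum_prod_type_right]
    rfl
  -- pointwise evaluation of the inner sums
  have hpt : ∀ y : H, (∑ x : K, commCount ((x : G) * (y : G))) + (if y = 1 then n else 0)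
      = n * commCount y + (if y = 1 then n * Nat.card (ConjClasses K) else 0) := by
    intro y
    by_cases hy : y = 1
    · subst hy
      simp only [if_true, OneMemClass.coe_one, mul_one, commCount_one]
      -- `∑_{x ∈ K} |C_G(x)| + n = n h + n k(K)`
      have hptK : ∀ x : K, commCount (x : G) + (if x = 1 then n else 0)
          = commCount x + (if x = 1 then n * h else 0) := by
        intro x
        by_cases hx : x = 1
        · subst hx
          simp only [if_true, OneMemClass.coe_one, commCount_one]
          rw [← hcard]; ring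
        · simp only [hx, if_false, add_zero]
          apply commCount_subgroup
          intro b hb
          by_contra hbK
          apply hx
          apply Subtype.ext
          exact eq_one_of_commute_of_not_mem K H hKH' hfpf hbK x.2 hb.symm.eq
      have := Finset.sum_congr (s₁ := (Finset.univ : Finset K)) rfl (fun x _ => hptK x)
      rw [Finset.sum_add_distrib, Finset.sum_add_distrib, Finset.sum_ite_eq' Finset.univ (1 : K),
        Finset.sum_ite_eq' Finset.univ (1 : K), sum_commCount] at this
      simp only [Finset.mem_univ, if_true] at this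
      rw [this, ← hn]; ring
    · simp only [hy, if_false, add_zero]
      have hy1 : (y : G) ≠ 1 := fun h1 => hy (Subtype.ext h1)
      have : ∀ x : K, commCount ((x : G) * (y : G)) = commCount y := by
        intro x
        obtain ⟨u, _, hu⟩ := exists_conj_eq_of_fpf K H hfpf y.2 hy1 x.2
        rw [← hu, commCount_conj]
        apply commCount_subgroup
        intro b hb
        exact mem_of_commute_of_fpf K H hKH hKH' hfpf y.2 hy1 hb
      rw [Finset.sum_congr rfl (fun x _ => this x), Finset.sum_const, Finset.card_univ,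
        smul_eq_mul, ← Nat.card_eq_fintype_card]
  have hsum := Finset.sum_congr (s₁ := (Finset.univ : Finset H)) rfl (fun y _ => hpt y)
  rw [Finset.sum_add_distrib, Finset.sum_add_distrib, Finset.sum_ite_eq' Finset.univ (1 : H),
    Finset.sum_ite_eq' Finset.univ (1 : H), ← hS1, sum_commCount, ← Finset.mul_sum,
    sum_commCount] at hsum
  simp only [Finset.mem_univ, if_true] at hsum
  rw [← hcard, ← hh] at hsum
  -- `k(G) * (n h) + n = n (k(H) h) + n k(K)`
  have : n * (h * Nat.card (ConjClasses G) + 1)
      = n * (h * Nat.card (ConjClasses H) + Nat.card (ConjClasses K)) := by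
    calc n * (h * Nat.card (ConjClasses G) + 1)
        = Nat.card (ConjClasses G) * (n * h) + n := by ring
      _ = n * (Nat.card (ConjClasses H) * h) + n * Nat.card (ConjClasses K) := hsum
      _ = n * (h * Nat.card (ConjClasses H) + Nat.card (ConjClasses K)) := by ring
  exact Nat.eq_of_mul_eq_mul_left hnpos this

end FrobeniusMain

end Cfsg.Agent.Lib.Helper2
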