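import Mathlib
import Cfsg.Agent.Lib.Helper2.GaloisConjPGroup

/-!
# `p`-groups whose nonlinear irreducible characters of equal degree are Galois conjugate, II
(helper2 library): the case of a noncentral derived subgroup, the induction, and the converse.
-/

set_option autoImplicit false
set_option linter.style.haveILetI false
set_option linter.unusedSectionVars false

namespace Cfsg.Agent.Lib.Helper2.GCP

open Cfsg
open scoped ComplexConjugate commutatorElement

universe u

section Three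

variable {G : Type u} [Group G] [Finite G]

/-- (a) `G' ⊓ Z(G) = N` -/
theorem case3_inf {p : ℕ} (hp : p.Prime) (N : Subgroup G) (hN : Nat.card N = p)
    (hND : N ≤ commutator G) (hNc : N ≤ Subgroup.center G)
    (hD : Nat.card (commutator G) = p ^ 2) (hDZ : ¬ commutator G ≤ Subgroup.center G) :
    commutator G ⊓ Subgroup.center G = N := by
  have h1 : N ≤ commutator G ⊓ Subgroup.center G := le_inf hND hNc
  have h2 : Nat.card (commutator G ⊓ Subgroup.center G : Subgroup G) ∣ p ^ 2 := by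
    rw [← hD]; exact Subgroup.card_dvd_of_le inf_le_left
  obtain ⟨m, hm, hm'⟩ := (Nat.dvd_prime_pow hp).1 h2
  have h3 : m ≠ 2 := by
    intro h
    apply hDZ
    have : commutator G ⊓ Subgroup.center G = commutator G :=
      Subgroup.eq_of_le_of_card_ge inf_le_left (by rw [hD, hm', h])
    exact le_of_eq_of_le this.symm inf_le_right
  have h4 : p ∣ p ^ m := by
    rw [← hm', ← hN]; exact Subgroup.card_dvd_of_le h1
  have h5 : m ≠ 0 := by
    intro h; rw [h, pow_zero] at h4; exact hp.one_lt.ne' (Nat.dvd_one.1 h4)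
  have h6 : m = 1 := by omega
  exact (Subgroup.eq_of_le_of_card_ge h1 (by rw [hm', h6, pow_one, hN])).symm

/-- (b) `[G', G] ≤ N` -/
theorem case3_comm_mem (N : Subgroup G) [N.Normal]
    (hleQ : commutator (G ⧸ N) ≤ Subgroup.center (G ⧸ N)) :
    ∀ d ∈ commutator G, ∀ g : G, ⁅d, g⁆ ∈ N := by
  intro d hd g
  rw [← QuotientGroup.eq_one_iff]
  have h1 : ((⁅d, g⁆ : G) : G ⧸ N) = ⁅(d : G ⧸ N), (g : G ⧸ N)⁆ :=
    map_commutatorElement (QuotientGroup.mk' N) d g
  rw [h1, commutatorElement_eq_one_iff_mul_comm]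
  have h2 : (d : G ⧸ N) ∈ commutator (G ⧸ N) := by
    rw [commutator_def] at hd ⊢
    have := Subgroup.mem_map_of_mem (QuotientGroup.mk' N) hd
    rw [Subgroup.map_commutator] at this
    exact Subgroup.commutator_mono le_top le_top this
  exact ((Subgroup.mem_center_iff.1 (hleQ h2)) (g : G ⧸ N)).symm

/-- (c) the centralizer of `G'` has class at most two, with `[C, C] ≤ G' ⊓ Z(G)` -/
theorem case3_CC (C : Subgroup G) (hC : C = Subgroup.centralizer (commutator G : Set G)) :
    ⁅C, C⁆ ≤ commutator G ⊓ Subgroup.center G := by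
  have hCD : ⁅commutator G, C⁆ = ⊥ := by
    rw [Subgroup.commutator_comm, Subgroup.commutator_eq_bot_iff_le_centralizer, hC]
  have h31 : ⁅⁅C, (⊤ : Subgroup G)⁆, C⁆ = ⊥ := by
    rw [eq_bot_iff, ← hCD]
    apply Subgroup.commutator_mono _ le_rfl
    rw [commutator_def]
    exact Subgroup.commutator_mono le_top le_rfl
  have h32 : ⁅⁅(⊤ : Subgroup G), C⁆, C⁆ = ⊥ := by
    rw [eq_bot_iff, ← hCD]
    apply Subgroup.commutator_mono _ le_rfl
    rw [commutator_def]
    exact Subgroup.commutator_mono le_rfl le_top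
  have h33 : ⁅⁅C, C⁆, (⊤ : Subgroup G)⁆ = ⊥ :=
    Subgroup.commutator_commutator_eq_bot_of_rotate h31 h32
  apply le_inf
  · rw [commutator_def]; exact Subgroup.commutator_mono le_top le_top
  · rw [Subgroup.commutator_eq_bot_iff_le_centralizer] at h33
    intro g hg
    have := h33 hg
    rw [Subgroup.mem_center_iff]
    intro x
    exact (Subgroup.mem_centralizer_iff.1 this) x (Subgroup.mem_top x)

/-- (d) the index of the centralizer of `G'` -/
theorem case3_index {p : ℕ} (hp : p.Prime) (N : Subgroup G) (hN : Nat.card N = p)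
    (hND : N ≤ commutator G) (hNc : N ≤ Subgroup.center G)
    (hD : Nat.card (commutator G) = p ^ 2) (hDZ : ¬ commutator G ≤ Subgroup.center G)
    (hDN' : ∀ d ∈ commutator G, ∀ g : G, ⁅d, g⁆ ∈ N)
    (C : Subgroup G) (hC : C = Subgroup.centralizer (commutator G : Set G)) :
    C.index ≤ p := by
  obtain ⟨d₀, hd₀D, hd₀Z⟩ : ∃ d₀ ∈ commutator G, d₀ ∉ Subgroup.center G := by
    by_contra h; push Not at h; exact hDZ h
  have hgen : commutator G ≤ N ⊔ Subgroup.zpowers d₀ := by
    have h1 : N ⊔ Subgroup.zpowers d₀ ≤ commutator G :=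
      sup_le hND (by rw [Subgroup.zpowers_le]; exact hd₀D)
    have h2 : Nat.card (N ⊔ Subgroup.zpowers d₀ : Subgroup G) ∣ p ^ 2 := by
      rw [← hD]; exact Subgroup.card_dvd_of_le h1
    obtain ⟨m, hm, hm'⟩ := (Nat.dvd_prime_pow hp).1 h2
    have h3 : m ≠ 1 := by
      intro h
      have e : N = N ⊔ Subgroup.zpowers d₀ :=
        Subgroup.eq_of_le_of_card_ge le_sup_left (by rw [hm', h, pow_one, hN])
      apply hd₀Z
      apply hNc
      rw [e]
      exact (le_sup_right : Subgroup.zpowers d₀ ≤ _) (Subgroup.mem_zpowers d₀)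
    have h4 : m ≠ 0 := by
      intro h
      have h5 : p ∣ p ^ m := by
        rw [← hm', ← hN]; exact Subgroup.card_dvd_of_le le_sup_left
      rw [h, pow_zero] at h5
      exact hp.one_lt.ne' (Nat.dvd_one.1 h5)
    have h6 : m = 2 := by omega
    exact (Subgroup.eq_of_le_of_card_ge h1 (by rw [hD, hm', h6])).ge
  have hcent : Subgroup.centralizer ({d₀} : Set G) ≤ C := by
    intro x hx
    rw [hC, Subgroup.mem_centralizer_iff]
    intro d hd
    have h1 : N ⊔ Subgroup.zpowers d₀ ≤ Subgroup.centralizer ({x} : Set G) := by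
      apply sup_le
      · intro m hm
        rw [Subgroup.mem_centralizer_iff]
        intro y hy
        rw [Set.mem_singleton_iff] at hy
        rw [hy]
        exact (Subgroup.mem_center_iff.1 (hNc hm)) x
      · rw [Subgroup.zpowers_le, Subgroup.mem_centralizer_iff]
        intro y hy
        rw [Set.mem_singleton_iff] at hy
        rw [hy]
        exact ((Subgroup.mem_centralizer_iff.1 hx) d₀ rfl).symm
    have h2 := h1 (hgen hd)
    exact ((Subgroup.mem_centralizer_iff.1 h2) x rfl).symm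
  have h1 : C.index ∣ (Subgroup.centralizer ({d₀} : Set G)).index :=
    Subgroup.index_dvd_of_le hcent
  rw [index_centralizer_eq_card_conj] at h1
  have hf : ∀ y : {y : G // IsConj d₀ y}, (y : G) * d₀⁻¹ ∈ N := by
    intro y
    obtain ⟨g, hg⟩ := isConj_iff.1 y.2
    rw [← hg]
    have e : g * d₀ * g⁻¹ * d₀⁻¹ = ⁅d₀, g⁆⁻¹ := by
      rw [commutatorElement_inv, commutatorElement_def]
    rw [e]
    exact N.inv_mem (hDN' d₀ hd₀D g)
  have h2 : Nat.card {y : G // IsConj d₀ y} ≤ Nat.card N := by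
    apply Nat.card_le_card_of_injective
      (fun y : {y : G // IsConj d₀ y} => (⟨(y : G) * d₀⁻¹, hf y⟩ : N))
    intro a b hab
    have := congrArg Subtype.val hab
    exact Subtype.ext (mul_right_cancel this)
  haveI : Nonempty {y : G // IsConj d₀ y} := ⟨⟨d₀, IsConj.refl d₀⟩⟩
  have hpos : 0 < Nat.card {y : G // IsConj d₀ y} := Nat.card_pos
  exact le_trans (Nat.le_of_dvd hpos h1) (hN ▸ h2)

/-- (e) degrees of the quotient are bounded by the index of a subgroup abelian modulo `N` -/
theorem case3_degree_le (N : Subgroup G) [N.Normal] (C : Subgroup G) (hNC : N ≤ C)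
    (hCC : ⁅C, C⁆ ≤ N) (ξ : IrrCharacter (G ⧸ N)) (d : ℕ)
    (hd : (ξ : G ⧸ N → ℂ) 1 = d) : d ≤ C.index := by
  classical
  haveI : Fintype (G ⧸ N) := Fintype.ofFinite _
  have hab : ∀ u ∈ C.map (QuotientGroup.mk' N), ∀ v ∈ C.map (QuotientGroup.mk' N),
      u * v = v * u := by
    intro u hu v hv
    obtain ⟨x, hx, hxu⟩ := Subgroup.mem_map.1 hu
    obtain ⟨y, hy, hyv⟩ := Subgroup.mem_map.1 hv
    have h1 : ⁅x, y⁆ ∈ N := hCC (Subgroup.commutator_mem_commutator hx hy)
    have h2 : ((⁅x, y⁆ : G) : G ⧸ N) = ⁅(x : G ⧸ N), (y : G ⧸ N)⁆ :=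
      map_commutatorElement (QuotientGroup.mk' N) x y
    have h3 : ((⁅x, y⁆ : G) : G ⧸ N) = 1 := (QuotientGroup.eq_one_iff _).2 h1
    rw [h2, commutatorElement_eq_one_iff_mul_comm] at h3
    have hxu' : (x : G ⧸ N) = u := hxu
    have hyv' : (y : G ⧸ N) = v := hyv
    rw [← hxu', ← hyv']
    exact h3
  have h3 := degree_le_index_of_comm ξ (C.map (QuotientGroup.mk' N)) hab d hd
  have h4 : (C.map (QuotientGroup.mk' N)).index = C.index :=
    Subgroup.index_map_eq C (QuotientGroup.mk'_surjective N)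
      (by rw [QuotientGroup.ker_mk']; exact hNC)
  rw [h4] at h3
  exact h3

/-- **Case 3**: `G'` is not central. -/
theorem case3 {p : ℕ} [Fact p.Prime] (hP : IsPGroup p G) (hGC : GC G)
    (N : Subgroup G) [N.Normal] (hN : Nat.card N = p) (hND : N ≤ commutator G)
    (hNc : N ≤ Subgroup.center G)
    (hD : Nat.card (commutator G) = p ^ 2) (hDZ : ¬ commutator G ≤ Subgroup.center G)
    (hQ : Nat.card (commutator (G ⧸ N)) = p) (hcyc : IsCyclic (Subgroup.center (G ⧸ N))) :
    False := by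
  classical
  haveI : Fintype G := Fintype.ofFinite G
  have hp : p.Prime := Fact.out
  obtain ⟨n, hn⟩ := IsPGroup.iff_card.1 hP
  obtain ⟨c, hc⟩ := IsPGroup.iff_card.1 (hP.to_subgroup (Subgroup.center G))
  have hPQ : IsPGroup p (G ⧸ N) := hP.to_quotient N
  have hleQ := commutator_le_center hPQ hQ
  have hDN := case3_inf hp N hN hND hNc hD hDZ
  have hDN' := case3_comm_mem N hleQ
  obtain ⟨C, hC⟩ : ∃ C : Subgroup G, C = Subgroup.centralizer (commutator G : Set G) :=
    ⟨_, rfl⟩
  have hCC : ⁅C, C⁆ ≤ N := by rw [← hDN]; exact case3_CC C hC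
  have hidx := case3_index hp N hN hND hNc hD hDZ hDN' C hC
  have hNC : N ≤ C := by
    intro m hm
    rw [hC, Subgroup.mem_centralizer_iff]
    intro d' _
    exact (Subgroup.mem_center_iff.1 (hNc hm)) d'
  -- (e) the nonlinear characters of the quotient have degree `p`
  obtain ⟨ξ, hξ1⟩ := exists_nonlinear (not_comm_of_card_commutator hp hQ)
  obtain ⟨d, _, hd⟩ := IsIrrCharacter.apply_one ξ.2
  have hd1 : d ≠ 1 := by intro h; apply hξ1; rw [hd, h]; simp
  obtain ⟨a, c₂, ha, hac, hcc, hcc'⟩ := quot_degree hP hn hc N hNc hN hQ hcyc ξ.2 d hd hd1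
  have hdle : d ≤ p := le_trans (case3_degree_le N C hNC hCC ξ d hd) hidx
  have hap : a = 1 := by
    have h1 : a ≠ 0 := by intro h; apply hd1; rw [ha, h, pow_zero]
    have h2 : p ^ a ≤ p ^ 1 := by rw [pow_one, ← ha]; exact hdle
    have := (Nat.pow_le_pow_iff_right hp.one_lt).1 h2
    omega
  -- (f) a character not containing `N` in its kernel
  obtain ⟨n₀, hn₀N, hn₀1⟩ : ∃ n₀ ∈ N, n₀ ≠ 1 := by
    by_contra h
    push Not at h
    have : N = ⊥ := by
      rw [eq_bot_iff]; intro x hx; rw [Subgroup.mem_bot]; exact h x hx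
    rw [this, Subgroup.card_bot] at hN
    exact hp.one_lt.ne hN
  obtain ⟨θ, hθ⟩ : ∃ θ : IrrCharacter G, (θ : G → ℂ) n₀ ≠ (θ : G → ℂ) 1 := by
    by_contra h
    push Not at h
    have := (isConj_iff_forall_irrCharacter n₀ 1).2 h
    exact hn₀1 (isConj_one_left.1 this)
  obtain ⟨e, _, he⟩ := IsIrrCharacter.apply_one θ.2
  have he1 : e ≠ 1 := by
    intro h
    apply hθ
    have h1 : (θ : G → ℂ) 1 = 1 := by rw [he, h]; simp
    rw [TwoDeg.linear_apply_commutator θ h1 n₀ (hND hn₀N), h1]
  have hbound : e ^ 2 * Nat.card (Subgroup.center G) ≤ Nat.card G := by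
    have h1 := Cfsg.Agent.Lib.Helper11.IsIrrCharacter.degree_sq_mul_card_le θ.2
      (Subgroup.center G) (by
        intro z hz
        apply Cfsg.Agent.Lib.Helper11.IsIrrCharacter.norm_eq_of_commutators_in_ker θ.2 z
        intro g
        have h3 : z * g * z⁻¹ * g⁻¹ = 1 := by
          have := (Subgroup.mem_center_iff.1 hz) g
          rw [← this]; group
        rw [h3])
    rw [he, Complex.norm_natCast] at h1
    exact_mod_cast h1
  have hedvd : e ∣ p ^ n := by
    rw [← hn]
    have := Cfsg.Agent.Lib.Helper25.charDegree_dvd_card θ.2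
    rwa [ThompsonDeg.charDegree_eq he] at this
  obtain ⟨b, _, hb⟩ := (Nat.dvd_prime_pow hp).1 hedvd
  have hb1 : b = 1 := by
    have h1 : b ≠ 0 := by intro h; apply he1; rw [hb, h, pow_zero]
    rw [hb, hc, hn, ← pow_mul, ← pow_add] at hbound
    have := (Nat.pow_le_pow_iff_right hp.one_lt).1 hbound
    omega
  -- (g) same degree, different kernels
  let χ : IrrCharacter G := ⟨fun g => (ξ : G ⧸ N → ℂ) (g : G ⧸ N),
    Cfsg.Agent.Lib.Helper25.isIrrCharacter_inflation N ξ.2⟩
  have hχ1 : (χ : G → ℂ) 1 = (d : ℂ) := hd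
  have hχd : charDegree (χ : G → ℂ) = p := by
    rw [ThompsonDeg.charDegree_eq hχ1, ha, hap, pow_one]
  have hθd : charDegree (θ : G → ℂ) = p := by
    rw [ThompsonDeg.charDegree_eq he, hb, hb1, pow_one]
  obtain ⟨k, hk, hkk⟩ := hGC χ θ (by rw [hχd]; exact hp.one_lt.ne') (by rw [hχd, hθd])
  have := (ker_iff_of_galois (IsIrrCharacter.isCharacter χ.2) hk hkk n₀).2 (by
    show (ξ : G ⧸ N → ℂ) (n₀ : G ⧸ N) = (ξ : G ⧸ N → ℂ) ((1 : G) : G ⧸ N)
    rw [(QuotientGroup.eq_one_iff n₀).2 hn₀N]; rfl)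
  exact hθ this

/-- facts about the quotient by a central subgroup of order `p` inside `G'`, from induction -/
theorem quot_facts {p : ℕ} [Fact p.Prime]
    (ih : ∀ (H : Type u) [Group H] [Finite H], Nat.card H < Nat.card G → IsPGroup p H →
      (¬ ∀ a b : H, a * b = b * a) → GC H → Nat.card (commutator H) = p)
    (hP : IsPGroup p G) (hGC : GC G) (hne : Nat.card (commutator G) ≠ p)
    (N : Subgroup G) [N.Normal] (hN : Nat.card N = p) (hND : N ≤ commutator G) :
    Nat.card (commutator (G ⧸ N)) = p ∧ IsCyclic (Subgroup.center (G ⧸ N)) ∧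
      Nat.card (commutator G) = p ^ 2 := by
  have hp : p.Prime := Fact.out
  have hnaQ : ¬ ∀ a b : G ⧸ N, a * b = b * a := by
    intro hab
    apply hne
    have hle : commutator G ≤ N := by
      rw [commutator_def, Subgroup.commutator_le]
      intro x _ y _
      rw [← QuotientGroup.eq_one_iff]
      have h2 : ((⁅x, y⁆ : G) : G ⧸ N) = ⁅(x : G ⧸ N), (y : G ⧸ N)⁆ :=
        map_commutatorElement (QuotientGroup.mk' N) x y
      rw [h2, commutatorElement_eq_one_iff_mul_comm]
      exact hab _ _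
    have := le_antisymm hle hND
    rw [this]; exact hN
  have hcardQ : Nat.card (G ⧸ N) < Nat.card G := by
    have h3 : Nat.card G = Nat.card (G ⧸ N) * Nat.card N :=
      Subgroup.card_eq_card_quotient_mul_card_subgroup N
    rw [h3, hN]
    have hpos : 0 < Nat.card (G ⧸ N) := Nat.card_pos
    nlinarith [hp.two_le]
  have hPQ := hP.to_quotient N
  have hQ := ih (G ⧸ N) hcardQ hPQ hnaQ (hGC.quotient N)
  refine ⟨hQ, isCyclic_center_of_card_commutator hp (hGC.quotient N) hnaQ hQ, ?_⟩
  have hmap : commutator (G ⧸ N) = (commutator G).map (QuotientGroup.mk' N) := by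
    rw [commutator_def, commutator_def, Subgroup.map_commutator,
      Subgroup.map_top_of_surjective _ (QuotientGroup.mk'_surjective N)]
  have hcomap : ((commutator G).map (QuotientGroup.mk' N)).comap (QuotientGroup.mk' N)
      = commutator G := by
    apply Subgroup.comap_map_eq_self
    rw [QuotientGroup.ker_mk']
    exact hND
  have := MGroup.card_comap_mk N ((commutator G).map (QuotientGroup.mk' N))
  rw [hcomap, ← hmap, hQ, hN] at this
  rw [this, sq]

/-- a central element in the kernel of a nonlinear irreducible character is trivial -/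
theorem eq_one_of_mem_center_of_ker {p : ℕ} [Fact p.Prime] (hP : IsPGroup p G)
    (hc : Nat.card (commutator G) = p) (hcyc : IsCyclic (Subgroup.center G))
    {ξ : G → ℂ} (hξ : IsIrrCharacter G ξ) (h1 : ξ 1 ≠ 1)
    {z : G} (hz : z ∈ Subgroup.center G) (hk : ξ z = ξ 1) : z = 1 := by
  have hp : p.Prime := Fact.out
  haveI := hcyc
  have hle := commutator_le_center hP hc
  by_contra hz1
  obtain ⟨c, hcD, hc1⟩ : ∃ c ∈ commutator G, c ≠ 1 := by
    by_contra h
    push Not at h
    have : commutator G = ⊥ := by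
      rw [eq_bot_iff]; intro x hx; rw [Subgroup.mem_bot]; exact h x hx
    rw [this, Subgroup.card_bot] at hc
    exact hp.one_lt.ne hc
  obtain ⟨z', hz'⟩ : ∃ z' : Subgroup.center G, (z' : G) = z := ⟨⟨z, hz⟩, rfl⟩
  obtain ⟨c', hc'⟩ : ∃ c' : Subgroup.center G, (c' : G) = c := ⟨⟨c, hle hcD⟩, rfl⟩
  have hcp : c' ^ p = 1 := by
    apply Subtype.ext
    rw [Subgroup.coe_pow, hc', Subgroup.coe_one]
    have h2 : (⟨c, hcD⟩ : commutator G) ^ p = 1 := by
      rw [← hc]; exact pow_card_eq_one'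
    have := congrArg Subtype.val h2
    rw [Subgroup.coe_pow, Subgroup.coe_one] at this
    exact this
  obtain ⟨k, hk'⟩ := (IsPGroup.iff_orderOf.1 (hP.to_subgroup (Subgroup.center G))) z'
  have hk0 : k ≠ 0 := by
    intro h
    rw [h, pow_zero, orderOf_eq_one_iff] at hk'
    apply hz1
    rw [← hz', hk', Subgroup.coe_one]
  have hmem : c' ∈ Subgroup.zpowers z' := by
    apply mem_zpowers_of_pow_eq_one_of_isCyclic (orderOf_pos z') rfl
    rw [← orderOf_dvd_iff_pow_eq_one, hk']
    exact dvd_trans (orderOf_dvd_of_pow_eq_one hcp) (dvd_pow_self p hk0)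
  obtain ⟨t, ht⟩ := Subgroup.mem_zpowers_iff.1 hmem
  have hct : z ^ t = c := by
    have := congrArg Subtype.val ht
    rw [Subgroup.coe_zpow, hz', hc'] at this
    exact this
  obtain ⟨K, _, hK⟩ := Cfsg.Agent.Lib.Helper25.exists_kernel (IsIrrCharacter.isCharacter hξ)
  have hcK : c ∈ K := by
    rw [← hct]
    exact K.zpow_mem ((hK z).2 hk) t
  exact hc1 (eq_one_of_mem_commutator_of_ker hp hc hξ h1 hcD ((hK c).1 hcK))

/-- values of an irreducible character on powers of a central element -/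
theorem central_values {ξ : G → ℂ} (hξ : IsIrrCharacter G ξ) {z : G}
    (hz : z ∈ Subgroup.center G) (j : ℕ) : ξ (z ^ j) = (ξ z / ξ 1) ^ j * ξ 1 := by
  have h1 : ξ 1 ≠ 0 := IsIrrCharacter.apply_one_ne_zero hξ
  have hz' : ∀ k : G, z * k = k * z := fun k => ((Subgroup.mem_center_iff.1 hz) k).symm
  induction j with
  | zero => rw [pow_zero, pow_zero, one_mul]
  | succ j ih =>
    have h2 := Cfsg.Agent.Lib.Helper11.IsIrrCharacter.central_mul hξ z hz' (z ^ j)
    rw [ih] at h2
    rw [pow_succ' z j, eq_div_of_mul_eq h1 h2]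
    ring

/-- the converse: cyclic centre and `|G'| = p` give Galois conjugacy -/
theorem converse {p : ℕ} [Fact p.Prime] (hP : IsPGroup p G)
    (hcyc : IsCyclic (Subgroup.center G)) (hc : Nat.card (commutator G) = p) : GC G := by
  classical
  have hp : p.Prime := Fact.out
  haveI := hcyc
  have hle := commutator_le_center hP hc
  obtain ⟨n, hn⟩ := IsPGroup.iff_card.1 hP
  intro χ ψ h1 h2
  have hχ1 : (χ : G → ℂ) 1 ≠ 1 := (charDegree_ne_one_iff χ).1 h1
  have hψ1 : (ψ : G → ℂ) 1 ≠ 1 := (charDegree_ne_one_iff ψ).1 (by rw [← h2]; exact h1)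
  have hχd := TwoDeg.apply_one_eq_charDegree χ
  have hψd := TwoDeg.apply_one_eq_charDegree ψ
  rw [← h2] at hψd
  have hψχ : (ψ : G → ℂ) 1 = (χ : G → ℂ) 1 := by rw [hψd, hχd]
  obtain ⟨zg, hzg⟩ := IsCyclic.exists_generator (α := Subgroup.center G)
  obtain ⟨z₀, hz₀⟩ : ∃ z₀ : G, z₀ = (zg : G) := ⟨_, rfl⟩
  have hz₀Z : z₀ ∈ Subgroup.center G := by rw [hz₀]; exact zg.2
  obtain ⟨m, hm⟩ : ∃ m : ℕ, m = orderOf z₀ := ⟨_, rfl⟩
  have hmpos : 0 < m := by rw [hm]; exact orderOf_pos z₀
  haveI : NeZero m := ⟨hmpos.ne'⟩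
  have hpm : p ∣ m := by
    rw [hm, hz₀, Subgroup.orderOf_coe, orderOf_eq_card_of_forall_mem_zpowers hzg, ← hc]
    exact Subgroup.card_dvd_of_le hle
  -- primitive roots
  have hprim : ∀ ξ : IrrCharacter G, (ξ : G → ℂ) 1 ≠ 1 →
      IsPrimitiveRoot ((ξ : G → ℂ) z₀ / (ξ : G → ℂ) 1) m := by
    intro ξ hξ1
    have hξ0 : (ξ : G → ℂ) 1 ≠ 0 := IsIrrCharacter.apply_one_ne_zero ξ.2
    have key : ∀ l : ℕ, ((ξ : G → ℂ) z₀ / (ξ : G → ℂ) 1) ^ l = 1 ↔ z₀ ^ l = 1 := by
      intro l
      have hv := central_values ξ.2 hz₀Z l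
      constructor
      · intro h
        rw [h, one_mul] at hv
        exact eq_one_of_mem_center_of_ker hP hc hcyc ξ.2 hξ1
          ((Subgroup.center G).pow_mem hz₀Z l) hv
      · intro h
        rw [h] at hv
        have h3 : ((ξ : G → ℂ) z₀ / (ξ : G → ℂ) 1) ^ l * (ξ : G → ℂ) 1
            = 1 * (ξ : G → ℂ) 1 := by
          rw [one_mul]; exact hv.symm
        exact mul_right_cancel₀ hξ0 h3
    rw [IsPrimitiveRoot.iff_def]
    refine ⟨(key m).2 (by rw [hm]; exact pow_orderOf_eq_one z₀), ?_⟩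
    intro l hl
    rw [hm]
    exact orderOf_dvd_of_pow_eq_one ((key l).1 hl)
  have hpa := hprim χ hχ1
  have hpb := hprim ψ hψ1
  obtain ⟨i, _, hi⟩ := hpa.eq_pow_of_pow_eq_one hpb.pow_eq_one
  have hcop : Nat.Coprime i m := by
    rw [← hpa.pow_iff_coprime hmpos i, hi]
    exact hpb
  have hcopG : Nat.Coprime i (Nat.card G) := by
    rw [hn]
    exact Nat.Coprime.pow_right n (Nat.Coprime.coprime_dvd_right hpm hcop)
  refine ⟨i, hcopG, ?_⟩
  intro g
  by_cases hg : g ∈ Subgroup.center G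
  · have h3 : (⟨g, hg⟩ : Subgroup.center G) ∈ Submonoid.powers zg :=
      (isOfFinOrder_of_finite zg).mem_powers_iff_mem_zpowers.2 (hzg _)
    obtain ⟨j, hj⟩ := (Submonoid.mem_powers_iff _ _).1 h3
    have hgj : g = z₀ ^ j := by
      have := congrArg Subtype.val hj
      rw [Subgroup.coe_pow] at this
      rw [hz₀]
      exact this.symm
    rw [hgj, central_values ψ.2 hz₀Z j, ← pow_mul, central_values χ.2 hz₀Z (j * i), ← hi,
      ← pow_mul, hψχ, mul_comm i j]
  · rw [vanish_off_center hP hc ψ.2 hψ1 hg,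
      vanish_off_center hP hc χ.2 hχ1 (fun h => hg (mem_of_pow_mem _ hcopG h))]

end Three

/-- **Main step**: the commutator subgroup has order `p`. -/
theorem card_commutator_aux (p : ℕ) [Fact p.Prime] :
    ∀ (n : ℕ) (G : Type u) [Group G] [Finite G],
    Nat.card G = n → IsPGroup p G → (¬ ∀ a b : G, a * b = b * a) → GC G →
    Nat.card (commutator G) = p := by
  intro n
  induction n using Nat.strong_induction_on with
  | _ n ih =>
  intro G _ _ hn hP hna hGC
  have hp : p.Prime := Fact.out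
  by_contra hne
  have ih' : ∀ (H : Type u) [Group H] [Finite H], Nat.card H < Nat.card G → IsPGroup p H →
      (¬ ∀ a b : H, a * b = b * a) → GC H → Nat.card (commutator H) = p := by
    intro H _ _ hlt hPH hnaH hGCH
    exact ih (Nat.card H) (hn ▸ hlt) H rfl hPH hnaH hGCH
  have hD1 : commutator G ≠ ⊥ := by
    intro h
    apply hna
    intro a b
    have := commutatorElement_mem a b
    rw [h, Subgroup.mem_bot, commutatorElement_eq_one_iff_mul_comm] at this
    exact this
  have h1 := Cfsg.Agent.Lib.Helper10.normal_inf_center_ne_bot hP (commutator G) hD1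
  have hPI : IsPGroup p (commutator G ⊓ Subgroup.center G : Subgroup G) := hP.to_subgroup _
  have hdvd : p ∣ Nat.card (commutator G ⊓ Subgroup.center G : Subgroup G) := by
    rcases hPI.card_eq_or_dvd with h | h
    · exact absurd (Subgroup.card_eq_one.1 h) h1
    · exact h
  obtain ⟨x₀, hx₀⟩ := exists_prime_orderOf_dvd_card' p hdvd
  obtain ⟨N, hNdef⟩ : ∃ N : Subgroup G, N = Subgroup.zpowers (x₀ : G) := ⟨_, rfl⟩
  have hNI : N ≤ commutator G ⊓ Subgroup.center G := by
    rw [hNdef, Subgroup.zpowers_le]; exact x₀.2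
  have hN : Nat.card N = p := by
    rw [hNdef, Nat.card_zpowers, Subgroup.orderOf_coe, hx₀]
  have hND : N ≤ commutator G := hNI.trans inf_le_left
  have hNc : N ≤ Subgroup.center G := hNI.trans inf_le_right
  haveI hNn : N.Normal := normal_of_le_center hNc
  obtain ⟨hQ, hcyc, hD⟩ := quot_facts ih' hP hGC hne N hN hND
  by_cases hDZ : commutator G ≤ Subgroup.center G
  · by_cases h2 : ∃ N' : Subgroup G, N' ≤ commutator G ∧ Nat.card N' = p ∧ N' ≠ N
    · obtain ⟨N', hND', hN', hne'⟩ := h2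
      have hNc' : N' ≤ Subgroup.center G := hND'.trans hDZ
      haveI : N'.Normal := normal_of_le_center hNc'
      obtain ⟨hQ', hcyc', _⟩ := quot_facts ih' hP hGC hne N' hN' hND'
      exact case1 hP hGC N N' hN hN' hne' hND hND' hNc hNc' hD hQ hcyc hQ' hcyc'
    · push Not at h2
      exact case2 hP N hN hND hDZ h2 hD hQ hcyc
  · exact case3 hP hGC N hN hND hNc hD hDZ hQ hcyc

/-- Dolfi–Yadav: equal-degree nonlinear characters of a nonabelian `p`-group are all Galois
conjugate iff the centre is cyclic and the derived subgroup has order `p`. -/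
theorem main {P : Type u} [Group P] [Finite P] (p : ℕ) [Fact p.Prime] (hP : IsPGroup p P)
    (hna : ¬ IsMulCommutative P) :
    GC P ↔ (IsCyclic (Subgroup.center P) ∧ Nat.card (commutator P) = p) := by
  have hp : p.Prime := Fact.out
  have hna' : ¬ ∀ a b : P, a * b = b * a := fun h => hna ⟨⟨h⟩⟩
  constructor
  · intro h
    have hc := card_commutator_aux p (Nat.card P) P rfl hP hna' h
    exact ⟨isCyclic_center_of_card_commutator hp h hna' hc, hc⟩
  · rintro ⟨h1, h2⟩
    exact converse hP h1 h2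

end Cfsg.Agent.Lib.Helper2.GCP
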