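import Mathlib
import Cfsg.Agent.Lib.Helper2.GlaubermanCyclic

/-!
# Cyclic operators whose non-identity elements have a common centraliser (helper2 library)

`Γ = G ⟨s⟩`, `(o(s), |G|) = 1`, `C_G(x) = C` for all `1 ≠ x ∈ ⟨s⟩`.  For an irreducible `χh` of `Γ`
restricting irreducibly to `G`: `χh (c x) = ε β(c) μ(x)` (`x ≠ 1`) and `[χ_C, β'] ≡ ε δ_{β' β}`
modulo `o(s)`.
-/

set_option autoImplicit false
set_option linter.unusedSectionVars false
set_option linter.style.haveILetI false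
set_option linter.unusedVariables false

namespace Cfsg.Agent.Lib.Helper2.GlFrob

open Cfsg Cfsg.Agent.Lib Cfsg.Agent.Lib.Helper2 Cfsg.Agent.Lib.Helper2.GlCyc
open scoped ComplexConjugate

section Arith

variable {Λ : Type*} [Fintype Λ] [DecidableEq Λ]

/-- `W(a) = n Σ a² − (Σ a)²` -/
def Wd (a : Λ → ℕ) : ℤ :=
  (Fintype.card Λ : ℤ) * ∑ l, ((a l : ℤ)) ^ 2 - (∑ l, (a l : ℤ)) ^ 2

theorem exists_unique_one (y : Λ → ℤ) (h01 : ∀ l, y l = 0 ∨ y l = 1) (hsum : ∑ l, y l = 1) :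
    ∃ l₀, y l₀ = 1 ∧ ∀ l, l ≠ l₀ → y l = 0 := by
  obtain ⟨l₀, hl₀⟩ : ∃ l₀, y l₀ ≠ 0 := by
    by_contra hcon
    push Not at hcon
    rw [Finset.sum_eq_zero (fun l _ => hcon l)] at hsum
    exact zero_ne_one hsum
  have h1 : y l₀ = 1 := (h01 l₀).resolve_left hl₀
  refine ⟨l₀, h1, ?_⟩
  have hsplit : y l₀ + ∑ l ∈ Finset.univ.erase l₀, y l = ∑ l, y l :=
    Finset.add_sum_erase Finset.univ y (Finset.mem_univ l₀)
  rw [hsum, h1] at hsplit
  have hrest : ∑ l ∈ Finset.univ.erase l₀, y l = 0 := by linarith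
  intro l hl
  have hnn : ∀ l ∈ Finset.univ.erase l₀, 0 ≤ y l := by
    intro l _
    rcases h01 l with h | h <;> rw [h] <;> norm_num
  exact (Finset.sum_eq_zero_iff_of_nonneg hnn).1 hrest l
    (Finset.mem_erase.2 ⟨hl, Finset.mem_univ l⟩)

theorem Wd_eq (a : Λ → ℕ) (k : ℤ) :
    (Fintype.card Λ : ℤ) * ∑ l, ((a l : ℤ) - k) ^ 2 =
      Wd a + ((∑ l, (a l : ℤ)) - (Fintype.card Λ : ℤ) * k) ^ 2 := by
  have h1 : ∑ l, ((a l : ℤ) - k) ^ 2 =
      ∑ l, ((a l : ℤ)) ^ 2 - 2 * k * ∑ l, (a l : ℤ) + (Fintype.card Λ : ℤ) * k ^ 2 := by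
    calc ∑ l, ((a l : ℤ) - k) ^ 2 = ∑ l, (((a l : ℤ)) ^ 2 - 2 * k * (a l : ℤ) + k ^ 2) :=
          Finset.sum_congr rfl (fun l _ => by ring)
      _ = ∑ l, ((a l : ℤ)) ^ 2 - 2 * k * ∑ l, (a l : ℤ) + (Fintype.card Λ : ℤ) * k ^ 2 := by
          rw [Finset.sum_add_distrib, Finset.sum_sub_distrib, ← Finset.mul_sum, Finset.sum_const,
            Finset.card_univ, nsmul_eq_mul]
  unfold Wd
  rw [h1]
  ring

theorem sum_sub_const (a : Λ → ℕ) (k : ℤ) :
    ∑ l, ((a l : ℤ) - k) = (∑ l, (a l : ℤ)) - (Fintype.card Λ : ℤ) * k := by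
  rw [Finset.sum_sub_distrib, Finset.sum_const, Finset.card_univ, nsmul_eq_mul]

theorem Wd_analysis (hn : 2 ≤ Fintype.card Λ) (a : Λ → ℕ) :
    0 ≤ Wd a ∧ (Wd a ≠ 0 → (Fintype.card Λ : ℤ) - 1 ≤ Wd a) ∧
    (Wd a = 0 → ∃ k : ℕ, ∀ l, a l = k) ∧
    (Wd a = (Fintype.card Λ : ℤ) - 1 → ∃ (K : ℕ) (ε : ℤ) (l₀ : Λ), (ε = 1 ∨ ε = -1) ∧
      ∀ l, (a l : ℤ) = (K : ℤ) + (if l = l₀ then ε else 0)) := by
  obtain ⟨n, hn'⟩ : ∃ n : ℤ, n = (Fintype.card Λ : ℤ) := ⟨_, rfl⟩
  have hn2 : (2 : ℤ) ≤ n := by rw [hn']; exact_mod_cast hn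
  obtain ⟨M, hM⟩ : ∃ M : ℤ, M = ∑ l, (a l : ℤ) := ⟨_, rfl⟩
  have hM0 : 0 ≤ M := by
    rw [hM]; exact Finset.sum_nonneg (fun l _ => Int.natCast_nonneg _)
  have hnpos : 0 < n := by linarith
  obtain ⟨k, hk⟩ : ∃ k : ℤ, k = M / n := ⟨_, rfl⟩
  obtain ⟨j, hj⟩ : ∃ j : ℤ, j = M % n := ⟨_, rfl⟩
  have hj0 : 0 ≤ j := by rw [hj]; exact Int.emod_nonneg M hnpos.ne'
  have hjn : j < n := by rw [hj]; exact Int.emod_lt_of_pos M hnpos
  have hMkj : M = n * k + j := by rw [hk, hj]; exact (Int.mul_ediv_add_emod M n).symm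
  have hk0 : 0 ≤ k := by rw [hk]; exact Int.ediv_nonneg hM0 hnpos.le
  obtain ⟨k', hk'⟩ := Int.eq_ofNat_of_zero_le hk0
  obtain ⟨Q, hQ⟩ : ∃ Q : ℤ, Q = ∑ l, ((a l : ℤ) - k) ^ 2 := ⟨_, rfl⟩
  have hsumz : ∑ l, ((a l : ℤ) - k) = j := by
    rw [sum_sub_const, ← hM, ← hn']; linarith
  have hW : n * Q = Wd a + j ^ 2 := by
    have := Wd_eq a k
    rw [← hM, ← hn', ← hQ] at this
    rw [this]
    have : M - n * k = j := by linarith
    rw [this]
  have hQj : j ≤ Q := by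
    rw [← hsumz, hQ]
    exact Finset.sum_le_sum (fun l _ => Int.le_self_sq _)
  have hQ0 : 0 ≤ Q := by rw [hQ]; exact Finset.sum_nonneg (fun l _ => sq_nonneg _)
  have hnQ : n * j ≤ n * Q := mul_le_mul_of_nonneg_left hQj hnpos.le
  refine ⟨?_, ?_, ?_, ?_⟩
  · nlinarith [mul_nonneg hj0 (sub_nonneg.2 hjn.le)]
  · intro hne
    by_cases hj1 : j = 0
    · rw [hj1] at hW
      have hW' : Wd a = n * Q := by linarith
      have hQ1 : 1 ≤ Q := by
        rcases lt_or_eq_of_le hQ0 with h | h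
        · linarith
        · exfalso; apply hne; rw [hW', ← h, mul_zero]
      rw [← hn', hW']
      nlinarith
    · have hj1' : 1 ≤ j := by
        rcases lt_or_eq_of_le hj0 with h | h
        · linarith
        · exact absurd h.symm hj1
      rw [← hn']
      nlinarith [mul_nonneg (sub_nonneg.2 hj1') (by linarith : (0 : ℤ) ≤ n - 1 - j)]
  · intro h0
    rw [h0, zero_add] at hW
    have hj1 : j = 0 := by
      by_contra hne
      have hj1' : 1 ≤ j := by
        rcases lt_or_eq_of_le hj0 with h | h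
        · linarith
        · exact absurd h.symm hne
      nlinarith [mul_pos (by linarith : (0 : ℤ) < j) (by linarith : (0 : ℤ) < n - j)]
    rw [hj1] at hW
    have hQz : Q = 0 := by
      have : n * Q = 0 := by rw [hW]; ring
      rcases mul_eq_zero.1 this with h | h
      · exact absurd h hnpos.ne'
      · exact h
    refine ⟨k', fun l => ?_⟩
    rw [hQ] at hQz
    have hz := (Finset.sum_eq_zero_iff_of_nonneg (fun l _ => sq_nonneg ((a l : ℤ) - k))).1 hQz l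
      (Finset.mem_univ l)
    have hz' : (a l : ℤ) - k = 0 := pow_eq_zero_iff (two_ne_zero) |>.1 hz
    have : (a l : ℤ) = (k' : ℤ) := by rw [← hk']; linarith
    exact_mod_cast this
  · intro hWn
    rw [← hn'] at hWn
    rw [hWn] at hW
    -- j ≠ 0
    have hj1' : 1 ≤ j := by
      rcases lt_or_eq_of_le hj0 with h | h
      · linarith
      · exfalso
        rw [← h] at hW
        rcases lt_or_eq_of_le hQ0 with hq | hq
        · nlinarith
        · rw [← hq] at hW; linarith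
    have hprod : (j - 1) * (n - 1 - j) = 0 := by
      have h1 : 0 ≤ (j - 1) * (n - 1 - j) :=
        mul_nonneg (sub_nonneg.2 hj1') (by linarith : (0 : ℤ) ≤ n - 1 - j)
      nlinarith
    have hjcases : j = 1 ∨ j = n - 1 := by
      rcases mul_eq_zero.1 hprod with h | h
      · left; linarith
      · right; linarith
    have hQeq : Q = j := by
      have h1 : n * Q = n * j := by
        rcases hjcases with h | h
        · rw [h] at hW ⊢; linarith
        · rw [h] at hW ⊢; nlinarith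
      exact mul_left_cancel₀ hnpos.ne' h1
    -- each z is 0 or 1
    have h01 : ∀ l, (a l : ℤ) - k = 0 ∨ (a l : ℤ) - k = 1 := by
      have hsum0 : ∑ l, (((a l : ℤ) - k) ^ 2 - ((a l : ℤ) - k)) = 0 := by
        rw [Finset.sum_sub_distrib, ← hQ, hsumz, hQeq, sub_self]
      intro l
      have hnn : ∀ l ∈ Finset.univ, 0 ≤ ((a l : ℤ) - k) ^ 2 - ((a l : ℤ) - k) :=
        fun l _ => sub_nonneg.2 (Int.le_self_sq _)
      have hz := (Finset.sum_eq_zero_iff_of_nonneg hnn).1 hsum0 l (Finset.mem_univ l)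
      have hz' : ((a l : ℤ) - k) * (((a l : ℤ) - k) - 1) = 0 := by
        have : ((a l : ℤ) - k) * (((a l : ℤ) - k) - 1)
            = ((a l : ℤ) - k) ^ 2 - ((a l : ℤ) - k) := by ring
        rw [this, hz]
      rcases mul_eq_zero.1 hz' with h | h
      · left; exact h
      · right; linarith
    rcases hjcases with hj1 | hjn1
    · obtain ⟨l₀, hl₀, hoth⟩ := exists_unique_one (fun l => (a l : ℤ) - k) h01
        (by rw [hsumz, hj1])
      refine ⟨k', 1, l₀, Or.inl rfl, fun l => ?_⟩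
      by_cases hl : l = l₀
      · rw [if_pos hl, ← hk', hl]
        have := hl₀
        linarith
      · rw [if_neg hl, ← hk', add_zero]
        have := hoth l hl
        linarith
    · have h01' : ∀ l, (1 - ((a l : ℤ) - k)) = 0 ∨ (1 - ((a l : ℤ) - k)) = 1 := by
        intro l
        rcases h01 l with h | h
        · right; rw [h]; ring
        · left; rw [h]; ring
      have hsum' : ∑ l, (1 - ((a l : ℤ) - k)) = 1 := by
        rw [Finset.sum_sub_distrib, hsumz, Finset.sum_const, Finset.card_univ, nsmul_eq_mul,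
          mul_one, ← hn', hjn1]
        ring
      obtain ⟨l₀, hl₀, hoth⟩ := exists_unique_one (fun l => 1 - ((a l : ℤ) - k)) h01' hsum'
      refine ⟨k' + 1, -1, l₀, Or.inr rfl, fun l => ?_⟩
      by_cases hl : l = l₀
      · rw [if_pos hl, hl]
        have := hl₀
        push_cast
        rw [← hk']
        linarith
      · rw [if_neg hl, add_zero]
        have := hoth l hl
        push_cast
        rw [← hk']
        linarith

theorem Wd_global {I : Type*} [Fintype I] [DecidableEq I] (hn : 2 ≤ Fintype.card Λ)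
    (a : I → Λ → ℕ) (hsum : ∑ i, Wd (a i) = (Fintype.card Λ : ℤ) - 1) :
    ∃ i₀, Wd (a i₀) = (Fintype.card Λ : ℤ) - 1 ∧ ∀ i, i ≠ i₀ → Wd (a i) = 0 := by
  have hn2 : (2 : ℤ) ≤ (Fintype.card Λ : ℤ) := by exact_mod_cast hn
  obtain ⟨i₀, hi₀⟩ : ∃ i₀, Wd (a i₀) ≠ 0 := by
    by_contra hcon
    push Not at hcon
    rw [Finset.sum_eq_zero (fun i _ => hcon i)] at hsum
    linarith
  have h1 := (Wd_analysis hn (a i₀)).2.1 hi₀
  have hsplit : Wd (a i₀) + ∑ i ∈ Finset.univ.erase i₀, Wd (a i) = ∑ i, Wd (a i) :=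
    Finset.add_sum_erase Finset.univ (fun i => Wd (a i)) (Finset.mem_univ i₀)
  have hnn : ∀ i ∈ Finset.univ.erase i₀, 0 ≤ Wd (a i) := fun i _ => (Wd_analysis hn (a i)).1
  have hrest := Finset.sum_nonneg hnn
  rw [hsum] at hsplit
  have h2 : Wd (a i₀) = (Fintype.card Λ : ℤ) - 1 := by linarith
  have h3 : ∑ i ∈ Finset.univ.erase i₀, Wd (a i) = 0 := by linarith
  exact ⟨i₀, h2, fun i hi => (Finset.sum_eq_zero_iff_of_nonneg hnn).1 h3 i
    (Finset.mem_erase.2 ⟨hi, Finset.mem_univ i⟩)⟩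

end Arith

section Parseval

/-- Parseval for a non-negative combination of linear characters. -/
theorem parseval_linear {Z : Type*} [Group Z] [Fintype Z] [Fintype (Z →* ℂˣ)]
    (a : (Z →* ℂˣ) → ℕ) :
    ∑ t : Z, (∑ l : Z →* ℂˣ, (a l : ℂ) * ((l t : ℂˣ) : ℂ)) *
        conj (∑ l : Z →* ℂˣ, (a l : ℂ) * ((l t : ℂˣ) : ℂ))
      = (Nat.card Z : ℂ) * ∑ l : Z →* ℂˣ, (a l : ℂ) ^ 2 := by
  classical
  have hf : (fun t : Z => ∑ l : Z →* ℂˣ, (a l : ℂ) * ((l t : ℂˣ) : ℂ)) =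
      ∑ l : Z →* ℂˣ, (a l : ℂ) • (fun t : Z => ((l t : ℂˣ) : ℂ)) := by
    funext t
    rw [Finset.sum_apply]
    rfl
  have hinj : ∀ l l' : Z →* ℂˣ, (fun t : Z => ((l t : ℂˣ) : ℂ)) =
      (fun t : Z => ((l' t : ℂˣ) : ℂ)) → l = l' := by
    intro l l' h
    apply MonoidHom.ext
    intro t
    apply Units.ext
    exact congrFun h t
  have hinner : classInner (fun t : Z => ∑ l : Z →* ℂˣ, (a l : ℂ) * ((l t : ℂˣ) : ℂ))
      (fun t : Z => ∑ l : Z →* ℂˣ, (a l : ℂ) * ((l t : ℂˣ) : ℂ))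
      = ∑ l : Z →* ℂˣ, (a l : ℂ) ^ 2 := by
    rw [hf, classInner_sum_left]
    apply Finset.sum_congr rfl
    intro l _
    rw [classInner_smul_left, classInner_sum_right, Finset.sum_eq_single l]
    · rw [classInner_smul_right, Helper25.irr_classInner (Helper25.isIrrCharacter_of_hom l)
        (Helper25.isIrrCharacter_of_hom l), if_pos rfl, Complex.conj_natCast, mul_one, sq]
    · intro l' _ hne
      rw [classInner_smul_right, Helper25.irr_classInner (Helper25.isIrrCharacter_of_hom l)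
        (Helper25.isIrrCharacter_of_hom l'), if_neg (fun h => hne (hinj l l' h).symm), mul_zero]
    · intro h
      exact absurd (Finset.mem_univ l) h
  rw [classInner_def] at hinner
  have hne : (Nat.card Z : ℂ) ≠ 0 := card_ne_zero_complex
  rw [inv_mul_eq_iff_eq_mul₀ hne] at hinner
  exact hinner

end Parseval

section Main

open Classical

variable {Γ : Type*} [Group Γ] [Fintype Γ] {G : Subgroup Γ} [hG : G.Normal] {s : Γ}

/-- norm of `η` on the coset `C_G(t) t` for `t` of order prime to `|G|` -/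
theorem sum_Ct_normSq [Fintype G] (hab : ∀ x y : Γ, x * y * x⁻¹ * y⁻¹ ∈ G) (t : Γ)
    (hcop : (orderOf t).Coprime (Nat.card G)) {η : Γ → ℂ}
    (hη : IsIrrCharacter Γ η) (hres : IsIrrCharacter G (fun g : G => η g)) :
    (Nat.card ↥(G ⊓ Subgroup.centralizer {t}) : ℂ)⁻¹ *
      ∑ c : Γ, (if c ∈ G ⊓ Subgroup.centralizer {t} then η (c * t) * conj (η (c * t)) else 0)
      = 1 := by
  have hcf := Helper25.isClassFunction_of_char (Helper25.isCharacter_of_irr hη)
  have hF : ∀ a x : Γ, (fun y => η y * conj (η y)) (x * a * x⁻¹)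
      = (fun y => η y * conj (η y)) a := by
    intro a x
    show η (x * a * x⁻¹) * conj (η (x * a * x⁻¹)) = _
    rw [hcf a x]
  have ht : t ∈ Subgroup.normalizer (G : Set Γ) := by
    rw [Subgroup.normalizer_eq_top]
    trivial
  have h := Helper11.coset_avg G t ht hcop (fun y => η y * conj (η y)) hF
  rw [← Helper11.sum_subgroup_eq G (fun g => η (g * t) * conj (η (g * t)))] at h
  have h2 : ∑ g : G, η ((g : Γ) * t) * conj (η ((g : Γ) * t)) = (Nat.card G : ℂ) := by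
    rw [← Helper25.sum_coset_normSq G hab hη hres t]
    apply Finset.sum_congr rfl
    intro g _
    have : η (t * g) = η ((g : Γ) * t) := by
      have h3 := hcf ((g : Γ) * t) t
      rw [← h3]
      congr 1
      group
    rw [this]
  rw [h2, inv_mul_cancel₀ card_ne_zero_complex] at h
  exact h.symm

/-- Isaacs-type structure of the canonical extension on `C × ⟨s⟩` when all non-identity elements
of `⟨s⟩` have the same centraliser in `G`. -/
theorem frobenius_values (D : CycData G s) [Fintype G] [Fintype (Cs G s)]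
    (hn2 : 2 ≤ orderOf s)
    (hfpf : ∀ x ∈ Subgroup.zpowers s, x ≠ 1 →
      G ⊓ Subgroup.centralizer ({x} : Set Γ) = Cs G s)
    {χh : Γ → ℂ} (hχh : IsIrrCharacter Γ χh) (hres : IsIrrCharacter G (fun g : G => χh g))
    (β : IrrCharacter (Cs G s)) (ε₀ : ℤ) (hε₀ : ε₀ = 1 ∨ ε₀ = -1)
    (hβ : ∀ c : Cs G s, χh ((c : Γ) * s) = (ε₀ : ℂ) * (β : Cs G s → ℂ) c) :
    ∃ (ε : ℤ) (l₀ : Subgroup.zpowers s →* ℂˣ), (ε = 1 ∨ ε = -1) ∧
      (∀ t : Subgroup.zpowers s, ((l₀ t : ℂˣ) : ℂ) * ((l₀ t : ℂˣ) : ℂ) = 1) ∧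
      (∀ (c : Cs G s) (t : Subgroup.zpowers s), t ≠ 1 →
        χh ((c : Γ) * (t : Γ)) = (ε : ℂ) * (β : Cs G s → ℂ) c * ((l₀ t : ℂˣ) : ℂ)) ∧
      (∀ β' : IrrCharacter (Cs G s), ∃ k : ℕ,
        classInner (fun c : Cs G s => χh (c : Γ)) (β' : Cs G s → ℂ) =
          (orderOf s : ℂ) * (k : ℂ) + (if β' = β then (ε : ℂ) else 0)) := by
  haveI : Fintype (Subgroup.zpowers s) := Fintype.ofFinite _
  haveI : Fintype (Subgroup.zpowers s →* ℂˣ) := Fintype.ofFinite _
  haveI : Fintype (IrrCharacter (Cs G s)) := Fintype.ofFinite _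
  have hcommZ : ∀ a b : Subgroup.zpowers s, a * b = b * a := by
    intro a b
    obtain ⟨i, hi⟩ := Subgroup.mem_zpowers_iff.1 a.2
    obtain ⟨j, hj⟩ := Subgroup.mem_zpowers_iff.1 b.2
    apply Subtype.ext
    show (a : Γ) * (b : Γ) = (b : Γ) * (a : Γ)
    rw [← hi, ← hj]
    exact ((Commute.refl s).zpow_zpow i j).eq
  have hχc := Helper25.isCharacter_of_irr hχh
  have hcfΓ := Helper25.isClassFunction_of_char hχc
  have hcardZ : Nat.card (Subgroup.zpowers s) = orderOf s := Nat.card_zpowers s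
  have hcardΛ : Fintype.card (Subgroup.zpowers s →* ℂˣ) = orderOf s := by
    rw [← Nat.card_eq_fintype_card, Helper7.card_linChar_of_comm' hcommZ, hcardZ]
  have hn0 : (orderOf s : ℂ) ≠ 0 := by
    have : orderOf s ≠ 0 := by omega
    exact_mod_cast this
  -- the multiplicity functions
  have hex := fun β' : IrrCharacter (Cs G s) =>
    exists_mult (G := G) (s := s) hχc (Helper25.isCharacter_of_irr β'.2)
  choose a ha using hex
  obtain ⟨F, hF⟩ : ∃ F : IrrCharacter (Cs G s) → Subgroup.zpowers s → ℂ, ∀ β' t,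
      F β' t = ∑ l : Subgroup.zpowers s →* ℂˣ, (a β' l : ℂ) * ((l t : ℂˣ) : ℂ) :=
    ⟨_, fun _ _ => rfl⟩
  have haF : ∀ (β' : IrrCharacter (Cs G s)) (t : Subgroup.zpowers s),
      classInner (fun c : Cs G s => χh ((c : Γ) * (t : Γ))) (β' : Cs G s → ℂ) = F β' t := by
    intro β' t
    rw [hF]
    exact ha β' t
  -- class functions `c ↦ χh (c t)`
  have hφcf : ∀ t : Subgroup.zpowers s,
      IsClassFunction (Cs G s) (fun c : Cs G s => χh ((c : Γ) * (t : Γ))) := by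
    intro t c h
    show χh ((h : Γ) * (c : Γ) * (h : Γ)⁻¹ * (t : Γ)) = χh ((c : Γ) * (t : Γ))
    have hhs : Commute (h : Γ) s := (mem_Cs.1 h.2).2
    obtain ⟨i, hi⟩ := Subgroup.mem_zpowers_iff.1 t.2
    have hh : Commute (h : Γ) (t : Γ) := by
      rw [← hi]
      exact hhs.zpow_right i
    have h2 : Commute (h : Γ)⁻¹ (t : Γ) := Commute.inv_left hh
    have : (h : Γ) * (c : Γ) * (h : Γ)⁻¹ * (t : Γ)
        = (h : Γ) * ((c : Γ) * (t : Γ)) * (h : Γ)⁻¹ := by
      calc (h : Γ) * (c : Γ) * (h : Γ)⁻¹ * (t : Γ)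
          = (h : Γ) * (c : Γ) * ((h : Γ)⁻¹ * (t : Γ)) := by group
        _ = (h : Γ) * (c : Γ) * ((t : Γ) * (h : Γ)⁻¹) := by rw [h2.eq]
        _ = (h : Γ) * ((c : Γ) * (t : Γ)) * (h : Γ)⁻¹ := by group
    rw [this, hcfΓ]
  -- (P1)
  have hP1 : ∀ t : Subgroup.zpowers s, t ≠ 1 →
      ∑ β' : IrrCharacter (Cs G s), F β' t * conj (F β' t) = 1 := by
    intro t ht
    have hexp := classFunction_expansion (fun c : Cs G s => χh ((c : Γ) * (t : Γ))) (hφcf t)
    have h1 : classInner (fun c : Cs G s => χh ((c : Γ) * (t : Γ)))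
        (fun c : Cs G s => χh ((c : Γ) * (t : Γ))) = 1 := by
      have htne : (t : Γ) ≠ 1 := fun h => ht (Subtype.ext h)
      have hcop_t : (orderOf (t : Γ)).Coprime (Nat.card G) :=
        Nat.Coprime.coprime_dvd_left (orderOf_dvd_of_mem_zpowers t.2) D.cop
      have h := sum_Ct_normSq D.hab (t : Γ) hcop_t hχh hres
      rw [hfpf (t : Γ) t.2 htne] at h
      rw [classInner_def, Helper11.sum_subgroup_eq (Cs G s)
        (fun c => χh (c * (t : Γ)) * conj (χh (c * (t : Γ))))]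
      exact h
    have h2 : classInner (fun c : Cs G s => χh ((c : Γ) * (t : Γ)))
        (fun c : Cs G s => χh ((c : Γ) * (t : Γ)))
        = ∑ β' : IrrCharacter (Cs G s), F β' t * conj (F β' t) := by
      have h3 : classInner (fun c : Cs G s => χh ((c : Γ) * (t : Γ)))
          (fun c : Cs G s => χh ((c : Γ) * (t : Γ)))
          = classInner (∑ β' : IrrCharacter (Cs G s),
            classInner (fun c : Cs G s => χh ((c : Γ) * (t : Γ))) (β' : Cs G s → ℂ) •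
              (β' : Cs G s → ℂ)) (fun c : Cs G s => χh ((c : Γ) * (t : Γ))) :=
        congrArg (fun f => classInner f (fun c : Cs G s => χh ((c : Γ) * (t : Γ)))) hexp
      rw [h3, classInner_sum_left]
      apply Finset.sum_congr rfl
      intro β' _
      rw [classInner_smul_left,
        ← classInner_conj_symm (fun c : Cs G s => χh ((c : Γ) * (t : Γ))) (β' : Cs G s → ℂ),
        haF]
    rw [← h2, h1]
  -- (P2)
  have hP2 : ∀ β' : IrrCharacter (Cs G s), ∑ t : Subgroup.zpowers s, F β' t * conj (F β' t)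
      = (orderOf s : ℂ) * ∑ l : Subgroup.zpowers s →* ℂˣ, (a β' l : ℂ) ^ 2 := by
    intro β'
    simp only [hF]
    rw [parseval_linear (a β'), hcardZ]
  have hF1 : ∀ β' : IrrCharacter (Cs G s),
      F β' 1 = ((∑ l : Subgroup.zpowers s →* ℂˣ, a β' l : ℕ) : ℂ) := by
    intro β'
    rw [hF, Nat.cast_sum]
    apply Finset.sum_congr rfl
    intro l _
    rw [map_one, Units.val_one, mul_one]
  -- (★)
  have hstarC : ∑ β' : IrrCharacter (Cs G s),
      ((orderOf s : ℂ) * ∑ l : Subgroup.zpowers s →* ℂˣ, (a β' l : ℂ) ^ 2 -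
        (∑ l : Subgroup.zpowers s →* ℂˣ, (a β' l : ℂ)) ^ 2) = (orderOf s : ℂ) - 1 := by
    have hcomm : ∑ β' : IrrCharacter (Cs G s), ∑ t : Subgroup.zpowers s, F β' t * conj (F β' t)
        = ∑ t : Subgroup.zpowers s, ∑ β' : IrrCharacter (Cs G s), F β' t * conj (F β' t) :=
      Finset.sum_comm
    have hsplit : (∑ β' : IrrCharacter (Cs G s), F β' 1 * conj (F β' 1)) +
        ∑ t ∈ Finset.univ.erase (1 : Subgroup.zpowers s),
          ∑ β' : IrrCharacter (Cs G s), F β' t * conj (F β' t)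
        = ∑ t : Subgroup.zpowers s, ∑ β' : IrrCharacter (Cs G s), F β' t * conj (F β' t) :=
      Finset.add_sum_erase Finset.univ
        (fun t => ∑ β' : IrrCharacter (Cs G s), F β' t * conj (F β' t)) (Finset.mem_univ 1)
    have hrest : ∑ t ∈ Finset.univ.erase (1 : Subgroup.zpowers s),
        ∑ β' : IrrCharacter (Cs G s), F β' t * conj (F β' t) = (orderOf s : ℂ) - 1 := by
      rw [Finset.sum_congr rfl (fun t ht => hP1 t (Finset.ne_of_mem_erase ht)), Finset.sum_const,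
        Finset.card_erase_of_mem (Finset.mem_univ _), Finset.card_univ, nsmul_eq_mul, mul_one,
        ← Nat.card_eq_fintype_card, hcardZ, Nat.cast_sub (by omega : 1 ≤ orderOf s), Nat.cast_one]
    have hone : ∑ β' : IrrCharacter (Cs G s), F β' 1 * conj (F β' 1)
        = ∑ β' : IrrCharacter (Cs G s),
          (∑ l : Subgroup.zpowers s →* ℂˣ, (a β' l : ℂ)) ^ 2 := by
      apply Finset.sum_congr rfl
      intro β' _
      rw [hF1 β', Complex.conj_natCast, Nat.cast_sum, sq]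
    rw [Finset.sum_sub_distrib, ← Finset.sum_congr rfl (fun β' _ => hP2 β'), hcomm, ← hsplit,
      hrest, hone]
    ring
  have hstar : ∑ β' : IrrCharacter (Cs G s), Wd (a β')
      = (Fintype.card (Subgroup.zpowers s →* ℂˣ) : ℤ) - 1 := by
    have hC : ((∑ β' : IrrCharacter (Cs G s), Wd (a β') : ℤ) : ℂ)
        = (((Fintype.card (Subgroup.zpowers s →* ℂˣ) : ℤ) - 1 : ℤ) : ℂ) := by
      simp only [Wd]
      push_cast
      rw [hcardΛ]
      exact hstarC
    exact_mod_cast hC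
  have hn2' : 2 ≤ Fintype.card (Subgroup.zpowers s →* ℂˣ) := by rw [hcardΛ]; exact hn2
  obtain ⟨βs, hβs, hoth⟩ := Wd_global hn2' a hstar
  obtain ⟨K, ε, l₀, hε, haK⟩ := (Wd_analysis hn2' (a βs)).2.2.2 hβs
  have hconst : ∀ β' : IrrCharacter (Cs G s), β' ≠ βs → ∃ k : ℕ, ∀ l, a β' l = k :=
    fun β' hne => (Wd_analysis hn2' (a β')).2.2.1 (hoth β' hne)
  have hsum0 : ∀ t : Subgroup.zpowers s, t ≠ 1 →
      ∑ l : Subgroup.zpowers s →* ℂˣ, ((l t : ℂˣ) : ℂ) = 0 := by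
    intro t ht
    rw [Helper7.sum_linChar_apply hcommZ t, if_neg ht]
  have haC : ∀ l, (a βs l : ℂ) = (K : ℂ) + (if l = l₀ then (ε : ℂ) else 0) := by
    intro l
    have h2 : ((a βs l : ℤ) : ℂ) = (((K : ℤ) + (if l = l₀ then ε else 0) : ℤ) : ℂ) := by
      rw [haK l]
    by_cases hl : l = l₀
    · rw [if_pos hl] at h2 ⊢
      push_cast at h2
      exact h2
    · rw [if_neg hl] at h2 ⊢
      push_cast at h2
      exact h2
  have hFs : ∀ t : Subgroup.zpowers s, F βs t =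
      (K : ℂ) * ∑ l : Subgroup.zpowers s →* ℂˣ, ((l t : ℂˣ) : ℂ) + (ε : ℂ) * ((l₀ t : ℂˣ) : ℂ) := by
    intro t
    rw [hF]
    calc ∑ l : Subgroup.zpowers s →* ℂˣ, (a βs l : ℂ) * ((l t : ℂˣ) : ℂ)
        = ∑ l : Subgroup.zpowers s →* ℂˣ, ((K : ℂ) * ((l t : ℂˣ) : ℂ) +
            (if l = l₀ then (ε : ℂ) * ((l t : ℂˣ) : ℂ) else 0)) :=
          Finset.sum_congr rfl (fun l _ => by rw [haC l, add_mul, ite_mul, zero_mul])
      _ = (K : ℂ) * ∑ l : Subgroup.zpowers s →* ℂˣ, ((l t : ℂˣ) : ℂ)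
            + (ε : ℂ) * ((l₀ t : ℂˣ) : ℂ) := by
          rw [Finset.sum_add_distrib, ← Finset.mul_sum,
            Finset.sum_ite_eq' Finset.univ l₀ (fun l => (ε : ℂ) * ((l t : ℂˣ) : ℂ)),
            if_pos (Finset.mem_univ _)]
  have hFo : ∀ β' : IrrCharacter (Cs G s), β' ≠ βs → ∀ t : Subgroup.zpowers s, t ≠ 1 →
      F β' t = 0 := by
    intro β' hne t ht
    obtain ⟨k, hk⟩ := hconst β' hne
    rw [hF]
    calc ∑ l : Subgroup.zpowers s →* ℂˣ, (a β' l : ℂ) * ((l t : ℂˣ) : ℂ)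
        = (k : ℂ) * ∑ l : Subgroup.zpowers s →* ℂˣ, ((l t : ℂˣ) : ℂ) := by
          rw [Finset.mul_sum]
          exact Finset.sum_congr rfl (fun l _ => by rw [hk l])
      _ = 0 := by rw [hsum0 t ht, mul_zero]
  have hεne : (ε : ℂ) ≠ 0 := by rcases hε with rfl | rfl <;> norm_num
  -- values of `χh` on `C t`
  have hvals : ∀ (t : Subgroup.zpowers s), t ≠ 1 → ∀ c : Cs G s,
      χh ((c : Γ) * (t : Γ)) = (ε : ℂ) * ((l₀ t : ℂˣ) : ℂ) * (βs : Cs G s → ℂ) c := by
    intro t ht c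
    have hexp := classFunction_expansion (fun c : Cs G s => χh ((c : Γ) * (t : Γ))) (hφcf t)
    have h4 := congrFun hexp c
    rw [Finset.sum_apply] at h4
    rw [h4, Finset.sum_eq_single βs]
    · rw [Pi.smul_apply, smul_eq_mul, haF, hFs t, hsum0 t ht, mul_zero, zero_add]
    · intro β' _ hne
      rw [Pi.smul_apply, smul_eq_mul, haF, hFo β' hne t ht, zero_mul]
    · intro h
      exact absurd (Finset.mem_univ _) h
  -- identify `βs = β`
  obtain ⟨sZ, hsZ⟩ : ∃ sZ : Subgroup.zpowers s, (sZ : Γ) = s := ⟨⟨s, Subgroup.mem_zpowers s⟩, rfl⟩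
  have hsZne : sZ ≠ 1 := by
    intro h
    have h1 : s = 1 := by rw [← hsZ, h]; rfl
    rw [h1, orderOf_one] at hn2
    omega
  have hβeq : β = βs := by
    by_contra hne
    have h1 : classInner (fun c : Cs G s => χh ((c : Γ) * (sZ : Γ))) (βs : Cs G s → ℂ) = 0 := by
      have hfun : (fun c : Cs G s => χh ((c : Γ) * (sZ : Γ))) = (ε₀ : ℂ) • (β : Cs G s → ℂ) := by
        funext c
        rw [hsZ, hβ c, Pi.smul_apply, smul_eq_mul]
      rw [hfun, classInner_smul_left, Helper25.irr_classInner β.2 βs.2,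
        if_neg (fun h => hne (Subtype.ext h)), mul_zero]
    rw [haF, hFs sZ, hsum0 sZ hsZne, mul_zero, zero_add] at h1
    exact (mul_ne_zero hεne (Units.ne_zero _)) h1
  subst hβeq
  -- `l₀ (s)² = 1`
  have hl₀s : ((l₀ sZ : ℂˣ) : ℂ) * ((l₀ sZ : ℂˣ) : ℂ) = 1 := by
    have h1 := hvals sZ hsZne 1
    rw [hsZ, hβ 1] at h1
    have hβ1 : (β : Cs G s → ℂ) 1 ≠ 0 := IsIrrCharacter.apply_one_ne_zero β.2
    have h2 : (ε₀ : ℂ) = (ε : ℂ) * ((l₀ sZ : ℂˣ) : ℂ) := mul_right_cancel₀ hβ1 h1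
    have hε₀sq : (ε₀ : ℂ) * (ε₀ : ℂ) = 1 := by rcases hε₀ with rfl | rfl <;> norm_num
    have hεsq : (ε : ℂ) * (ε : ℂ) = 1 := by rcases hε with rfl | rfl <;> norm_num
    calc ((l₀ sZ : ℂˣ) : ℂ) * ((l₀ sZ : ℂˣ) : ℂ)
        = ((ε : ℂ) * (ε : ℂ)) * (((l₀ sZ : ℂˣ) : ℂ) * ((l₀ sZ : ℂˣ) : ℂ)) := by
          rw [hεsq, one_mul]
      _ = ((ε : ℂ) * ((l₀ sZ : ℂˣ) : ℂ)) * ((ε : ℂ) * ((l₀ sZ : ℂˣ) : ℂ)) := by ring
      _ = 1 := by rw [← h2, hε₀sq]
  have hl₀u : l₀ sZ * l₀ sZ = 1 := by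
    apply Units.ext
    rw [Units.val_mul, hl₀s, Units.val_one]
  have hl₀sq : ∀ t : Subgroup.zpowers s, ((l₀ t : ℂˣ) : ℂ) * ((l₀ t : ℂˣ) : ℂ) = 1 := by
    intro t
    obtain ⟨i, hi⟩ := Subgroup.mem_zpowers_iff.1 t.2
    have ht : t = sZ ^ i := by
      apply Subtype.ext
      rw [Subgroup.coe_zpow, hsZ, hi]
    rw [← Units.val_mul, ht, map_zpow, ← mul_zpow, hl₀u, one_zpow, Units.val_one]
  refine ⟨ε, l₀, hε, hl₀sq, ?_, ?_⟩
  · intro c t ht
    rw [hvals t ht c]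
    ring
  · intro β'
    have h1 : (fun c : Cs G s => χh (c : Γ))
        = fun c : Cs G s => χh ((c : Γ) * ((1 : Subgroup.zpowers s) : Γ)) := by
      funext c
      rw [Subgroup.coe_one, mul_one]
    rw [h1, haF, hF1]
    by_cases hb : β' = β
    · rw [if_pos hb, hb]
      refine ⟨K, ?_⟩
      rw [Nat.cast_sum, Finset.sum_congr rfl (fun l _ => haC l), Finset.sum_add_distrib,
        Finset.sum_const, Finset.card_univ, hcardΛ, nsmul_eq_mul,
        Finset.sum_ite_eq' Finset.univ l₀ (fun _ => (ε : ℂ)), if_pos (Finset.mem_univ _)]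
    · rw [if_neg hb]
      obtain ⟨k, hk⟩ := hconst β' hb
      refine ⟨k, ?_⟩
      rw [add_zero, Finset.sum_congr rfl (fun l _ => hk l), Finset.sum_const, Finset.card_univ,
        hcardΛ, smul_eq_mul, Nat.cast_mul]

end Main

end Cfsg.Agent.Lib.Helper2.GlFrob
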