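import Mathlib
import Cfsg.Agent.Lib.Helper2.GlaubermanSolvable
import Cfsg.Agent.Lib.Helper2.PermLemma
import Cfsg.Agent.Lib.Helper2.NormalInduction

/-!
# Real characters and real classes under the `p`-group Glauberman correspondence
(helper2 library).
-/

set_option autoImplicit false
set_option linter.unusedSectionVars false
set_option linter.style.haveILetI false
set_option linter.unusedVariables false

namespace Cfsg.Agent.Lib.Helper2.GlReal

open Cfsg Cfsg.Agent.Lib Cfsg.Agent.Lib.Helper2 Cfsg.Agent.Lib.Helper2.GlPG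
  Cfsg.Agent.Lib.Helper2.GlSolv
open scoped ComplexConjugate

theorem classInner_conj_conj {H : Type*} [Group H] [Fintype H] (φ ψ : H → ℂ) :
    classInner (fun h => conj (φ h)) (fun h => conj (ψ h)) = conj (classInner φ ψ) := by
  simp only [classInner_def, map_mul, map_sum, map_inv₀, Complex.conj_natCast, Complex.conj_conj]

theorem cinn_conj_conj {H : Type*} [Group H] [Finite H] (φ ψ : H → ℂ) :
    cinn (fun h => conj (φ h)) (fun h => conj (ψ h)) = conj (cinn φ ψ) := by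
  haveI := Fintype.ofFinite H
  rw [cinn_eq, cinn_eq]
  exact classInner_conj_conj φ ψ

/-- the complex conjugate irreducible character -/
noncomputable def conjI {H : Type*} [Group H] [Finite H] (β : IrrCharacter H) : IrrCharacter H :=
  ⟨fun h => conj ((β : H → ℂ) h), isIrrCharacter_conj β.2⟩

theorem isConj_inv_inv {H : Type*} [Group H] {a b : H} (h : IsConj a b) : IsConj a⁻¹ b⁻¹ := by
  obtain ⟨c, hc⟩ := isConj_iff.1 h
  rw [isConj_iff]
  refine ⟨c, ?_⟩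
  rw [← hc]
  group

theorem isConj_real_of_isConj {H : Type*} [Group H] {a b : H} (hab : IsConj a b)
    (haa : IsConj a a⁻¹) : IsConj b b⁻¹ :=
  (hab.symm.trans haa).trans (isConj_inv_inv hab)

section Corr

open Classical

variable {Γ : Type*} [Group Γ] [Fintype Γ]

theorem piP_real {p : ℕ} (hp : p.Prime) {D C : Subgroup Γ} {hCD : C ≤ D}
    {Inv : (D → ℂ) → Prop} (H : GlP p D C hCD Inv) {ψ : IrrCharacter D} (hψ : Inv ψ)
    (hreal : ∀ d : D, ((ψ : D → ℂ) d).im = 0) (c : C) :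
    ((piP p hCD ψ : C → ℂ) c).im = 0 := by
  obtain ⟨m, hm, hpm⟩ := piP_spec hp H hψ
  have e1 : res hCD (ψ : D → ℂ) = fun c => conj (res hCD (ψ : D → ℂ) c) := by
    funext c
    exact (Complex.conj_eq_iff_im.2 (hreal _)).symm
  have hQ : Qp p hCD ψ (conjI (piP p hCD ψ)) := by
    refine ⟨m, ?_, hpm⟩
    have h2 : cinn (res hCD (ψ : D → ℂ)) (conjI (piP p hCD ψ) : C → ℂ) =
        conj (cinn (res hCD (ψ : D → ℂ)) (piP p hCD ψ : C → ℂ)) := by
      rw [← cinn_conj_conj]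
      congr 1
    rw [h2, hm, Complex.conj_natCast]
  have heq := piP_unique hp H hψ hQ
  have h3 : conj ((piP p hCD ψ : C → ℂ) c) = (piP p hCD ψ : C → ℂ) c :=
    congrArg (fun z : IrrCharacter C => (z : C → ℂ) c) heq
  exact Complex.conj_eq_iff_im.1 h3

theorem real_of_real_image {p : ℕ} {D C S : Subgroup Γ} {hCD : C ≤ D}
    (H : GlP p D C hCD (fun ψ => ∀ x ∈ S, InvUnder D x ψ)) {χ : IrrCharacter D}
    (hχ : ∀ x ∈ S, InvUnder D x (χ : D → ℂ)) {β : IrrCharacter C}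
    (hβ : ∀ c : C, ((β : C → ℂ) c).im = 0) {m : ℕ}
    (hm : cinn (res hCD (χ : D → ℂ)) (β : C → ℂ) = (m : ℂ)) (hpm : ¬ p ∣ m) (d : D) :
    ((χ : D → ℂ) d).im = 0 := by
  have hχ' : ∀ x ∈ S, InvUnder D x (conjI χ : D → ℂ) := by
    intro x hx g g' hg
    show conj ((χ : D → ℂ) g') = conj ((χ : D → ℂ) g)
    rw [hχ x hx g g' hg]
  have e2 : (β : C → ℂ) = fun c => conj ((β : C → ℂ) c) := by
    funext c
    exact (Complex.conj_eq_iff_im.2 (hβ c)).symm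
  have hm' : cinn (res hCD (conjI χ : D → ℂ)) (β : C → ℂ) = (m : ℂ) := by
    have h2 : cinn (res hCD (conjI χ : D → ℂ)) (β : C → ℂ) =
        conj (cinn (res hCD (χ : D → ℂ)) (β : C → ℂ)) := by
      rw [← cinn_conj_conj]
      congr 1
    rw [h2, hm, Complex.conj_natCast]
  have heq := H.inj χ (conjI χ) hχ hχ' β m m hm hpm hm' hpm
  have h3 : (χ : D → ℂ) d = conj ((χ : D → ℂ) d) :=
    congrArg (fun z : IrrCharacter D => (z : D → ℂ) d) heq
  exact Complex.conj_eq_iff_im.1 h3.symm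

/-- real invariant irreducible characters correspond to real irreducible characters of the
centraliser. -/
theorem card_real_inv_irr {p : ℕ} (hp : p.Prime) {D C S : Subgroup Γ} {hCD : C ≤ D}
    (H : GlP p D C hCD (fun ψ => ∀ x ∈ S, InvUnder D x ψ)) :
    Nat.card {θ : IrrCharacter D // (∀ k : D, ((θ : D → ℂ) k).im = 0) ∧
      (∀ x ∈ S, ∀ k k' : D, (k' : Γ) = x * (k : Γ) * x⁻¹ →
        (θ : D → ℂ) k' = (θ : D → ℂ) k)} =
    Nat.card {β : IrrCharacter C // ∀ c : C, ((β : C → ℂ) c).im = 0} := by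
  apply Nat.card_eq_of_bijective
    (fun θ : {θ : IrrCharacter D // (∀ k : D, ((θ : D → ℂ) k).im = 0) ∧
      (∀ x ∈ S, ∀ k k' : D, (k' : Γ) = x * (k : Γ) * x⁻¹ →
        (θ : D → ℂ) k' = (θ : D → ℂ) k)} =>
      (⟨piP p hCD θ.1, piP_real hp H (ψ := θ.1) θ.2.2 θ.2.1⟩ :
        {β : IrrCharacter C // ∀ c : C, ((β : C → ℂ) c).im = 0}))
  constructor
  · rintro ⟨θ, hr, hi⟩ ⟨θ', hr', hi'⟩ heq
    have h1 : piP p hCD θ = piP p hCD θ' := congrArg Subtype.val heq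
    obtain ⟨m, hm, hpm⟩ := piP_spec hp H (ψ := θ) hi
    obtain ⟨m', hm', hpm'⟩ := piP_spec hp H (ψ := θ') hi'
    rw [← h1] at hm'
    exact Subtype.ext (H.inj θ θ' hi hi' _ m m' hm hpm hm' hpm')
  · rintro ⟨β, hβ⟩
    obtain ⟨χ, hχ, m, hm, hpm⟩ := H.surj β
    refine ⟨⟨χ, fun d => real_of_real_image H hχ hβ hm hpm d, hχ⟩, ?_⟩
    apply Subtype.ext
    exact (piP_unique hp H (ψ := χ) hχ ⟨m, hm, hpm⟩).symm

end Corr

section Classes

variable {Γ : Type*} [Group Γ] [Finite Γ]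

/-- real invariant classes of `G` correspond to real classes of `C_G(S)`. -/
theorem card_real_inv_classes (S G C : Subgroup Γ) (hnorm : S ≤ Subgroup.normalizer (G : Set Γ))
    (hcop : (Nat.card S).Coprime (Nat.card G)) (hsolv : Group.IsSolvable S)
    (hC : C = G ⊓ Subgroup.centralizer (S : Set Γ)) :
    Nat.card {c : ConjClasses G // (∀ k : G, ConjClasses.mk k = c → IsConj k k⁻¹) ∧
      ∀ k : G, ConjClasses.mk k = c → ∀ x ∈ S, ∀ k' : G, (k' : Γ) = x * (k : Γ) * x⁻¹ →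
        ConjClasses.mk k' = c} =
    Nat.card {κ : ConjClasses C // ∀ k : C, ConjClasses.mk k = κ → IsConj k k⁻¹} := by
  have hCG : C ≤ G := by rw [hC]; exact inf_le_left
  have hCS : ∀ c ∈ C, c ∈ Subgroup.centralizer (S : Set Γ) := by
    intro c hc
    rw [hC] at hc
    exact (Subgroup.mem_inf.1 hc).2
  -- an element of `C` has an invariant class
  have hfixx : ∀ c ∈ C, ∀ s ∈ S, ∃ g ∈ G, s * c * s⁻¹ = g * c * g⁻¹ := by
    intro c hc s hs
    refine ⟨1, one_mem G, ?_⟩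
    have e2 : s * c = c * s := (Subgroup.mem_centralizer_iff.1 (hCS c hc)) s hs
    rw [e2, mul_inv_cancel_right]
    simp
  have hwd : ∀ c₀ : C, (∀ k : C, ConjClasses.mk k = ConjClasses.mk c₀ → IsConj k k⁻¹) →
      (∀ k : G, ConjClasses.mk k = ConjClasses.mk (Subgroup.inclusion hCG c₀) → IsConj k k⁻¹) ∧
      ∀ k : G, ConjClasses.mk k = ConjClasses.mk (Subgroup.inclusion hCG c₀) →
        ∀ x ∈ S, ∀ k' : G, (k' : Γ) = x * (k : Γ) * x⁻¹ →
        ConjClasses.mk k' = ConjClasses.mk (Subgroup.inclusion hCG c₀) := by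
    intro c₀ hreal
    constructor
    · intro k hk
      have h0 : IsConj c₀ c₀⁻¹ := hreal c₀ rfl
      have h1 : IsConj (Subgroup.inclusion hCG c₀) (Subgroup.inclusion hCG c₀)⁻¹ := by
        obtain ⟨d, hd⟩ := isConj_iff.1 h0
        rw [isConj_iff]
        refine ⟨Subgroup.inclusion hCG d, ?_⟩
        rw [← map_inv, ← map_inv, ← map_mul, ← map_mul, hd]
      have h2 : IsConj (Subgroup.inclusion hCG c₀) k :=
        (ConjClasses.mk_eq_mk_iff_isConj.1 hk).symm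
      exact isConj_real_of_isConj h2 h1
    · intro k hk s hs k' hk'
      rw [ConjClasses.mk_eq_mk_iff_isConj, isConj_iff] at hk ⊢
      obtain ⟨h, hh⟩ := hk
      refine ⟨⟨s * h * s⁻¹, conj_mem_of_mem_normalizer (hnorm hs) h.2⟩, ?_⟩
      apply Subtype.ext
      have e1 : (h : Γ) * k * (h : Γ)⁻¹ = c₀ := congrArg Subtype.val hh
      have e2 : s * (c₀ : Γ) = (c₀ : Γ) * s :=
        (Subgroup.mem_centralizer_iff.1 (hCS c₀ c₀.2)) s hs
      show s * h * s⁻¹ * (k' : Γ) * (s * h * s⁻¹)⁻¹ = c₀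
      rw [hk']
      calc s * h * s⁻¹ * (s * k * s⁻¹) * (s * h * s⁻¹)⁻¹
          = s * ((h : Γ) * k * (h : Γ)⁻¹) * s⁻¹ := by group
        _ = s * (c₀ : Γ) * s⁻¹ := by rw [e1]
        _ = c₀ := by rw [e2, mul_inv_cancel_right]
  have hwd' : ∀ κ : ConjClasses C, (∀ k : C, ConjClasses.mk k = κ → IsConj k k⁻¹) →
      (∀ k : G, ConjClasses.mk k = ConjClasses.map (Subgroup.inclusion hCG) κ →
        IsConj k k⁻¹) ∧
      ∀ k : G, ConjClasses.mk k = ConjClasses.map (Subgroup.inclusion hCG) κ →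
        ∀ x ∈ S, ∀ k' : G, (k' : Γ) = x * (k : Γ) * x⁻¹ →
        ConjClasses.mk k' = ConjClasses.map (Subgroup.inclusion hCG) κ := by
    intro κ
    obtain ⟨c, rfl⟩ := ConjClasses.exists_rep κ
    exact hwd c
  symm
  apply Nat.card_eq_of_bijective
    (fun κ : {κ : ConjClasses C // ∀ k : C, ConjClasses.mk k = κ → IsConj k k⁻¹} =>
      (⟨ConjClasses.map (Subgroup.inclusion hCG) κ.1, hwd' κ.1 κ.2⟩ :
      {c : ConjClasses G // (∀ k : G, ConjClasses.mk k = c → IsConj k k⁻¹) ∧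
        ∀ k : G, ConjClasses.mk k = c → ∀ x ∈ S, ∀ k' : G, (k' : Γ) = x * (k : Γ) * x⁻¹ →
          ConjClasses.mk k' = c}))
  constructor
  · rintro ⟨κ₁, hκ₁⟩ ⟨κ₂, hκ₂⟩ heq
    obtain ⟨c₁, rfl⟩ := ConjClasses.exists_rep κ₁
    obtain ⟨c₂, rfl⟩ := ConjClasses.exists_rep κ₂
    have h1 : ConjClasses.mk (Subgroup.inclusion hCG c₁) =
        ConjClasses.mk (Subgroup.inclusion hCG c₂) := congrArg Subtype.val heq
    rw [ConjClasses.mk_eq_mk_iff_isConj, isConj_iff] at h1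
    obtain ⟨h, hh⟩ := h1
    have e1 : (h : Γ) * c₁ * (h : Γ)⁻¹ = c₂ := congrArg Subtype.val hh
    obtain ⟨k, hk, hkc⟩ := (fixed_class_core S G hnorm hcop hsolv (c₁ : Γ)
      (hfixx c₁ c₁.2)).2 c₁ c₂
      ⟨1, one_mem G, by simp⟩ ⟨h, h.2, e1.symm⟩ (hCS c₁ c₁.2) (hCS c₂ c₂.2)
    rw [← hC] at hk
    apply Subtype.ext
    show ConjClasses.mk c₁ = ConjClasses.mk c₂
    rw [ConjClasses.mk_eq_mk_iff_isConj, isConj_iff]
    exact ⟨⟨k, hk⟩, Subtype.ext hkc⟩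
  · rintro ⟨K, hKr, hKi⟩
    obtain ⟨x, rfl⟩ := ConjClasses.exists_rep K
    have hx : ∀ s ∈ S, ∃ g ∈ G, s * (x : Γ) * s⁻¹ = g * (x : Γ) * g⁻¹ := by
      intro s hs
      have h1 := hKi x rfl s hs ⟨s * x * s⁻¹, conj_mem_of_mem_normalizer (hnorm hs) x.2⟩ rfl
      rw [ConjClasses.mk_eq_mk_iff_isConj, isConj_iff] at h1
      obtain ⟨h, hh⟩ := h1
      have e1 : (h : Γ) * (s * x * s⁻¹) * (h : Γ)⁻¹ = x := congrArg Subtype.val hh
      refine ⟨(h : Γ)⁻¹, inv_mem h.2, ?_⟩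
      have e3 : (h : Γ)⁻¹ * (x : Γ) * (h : Γ)⁻¹⁻¹ =
          (h : Γ)⁻¹ * ((h : Γ) * (s * x * s⁻¹) * (h : Γ)⁻¹) * (h : Γ)⁻¹⁻¹ := by rw [e1]
      rw [e3]
      group
    obtain ⟨g, hg, hgS⟩ := (fixed_class_core S G hnorm hcop hsolv (x : Γ) hx).1
    have hgG : g * (x : Γ) * g⁻¹ ∈ G := mul_mem (mul_mem hg x.2) (inv_mem hg)
    have hgC : g * (x : Γ) * g⁻¹ ∈ C := by
      rw [hC]
      exact Subgroup.mem_inf.2 ⟨hgG, hgS⟩
    have hmk : ConjClasses.mk (Subgroup.inclusion hCG ⟨g * (x : Γ) * g⁻¹, hgC⟩) =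
        ConjClasses.mk x := by
      rw [ConjClasses.mk_eq_mk_iff_isConj, isConj_iff]
      refine ⟨⟨g⁻¹, inv_mem hg⟩, ?_⟩
      apply Subtype.ext
      show g⁻¹ * (g * (x : Γ) * g⁻¹) * g⁻¹⁻¹ = x
      group
    -- the class of `g x g⁻¹` in `C` is real
    have hrealC : IsConj (⟨g * (x : Γ) * g⁻¹, hgC⟩ : C) (⟨g * (x : Γ) * g⁻¹, hgC⟩ : C)⁻¹ := by
      have h1 := hKr (Subgroup.inclusion hCG ⟨g * (x : Γ) * g⁻¹, hgC⟩) hmk
      obtain ⟨h, hh⟩ := isConj_iff.1 h1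
      have e1 : (h : Γ) * (g * (x : Γ) * g⁻¹) * (h : Γ)⁻¹ = (g * (x : Γ) * g⁻¹)⁻¹ :=
        congrArg Subtype.val hh
      obtain ⟨k, hk, hkc⟩ := (fixed_class_core S G hnorm hcop hsolv (g * (x : Γ) * g⁻¹)
        (hfixx _ hgC)).2 (g * (x : Γ) * g⁻¹) (g * (x : Γ) * g⁻¹)⁻¹
        ⟨1, one_mem G, by simp⟩ ⟨h, h.2, e1.symm⟩ hgS (inv_mem hgS)
      rw [← hC] at hk
      rw [isConj_iff]
      exact ⟨⟨k, hk⟩, Subtype.ext hkc⟩
    refine ⟨⟨ConjClasses.mk ⟨g * (x : Γ) * g⁻¹, hgC⟩, ?_⟩, ?_⟩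
    · intro k hk
      exact isConj_real_of_isConj (ConjClasses.mk_eq_mk_iff_isConj.1 hk).symm hrealC
    · apply Subtype.ext
      exact hmk

end Classes

end Cfsg.Agent.Lib.Helper2.GlReal
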