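import Mathlib
import Cfsg.Agent.Lib.Helper15.IP.Defs
import Cfsg.Agent.Lib.Helper20.CD3Tools

/-!
# S4463 farm (helper15), SPARE of leaf L12 (helper2)

`G/K` nonabelian, `ψ ∈ Irr(K)`: then `2 ψ(1) ≤ b`. Take `χ ∈ Irr(G)` over `ψ`; the degree ratio
`χ(1)/ψ(1)` is an integer `r`. If `r ≥ 2` we are done. If `r = 1` then `χ|_K = ψ` and by Gallagher
`β χ ∈ Irr(G)` for a nonlinear `β ∈ Irr(G/K)`, of degree `β(1) ψ(1) ≥ 2 ψ(1)`.
-/

set_option autoImplicit false

namespace Cfsg.Agent.Lib.Helper2.IPL12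

open Cfsg Cfsg.Agent.Lib.Helper2 Cfsg.Agent.Lib.Helper15.IP Cfsg.Agent.Lib.Helper20.CD3
open scoped commutatorElement

universe u

variable {G : Type u} [Group G]

theorem degLE_half [Finite G] {b : ℕ} (hG : DegLE G b) (K : Subgroup G) [K.Normal]
    (hna : ¬ ∀ a b : G ⧸ K, a * b = b * a) : DegLE ↥K (b / 2) := by
  classical
  have : Fintype G := Fintype.ofFinite G
  have : Fintype K := Fintype.ofFinite K
  intro ψ
  -- a nonlinear irreducible character of `G ⧸ K`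
  have h1 : ¬ ∀ β : IrrCharacter (G ⧸ K), (β : G ⧸ K → ℂ) 1 = 1 :=
    fun h => hna (comm_iff_forall_irr_degree_one.mpr h)
  push Not at h1
  obtain ⟨β, hβ⟩ := h1
  obtain ⟨βt, hβt, hβtv⟩ := exists_inflation K β
  set f := charDegree (β : G ⧸ K → ℂ) with hf
  have hf1 : f ≠ 1 := by
    intro h
    apply hβ
    rw [TwoDeg.apply_one_eq_charDegree β, ← hf, h]
    simp
  have hfpos : 0 < f := Cfsg.Agent.Lib.Helper25.irr_degree_pos β.2
  have hf2 : 2 ≤ f := by omega
  -- a character of `G` over `ψ`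
  obtain ⟨χ, hχ⟩ := Cfsg.Agent.Lib.Helper7.exists_irr_over K ψ
  obtain ⟨r, d2, hd2, hbd, hr⟩ := DegreeRatio.main K (χ : G → ℂ) χ.2 (ψ : K → ℂ) ψ.2 hχ
  have hψd : charDegree (ψ : K → ℂ) = d2 := ThompsonDeg.charDegree_eq hd2
  have hχd : charDegree (χ : G → ℂ) = r * d2 := ThompsonDeg.charDegree_eq hbd
  have hχpos : 0 < charDegree (χ : G → ℂ) := Cfsg.Agent.Lib.Helper25.irr_degree_pos χ.2
  have hχle : charDegree (χ : G → ℂ) ≤ b := hG χ
  rw [Nat.le_div_iff_mul_le (by norm_num : 0 < 2), hψd]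
  rcases Nat.lt_or_ge r 2 with hr2 | hr2
  · -- `r = 1`: `χ` extends `ψ`
    have hr1 : r = 1 := by
      rcases Nat.eq_zero_or_pos r with h0 | h0
      · rw [hχd, h0, zero_mul] at hχpos
        exact absurd hχpos (lt_irrefl 0)
      · omega
    have hθdeg : charDegree (ψ : K → ℂ) = charDegree (χ : G → ℂ) := by
      rw [hψd, hχd, hr1, one_mul]
    have hres := restrict_eq_of_degree_eq K χ ψ hχ hθdeg
    have hηN : IsIrrCharacter K (fun k : K => (χ : G → ℂ) k) := by rw [hres]; exact ψ.2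
    have hprod := gallagher_mul K χ.2 hηN βt.2 (fun x hx => by
      rw [hβtv x, hβtv 1, (QuotientGroup.eq_one_iff x).mpr hx, QuotientGroup.mk_one])
    have hdegprod : charDegree ((βt : G → ℂ) * (χ : G → ℂ)) = f * d2 := by
      apply ThompsonDeg.charDegree_eq
      rw [Pi.mul_apply, TwoDeg.apply_one_eq_charDegree βt, TwoDeg.apply_one_eq_charDegree χ, hβt,
        hχd, hr1, one_mul]
      push_cast
      rfl
    have hle := hG ⟨_, hprod⟩
    rw [show charDegree ((⟨_, hprod⟩ : IrrCharacter G) : G → ℂ) = f * d2 from hdegprod] at hle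
    calc d2 * 2 = 2 * d2 := mul_comm _ _
      _ ≤ f * d2 := Nat.mul_le_mul_right d2 hf2
      _ ≤ b := hle
  · calc d2 * 2 = 2 * d2 := mul_comm _ _
      _ ≤ r * d2 := Nat.mul_le_mul_right d2 hr2
      _ = charDegree (χ : G → ℂ) := hχd.symm
      _ ≤ b := hχle

end Cfsg.Agent.Lib.Helper2.IPL12
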