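import Mathlib
import Cfsg.Agent.Lib.Helper2.RelChar
import Cfsg.Agent.Lib.Helper11.Clifford3

/-!
# Invariant characters over invariant characters (helper2 library; Isaacs 13.28)

If `S` normalises `N ⊴ G`, `(|G : N|, |S|) = 1`, `G / N` is solvable and `θ ∈ Irr(N)` is
`S`-invariant, then some `S`-invariant irreducible character of `G` lies over `θ`.
-/

set_option autoImplicit false
set_option linter.unusedSectionVars false
set_option linter.style.haveILetI false
set_option linter.unusedVariables false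

namespace Cfsg.Agent.Lib.Helper2.InvOver

open Cfsg Cfsg.Agent.Lib Cfsg.Agent.Lib.Helper2 Cfsg.Agent.Lib.Helper2.GlPG
  Cfsg.Agent.Lib.Helper2.GlSolv Cfsg.Agent.Lib.Helper2.Rel
open scoped ComplexConjugate

section Averaging

/-- Coprime averaging: if a finite group `A` of automorphisms moves `χ` only by linear characters
trivial on `N`, these being determined by their effect on `χ`, and `|A|` is coprime to `|K : N|`,
then some twist of `χ` is `A`-invariant. -/
theorem exists_invariant_twist {K : Type*} [Group K] [Finite K] (N : Subgroup K) [N.Normal]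
    {A : Type*} [Group A] [Fintype A] (ρ : A → K ≃* K)
    (hρ : ∀ a b k, ρ (a * b) k = ρ a (ρ b k))
    (hρN : ∀ a, ∀ n ∈ N, ρ a n ∈ N)
    (hcop : (Fintype.card A).Coprime N.index)
    (χ : K → ℂ)
    (hex : ∀ a, ∃ c : K →* ℂˣ, (∀ n ∈ N, c n = 1) ∧
      ∀ k, χ (ρ a k) = ((c k : ℂˣ) : ℂ) * χ k)
    (huniq : ∀ c : K →* ℂˣ, (∀ n ∈ N, c n = 1) →
      (∀ k, ((c k : ℂˣ) : ℂ) * χ k = χ k) → c = 1) :
    ∃ β : K →* ℂˣ, (∀ n ∈ N, β n = 1) ∧
      ∀ a k, ((β (ρ a k) : ℂˣ) : ℂ) * χ (ρ a k) = ((β k : ℂˣ) : ℂ) * χ k := by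
  classical
  choose c hcN hc using hex
  have hcoc : ∀ a b k, c (a * b) k = c a (ρ b k) * c b k := by
    intro a b
    have h := huniq ((c (a * b))⁻¹ * (((c a).comp (ρ b).toMonoidHom) * c b)) ?_ ?_
    · intro k
      have h1 := DFunLike.congr_fun h k
      simp only [MonoidHom.mul_apply, MonoidHom.inv_apply, MonoidHom.comp_apply,
        MulEquiv.coe_toMonoidHom, MonoidHom.one_apply] at h1
      exact inv_mul_eq_one.1 h1
    · intro n hn
      simp only [MonoidHom.mul_apply, MonoidHom.inv_apply, MonoidHom.comp_apply,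
        MulEquiv.coe_toMonoidHom]
      rw [hcN (a * b) n hn, hcN a _ (hρN b n hn), hcN b n hn]
      simp
    · intro k
      have e1 := hc (a * b) k
      rw [hρ, hc a (ρ b k), hc b k] at e1
      simp only [MonoidHom.mul_apply, MonoidHom.inv_apply, MonoidHom.comp_apply,
        MulEquiv.coe_toMonoidHom, Units.val_mul, Units.val_inv_eq_inv_val]
      rw [mul_assoc, mul_assoc, e1, inv_mul_cancel_left₀ (Units.ne_zero _)]
  obtain ⟨d, hd0⟩ : ∃ d : K →* ℂˣ, d = ∏ a, c a := ⟨_, rfl⟩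
  have hdk : ∀ k, d k = ∏ a, c a k := by
    intro k
    rw [hd0]
    exact MonoidHom.finsetProd_apply _ _ _
  have hd : ∀ b k, (c b k) ^ (Fintype.card A) = d k * (d (ρ b k))⁻¹ := by
    intro b k
    have h1 : d k = ∏ a, c (a * b) k := by
      rw [hdk]
      exact (Equiv.prod_comp (Equiv.mulRight b) (fun a => c a k)).symm
    have h2 : ∏ a, c (a * b) k = d (ρ b k) * (c b k) ^ (Fintype.card A) := by
      simp_rw [hcoc]
      rw [Finset.prod_mul_distrib, Finset.prod_const, Finset.card_univ, ← hdk]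
    rw [h1, h2, mul_comm (d (ρ b k)), mul_inv_cancel_right]
  obtain ⟨u, v, huv⟩ := Nat.isCoprime_iff_coprime.2 hcop
  obtain ⟨β, hβ0⟩ : ∃ β : K →* ℂˣ, β = d ^ u := ⟨_, rfl⟩
  have hβk : ∀ k, β k = (d k) ^ u := by
    intro k
    rw [hβ0]
    rfl
  have hpow : ∀ b k, (c b k) ^ N.index = 1 := by
    intro b k
    rw [← map_pow]
    exact hcN b _ (Subgroup.pow_index_mem N k)
  have hcb : ∀ b k, c b k = β k * (β (ρ b k))⁻¹ := by
    intro b k
    calc c b k = (c b k) ^ (1 : ℤ) := (zpow_one _).symm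
      _ = (c b k) ^ (u * (Fintype.card A : ℤ) + v * (N.index : ℤ)) := by rw [huv]
      _ = ((c b k) ^ (Fintype.card A)) ^ u * ((c b k) ^ N.index) ^ v := by
          rw [zpow_add, mul_comm u, mul_comm v, zpow_mul, zpow_mul, zpow_natCast, zpow_natCast]
      _ = (d k * (d (ρ b k))⁻¹) ^ u := by rw [hd, hpow, one_zpow, mul_one]
      _ = β k * (β (ρ b k))⁻¹ := by rw [mul_zpow, inv_zpow, hβk, hβk]
  refine ⟨β, ?_, ?_⟩
  · intro n hn
    rw [hβk, hdk, Finset.prod_eq_one (fun a _ => hcN a n hn), one_zpow]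
  · intro a k
    rw [hc a k, hcb a k, Units.val_mul, Units.val_inv_eq_inv_val]
    have hx : ((β (ρ a k) : ℂˣ) : ℂ) ≠ 0 := Units.ne_zero _
    calc ((β (ρ a k) : ℂˣ) : ℂ) * (((β k : ℂˣ) : ℂ) * ((β (ρ a k) : ℂˣ) : ℂ)⁻¹ * χ k)
        = (((β (ρ a k) : ℂˣ) : ℂ) * ((β (ρ a k) : ℂˣ) : ℂ)⁻¹) * (((β k : ℂˣ) : ℂ) * χ k) := by
          ring
      _ = ((β k : ℂˣ) : ℂ) * χ k := by rw [mul_inv_cancel₀ hx, one_mul]

end Averaging

section Solv

variable {Γ : Type*} [Group Γ]

/-- `G / N` is solvable (instance-free packaging). -/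
def SolvQ (N G : Subgroup Γ) : Prop :=
  ∃ _ : (N.subgroupOf G).Normal, Group.IsSolvable (↥G ⧸ N.subgroupOf G)

theorem solvQ_sub {N T G : Subgroup Γ} (hTG : T ≤ G) (hT : (N.subgroupOf T).Normal)
    (h : SolvQ N G) : SolvQ N T := by
  obtain ⟨hn, hs⟩ := h
  refine ⟨hT, ?_⟩
  have hle : N.subgroupOf T ≤ (N.subgroupOf G).comap (Subgroup.inclusion hTG) := by
    intro x hx
    exact Subgroup.mem_comap.2 (Subgroup.mem_subgroupOf.2 (Subgroup.mem_subgroupOf.1 hx))
  apply Group.isSolvable_of_isSolvable_injective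
    (f := QuotientGroup.map (N.subgroupOf T) (N.subgroupOf G) (Subgroup.inclusion hTG) hle)
  rw [injective_iff_map_eq_one]
  intro q hq
  induction q using QuotientGroup.induction_on with
  | H t =>
    rw [QuotientGroup.map_mk] at hq
    rw [QuotientGroup.eq_one_iff] at hq ⊢
    exact Subgroup.mem_subgroupOf.2 (Subgroup.mem_subgroupOf.1 hq)

theorem solvQ_quot {N M G : Subgroup Γ} (hNM : N ≤ M) (hM : (M.subgroupOf G).Normal)
    (h : SolvQ N G) : SolvQ M G := by
  obtain ⟨hn, hs⟩ := h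
  refine ⟨hM, ?_⟩
  have hle : N.subgroupOf G ≤ (M.subgroupOf G).comap (MonoidHom.id ↥G) := by
    intro x hx
    exact Subgroup.mem_comap.2 (Subgroup.mem_subgroupOf.2 (hNM (Subgroup.mem_subgroupOf.1 hx)))
  apply Group.isSolvable_of_surjective
    (f := QuotientGroup.map (N.subgroupOf G) (M.subgroupOf G) (MonoidHom.id ↥G) hle)
  intro q
  induction q using QuotientGroup.induction_on with
  | H g => exact ⟨QuotientGroup.mk g, QuotientGroup.map_mk _ _ _ _ _⟩

theorem solvQ_commutator_ne {N G : Subgroup Γ} (hNG : N ≤ G) (hne : N ≠ G) (h : SolvQ N G) :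
    N ⊔ ⁅G, G⁆ ≠ G := by
  obtain ⟨hn, hs⟩ := h
  intro heq
  obtain ⟨g, hgG, hgN⟩ := SetLike.exists_of_lt (lt_of_le_of_ne hNG hne)
  haveI : Nontrivial (↥G ⧸ N.subgroupOf G) := by
    refine ⟨⟨QuotientGroup.mk ⟨g, hgG⟩, 1, ?_⟩⟩
    intro h1
    exact hgN (Subgroup.mem_subgroupOf.1 ((QuotientGroup.eq_one_iff _).1 h1))
  have hlt := Group.IsSolvable.commutator_lt_top_of_nontrivial (↥G ⧸ N.subgroupOf G)
  apply hlt.ne
  have hcle : ⁅G, G⁆ ≤ G := Subgroup.commutator_le.2 (fun a ha b hb => by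
    rw [commutatorElement_def]
    exact mul_mem (mul_mem (mul_mem ha hb) (inv_mem ha)) (inv_mem hb))
  have h1 : N.subgroupOf G ⊔ commutator ↥G = ⊤ := by
    have e1 : (⁅G, G⁆ : Subgroup Γ).subgroupOf G = commutator ↥G := by
      rw [← Subgroup.map_subtype_commutator]
      exact Subgroup.comap_map_eq_self_of_injective G.subtype_injective _
    rw [← e1, ← Subgroup.subgroupOf_sup hNG hcle, heq, Subgroup.subgroupOf_self]
  have h2 := congrArg (Subgroup.map (QuotientGroup.mk' (N.subgroupOf G))) h1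
  rw [Subgroup.map_sup, QuotientGroup.map_mk'_self, bot_sup_eq,
    Subgroup.map_top_of_surjective _ (QuotientGroup.mk'_surjective _)] at h2
  rw [← h2]
  show commutator (↥G ⧸ N.subgroupOf G) = Subgroup.map _ ⁅(⊤ : Subgroup ↥G), ⊤⁆
  rw [Subgroup.map_commutator, Subgroup.map_top_of_surjective _ (QuotientGroup.mk'_surjective _)]
  rfl

theorem relIndex_lt_left {N M G : Subgroup Γ} [Finite Γ] (hNM : N ≤ M) (hMG : M ≤ G)
    (hne : M ≠ G) : N.relIndex M < N.relIndex G := by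
  rw [← Subgroup.relIndex_mul_relIndex N M G hNM hMG]
  have h0 : 0 < N.relIndex M :=
    Nat.pos_of_ne_zero (Subgroup.index_ne_zero_of_finite (H := N.subgroupOf M))
  have h1 : M.relIndex G ≠ 1 := fun h => hne (le_antisymm hMG (Subgroup.relIndex_eq_one.1 h))
  have h2 : M.relIndex G ≠ 0 := Subgroup.index_ne_zero_of_finite (H := M.subgroupOf G)
  exact lt_mul_of_one_lt_right h0 (by omega)

theorem relIndex_lt_right {N M G : Subgroup Γ} [Finite Γ] (hNM : N ≤ M) (hMG : M ≤ G)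
    (hne : M ≠ N) : M.relIndex G < N.relIndex G := by
  rw [← Subgroup.relIndex_mul_relIndex N M G hNM hMG]
  have h0 : 0 < M.relIndex G :=
    Nat.pos_of_ne_zero (Subgroup.index_ne_zero_of_finite (H := M.subgroupOf G))
  have h1 : N.relIndex M ≠ 1 := fun h => hne (le_antisymm (Subgroup.relIndex_eq_one.1 h) hNM)
  have h2 : N.relIndex M ≠ 0 := Subgroup.index_ne_zero_of_finite (H := N.subgroupOf M)
  rw [mul_comm]
  exact lt_mul_of_one_lt_right h0 (by omega)

end Solv

section Normalizers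

variable {Γ : Type*} [Group Γ] [Fintype Γ]

theorem normalizer_sup {A B : Subgroup Γ} {z : Γ} (hA : z ∈ Subgroup.normalizer (A : Set Γ))
    (hB : z ∈ Subgroup.normalizer (B : Set Γ)) : z ∈ Subgroup.normalizer ((A ⊔ B : Subgroup Γ) : Set Γ) := by
  have key : ∀ w, w ∈ Subgroup.normalizer (A : Set Γ) → w ∈ Subgroup.normalizer (B : Set Γ) →
      ∀ h ∈ A ⊔ B, w * h * w⁻¹ ∈ A ⊔ B := by
    intro w hwA hwB
    have e : A ⊔ B = Subgroup.closure ((A : Set Γ) ∪ B) := by
      rw [Subgroup.closure_union, Subgroup.closure_eq, Subgroup.closure_eq]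
    rw [e]
    apply closure_conj_mem
    rintro x (hx | hx)
    · exact Or.inl (conj_mem_of_mem_normalizer hwA hx)
    · exact Or.inr (conj_mem_of_mem_normalizer hwB hx)
  apply mem_normalizer_of_conj_mem (key z hA hB)
  intro h hh
  have := key z⁻¹ (inv_mem hA) (inv_mem hB) h hh
  rwa [inv_inv] at this

theorem normalizer_commutator {G : Subgroup Γ} {z : Γ}
    (hz : z ∈ Subgroup.normalizer (G : Set Γ)) :
    z ∈ Subgroup.normalizer ((⁅G, G⁆ : Subgroup Γ) : Set Γ) := by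
  have key : ∀ w, w ∈ Subgroup.normalizer (G : Set Γ) → ∀ h ∈ ⁅G, G⁆, w * h * w⁻¹ ∈ ⁅G, G⁆ := by
    intro w hw
    rw [Subgroup.commutator_def]
    apply closure_conj_mem
    rintro x ⟨a, ha, b, hb, rfl⟩
    refine ⟨w * a * w⁻¹, conj_mem_of_mem_normalizer hw ha, w * b * w⁻¹,
      conj_mem_of_mem_normalizer hw hb, ?_⟩
    rw [commutatorElement_def, commutatorElement_def]
    group
  apply mem_normalizer_of_conj_mem (key z hz)
  intro h hh
  have := key z⁻¹ (inv_mem hz) h hh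
  rwa [inv_inv] at this

end Normalizers

section Twist

open Classical

variable {Γ : Type*} [Group Γ] [Fintype Γ] {N G : Subgroup Γ}

theorem cinn_res_cj_of_inv {H C : Subgroup Γ} (hCH : C ≤ H) (x : Γ)
    (hxH : x ∈ Subgroup.normalizer (H : Set Γ)) (hxC : x ∈ Subgroup.normalizer (C : Set Γ))
    (χ : H → ℂ) (ψ : C → ℂ) (hψ : InvUnder C x ψ) :
    cinn (res hCH (cj H x hxH χ)) ψ = cinn (res hCH χ) ψ := by
  rw [res_cj hCH x hxH hxC]
  have e : ψ = cj C x hxC ψ := ((invUnder_iff_cj_eq C x hxC ψ).1 hψ).symm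
  conv_lhs => rw [e]
  exact cinn_cj C x hxC _ _

/-- two irreducible characters over the same invariant `θ` have non-orthogonal restrictions. -/
theorem rel_restrict_inner_ne_zero (hNG : N ≤ G) (hGN : G ≤ Subgroup.normalizer (N : Set Γ))
    (χ χ' : IrrCharacter G) (θ : IrrCharacter N) (hinv : ∀ g ∈ G, InvUnder N g (θ : N → ℂ))
    (h1 : cinn (res hNG (χ : G → ℂ)) (θ : N → ℂ) ≠ 0)
    (h2 : cinn (res hNG (χ' : G → ℂ)) (θ : N → ℂ) ≠ 0) :
    cinn (res hNG (χ : G → ℂ)) (res hNG (χ' : G → ℂ)) ≠ 0 := by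
  haveI : Fintype N := Fintype.ofFinite _
  haveI : Fintype (IrrCharacter N) := Fintype.ofFinite _
  have hcf' : IsClassFunction N (res hNG (χ' : G → ℂ)) :=
    res_isClassFunction hNG (IrrCharacter.isClassFunction χ')
  have hexp := classFunction_expansion (res hNG (χ' : G → ℂ)) hcf'
  have key : classInner (res hNG (χ : G → ℂ)) (res hNG (χ' : G → ℂ)) =
      conj (classInner (res hNG (χ' : G → ℂ)) (θ : N → ℂ)) *
        classInner (res hNG (χ : G → ℂ)) (θ : N → ℂ) := by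
    conv_lhs => rw [hexp]
    rw [classInner_sum_right]
    have hterm : ∀ φ : IrrCharacter N, φ ≠ θ → classInner (res hNG (χ : G → ℂ))
        (classInner (res hNG (χ' : G → ℂ)) (φ : N → ℂ) • (φ : N → ℂ)) = 0 := by
      intro φ hφ
      rw [classInner_smul_right]
      have : classInner (res hNG (χ : G → ℂ)) (φ : N → ℂ) = 0 := by
        by_contra h
        exact hφ (rel_homogeneous hNG hGN χ θ hinv h1 φ (by rw [cinn_eq]; exact h))
      rw [this, mul_zero]
    rw [Finset.sum_eq_single θ (fun φ _ hφ => hterm φ hφ)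
      (fun h => absurd (Finset.mem_univ _) h), classInner_smul_right]
  rw [cinn_eq, key]
  apply mul_ne_zero
  · rw [Ne, map_eq_zero, ← cinn_eq]
    exact h2
  · rw [← cinn_eq]
    exact h1

/-- over an invariant `θ` with `G / N` abelian, the irreducible characters of `G` over `θ` are
twists of each other by linear characters of `G / N`. -/
theorem rel_twist (hNG : N ≤ G) (hGN : G ≤ Subgroup.normalizer (N : Set Γ))
    (hab : ∀ a ∈ G, ∀ b ∈ G, a * b * a⁻¹ * b⁻¹ ∈ N)
    (χ χ' : IrrCharacter G) (θ : IrrCharacter N) (hinv : ∀ g ∈ G, InvUnder N g (θ : N → ℂ))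
    (h1 : cinn (res hNG (χ : G → ℂ)) (θ : N → ℂ) ≠ 0)
    (h2 : cinn (res hNG (χ' : G → ℂ)) (θ : N → ℂ) ≠ 0) :
    ∃ lam : ↥G →* ℂˣ, (∀ n ∈ N.subgroupOf G, lam n = 1) ∧
      (χ' : G → ℂ) = fun k => ((lam k : ℂˣ) : ℂ) * (χ : G → ℂ) k := by
  haveI : (N.subgroupOf G).Normal := (Subgroup.normal_subgroupOf_iff_le_normalizer hNG).2 hGN
  haveI : Fintype G := Fintype.ofFinite _
  haveI : Fintype (N.subgroupOf G) := Fintype.ofFinite _
  have hab' : ∀ x y : ↥G, x * y * x⁻¹ * y⁻¹ ∈ N.subgroupOf G := fun x y =>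
    Subgroup.mem_subgroupOf.2 (hab x x.2 y y.2)
  have h : classInner (fun n : N.subgroupOf G => (χ : G → ℂ) n)
      (fun n : N.subgroupOf G => (χ' : G → ℂ) n) ≠ 0 := by
    have e1 : (fun n : N.subgroupOf G => (χ : G → ℂ) n) = pb G (res hNG (χ : G → ℂ)) := rfl
    have e2 : (fun n : N.subgroupOf G => (χ' : G → ℂ) n) = pb G (res hNG (χ' : G → ℂ)) := rfl
    rw [e1, e2, classInner_pb_cinn hNG]
    exact rel_restrict_inner_ne_zero hNG hGN χ χ' θ hinv h1 h2
  exact Helper11.exists_twist_eq (N.subgroupOf G) hab' χ.2 χ'.2 h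

/-- The abelian step of Isaacs 13.28: either an invariant character over `θ` exists, or there is
an invariant normal subgroup strictly in between. -/
theorem abelian_step (G S N : Subgroup Γ) (hSG : S ≤ Subgroup.normalizer (G : Set Γ))
    (hNG : N ≤ G) (hGN : G ≤ Subgroup.normalizer (N : Set Γ))
    (hSN : S ≤ Subgroup.normalizer (N : Set Γ))
    (hcop : (N.relIndex G).Coprime (Nat.card S))
    (hab : ∀ a ∈ G, ∀ b ∈ G, a * b * a⁻¹ * b⁻¹ ∈ N)
    (θ : IrrCharacter N) (hθG : ∀ g ∈ G, InvUnder N g (θ : N → ℂ))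
    (hθS : ∀ s ∈ S, InvUnder N s (θ : N → ℂ)) :
    (∃ χ : IrrCharacter G, cinn (res hNG (χ : G → ℂ)) (θ : N → ℂ) ≠ 0 ∧
      ∀ s ∈ S, InvUnder G s (χ : G → ℂ)) ∨
    (∃ M : Subgroup Γ, N ≤ M ∧ M ≤ G ∧ M ≠ N ∧ M ≠ G ∧
      G ≤ Subgroup.normalizer (M : Set Γ) ∧ S ≤ Subgroup.normalizer (M : Set Γ)) := by
  haveI hNn : (N.subgroupOf G).Normal := (Subgroup.normal_subgroupOf_iff_le_normalizer hNG).2 hGN
  haveI : Fintype G := Fintype.ofFinite _
  obtain ⟨χ, hχ⟩ := rel_exists_over hNG θ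
  have hover : ∀ s (hs : s ∈ S),
      cinn (res hNG (cjI G s (hSG hs) χ : G → ℂ)) (θ : N → ℂ) ≠ 0 := by
    intro s hs
    show cinn (res hNG (cj G s (hSG hs) (χ : G → ℂ))) (θ : N → ℂ) ≠ 0
    rw [cinn_res_cj_of_inv hNG s (hSG hs) (hSN hs) _ _ (hθS s hs)]
    exact hχ
  have htw : ∀ s (hs : s ∈ S), ∃ lam : ↥G →* ℂˣ, (∀ n ∈ N.subgroupOf G, lam n = 1) ∧
      ∀ k : G, (χ : G → ℂ) (conjE G s (hSG hs) k) = ((lam k : ℂˣ) : ℂ) * (χ : G → ℂ) k := by
    intro s hs
    obtain ⟨lam, hl1, hl2⟩ := rel_twist hNG hGN hab χ (cjI G s (hSG hs) χ) θ hθG hχ (hover s hs)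
    exact ⟨lam, hl1, fun k => congrFun hl2 k⟩
  obtain ⟨V, hV⟩ : ∃ V : Set Γ,
      V = {x | x ∈ N ∨ ∃ h : x ∈ G, (χ : G → ℂ) ⟨x, h⟩ ≠ 0} := ⟨_, rfl⟩
  obtain ⟨M, hM⟩ : ∃ M : Subgroup Γ, M = Subgroup.closure V := ⟨_, rfl⟩
  have hVG : V ⊆ G := by
    rw [hV]
    rintro x (hx | ⟨hx, _⟩)
    · exact hNG hx
    · exact hx
  have hNM : N ≤ M := by
    rw [hM]
    intro x hx
    exact Subgroup.subset_closure (by rw [hV]; exact Or.inl hx)
  have hMG : M ≤ G := by
    rw [hM]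
    exact (Subgroup.closure_le G).2 hVG
  have hVconjG : ∀ y ∈ G, ∀ x ∈ V, y * x * y⁻¹ ∈ V := by
    intro y hy x hx
    rw [hV] at hx ⊢
    rcases hx with hx | ⟨hx, hx0⟩
    · exact Or.inl (conj_mem_of_mem_normalizer (hGN hy) hx)
    · right
      refine ⟨mul_mem (mul_mem hy hx) (inv_mem hy), ?_⟩
      have h3 := IrrCharacter.isClassFunction χ ⟨x, hx⟩ ⟨y, hy⟩
      intro h0
      apply hx0
      rw [← h3]
      exact h0
  have hVconjS : ∀ y ∈ S, ∀ x ∈ V, y * x * y⁻¹ ∈ V := by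
    intro y hy x hx
    rw [hV] at hx ⊢
    rcases hx with hx | ⟨hx, hx0⟩
    · exact Or.inl (conj_mem_of_mem_normalizer (hSN hy) hx)
    · right
      refine ⟨conj_mem_of_mem_normalizer (hSG hy) hx, ?_⟩
      obtain ⟨lam, _, hl⟩ := htw y hy
      have h3 := hl ⟨x, hx⟩
      intro h0
      have h4 : (χ : G → ℂ) (conjE G y (hSG hy) ⟨x, hx⟩) = 0 := h0
      rw [h3] at h4
      rcases mul_eq_zero.1 h4 with h | h
      · exact Units.ne_zero _ h
      · exact hx0 h
  have hnormM : ∀ (U : Subgroup Γ), (∀ y ∈ U, ∀ x ∈ V, y * x * y⁻¹ ∈ V) →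
      U ≤ Subgroup.normalizer (M : Set Γ) := by
    intro U hU y hy
    rw [hM]
    apply mem_normalizer_of_conj_mem
    · exact closure_conj_mem (hU y hy)
    · have h3 := closure_conj_mem (hU y⁻¹ (inv_mem hy))
      intro h hh
      have := h3 h hh
      rwa [inv_inv] at this
  have hGM : G ≤ Subgroup.normalizer (M : Set Γ) := hnormM G hVconjG
  have hSM : S ≤ Subgroup.normalizer (M : Set Γ) := hnormM S hVconjS
  by_cases h1 : M = N
  · left
    have hvan : ∀ g : G, (g : Γ) ∉ N → (χ : G → ℂ) g = 0 := by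
      intro g hg
      by_contra h0
      apply hg
      rw [← h1, hM]
      exact Subgroup.subset_closure (by rw [hV]; exact Or.inr ⟨g.2, h0⟩)
    have huniq : ∀ χ' : IrrCharacter G, cinn (res hNG (χ' : G → ℂ)) (θ : N → ℂ) ≠ 0 →
        χ' = χ := by
      intro χ' hχ'
      obtain ⟨lam, hl1, hl2⟩ := rel_twist hNG hGN hab χ χ' θ hθG hχ hχ'
      apply Subtype.ext
      rw [hl2]
      funext k
      by_cases hk : (k : Γ) ∈ N
      · rw [hl1 k (Subgroup.mem_subgroupOf.2 hk), Units.val_one, one_mul]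
      · rw [hvan k hk, mul_zero]
    refine ⟨χ, hχ, fun s hs => ?_⟩
    exact (cjI_eq_self_iff G s (hSG hs) χ).1 (huniq _ (hover s hs))
  · by_cases h2 : M = G
    · left
      have huq : ∀ c : ↥G →* ℂˣ, (∀ n ∈ N.subgroupOf G, c n = 1) →
          (∀ k, ((c k : ℂˣ) : ℂ) * (χ : G → ℂ) k = (χ : G → ℂ) k) → c = 1 := by
        intro c hc1 hc2
        have hVker : V ⊆ ((c.ker.map G.subtype : Subgroup Γ) : Set Γ) := by
          rw [hV]
          rintro x (hx | ⟨hx, hx0⟩)
          · exact Subgroup.mem_map.2 ⟨⟨x, hNG hx⟩,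
              MonoidHom.mem_ker.2 (hc1 _ (Subgroup.mem_subgroupOf.2 hx)), rfl⟩
          · refine Subgroup.mem_map.2 ⟨⟨x, hx⟩, MonoidHom.mem_ker.2 ?_, rfl⟩
            have h3 := hc2 ⟨x, hx⟩
            have h4 : (((c ⟨x, hx⟩ : ℂˣ) : ℂ) - 1) * (χ : G → ℂ) ⟨x, hx⟩ = 0 := by
              rw [sub_mul, h3, one_mul, sub_self]
            rcases mul_eq_zero.1 h4 with h | h
            · exact Units.ext (sub_eq_zero.1 h)
            · exact absurd h hx0
        have hle0 : M ≤ c.ker.map G.subtype := by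
          rw [hM]
          exact (Subgroup.closure_le _).2 hVker
        have hle : G ≤ c.ker.map G.subtype := by
          intro x hx
          have hxM : x ∈ M := by rw [h2]; exact hx
          exact hle0 hxM
        ext k
        obtain ⟨k', hk', hkk⟩ := Subgroup.mem_map.1 (hle k.2)
        have hk2 : k' = k := Subtype.ext hkk
        rw [← hk2, MonoidHom.mem_ker.1 hk']
        rfl
      haveI : Fintype S := Fintype.ofFinite _
      have hρ : ∀ (a b : S) (k : G), conjE G ((a * b : S) : Γ) (hSG (a * b).2) k =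
          conjE G (a : Γ) (hSG a.2) (conjE G (b : Γ) (hSG b.2) k) := by
        intro a b k
        apply Subtype.ext
        rw [conjE_coe, conjE_coe, conjE_coe, Subgroup.coe_mul]
        group
      have hρN : ∀ (a : S), ∀ n ∈ N.subgroupOf G,
          conjE G (a : Γ) (hSG a.2) n ∈ N.subgroupOf G := by
        intro a n hn
        exact Subgroup.mem_subgroupOf.2
          (conj_mem_of_mem_normalizer (hSN a.2) (Subgroup.mem_subgroupOf.1 hn))
      have hcop' : (Fintype.card S).Coprime (N.subgroupOf G).index := by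
        rw [← Nat.card_eq_fintype_card]
        exact hcop.symm
      obtain ⟨β, hβ1, hβ2⟩ := exists_invariant_twist (N.subgroupOf G)
        (fun s : S => conjE G (s : Γ) (hSG s.2)) hρ hρN hcop' (χ : G → ℂ)
        (fun a => htw a a.2) huq
      have hirr : IsIrrCharacter G (fun k => ((β k : ℂˣ) : ℂ) * (χ : G → ℂ) k) :=
        Helper11.isIrrCharacter_twist β χ.2
      refine ⟨⟨_, hirr⟩, ?_, ?_⟩
      · have e : res hNG (fun k : G => ((β k : ℂˣ) : ℂ) * (χ : G → ℂ) k) =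
            res hNG (χ : G → ℂ) := by
          funext n
          show ((β ⟨n, hNG n.2⟩ : ℂˣ) : ℂ) * (χ : G → ℂ) ⟨n, hNG n.2⟩ =
            (χ : G → ℂ) ⟨n, hNG n.2⟩
          rw [hβ1 _ (Subgroup.mem_subgroupOf.2 n.2), Units.val_one, one_mul]
        show cinn (res hNG (fun k : G => ((β k : ℂˣ) : ℂ) * (χ : G → ℂ) k)) (θ : N → ℂ) ≠ 0
        rw [e]
        exact hχ
      · intro s hs g g' hg
        have hg2 : g' = conjE G s (hSG hs) g := Subtype.ext hg
        rw [hg2]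
        exact hβ2 ⟨s, hs⟩ g
    · right
      exact ⟨M, hNM, hMG, h1, h2, hGM, hSM⟩

/-- Isaacs 13.28. -/
theorem exists_inv_over : ∀ (k : ℕ) (G N S : Subgroup Γ), N.relIndex G = k →
    ∀ (hNG : N ≤ G), G ≤ Subgroup.normalizer (N : Set Γ) →
    S ≤ Subgroup.normalizer (G : Set Γ) → S ≤ Subgroup.normalizer (N : Set Γ) →
    (N.relIndex G).Coprime (Nat.card S) → SolvQ N G →
    ∀ θ : IrrCharacter N, (∀ s ∈ S, InvUnder N s (θ : N → ℂ)) →
    ∃ χ : IrrCharacter G, cinn (res hNG (χ : G → ℂ)) (θ : N → ℂ) ≠ 0 ∧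
      ∀ s ∈ S, InvUnder G s (χ : G → ℂ) := by
  intro k
  induction k using Nat.strong_induction_on with
  | _ k ih =>
  intro G N S hk hNG hGN hSG hSN hcop hsolv θ hθS
  have two_step : ∀ M : Subgroup Γ, N ≤ M → M ≤ G → M ≠ N → M ≠ G →
      G ≤ Subgroup.normalizer (M : Set Γ) → S ≤ Subgroup.normalizer (M : Set Γ) →
      ∃ χ : IrrCharacter G, cinn (res hNG (χ : G → ℂ)) (θ : N → ℂ) ≠ 0 ∧
        ∀ s ∈ S, InvUnder G s (χ : G → ℂ) := by
    intro M hNM hMG hMN hMG' hGM hSM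
    have hk1 : N.relIndex M < k := by rw [← hk]; exact relIndex_lt_left hNM hMG hMG'
    have hk2 : M.relIndex G < k := by rw [← hk]; exact relIndex_lt_right hNM hMG hMN
    have hmul := Subgroup.relIndex_mul_relIndex N M G hNM hMG
    have hcop1 : (N.relIndex M).Coprime (Nat.card S) :=
      Nat.Coprime.coprime_dvd_left (Dvd.intro _ hmul) hcop
    have hcop2 : (M.relIndex G).Coprime (Nat.card S) :=
      Nat.Coprime.coprime_dvd_left (Dvd.intro_left _ hmul) hcop
    have hMNn : M ≤ Subgroup.normalizer (N : Set Γ) := hMG.trans hGN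
    obtain ⟨ψ, hψθ, hψS⟩ := ih _ hk1 M N S rfl hNM hMNn hSM hSN hcop1
      (solvQ_sub hMG ((Subgroup.normal_subgroupOf_iff_le_normalizer hNM).2 hMNn) hsolv) θ hθS
    obtain ⟨χ, hχψ, hχS⟩ := ih _ hk2 G M S rfl hMG hGM hSG hSM hcop2
      (solvQ_quot hNM ((Subgroup.normal_subgroupOf_iff_le_normalizer hMG).2 hGM) hsolv) ψ hψS
    exact ⟨χ, cinn_res_ne_zero_trans hNM hMG χ ψ θ hχψ hψθ, hχS⟩
  by_cases hinvG : ∀ g ∈ G, InvUnder N g (θ : N → ℂ)
  · by_cases hGeqN : N = G
    · subst hGeqN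
      refine ⟨θ, ?_, hθS⟩
      have e : res hNG (θ : N → ℂ) = (θ : N → ℂ) := rfl
      rw [e]
      haveI := Fintype.ofFinite N
      rw [cinn_eq, classInner_irrCharacter_self]
      exact one_ne_zero
    · have hM₁ne := solvQ_commutator_ne hNG hGeqN hsolv
      have hcle : ⁅G, G⁆ ≤ G := Subgroup.commutator_le.2 (fun a ha b hb => by
        rw [commutatorElement_def]
        exact mul_mem (mul_mem (mul_mem ha hb) (inv_mem ha)) (inv_mem hb))
      by_cases hab : N ⊔ ⁅G, G⁆ = N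
      · have hab' : ∀ a ∈ G, ∀ b ∈ G, a * b * a⁻¹ * b⁻¹ ∈ N := by
          intro a ha b hb
          rw [← commutatorElement_def, ← hab]
          exact Subgroup.mem_sup_right (Subgroup.commutator_mem_commutator ha hb)
        rcases abelian_step G S N hSG hNG hGN hSN hcop hab' θ hinvG hθS with
          h | ⟨M, h1, h2, h3, h4, h5, h6⟩
        · exact h
        · exact two_step M h1 h2 h3 h4 h5 h6
      · apply two_step (N ⊔ ⁅G, G⁆) le_sup_left (sup_le hNG hcle) hab hM₁ne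
        · intro g hg
          exact normalizer_sup (hGN hg) (normalizer_commutator (Subgroup.le_normalizer hg))
        · intro s hs
          exact normalizer_sup (hSN hs) (normalizer_commutator (hSG hs))
  · obtain ⟨T, hT⟩ : ∃ T : Subgroup Γ, T = G ⊓ invSubgroup N (θ : N → ℂ) := ⟨_, rfl⟩
    have hcfθ : IsClassFunction N (θ : N → ℂ) := IrrCharacter.isClassFunction θ
    have hNT : N ≤ T := by rw [hT]; exact le_inf hNG (le_invSubgroup hcfθ)
    have hTG : T ≤ G := by rw [hT]; exact inf_le_left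
    have hTne : T ≠ G := by
      intro h
      apply hinvG
      intro g hg
      have h3 : g ∈ T := by rw [h]; exact hg
      rw [hT] at h3
      exact (Subgroup.mem_inf.1 h3).2.2
    have hTN : T ≤ Subgroup.normalizer (N : Set Γ) := hTG.trans hGN
    have hSI : S ≤ invSubgroup N (θ : N → ℂ) := fun s hs => ⟨hSN hs, hθS s hs⟩
    have hST : S ≤ Subgroup.normalizer (T : Set Γ) := by
      intro s hs
      have key : ∀ w ∈ S, ∀ t ∈ T, w * t * w⁻¹ ∈ T := by
        intro w hw t ht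
        rw [hT] at ht ⊢
        exact Subgroup.mem_inf.2 ⟨conj_mem_of_mem_normalizer (hSG hw) (Subgroup.mem_inf.1 ht).1,
          mul_mem (mul_mem (hSI hw) (Subgroup.mem_inf.1 ht).2) (inv_mem (hSI hw))⟩
      apply mem_normalizer_of_conj_mem (key s hs)
      intro t ht
      have := key s⁻¹ (inv_mem hs) t ht
      rwa [inv_inv] at this
    have hk1 : N.relIndex T < k := by rw [← hk]; exact relIndex_lt_left hNT hTG hTne
    have hmul := Subgroup.relIndex_mul_relIndex N T G hNT hTG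
    have hcop1 : (N.relIndex T).Coprime (Nat.card S) :=
      Nat.Coprime.coprime_dvd_left (Dvd.intro _ hmul) hcop
    obtain ⟨ψ, hψθ, hψS⟩ := ih _ hk1 T N S rfl hNT hTN hST hSN hcop1
      (solvQ_sub hTG ((Subgroup.normal_subgroupOf_iff_le_normalizer hNT).2 hTN) hsolv) θ hθS
    obtain ⟨χ, hχψ, huniq⟩ := rel_clifford_corr hNG hGN θ T hNT hTG
      (fun g hg h => by rw [hT]; exact Subgroup.mem_inf.2 ⟨hg, hGN hg, h⟩) ψ hψθ
    refine ⟨χ, cinn_res_ne_zero_trans hNT hTG χ ψ θ hχψ hψθ, fun s hs => ?_⟩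
    apply (cjI_eq_self_iff G s (hSG hs) χ).1
    apply huniq
    show cinn (res hTG (cj G s (hSG hs) (χ : G → ℂ))) (ψ : T → ℂ) ≠ 0
    rw [cinn_res_cj_of_inv hTG s (hSG hs) (hST hs) _ _ (hψS s hs)]
    exact hχψ

end Twist

end Cfsg.Agent.Lib.Helper2.InvOver
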