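import Mathlib
import Cfsg.Prelude.Def_Characters
import Cfsg.Agent.Lib.Helper2.Decomp
import Cfsg.Agent.Lib.Helper2.EquivOfChar
import Cfsg.Agent.Lib.Helper2.Orthogonality
import Cfsg.Agent.Lib.Helper2.CharBasic
import Cfsg.Agent.Lib.Helper2.Induction

/-!
# Representations over a subfield `K` of `ℂ` and their complex characters (helper2 library)

* `cchar τ` : the complex character of a `K`-representation `τ`
* `exists_complex_rep` : the complexification, with matrix entries in `K`
* `classInner_cchar` : inner products of such characters are dimensions of `Hom` spaces over `K`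
* `realizable_of_add` : the cancellation lemma: if `cchar U = χ + cchar U'` with `χ` a character
  then `χ` is the complex character of a `K`-representation.
-/

set_option autoImplicit false

universe u

namespace Cfsg.Agent.Lib.Helper2

namespace KRep

open Module
open scoped ComplexConjugate

variable {G : Type u} [Group G] {K : Type*} [Field K] [Algebra K ℂ]

section Basic

variable {W : Type*} [AddCommGroup W] [Module K W]

/-- the complex character of a `K`-representation -/
noncomputable def cchar (τ : Representation K G W) : G → ℂ :=
  fun g => algebraMap K ℂ (τ.character g)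

theorem cchar_apply (τ : Representation K G W) (g : G) :
    cchar τ g = algebraMap K ℂ (τ.character g) := rfl

variable [FiniteDimensional K W]

/-- the complexification of a `K`-representation, in matrix form -/
noncomputable def complexify (τ : Representation K G W) :
    Representation ℂ G (Fin (finrank K W) → ℂ) where
  toFun g := Matrix.toLin'
    ((LinearMap.toMatrix (Module.finBasis K W) (Module.finBasis K W) (τ g)).map (algebraMap K ℂ))
  map_one' := by
    rw [map_one]
    change Matrix.toLin' ((LinearMap.toMatrix _ _ (LinearMap.id : W →ₗ[K] W)).map _) = 1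
    rw [LinearMap.toMatrix_id, Matrix.map_one _ (map_zero _) (map_one _), Matrix.toLin'_one]
    rfl
  map_mul' a b := by
    rw [map_mul]
    change Matrix.toLin' ((LinearMap.toMatrix _ _ ((τ a) ∘ₗ (τ b))).map _) = _
    rw [LinearMap.toMatrix_comp _ (Module.finBasis K W), Matrix.map_mul, Matrix.toLin'_mul]
    rfl

theorem complexify_character (τ : Representation K G W) :
    (complexify τ).character = cchar τ := by
  funext g
  change LinearMap.trace ℂ _ (Matrix.toLin' _) = _
  rw [Matrix.trace_toLin'_eq, cchar_apply, ← AddMonoidHom.map_trace]
  congr 1
  exact (LinearMap.trace_eq_matrix_trace K (Module.finBasis K W) (τ g)).symm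

theorem complexify_entry (τ : Representation K G W) (g : G) (i j : Fin (finrank K W)) :
    LinearMap.toMatrix' (complexify τ g) i j ∈ (algebraMap K ℂ).range := by
  change LinearMap.toMatrix' (Matrix.toLin' _) i j ∈ _
  rw [LinearMap.toMatrix'_toLin']
  exact ⟨_, rfl⟩

theorem cchar_isCharacter (τ : Representation K G W) : Cfsg.IsCharacter G (cchar τ) :=
  ⟨_, complexify τ, complexify_character τ⟩

end Basic

section Inner

variable [Fintype G]
variable {W₁ W₂ : Type*} [AddCommGroup W₁] [Module K W₁] [FiniteDimensional K W₁]
  [AddCommGroup W₂] [Module K W₂] [FiniteDimensional K W₂]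

theorem card_ne_zero_K : (Nat.card G : K) ≠ 0 := by
  intro h
  have h1 := congrArg (algebraMap K ℂ) h
  rw [map_natCast, map_zero] at h1
  exact card_ne_zero_complex (G := G) h1

/-- inner products of complex characters of `K`-representations are `K`-dimensions of spaces of
intertwining maps -/
theorem classInner_cchar (τ₁ : Representation K G W₁) (τ₂ : Representation K G W₂) :
    Cfsg.classInner (cchar τ₂) (cchar τ₁) =
      (finrank K (Representation.IntertwiningMap τ₁ τ₂) : ℂ) := by
  haveI : Invertible (Nat.card G : K) := invertibleOfNonzero card_ne_zero_K
  have h1 := Representation.card_inv_mul_sum_char_mul_char_eq_finrank τ₁ τ₂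
  have h2 := congrArg (algebraMap K ℂ) h1
  rw [map_natCast, map_mul, map_inv₀, map_natCast, map_sum] at h2
  rw [← h2, classInner_def]
  congr 1
  apply Finset.sum_congr rfl
  intro g _
  rw [map_mul, cchar_apply, cchar_apply]
  congr 1
  -- conj of the complex character
  have h3 := char_inv (complexify τ₁) g
  rw [complexify_character] at h3
  exact h3.symm

end Inner

section Realizable

variable (K) in
/-- `ψ` is the complex character of a representation over `K` (on a space in the universe
of `G`) -/
def Realizable (ψ : G → ℂ) : Prop :=
  ∃ (W : Type u) (_ : AddCommGroup W) (_ : Module K W) (_ : FiniteDimensional K W)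
    (τ : Representation K G W), cchar τ = ψ

theorem realizable_zero : Realizable K (0 : G → ℂ) := by
  refine ⟨PUnit.{u+1}, inferInstance, inferInstance, inferInstance, 1, ?_⟩
  funext g
  rw [cchar_apply]
  have h1 : (1 : Representation K G PUnit.{u+1}).character g = 0 := by
    have h2 : (1 : Representation K G PUnit.{u+1}) g = 0 :=
      LinearMap.ext fun v => Subsingleton.elim _ _
    simp [Representation.character, h2]
  rw [h1, map_zero]
  rfl

theorem realizable_add {ψ₁ ψ₂ : G → ℂ} (h₁ : Realizable K ψ₁) (h₂ : Realizable K ψ₂) :
    Realizable K (ψ₁ + ψ₂) := by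
  obtain ⟨W₁, _, _, _, τ₁, rfl⟩ := h₁
  obtain ⟨W₂, _, _, _, τ₂, rfl⟩ := h₂
  refine ⟨W₁ × W₂, inferInstance, inferInstance, inferInstance, τ₁.prod τ₂, ?_⟩
  funext g
  rw [cchar_apply, char_prod, Pi.add_apply, map_add]
  rfl

theorem realizable_nsmul {ψ : G → ℂ} (h : Realizable K ψ) (n : ℕ) : Realizable K (n • ψ) := by
  induction n with
  | zero => rw [zero_smul]; exact realizable_zero
  | succ n ih => rw [succ_nsmul]; exact realizable_add ih h

end Realizable

section Cancel

variable [Finite G]

/-- **Cancellation**: if `cchar U = χ + cchar U'` with `χ` a character, then `χ` is realizable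
over `K`. -/
theorem realizable_of_add_aux : ∀ (n : ℕ) (U U' : Type u) [AddCommGroup U] [Module K U]
    [FiniteDimensional K U] [AddCommGroup U'] [Module K U'] [FiniteDimensional K U']
    (τ : Representation K G U) (τ' : Representation K G U') (χ : G → ℂ),
    finrank K U' = n → Cfsg.IsCharacter G χ → cchar τ = χ + cchar τ' → Realizable K χ := by
  classical
  haveI : Fintype G := Fintype.ofFinite G
  have hNZ : NeZero (Nat.card G : K) := ⟨card_ne_zero_K⟩
  intro n
  induction n using Nat.strong_induction_on with
  | _ n ih =>
  intro U U' _ _ _ _ _ _ τ τ' χ hn hχ hsum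
  rcases subsingleton_or_nontrivial U' with hU' | hU'
  · -- `cchar τ' = 0`
    have h0 : cchar τ' = 0 := by
      funext g
      rw [cchar_apply]
      have : τ' g = 0 := LinearMap.ext fun v => Subsingleton.elim _ _
      simp [Representation.character, this]
    rw [h0, add_zero] at hsum
    exact ⟨U, inferInstance, inferInstance, inferInstance, τ, hsum⟩
  · obtain ⟨S, S', hS, hc⟩ := exists_irreducible_isCompl τ'
    haveI := hS
    have hτ'dec : cchar τ' = cchar S.toRepresentation + cchar S'.toRepresentation := by
      funext g
      rw [Pi.add_apply, cchar_apply, cchar_apply, cchar_apply, ← map_add,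
        ← Representation.char_iso (prodEquivOfIsCompl S S' hc), char_prod]
      rfl
    -- a nonzero intertwining map `S → τ`
    have hfin : (finrank K (Representation.IntertwiningMap S.toRepresentation τ) : ℂ) ≠ 0 := by
      rw [← classInner_cchar, hsum, hτ'dec, classInner_add_left, classInner_add_left,
        classInner_cchar S.toRepresentation S.toRepresentation]
      obtain ⟨a, ha⟩ := classInner_isCharacter_nat hχ (cchar_isCharacter S.toRepresentation)
      obtain ⟨b, hb⟩ := classInner_isCharacter_nat (cchar_isCharacter S'.toRepresentation)
        (cchar_isCharacter S.toRepresentation)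
      rw [ha, hb]
      have hpos : 0 < finrank K (Representation.IntertwiningMap S.toRepresentation
          S.toRepresentation) := by
        rw [Module.finrank_pos_iff_exists_ne_zero (R := K)]
        refine ⟨Representation.IntertwiningMap.id _, ?_⟩
        intro h
        haveI : Nontrivial S.toSubmodule := nontrivial_of_isIrreducible S.toRepresentation
        obtain ⟨v, hv⟩ := exists_ne (0 : S.toSubmodule)
        have := congrArg (fun f : Representation.IntertwiningMap S.toRepresentation
          S.toRepresentation => f v) h
        exact hv this
      exact_mod_cast (by omega : a + (finrank K (Representation.IntertwiningMap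
        S.toRepresentation S.toRepresentation) + b) ≠ 0)
    have hpos : 0 < finrank K (Representation.IntertwiningMap S.toRepresentation τ) := by
      rcases Nat.eq_zero_or_pos
        (finrank K (Representation.IntertwiningMap S.toRepresentation τ)) with h | h
      · rw [h] at hfin; simp at hfin
      · exact h
    obtain ⟨f, hf⟩ := (Module.finrank_pos_iff_exists_ne_zero (R := K)).mp hpos
    have hinj : Function.Injective f :=
      (Representation.IsIrreducible.injective_or_eq_zero f).resolve_right hf
    let T := f.range
    obtain ⟨T', hT'⟩ := exists_isCompl T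
    have hcT : IsCompl T.toSubmodule T'.toSubmodule := by
      constructor
      · rw [disjoint_iff, ← Subrepresentation.toSubmodule_inf, hT'.inf_eq_bot]; rfl
      · rw [codisjoint_iff, ← Subrepresentation.toSubmodule_sup, hT'.sup_eq_top]; rfl
    have e1 : S.toRepresentation.Equiv T.toRepresentation := equivRangeOfInjective f hinj
    have hτdec : cchar τ = cchar T.toRepresentation + cchar T'.toRepresentation := by
      funext g
      rw [Pi.add_apply, cchar_apply, cchar_apply, cchar_apply, ← map_add,
        ← Representation.char_iso (prodEquivOfIsCompl T T' hcT), char_prod]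
      rfl
    have hST : cchar S.toRepresentation = cchar T.toRepresentation := by
      funext g
      rw [cchar_apply, cchar_apply, Representation.char_iso e1]
    have hchar' : cchar T'.toRepresentation = χ + cchar S'.toRepresentation := by
      have h1 : cchar T.toRepresentation + cchar T'.toRepresentation
          = χ + (cchar S.toRepresentation + cchar S'.toRepresentation) := by
        rw [← hτdec, hsum, hτ'dec]
      rw [hST] at h1
      have h2 : cchar T.toRepresentation + cchar T'.toRepresentation =
          cchar T.toRepresentation + (χ + cchar S'.toRepresentation) := by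
        rw [h1]; abel
      exact add_left_cancel h2
    have hSpos : 0 < finrank K S.toSubmodule := finrank_pos_of_isIrreducible S.toRepresentation
    have hdimS : finrank K S.toSubmodule + finrank K S'.toSubmodule = finrank K U' :=
      Submodule.finrank_add_eq_of_isCompl hc
    exact ih (finrank K S'.toSubmodule) (by omega) T'.toSubmodule S'.toSubmodule
      T'.toRepresentation S'.toRepresentation χ rfl hχ hchar'

theorem realizable_of_add {ψ ψ' χ : G → ℂ} (hψ : Realizable K ψ) (hψ' : Realizable K ψ')
    (hχ : Cfsg.IsCharacter G χ) (h : ψ = χ + ψ') : Realizable K χ := by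
  obtain ⟨U, _, _, _, τ, rfl⟩ := hψ
  obtain ⟨U', _, _, _, τ', rfl⟩ := hψ'
  exact realizable_of_add_aux _ U U' τ τ' χ rfl hχ h

end Cancel

end KRep

end Cfsg.Agent.Lib.Helper2
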