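import Mathlib
import Cfsg.Prelude.Def_Characters
import Cfsg.Agent.Lib.Helper2.KRep

/-!
# Induced representations over a subfield `K` of `ℂ` (helper2 library)

For `E ≤ G` and `lam : E →* Kˣ` the induced representation is realized on the functions
`φ : G → K` with `φ (h x) = lam h • φ x`, a direct summand of the right regular representation.
Its complex character is `indFun E lam`.
-/

set_option autoImplicit false

universe u

namespace Cfsg.Agent.Lib.Helper2

namespace KRep

open Module

variable {G : Type u} [Group G] [Fintype G] {K : Type*} [Field K]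

/-- the right regular representation on functions -/
def rightReg (K : Type*) [Field K] (G : Type u) [Group G] : Representation K G (G → K) where
  toFun g := LinearMap.funLeft K K (fun x => x * g)
  map_one' := by
    ext φ x
    simp [LinearMap.funLeft]
  map_mul' a b := by
    ext φ x
    simp [LinearMap.funLeft, mul_assoc]

omit [Fintype G] in
theorem rightReg_apply (g : G) (φ : G → K) (x : G) : rightReg K G g φ x = φ (x * g) := rfl

variable (E : Subgroup G) [Fintype E] (lam : E →* Kˣ)

/-- the projection onto the `lam`-isotypic functions -/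
noncomputable def proj : (G → K) →ₗ[K] (G → K) where
  toFun φ x := (Fintype.card E : K)⁻¹ * ∑ h : E, ((lam h)⁻¹ : Kˣ) * φ (h * x)
  map_add' φ ψ := by
    funext x
    simp only [Pi.add_apply, mul_add, Finset.sum_add_distrib]
  map_smul' c φ := by
    funext x
    simp only [Pi.smul_apply, smul_eq_mul, RingHom.id_apply, Finset.mul_sum]
    apply Finset.sum_congr rfl
    intro h _
    ring

omit [Fintype G] in
theorem proj_apply (φ : G → K) (x : G) :
    proj E lam φ x = (Fintype.card E : K)⁻¹ * ∑ h : E, ((lam h)⁻¹ : Kˣ) * φ (h * x) := rfl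

omit [Fintype G] in
theorem proj_comm (g : G) : proj E lam ∘ₗ rightReg K G g = rightReg K G g ∘ₗ proj E lam := by
  ext φ x
  simp only [LinearMap.comp_apply, proj_apply, rightReg_apply, mul_assoc]

variable [CharZero K]

omit [Fintype G] in
theorem proj_idem : proj E lam ∘ₗ proj E lam = proj E lam := by
  ext φ x
  simp only [LinearMap.comp_apply]
  rw [proj_apply]
  have hne : (Fintype.card E : K) ≠ 0 := by
    exact_mod_cast Fintype.card_ne_zero
  have h1 : ∀ h : E, ((lam h)⁻¹ : Kˣ) * proj E lam φ ((h : G) * x) =
      (Fintype.card E : K)⁻¹ * ∑ k : E, ((lam k)⁻¹ : Kˣ) * φ (k * x) := by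
    intro h
    rw [proj_apply]
    calc (((lam h)⁻¹ : Kˣ) : K) * ((Fintype.card E : K)⁻¹ *
          ∑ k : E, ((lam k)⁻¹ : Kˣ) * φ (k * ((h : G) * x)))
        = (Fintype.card E : K)⁻¹ *
          ∑ k : E, (((lam (k * h))⁻¹ : Kˣ) : K) * φ (((k * h : E) : G) * x) := by
          rw [mul_left_comm, Finset.mul_sum]
          congr 1
          apply Finset.sum_congr rfl
          intro k _
          rw [map_mul, mul_inv_rev, Units.val_mul, Subgroup.coe_mul, mul_assoc, mul_assoc]
      _ = (Fintype.card E : K)⁻¹ * ∑ k : E, ((lam k)⁻¹ : Kˣ) * φ (k * x) := by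
          congr 1
          exact Equiv.sum_comp (Equiv.mulRight h)
            (fun k : E => (((lam k)⁻¹ : Kˣ) : K) * φ (k * x))
  rw [Finset.sum_congr rfl (fun h _ => h1 h), Finset.sum_const, Finset.card_univ, nsmul_eq_mul,
    ← mul_assoc, ← mul_assoc, inv_mul_cancel₀ hne, one_mul, proj_apply]

/-- the induced representation, as a subrepresentation of the right regular representation -/
noncomputable def indSub : Subrepresentation (rightReg K G) where
  toSubmodule := LinearMap.range (proj E lam)
  apply_mem_toSubmodule := by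
    rintro g _ ⟨φ, rfl⟩
    refine ⟨rightReg K G g φ, ?_⟩
    exact LinearMap.congr_fun (proj_comm E lam g) φ

omit [Fintype G] in
theorem proj_of_mem {φ : G → K} (hφ : φ ∈ LinearMap.range (proj E lam)) : proj E lam φ = φ := by
  obtain ⟨ψ, rfl⟩ := hφ
  exact LinearMap.congr_fun (proj_idem E lam) ψ

/-- the trace of `g` on the induced representation -/
theorem indSub_character (g : G) :
    (indSub E lam).toRepresentation.character g =
      LinearMap.trace K (G → K) (rightReg K G g ∘ₗ proj E lam) := by
  let U := LinearMap.range (proj E lam)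
  let ι : U →ₗ[K] (G → K) := U.subtype
  let π : (G → K) →ₗ[K] U := (proj E lam).rangeRestrict
  have h1 : (indSub E lam).toRepresentation g = π ∘ₗ (rightReg K G g ∘ₗ ι) := by
    ext u x
    change (rightReg K G g (u : G → K)) x = (proj E lam (rightReg K G g (u : G → K))) x
    have h2 := LinearMap.congr_fun (proj_comm E lam g) (u : G → K)
    simp only [LinearMap.comp_apply] at h2
    rw [h2, proj_of_mem E lam u.2]
  have h3 : (rightReg K G g ∘ₗ ι) ∘ₗ π = rightReg K G g ∘ₗ proj E lam := by
    ext φ x
    rfl
  change LinearMap.trace K U ((indSub E lam).toRepresentation g) = _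
  rw [h1, LinearMap.trace_comp_comm', h3]

open Classical in
/-- extension of `lam` by zero, with values in `K` -/
noncomputable def extK (y : G) : K := if h : y ∈ E then ((lam ⟨y, h⟩ : Kˣ) : K) else 0

omit [Fintype G] [CharZero K] in
theorem sum_inv_mul_ite [DecidableEq G] (x g : G) :
    ∑ h : E, (((lam h)⁻¹ : Kˣ) : K) * (if (h : G) * (x * g) = x then 1 else 0) =
      extK E lam (x * g * x⁻¹) := by
  unfold extK
  by_cases hy : x * g * x⁻¹ ∈ E
  · rw [dif_pos hy]
    have hy' : (x * g * x⁻¹)⁻¹ ∈ E := E.inv_mem hy
    rw [Finset.sum_eq_single (⟨(x * g * x⁻¹)⁻¹, hy'⟩ : E)]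
    · have h1 : ((⟨(x * g * x⁻¹)⁻¹, hy'⟩ : E) : G) * (x * g) = x := by
        simp only
        group
      rw [if_pos h1, mul_one]
      have h2 : (⟨(x * g * x⁻¹)⁻¹, hy'⟩ : E) = (⟨x * g * x⁻¹, hy⟩ : E)⁻¹ := rfl
      rw [h2, map_inv, inv_inv]
    · intro h _ hne
      rw [if_neg, mul_zero]
      intro heq
      apply hne
      apply Subtype.ext
      simp only
      have : (h : G) = x * (x * g)⁻¹ := eq_mul_inv_of_mul_eq heq
      rw [this]
      group
    · intro h
      exact absurd (Finset.mem_univ _) h
  · rw [dif_neg hy]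
    apply Finset.sum_eq_zero
    intro h _
    rw [if_neg, mul_zero]
    intro heq
    apply hy
    have : x * g * x⁻¹ = ((h⁻¹ : E) : G) := by
      have h1 : (h : G) = x * (x * g)⁻¹ := eq_mul_inv_of_mul_eq heq
      rw [Subgroup.coe_inv, h1]
      group
    rw [this]
    exact (h⁻¹).2

omit [CharZero K] in
theorem trace_rightReg_proj (g : G) :
    LinearMap.trace K (G → K) (rightReg K G g ∘ₗ proj E lam) =
      (Fintype.card E : K)⁻¹ * ∑ x : G, extK E lam (x * g * x⁻¹) := by
  classical
  rw [LinearMap.trace_eq_matrix_trace K (Pi.basisFun K G), LinearMap.toMatrix_eq_toMatrix',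
    Matrix.trace, Finset.mul_sum]
  apply Finset.sum_congr rfl
  intro x _
  rw [Matrix.diag_apply, LinearMap.toMatrix'_apply, LinearMap.comp_apply, rightReg_apply,
    proj_apply]
  congr 1
  rw [← sum_inv_mul_ite E lam x g]
  apply Finset.sum_congr rfl
  intro h _
  rw [Pi.single_apply]

end KRep

namespace KRep

open Module

/-- **Induced characters are realizable**: for `lam : E →* Kˣ` the induced class function
`indFun E lam` is the complex character of a representation over `K`. -/
theorem realizable_indFun {G : Type u} [Group G] [Fintype G] {K : Type} [Field K] [Algebra K ℂ]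
    (E : Subgroup G) (lam : E →* Kˣ) :
    Realizable K (Cfsg.indFun E (fun e : E => algebraMap K ℂ ((lam e : Kˣ) : K))) := by
  classical
  haveI : Fintype E := Fintype.ofFinite E
  haveI : CharZero K := (algebraMap K ℂ).charZero
  refine ⟨(indSub E lam).toSubmodule, inferInstance, inferInstance, inferInstance,
    (indSub E lam).toRepresentation, ?_⟩
  funext g
  rw [cchar_apply, indSub_character, trace_rightReg_proj, indFun_apply, map_mul, map_inv₀,
    map_natCast, map_sum, Nat.card_eq_fintype_card]
  congr 1
  rw [← Equiv.sum_comp (Equiv.inv G)]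
  apply Finset.sum_congr rfl
  intro x _
  simp only [Equiv.inv_apply, inv_inv]
  unfold extK
  by_cases hy : x⁻¹ * g * x ∈ E
  · rw [dif_pos hy, extendByZero_of_mem E _ hy]
  · rw [dif_neg hy, extendByZero_of_not_mem E _ hy, map_zero]

end KRep

end Cfsg.Agent.Lib.Helper2
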