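import Mathlib
import Cfsg.Agent.Lib.Helper2.Involutions

/-!
# Groups with Klein four Sylow 2-subgroups: classes of involutions (S0202, S0203)
(helper2 library)
-/

set_option autoImplicit false

namespace Cfsg.Agent.Lib.Helper2

variable {G : Type*} [Group G]

/-- explicit description of a Klein four subgroup -/
theorem kleinFour_elements (P : Subgroup G) (hP : IsKleinFour P) :
    ∃ a b : G, a ∈ P ∧ b ∈ P ∧ a ≠ 1 ∧ b ≠ 1 ∧ a ≠ b ∧ a * a = 1 ∧ b * b = 1 ∧ a * b = b * a ∧
      ∀ x ∈ P, x = 1 ∨ x = a ∨ x = b ∨ x = a * b := by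
  classical
  haveI := hP
  haveI : Finite P := IsKleinFour.instFinite
  haveI : Fintype P := Fintype.ofFinite _
  have hcard : 2 < Fintype.card P := by rw [IsKleinFour.card_four']; norm_num
  obtain ⟨x, y, hx, hy, hxy⟩ : ∃ x y : P, x ≠ 1 ∧ y ≠ 1 ∧ x ≠ y := by
    obtain ⟨x, y, z, hxy, hxz, hyz⟩ := Fintype.two_lt_card_iff.mp hcard
    by_cases hx : x = 1
    · exact ⟨y, z, fun h => hxy (hx.trans h.symm), fun h => hxz (hx.trans h.symm), hyz⟩
    · by_cases hy : y = 1
      · exact ⟨x, z, hx, fun h => hyz (hy.trans h.symm), hxz⟩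
      · exact ⟨x, y, hx, hy, hxy⟩
  refine ⟨x, y, x.2, y.2, fun h => hx (Subtype.ext h), fun h => hy (Subtype.ext h),
    fun h => hxy (Subtype.ext h), ?_, ?_, ?_, ?_⟩
  · exact congrArg Subtype.val (IsKleinFour.mul_self x)
  · exact congrArg Subtype.val (IsKleinFour.mul_self y)
  · haveI := IsKleinFour.isMulCommutative (G := P)
    exact congrArg Subtype.val (mul_comm' x y)
  · intro z hz
    have := Finset.mem_univ (⟨z, hz⟩ : P)
    rw [← IsKleinFour.eq_finset_univ hx hy hxy] at this
    simp only [Finset.mem_insert, Finset.mem_singleton] at this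
    rcases this with h | h | h | h
    · right; right; right; exact congrArg Subtype.val h
    · right; left; exact congrArg Subtype.val h
    · right; right; left; exact congrArg Subtype.val h
    · left; exact congrArg Subtype.val h

/-- odd powers of an element swapping `x` and `y` still map `x` to `y`. -/
theorem conj_pow_odd_of_swap {n x y : G} (h1 : n * x * n⁻¹ = y) (h2 : n * y * n⁻¹ = x) (j : ℕ) :
    n ^ (2 * j + 1) * x * (n ^ (2 * j + 1))⁻¹ = y := by
  have hsq : ∀ j : ℕ, n ^ (2 * j) * x * (n ^ (2 * j))⁻¹ = x := by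
    intro j
    induction j with
    | zero => simp
    | succ k ih =>
      have : n ^ (2 * (k + 1)) = n * n * n ^ (2 * k) := by
        rw [show 2 * (k + 1) = 2 + 2 * k by ring, pow_add, pow_two]
      rw [this]
      calc n * n * n ^ (2 * k) * x * (n * n * n ^ (2 * k))⁻¹
          = n * (n * (n ^ (2 * k) * x * (n ^ (2 * k))⁻¹) * n⁻¹) * n⁻¹ := by group
        _ = x := by rw [ih, h1, h2]
  have : n ^ (2 * j + 1) = n * n ^ (2 * j) := by rw [pow_succ']
  rw [this]
  calc n * n ^ (2 * j) * x * (n * n ^ (2 * j))⁻¹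
      = n * (n ^ (2 * j) * x * (n ^ (2 * j))⁻¹) * n⁻¹ := by group
    _ = y := by rw [hsq j, h1]

/-- no element of `N(P)` swaps two elements of an abelian Sylow 2-subgroup `P`. -/
theorem not_swap_of_mem_normalizer [Finite G] (P : Sylow 2 G)
    (hcomm : ∀ u ∈ (P : Subgroup G), ∀ v ∈ (P : Subgroup G), u * v = v * u)
    {n x y : G} (hn : n ∈ Subgroup.normalizer ((P : Subgroup G) : Set G))
    (hx : x ∈ (P : Subgroup G)) (hxy : x ≠ y)
    (h1 : n * x * n⁻¹ = y) (h2 : n * y * n⁻¹ = x) : False := by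
  haveI : Fact (Nat.Prime 2) := ⟨Nat.prime_two⟩
  obtain ⟨k, m, hm, hnm⟩ := Nat.exists_eq_two_pow_mul_odd (orderOf_pos n).ne'
  obtain ⟨j, hj⟩ := hm
  set n' := n ^ m with hn'
  have hswap : n' * x * n'⁻¹ = y := by rw [hn', hj]; exact conj_pow_odd_of_swap h1 h2 j
  have hpow : n' ^ (2 ^ k) = 1 := by
    rw [hn', ← pow_mul, mul_comm, ← hnm, pow_orderOf_eq_one]
  have hn'N : n' ∈ Subgroup.normalizer ((P : Subgroup G) : Set G) := pow_mem hn m
  have hZ : IsPGroup 2 (Subgroup.zpowers n') := by
    apply IsPGroup.of_card (n := Nat.log 2 (orderOf n'))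
    rw [Nat.card_zpowers]
    obtain ⟨i, -, hi⟩ := (Nat.dvd_prime_pow Nat.prime_two).mp (orderOf_dvd_of_pow_eq_one hpow)
    rw [hi, Nat.log_pow (by norm_num)]
  have hsup : IsPGroup 2 ↥(Subgroup.zpowers n' ⊔ (P : Subgroup G)) :=
    IsPGroup.to_sup_of_normal_right' hZ P.2 ((Subgroup.zpowers_le).mpr hn'N)
  have heq : Subgroup.zpowers n' ⊔ (P : Subgroup G) = P := P.is_maximal' hsup le_sup_right
  have hn'P : n' ∈ (P : Subgroup G) := by
    rw [← heq]; exact Subgroup.mem_sup_left (Subgroup.mem_zpowers n')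
  apply hxy
  rw [← hswap, hcomm n' hn'P x hx, mul_inv_cancel_right]

/-- fusion of two involutions of a Klein four Sylow subgroup forces fusion of all three. -/
theorem third_conj [Finite G] (P : Sylow 2 G)
    (hcomm : ∀ u ∈ (P : Subgroup G), ∀ v ∈ (P : Subgroup G), u * v = v * u)
    {x y z : G} (hx : x ∈ (P : Subgroup G)) (hy : y ∈ (P : Subgroup G))
    (hz : z ∈ (P : Subgroup G)) (hx1 : x ≠ 1) (hy1 : y ≠ 1) (hz1 : z ≠ 1)
    (hxy : x ≠ y) (hxz : x ≠ z) (hyz : y ≠ z)
    (hall : ∀ w ∈ (P : Subgroup G), w = 1 ∨ w = x ∨ w = y ∨ w = z)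
    (hconj : IsConj x y) : IsConj z x := by
  haveI : Fact (Nat.Prime 2) := ⟨Nat.prime_two⟩
  haveI : IsMulCommutative (P : Subgroup G) :=
    ⟨⟨fun u v => Subtype.ext (hcomm u u.2 v v.2)⟩⟩
  obtain ⟨g, hg⟩ := isConj_iff.mp hconj
  obtain ⟨n, hn, hnx⟩ := P.conj_eq_normalizer_conj_of_mem x g⁻¹ hx
    (by rw [inv_inv, hg]; exact hy)
  rw [inv_inv, hg] at hnx
  -- `m = n⁻¹` normalizes `P` and maps `x` to `y`
  have hm : n⁻¹ ∈ Subgroup.normalizer ((P : Subgroup G) : Set G) := inv_mem hn
  have hmx : n⁻¹ * x * n⁻¹⁻¹ = y := by rw [inv_inv]; exact hnx.symm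
  have hinj : ∀ u v : G, n⁻¹ * u * n⁻¹⁻¹ = n⁻¹ * v * n⁻¹⁻¹ → u = v := by
    intro u v h
    exact mul_left_cancel (mul_right_cancel h)
  have hmemP : ∀ u ∈ (P : Subgroup G), n⁻¹ * u * n⁻¹⁻¹ ∈ (P : Subgroup G) := by
    intro u hu
    exact (Subgroup.mem_normalizer_iff.mp hm u).mp hu
  have hne1 : ∀ u : G, u ≠ 1 → n⁻¹ * u * n⁻¹⁻¹ ≠ 1 := by
    intro u hu h
    apply hu
    apply hinj u 1
    rw [h]; group
  rcases hall _ (hmemP z hz) with h | h | h | h
  · exact absurd h (hne1 z hz1)
  · exact isConj_iff.mpr ⟨n⁻¹, h⟩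
  · exact absurd (hinj _ _ (h.trans hmx.symm)) (Ne.symm hxz)
  · -- then `n⁻¹` swaps `x` and `y`
    exfalso
    have hmy : n⁻¹ * y * n⁻¹⁻¹ = x := by
      rcases hall _ (hmemP y hy) with h' | h' | h' | h'
      · exact absurd h' (hne1 y hy1)
      · exact h'
      · exact absurd (hinj _ _ (h'.trans hmx.symm)) (Ne.symm hxy)
      · exact absurd (hinj _ _ (h'.trans h.symm)) hyz
    exact not_swap_of_mem_normalizer P hcomm hm hx hxy hmx hmy

/-- every involution is conjugate to a nontrivial element of the Sylow 2-subgroup `P`. -/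
theorem exists_conj_mem_sylow [Finite G] (P : Sylow 2 G) (t : G) (ht : orderOf t = 2) :
    ∃ x ∈ (P : Subgroup G), x ≠ 1 ∧ IsConj t x := by
  haveI : Fact (Nat.Prime 2) := ⟨Nat.prime_two⟩
  have hZ : IsPGroup 2 (Subgroup.zpowers t) := by
    apply IsPGroup.of_card (n := 1)
    rw [Nat.card_zpowers, ht, pow_one]
  obtain ⟨Q, hQ⟩ := hZ.exists_le_sylow
  obtain ⟨g, hg⟩ := MulAction.exists_smul_eq G Q P
  refine ⟨g * t * g⁻¹, ?_, ?_, isConj_iff.mpr ⟨g, rfl⟩⟩
  · have : g * t * g⁻¹ ∈ ((g • Q : Sylow 2 G) : Subgroup G) := by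
      rw [Sylow.smul_def, Sylow.pointwise_smul_def]
      exact ⟨t, hQ (Subgroup.mem_zpowers t), rfl⟩
    rw [hg] at this
    exact this
  · intro h
    have : t = 1 := by
      calc t = g⁻¹ * (g * t * g⁻¹) * g := by group
        _ = 1 := by rw [h]; group
    rw [this, orderOf_one] at ht
    omega

/-- the type of classes of involutions -/
abbrev InvClasses (G : Type*) [Group G] : Type _ :=
  {C : ConjClasses G // ∃ t : G, orderOf t = 2 ∧ ConjClasses.mk t = C}

/-- dichotomy: with a Klein four Sylow 2-subgroup, either no fusion among its involutions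
(3 classes) or complete fusion (1 class). -/
theorem card_invClasses_of_kleinFour [Finite G] (P : Sylow 2 G)
    (hP : IsKleinFour (P : Subgroup G)) :
    ((∀ x ∈ (P : Subgroup G), ∀ y ∈ (P : Subgroup G), IsConj x y → x = y) ∧
        Nat.card (InvClasses G) = 3) ∨
    ((∃ x ∈ (P : Subgroup G), ∃ y ∈ (P : Subgroup G), IsConj x y ∧ x ≠ y) ∧
        Nat.card (InvClasses G) = 1) := by
  obtain ⟨a, b, ha, hb, ha1, hb1, hab, ha2, hb2, hcomm', hall⟩ := kleinFour_elements _ hP
  have hcomm : ∀ u ∈ (P : Subgroup G), ∀ v ∈ (P : Subgroup G), u * v = v * u := by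
    haveI := hP
    haveI := IsKleinFour.isMulCommutative (G := (P : Subgroup G))
    intro u hu v hv
    exact congrArg Subtype.val (mul_comm' (⟨u, hu⟩ : (P : Subgroup G)) ⟨v, hv⟩)
  set c := a * b with hc
  have hcP : c ∈ (P : Subgroup G) := (P : Subgroup G).mul_mem ha hb
  have hc1 : c ≠ 1 := by
    intro h
    apply hab
    calc a = a * (b * b) := by rw [hb2, mul_one]
      _ = (a * b) * b := by group
      _ = b := by rw [← hc, h, one_mul]
  have hca : c ≠ a := by
    intro h
    apply hb1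
    have : a * b = a * 1 := by rw [mul_one]; exact h
    exact mul_left_cancel this
  have hcb : c ≠ b := by
    intro h
    apply ha1
    have : a * b = 1 * b := by rw [one_mul]; exact h
    exact mul_right_cancel this
  have hc2 : c * c = 1 := by
    rw [hc]
    calc a * b * (a * b) = a * (b * a) * b := by group
      _ = a * (a * b) * b := by rw [← hcomm']
      _ = (a * a) * (b * b) := by group
      _ = 1 := by rw [ha2, hb2, one_mul]
  have hord : ∀ x : G, x ≠ 1 → x * x = 1 → orderOf x = 2 := fun x h1 h2 =>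
    orderOf_eq_two_iff'.mpr ⟨h1, h2⟩
  -- variants of `hall`
  have hall_abc : ∀ w ∈ (P : Subgroup G), w = 1 ∨ w = a ∨ w = b ∨ w = c := hall
  have hall_bca : ∀ w ∈ (P : Subgroup G), w = 1 ∨ w = b ∨ w = c ∨ w = a := by
    intro w hw; rcases hall w hw with h | h | h | h <;> simp [h]
  have hall_cab : ∀ w ∈ (P : Subgroup G), w = 1 ∨ w = c ∨ w = a ∨ w = b := by
    intro w hw; rcases hall w hw with h | h | h | h <;> simp [h]
  have hall_bac : ∀ w ∈ (P : Subgroup G), w = 1 ∨ w = b ∨ w = a ∨ w = c := by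
    intro w hw; rcases hall w hw with h | h | h | h <;> simp [h]
  have hall_acb : ∀ w ∈ (P : Subgroup G), w = 1 ∨ w = a ∨ w = c ∨ w = b := by
    intro w hw; rcases hall w hw with h | h | h | h <;> simp [h]
  have hall_cba : ∀ w ∈ (P : Subgroup G), w = 1 ∨ w = c ∨ w = b ∨ w = a := by
    intro w hw; rcases hall w hw with h | h | h | h <;> simp [h]
  -- classes
  have hmem : ∀ t : G, orderOf t = 2 → IsConj t a ∨ IsConj t b ∨ IsConj t c := by
    intro t ht
    obtain ⟨x, hxP, hx1, hx⟩ := exists_conj_mem_sylow P t ht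
    rcases hall x hxP with h | h | h | h
    · exact absurd h hx1
    · left; rw [← h]; exact hx
    · right; left; rw [← h]; exact hx
    · right; right; rw [← h]; exact hx
  by_cases hfus : IsConj a b ∨ IsConj a c ∨ IsConj b c
  · -- complete fusion
    right
    have hallconj : IsConj a b ∧ IsConj a c := by
      rcases hfus with h | h | h
      · exact ⟨h, (third_conj P hcomm ha hb hcP ha1 hb1 hc1 hab (Ne.symm hca) (Ne.symm hcb)
          hall_abc h).symm⟩
      · exact ⟨(third_conj P hcomm ha hcP hb ha1 hc1 hb1 (Ne.symm hca) hab hcb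
          hall_acb h).symm, h⟩
      · have h1 : IsConj a b := third_conj P hcomm hb hcP ha hb1 hc1 ha1 (Ne.symm hcb)
          (Ne.symm hab) hca hall_bca h
        exact ⟨h1, h1.trans h⟩
    refine ⟨⟨a, ha, b, hb, hallconj.1, hab⟩, ?_⟩
    rw [Nat.card_eq_one_iff_unique]
    refine ⟨⟨?_⟩, ⟨⟨ConjClasses.mk a, a, hord a ha1 ha2, rfl⟩⟩⟩
    have key : ∀ K : InvClasses G, K.1 = ConjClasses.mk a := by
      rintro ⟨C, t, ht, rfl⟩
      rw [ConjClasses.mk_eq_mk_iff_isConj]
      rcases hmem t ht with h | h | h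
      · exact h
      · exact h.trans hallconj.1.symm
      · exact h.trans hallconj.2.symm
    intro K L
    exact Subtype.ext ((key K).trans (key L).symm)
  · -- no fusion
    left
    push Not at hfus
    obtain ⟨hnab, hnac, hnbc⟩ := hfus
    constructor
    · intro x hx y hy hxy
      have h1conj : ∀ u : G, IsConj (1 : G) u → u = 1 := by
        intro u hu
        obtain ⟨g, hg⟩ := isConj_iff.mp hu
        rw [← hg]; group
      rcases hall x hx with h | h | h | h <;> rcases hall y hy with h' | h' | h' | h' <;>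
        subst h <;> subst h'
      · rfl
      · exact (h1conj _ hxy).symm
      · exact (h1conj _ hxy).symm
      · exact (h1conj _ hxy).symm
      · exact h1conj _ hxy.symm
      · rfl
      · exact absurd hxy hnab
      · exact absurd hxy hnac
      · exact h1conj _ hxy.symm
      · exact absurd hxy.symm hnab
      · rfl
      · exact absurd hxy hnbc
      · exact h1conj _ hxy.symm
      · exact absurd hxy.symm hnac
      · exact absurd hxy.symm hnbc
      · rfl
    · let f : Fin 3 → InvClasses G := ![⟨ConjClasses.mk a, a, hord a ha1 ha2, rfl⟩,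
        ⟨ConjClasses.mk b, b, hord b hb1 hb2, rfl⟩, ⟨ConjClasses.mk c, c, hord c hc1 hc2, rfl⟩]
      have hf : Function.Bijective f := by
        constructor
        · intro i j hij
          have hij' := congrArg Subtype.val hij
          fin_cases i <;> fin_cases j <;>
            simp only [f, Matrix.cons_val_zero, Matrix.cons_val_one, Matrix.cons_val_two,
              Matrix.head_cons, Matrix.tail_cons, Fin.mk_zero, Fin.mk_one, Fin.zero_eta,
              Fin.reduceFinMk, Matrix.cons_val] at hij' <;>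
            first
              | rfl
              | (rw [ConjClasses.mk_eq_mk_iff_isConj] at hij'
                 first
                  | exact absurd hij' hnab
                  | exact absurd hij'.symm hnab
                  | exact absurd hij' hnac
                  | exact absurd hij'.symm hnac
                  | exact absurd hij' hnbc
                  | exact absurd hij'.symm hnbc)
        · rintro ⟨C, t, ht, rfl⟩
          rcases hmem t ht with h | h | h
          · exact ⟨0, Subtype.ext (ConjClasses.mk_eq_mk_iff_isConj.mpr h.symm)⟩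
          · exact ⟨1, Subtype.ext (ConjClasses.mk_eq_mk_iff_isConj.mpr h.symm)⟩
          · exact ⟨2, Subtype.ext (ConjClasses.mk_eq_mk_iff_isConj.mpr h.symm)⟩
      rw [← Nat.card_eq_of_bijective f hf, Nat.card_eq_fintype_card, Fintype.card_fin]

/-- S0202. -/
theorem card_invClasses_eq_one_or_three [Finite G] (P : Sylow 2 G)
    (hP : IsKleinFour (P : Subgroup G)) :
    Nat.card (InvClasses G) = 1 ∨ Nat.card (InvClasses G) = 3 := by
  rcases card_invClasses_of_kleinFour P hP with h | h
  · right; exact h.2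
  · left; exact h.2

/-- S0203. -/
theorem card_invClasses_eq_three_iff [Finite G] (P : Sylow 2 G)
    (hP : IsKleinFour (P : Subgroup G)) :
    Nat.card (InvClasses G) = 3 ↔
      ∃ N : Subgroup G, N.Normal ∧ Subgroup.IsComplement' N (P : Subgroup G) := by
  haveI : Fact (Nat.Prime 2) := ⟨Nat.prime_two⟩
  constructor
  · intro h3
    rcases card_invClasses_of_kleinFour P hP with h | h
    · -- no fusion: `N(P) ≤ C(P)`
      have hNC : Subgroup.normalizer ((P : Subgroup G) : Set G) ≤
          Subgroup.centralizer ((P : Subgroup G) : Set G) := by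
        intro n hn
        rw [Subgroup.mem_centralizer_iff]
        intro x hx
        have hmem : n * x * n⁻¹ ∈ (P : Subgroup G) := (Subgroup.mem_normalizer_iff.mp hn x).mp hx
        have := h.1 x hx _ hmem (isConj_iff.mpr ⟨n, rfl⟩)
        exact (mul_inv_eq_iff_eq_mul.mp this.symm).symm
      exact ⟨_, inferInstance, MonoidHom.ker_transferSylow_isComplement' P hNC⟩
    · rw [h.2] at h3; omega
  · rintro ⟨N, hN, hcompl⟩
    rcases card_invClasses_of_kleinFour P hP with h | h
    · exact h.2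
    · exfalso
      obtain ⟨x, hx, y, hy, hxy, hne⟩ := h.1
      apply hne
      obtain ⟨g, hg⟩ := isConj_iff.mp hxy
      -- `y * x⁻¹ = [g, x] ∈ N ∩ P`
      have hcomm : ∀ u ∈ (P : Subgroup G), ∀ v ∈ (P : Subgroup G), u * v = v * u := by
        haveI := hP
        haveI := IsKleinFour.isMulCommutative (G := (P : Subgroup G))
        intro u hu v hv
        exact congrArg Subtype.val (mul_comm' (⟨u, hu⟩ : (P : Subgroup G)) ⟨v, hv⟩)
      have hgdec : g ∈ N ⊔ (P : Subgroup G) := by rw [hcompl.sup_eq_top]; trivial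
      rw [Subgroup.mem_sup_of_normal_left] at hgdec
      obtain ⟨n, hn, p, hp, rfl⟩ := hgdec
      -- `n p x p⁻¹ n⁻¹ = n x n⁻¹`
      have h1 : n * p * x * (n * p)⁻¹ = n * x * n⁻¹ := by
        calc n * p * x * (n * p)⁻¹ = n * (p * x) * p⁻¹ * n⁻¹ := by group
          _ = n * (x * p) * p⁻¹ * n⁻¹ := by rw [hcomm p hp x hx]
          _ = n * x * n⁻¹ := by group
      rw [h1] at hg
      have h2 : y * x⁻¹ ∈ N := by
        rw [← hg]
        have : n * x * n⁻¹ * x⁻¹ = n * (x * n⁻¹ * x⁻¹) := by group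
        rw [this]
        exact N.mul_mem hn (hN.conj_mem _ (N.inv_mem hn) x)
      have h3 : y * x⁻¹ ∈ (P : Subgroup G) := (P : Subgroup G).mul_mem hy ((P : Subgroup G).inv_mem hx)
      have h4 : y * x⁻¹ ∈ N ⊓ (P : Subgroup G) := Subgroup.mem_inf.mpr ⟨h2, h3⟩
      rw [disjoint_iff.mp hcompl.disjoint, Subgroup.mem_bot] at h4
      exact (mul_inv_eq_one.mp h4).symm

end Cfsg.Agent.Lib.Helper2
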