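import Cfsg.Agent.Lib.Helper29.Law.Defs

set_option autoImplicit false

/-! S2355 farm (architect helper29), piece **[ALT1]**: Cayley + doubling. -/

namespace Cfsg.Agent.Lib.Helper29.Law

/-- [ALT1] Cayley + doubling: every finite group embeds in `A_n` for `n ≥ 2|K|`. -/
theorem exists_embedding_alt (K : Type) [Group K] [Fintype K] (n : ℕ)
    (h : 2 * Fintype.card K ≤ n) :
    ∃ φ : K →* alternatingGroup (Fin n), Function.Injective φ := by
  classical
  -- Cayley
  let c : K →* Equiv.Perm K := MulAction.toPermHom K K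
  have hc : Function.Injective c := MulAction.toPerm_injective
  -- doubling
  let d : Equiv.Perm K →* Equiv.Perm (K ⊕ K) :=
    (Equiv.Perm.sumCongrHom K K).comp ((MonoidHom.id _).prod (MonoidHom.id _))
  have hd : Function.Injective d := by
    intro σ τ hστ
    have := Equiv.Perm.sumCongrHom_injective hστ
    exact (Prod.ext_iff.mp this).1
  have hdsign : ∀ σ : Equiv.Perm K, Equiv.Perm.sign (d σ) = 1 := by
    intro σ
    change Equiv.Perm.sign (Equiv.sumCongr σ σ) = 1
    rw [Equiv.Perm.sign_sumCongr]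
    exact Int.units_mul_self _
  -- embedding into `Fin n`
  have hcard : Fintype.card (K ⊕ K) ≤ Fintype.card (Fin n) := by
    rw [Fintype.card_sum, Fintype.card_fin]
    omega
  obtain ⟨ι⟩ := Function.Embedding.nonempty_of_card_le hcard
  let e : Equiv.Perm (K ⊕ K) →* Equiv.Perm (Fin n) := Equiv.Perm.viaEmbeddingHom ι
  have he : Function.Injective e := Equiv.Perm.viaEmbeddingHom_injective ι
  have hesign : ∀ σ : Equiv.Perm (K ⊕ K), Equiv.Perm.sign (e σ) = Equiv.Perm.sign σ := by
    intro σ
    change Equiv.Perm.sign (Equiv.Perm.viaEmbeddingHom ι σ) = _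
    rw [Equiv.Perm.viaEmbeddingHom_apply]
    unfold Equiv.Perm.viaEmbedding
    exact @Equiv.Perm.sign_extendDomain (K ⊕ K) _ (Fin n) _ _ _ σ (fun b => b ∈ Set.range ι.1)
      (fun a => Classical.propDecidable _) (Equiv.ofInjective ι.1 ι.2)
  let ψ : K →* Equiv.Perm (Fin n) := e.comp (d.comp c)
  have hψ : Function.Injective ψ := he.comp (hd.comp hc)
  have hmem : ∀ k : K, ψ k ∈ alternatingGroup (Fin n) := by
    intro k
    rw [Equiv.Perm.mem_alternatingGroup]
    change Equiv.Perm.sign (e (d (c k))) = 1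
    rw [hesign, hdsign]
  refine ⟨ψ.codRestrict (alternatingGroup (Fin n)) hmem, ?_⟩
  intro a b hab
  apply hψ
  have := congrArg Subtype.val hab
  exact this

end Cfsg.Agent.Lib.Helper29.Law
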