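import Cfsg.Agent.Lib.Helper29.Law.Defs
import Cfsg.Prelude.Def_Classical

set_option autoImplicit false

/-! S2355 farm (architect helper29), piece **[US2]**: conjugating the `F₀`-rational matrices of
`SL₂` by the basis change `[e₁ e₂]` (a hyperbolic pair) lands in `SU₂`. -/

namespace Cfsg.Agent.Lib.Helper29.Law

open Matrix

namespace Helper2

variable {F : Type} [Field F]

/-- conjugation of `SL₂` by an invertible matrix -/
noncomputable def conjSL (Pu : (Matrix (Fin 2) (Fin 2) F)ˣ) :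
    Matrix.SpecialLinearGroup (Fin 2) F →* Matrix.SpecialLinearGroup (Fin 2) F where
  toFun g := ⟨(Pu : Matrix (Fin 2) (Fin 2) F) * (g : Matrix (Fin 2) (Fin 2) F) *
      ((Pu⁻¹ : (Matrix (Fin 2) (Fin 2) F)ˣ) : Matrix (Fin 2) (Fin 2) F), by
    rw [Matrix.det_mul, Matrix.det_mul, g.2, mul_one, ← Matrix.det_mul, Units.mul_inv,
      Matrix.det_one]⟩
  map_one' := by
    apply Subtype.ext
    change (Pu : Matrix (Fin 2) (Fin 2) F) * (1 : Matrix (Fin 2) (Fin 2) F) *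
      ((Pu⁻¹ : (Matrix (Fin 2) (Fin 2) F)ˣ) : Matrix (Fin 2) (Fin 2) F) = 1
    rw [Matrix.mul_one, Units.mul_inv]
  map_mul' := by
    intro a b
    apply Subtype.ext
    change (Pu : Matrix (Fin 2) (Fin 2) F) *
        ((a : Matrix (Fin 2) (Fin 2) F) * (b : Matrix (Fin 2) (Fin 2) F)) *
        ((Pu⁻¹ : (Matrix (Fin 2) (Fin 2) F)ˣ) : Matrix (Fin 2) (Fin 2) F) =
      ((Pu : Matrix (Fin 2) (Fin 2) F) * (a : Matrix (Fin 2) (Fin 2) F) *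
        ((Pu⁻¹ : (Matrix (Fin 2) (Fin 2) F)ˣ) : Matrix (Fin 2) (Fin 2) F)) *
      ((Pu : Matrix (Fin 2) (Fin 2) F) * (b : Matrix (Fin 2) (Fin 2) F) *
        ((Pu⁻¹ : (Matrix (Fin 2) (Fin 2) F)ˣ) : Matrix (Fin 2) (Fin 2) F))
    calc (Pu : Matrix (Fin 2) (Fin 2) F) *
        ((a : Matrix (Fin 2) (Fin 2) F) * (b : Matrix (Fin 2) (Fin 2) F)) *
        ((Pu⁻¹ : (Matrix (Fin 2) (Fin 2) F)ˣ) : Matrix (Fin 2) (Fin 2) F)
        = (Pu : Matrix (Fin 2) (Fin 2) F) * (a : Matrix (Fin 2) (Fin 2) F) *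
          (1 : Matrix (Fin 2) (Fin 2) F) * (b : Matrix (Fin 2) (Fin 2) F) *
          ((Pu⁻¹ : (Matrix (Fin 2) (Fin 2) F)ˣ) : Matrix (Fin 2) (Fin 2) F) := by
          simp only [Matrix.mul_one, Matrix.mul_assoc]
      _ = _ := by
          rw [← Units.inv_mul Pu]
          simp only [Matrix.mul_assoc]

theorem conjSL_coe (Pu : (Matrix (Fin 2) (Fin 2) F)ˣ) (g : Matrix.SpecialLinearGroup (Fin 2) F) :
    ((conjSL Pu g : Matrix.SpecialLinearGroup (Fin 2) F) : Matrix (Fin 2) (Fin 2) F) =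
      (Pu : Matrix (Fin 2) (Fin 2) F) * (g : Matrix (Fin 2) (Fin 2) F) *
      ((Pu⁻¹ : (Matrix (Fin 2) (Fin 2) F)ˣ) : Matrix (Fin 2) (Fin 2) F) := rfl

theorem conjSL_injective (Pu : (Matrix (Fin 2) (Fin 2) F)ˣ) : Function.Injective (conjSL Pu) := by
  intro a b hab
  apply Subtype.ext
  have h := congrArg (fun x : Matrix.SpecialLinearGroup (Fin 2) F =>
    (x : Matrix (Fin 2) (Fin 2) F)) hab
  simp only [conjSL_coe] at h
  have h2 := congrArg (fun M : Matrix (Fin 2) (Fin 2) F =>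
    ((Pu⁻¹ : (Matrix (Fin 2) (Fin 2) F)ˣ) : Matrix (Fin 2) (Fin 2) F) * M *
      (Pu : Matrix (Fin 2) (Fin 2) F)) h
  simp only [Matrix.mul_assoc, Units.inv_mul, Matrix.mul_one] at h2
  simp only [← Matrix.mul_assoc, Units.inv_mul, Matrix.one_mul] at h2
  exact h2

/-- the form on the hyperbolic basis -/
theorem herm_basis (q : ℕ) (hadd : ∀ x y : F, (x + y) ^ q = x ^ q + y ^ q)
    (e₁ e₂ : Fin 2 → F) (ε : F)
    (h11 : Cfsg.hermForm 2 F q e₁ e₁ = 0) (h22 : Cfsg.hermForm 2 F q e₂ e₂ = 0)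
    (h12 : Cfsg.hermForm 2 F q e₁ e₂ = ε) (h21 : Cfsg.hermForm 2 F q e₂ e₁ = -ε)
    (a b : Fin 2 → F) :
    Cfsg.hermForm 2 F q (!![e₁ 0, e₂ 0; e₁ 1, e₂ 1] *ᵥ a) (!![e₁ 0, e₂ 0; e₁ 1, e₂ 1] *ᵥ b) =
      ε * (a 0 * (b 1) ^ q - a 1 * (b 0) ^ q) := by
  unfold Cfsg.hermForm at *
  rw [Fin.sum_univ_two] at *
  simp only [Matrix.mulVec, dotProduct, Fin.sum_univ_two, Matrix.of_apply, Matrix.cons_val',
    Matrix.cons_val_zero, Matrix.cons_val_one, Matrix.cons_val_fin_one]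
  rw [hadd, hadd, mul_pow, mul_pow, mul_pow, mul_pow]
  linear_combination a 0 * (b 0) ^ q * h11 + a 0 * (b 1) ^ q * h12 + a 1 * (b 0) ^ q * h21 +
    a 1 * (b 1) ^ q * h22

/-- invariance of the alternating semilinear form under rational matrices -/
theorem alt_invariant (q : ℕ) (hadd : ∀ x y : F, (x + y) ^ q = x ^ q + y ^ q)
    (g : Matrix.SpecialLinearGroup (Fin 2) F)
    (hg : ∀ a b, ((g : Matrix (Fin 2) (Fin 2) F) a b) ^ q = (g : Matrix (Fin 2) (Fin 2) F) a b)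
    (a b : Fin 2 → F) :
    ((g : Matrix (Fin 2) (Fin 2) F) *ᵥ a) 0 * (((g : Matrix (Fin 2) (Fin 2) F) *ᵥ b) 1) ^ q -
      ((g : Matrix (Fin 2) (Fin 2) F) *ᵥ a) 1 * (((g : Matrix (Fin 2) (Fin 2) F) *ᵥ b) 0) ^ q =
      a 0 * (b 1) ^ q - a 1 * (b 0) ^ q := by
  have hdet : (g : Matrix (Fin 2) (Fin 2) F) 0 0 * (g : Matrix (Fin 2) (Fin 2) F) 1 1 -
      (g : Matrix (Fin 2) (Fin 2) F) 0 1 * (g : Matrix (Fin 2) (Fin 2) F) 1 0 = 1 := by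
    rw [← Matrix.det_fin_two]; exact g.2
  simp only [Matrix.mulVec, dotProduct, Fin.sum_univ_two]
  rw [hadd, hadd, mul_pow, mul_pow, mul_pow, mul_pow, hg, hg, hg, hg]
  linear_combination (a 0 * (b 1) ^ q - a 1 * (b 0) ^ q) * hdet

end Helper2

/-- [US2] conjugating the `F₀`-rational matrices by the basis change `[e₁ e₂]` lands in `SU₂`. -/
theorem exists_SL2_to_SU2 (F : Type) [Field F] [Fintype F] (q : ℕ)
    (hadd : ∀ x y : F, (x + y) ^ q = x ^ q + y ^ q)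
    (e₁ e₂ : Fin 2 → F) (ε : F) (hε : ε ≠ 0) (hεq : ε ^ q = -ε)
    (hdet : e₁ 0 * e₂ 1 - e₁ 1 * e₂ 0 ≠ 0)
    (h11 : Cfsg.hermForm 2 F q e₁ e₁ = 0) (h22 : Cfsg.hermForm 2 F q e₂ e₂ = 0)
    (h12 : Cfsg.hermForm 2 F q e₁ e₂ = ε) (h21 : Cfsg.hermForm 2 F q e₂ e₁ = -ε) :
    ∃ φ : Matrix.SpecialLinearGroup (Fin 2) F →* Matrix.SpecialLinearGroup (Fin 2) F,
      Function.Injective φ ∧
      ∀ g : Matrix.SpecialLinearGroup (Fin 2) F,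
        (∀ a b, ((g : Matrix (Fin 2) (Fin 2) F) a b) ^ q = (g : Matrix (Fin 2) (Fin 2) F) a b) →
        φ g ∈ Cfsg.SU 2 F q := by
  have hPdet : IsUnit (!![e₁ 0, e₂ 0; e₁ 1, e₂ 1] : Matrix (Fin 2) (Fin 2) F).det := by
    rw [Matrix.det_fin_two_of]
    apply IsUnit.mk0
    intro h
    apply hdet
    linear_combination h
  obtain ⟨Pu, hPu⟩ : ∃ Pu : (Matrix (Fin 2) (Fin 2) F)ˣ,
      (Pu : Matrix (Fin 2) (Fin 2) F) = !![e₁ 0, e₂ 0; e₁ 1, e₂ 1] :=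
    ⟨((Matrix.isUnit_iff_isUnit_det _).mpr hPdet).unit, rfl⟩
  refine ⟨Helper2.conjSL Pu, Helper2.conjSL_injective Pu, ?_⟩
  intro g hg u v
  change Cfsg.hermForm 2 F q
      (((Helper2.conjSL Pu g : Matrix.SpecialLinearGroup (Fin 2) F) :
        Matrix (Fin 2) (Fin 2) F) *ᵥ u)
      (((Helper2.conjSL Pu g : Matrix.SpecialLinearGroup (Fin 2) F) :
        Matrix (Fin 2) (Fin 2) F) *ᵥ v) = Cfsg.hermForm 2 F q u v
  rw [Helper2.conjSL_coe]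
  have hu : u = (Pu : Matrix (Fin 2) (Fin 2) F) *ᵥ
      (((Pu⁻¹ : (Matrix (Fin 2) (Fin 2) F)ˣ) : Matrix (Fin 2) (Fin 2) F) *ᵥ u) := by
    rw [Matrix.mulVec_mulVec, Units.mul_inv, Matrix.one_mulVec]
  have hv : v = (Pu : Matrix (Fin 2) (Fin 2) F) *ᵥ
      (((Pu⁻¹ : (Matrix (Fin 2) (Fin 2) F)ˣ) : Matrix (Fin 2) (Fin 2) F) *ᵥ v) := by
    rw [Matrix.mulVec_mulVec, Units.mul_inv, Matrix.one_mulVec]
  have hmu : ∀ w : Fin 2 → F, ((Pu : Matrix (Fin 2) (Fin 2) F) * (g : Matrix (Fin 2) (Fin 2) F) *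
      ((Pu⁻¹ : (Matrix (Fin 2) (Fin 2) F)ˣ) : Matrix (Fin 2) (Fin 2) F)) *ᵥ w =
      (Pu : Matrix (Fin 2) (Fin 2) F) *ᵥ ((g : Matrix (Fin 2) (Fin 2) F) *ᵥ
        (((Pu⁻¹ : (Matrix (Fin 2) (Fin 2) F)ˣ) : Matrix (Fin 2) (Fin 2) F) *ᵥ w)) := by
    intro w
    rw [Matrix.mulVec_mulVec, Matrix.mulVec_mulVec]
  rw [hmu u, hmu v]
  conv_rhs => rw [hu, hv]
  rw [hPu, Helper2.herm_basis q hadd e₁ e₂ ε h11 h22 h12 h21,
    Helper2.herm_basis q hadd e₁ e₂ ε h11 h22 h12 h21,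
    Helper2.alt_invariant q hadd g hg]

end Cfsg.Agent.Lib.Helper29.Law
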