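import Mathlib
import Cfsg.Agent.Lib.Helper15.M23ExtDefs
import Cfsg.Agent.Lib.Helper28.GolayConcrete

/-!
# S2650 piece (G1) (architect helper15): the words orthogonal to the 253 words of weight 16 of the
Golay code avoiding `none` are the Golay code extended by the unit vector at `none`
-/

set_option autoImplicit false
set_option maxRecDepth 100000

namespace Cfsg.Agent.Lib.Helper2.M23ExtKer

open Cfsg Cfsg.Agent.Lib.Helper15.M23Ext Cfsg.Agent.Lib.Helper28

/-- `0/1` in `ZMod 2` -/
def b01 (b : Bool) : ZMod 2 := if b then 1 else 0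

/-- the 11 basis blocks -/
def KBf (i : Fin 11) : ℕ := QD.KB.getD i.val 0
/-- the masks of the 11 dual vectors -/
def DVf (i : Fin 11) : ℕ := QD.DV.getD i.val 0
/-- Golay part of the unit vector `e_a` (as a combination of the echelon basis `hm`) -/
def XA (a : Fin 24) : ℕ := if a.val < 12 then 2 ^ a.val else 0
/-- the unit vectors whose decomposition involves `e_none` -/
def EA : ℕ := 8391797

/-! ### kernel facts -/

theorem KB_lt : ∀ i : Fin 11, KBf i < 253 := by decide

theorem table : ∀ a b : Fin 24, (if a = b then (1 : ZMod 2) else 0) =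
    (∑ i : Fin 11, b01 ((cm (KBf i)).testBit a.val) * b01 ((DVf i).testBit b.val)) +
    (∑ j : Fin 12, b01 ((XA a).testBit j.val) * b01 ((hm j).testBit b.val)) +
    b01 (EA.testBit a.val) * b01 (decide (b.val = 23)) := by
  decide +kernel

theorem orth_table : ∀ (j : Fin 12) (k : Fin 253),
    (∑ a : Fin 24, if (cm k.val).testBit a.val then
      (if (hm j).testBit a.val then (1 : ZMod 2) else 0) else 0) = 0 := by
  decide +kernel

theorem bit23 : ∀ k : Fin 253, (cm k.val).testBit 23 = false := by
  decide +kernel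

/-! ### the submodule of words orthogonal to the 253 words -/

theorem ip_smul (c : ZMod 2) (w : GolayPt → ZMod 2) (m : ℕ) : ip (c • w) m = c * ip w m := by
  unfold ip
  rw [Finset.mul_sum]
  refine Finset.sum_congr rfl fun a _ => ?_
  split_ifs
  · rfl
  · simp

/-- the words orthogonal to the 253 words `c_k` -/
def S : Submodule (ZMod 2) (GolayPt → ZMod 2) where
  carrier := {w | ∀ k < 253, ip w (cm k) = 0}
  add_mem' := by
    intro u v hu hv k hk
    rw [ip_add, hu k hk, hv k hk, add_zero]
  zero_mem' := by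
    intro k _
    exact ip_zero _
  smul_mem' := by
    intro c u hu k hk
    rw [ip_smul, hu k hk, mul_zero]

theorem mem_S (w : GolayPt → ZMod 2) : w ∈ S ↔ ∀ k < 253, ip w (cm k) = 0 := Iff.rfl

theorem pt23 : Helper4.pt (23 : Fin 24) = none := by decide

theorem pt_eq_none_iff (b : Fin 24) : Helper4.pt b = none ↔ b.val = 23 := by
  revert b
  decide

theorem hvec_mem_S (j : Fin 12) : hvec j ∈ S := by
  intro k hk
  have h := orth_table j ⟨k, hk⟩
  have h1 : ip (hvec j) (cm k) = ∑ a : Fin 24, if (cm k).testBit a.val then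
      (if (hm j).testBit a.val then (1 : ZMod 2) else 0) else 0 := by
    unfold ip
    refine Finset.sum_congr rfl fun a _ => ?_
    rw [hvec_apply]
  rw [h1]
  exact h

theorem golay_le_S : golayCode ≤ S := by
  rw [golayCode_eq_span, Submodule.span_le]
  rintro _ ⟨j, rfl⟩
  exact hvec_mem_S j

theorem enone_mem_S : (Pi.single none 1 : GolayPt → ZMod 2) ∈ S := by
  intro k hk
  rw [← pt23, ip_single]
  have h := bit23 ⟨k, hk⟩
  simp only at h
  show (if (cm k).testBit 23 = true then (1 : ZMod 2) else 0) = 0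
  rw [h]
  rfl

theorem add_self_zero (v : GolayPt → ZMod 2) : v + v = 0 := by
  funext p
  exact CharTwo.add_self_eq_zero _

/-! ### the decomposition of a word orthogonal to the 11 basis words -/

/-- the Golay part -/
def gpart (w : GolayPt → ZMod 2) : GolayPt → ZMod 2 :=
  ∑ a : Fin 24, w (Helper4.pt a) • ∑ j : Fin 12, b01 ((XA a).testBit j.val) • hvec j

theorem gpart_mem (w : GolayPt → ZMod 2) : gpart w ∈ golayCode := by
  unfold gpart
  refine Submodule.sum_mem _ fun a _ => Submodule.smul_mem _ _ ?_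
  exact Submodule.sum_mem _ fun j _ => Submodule.smul_mem _ _ (hvec_mem j)

theorem b01_eq (c : Bool) : b01 c = if c then (1 : ZMod 2) else 0 := rfl

theorem gpart_apply (w : GolayPt → ZMod 2) (b : Fin 24) :
    gpart w (Helper4.pt b) = ∑ a : Fin 24, w (Helper4.pt a) *
      ∑ j : Fin 12, b01 ((XA a).testBit j.val) * b01 ((hm j).testBit b.val) := by
  unfold gpart
  rw [Finset.sum_apply]
  refine Finset.sum_congr rfl fun a _ => ?_
  rw [Pi.smul_apply, smul_eq_mul, Finset.sum_apply]
  refine congrArg (fun t => w (Helper4.pt a) * t) ?_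
  refine Finset.sum_congr rfl fun j _ => ?_
  rw [Pi.smul_apply, smul_eq_mul, hvec_apply, ← b01_eq]

/-- the coefficient of `e_none` -/
def cpart (w : GolayPt → ZMod 2) : ZMod 2 :=
  ∑ a : Fin 24, b01 (EA.testBit a.val) * w (Helper4.pt a)

theorem ip_eq (w : GolayPt → ZMod 2) (m : ℕ) :
    ip w m = ∑ a : Fin 24, b01 (m.testBit a.val) * w (Helper4.pt a) := by
  unfold ip b01
  refine Finset.sum_congr rfl fun a _ => ?_
  split_ifs <;> simp

theorem alg (wa : ZMod 2) (C D : Fin 11 → ZMod 2) (X H : Fin 12 → ZMod 2) (E B : ZMod 2) :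
    wa * ((∑ i : Fin 11, C i * D i) + (∑ j : Fin 12, X j * H j) + E * B) =
      (∑ i : Fin 11, D i * (C i * wa)) + wa * (∑ j : Fin 12, X j * H j) + (E * wa) * B := by
  rw [mul_add, mul_add, Finset.mul_sum]
  have h1 : ∑ i : Fin 11, wa * (C i * D i) = ∑ i : Fin 11, D i * (C i * wa) :=
    Finset.sum_congr rfl fun i _ => by ring
  rw [h1]
  ring

theorem key (w : GolayPt → ZMod 2) (h : ∀ k < 253, ip w (cm k) = 0) (b : Fin 24) :
    w (Helper4.pt b) = gpart w (Helper4.pt b) + cpart w * b01 (decide (b.val = 23)) := by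
  have h1 : w (Helper4.pt b) =
      ∑ a : Fin 24, w (Helper4.pt a) * (if a = b then (1 : ZMod 2) else 0) := by
    rw [Finset.sum_eq_single b]
    · rw [if_pos rfl, mul_one]
    · intro a _ hab
      rw [if_neg hab, mul_zero]
    · intro hb
      exact absurd (Finset.mem_univ b) hb
  have h2 : ∀ a : Fin 24, w (Helper4.pt a) * (if a = b then (1 : ZMod 2) else 0) =
      (∑ i : Fin 11, b01 ((DVf i).testBit b.val) *
        (b01 ((cm (KBf i)).testBit a.val) * w (Helper4.pt a))) +
      w (Helper4.pt a) * (∑ j : Fin 12, b01 ((XA a).testBit j.val) * b01 ((hm j).testBit b.val)) +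
      (b01 (EA.testBit a.val) * w (Helper4.pt a)) * b01 (decide (b.val = 23)) := by
    intro a
    rw [table a b]
    exact alg _ _ _ _ _ _ _
  have h3 : ∑ a : Fin 24, ∑ i : Fin 11, b01 ((DVf i).testBit b.val) *
      (b01 ((cm (KBf i)).testBit a.val) * w (Helper4.pt a)) = 0 := by
    rw [Finset.sum_comm]
    apply Finset.sum_eq_zero
    intro i _
    rw [← Finset.mul_sum, ← ip_eq, h _ (KB_lt i), mul_zero]
  rw [h1, Finset.sum_congr rfl (fun a _ => h2 a), Finset.sum_add_distrib, Finset.sum_add_distrib,
    h3, zero_add, gpart_apply, cpart, Finset.sum_mul]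

theorem decomp (w : GolayPt → ZMod 2) (h : ∀ k < 253, ip w (cm k) = 0) :
    w = gpart w + cpart w • (Pi.single none 1 : GolayPt → ZMod 2) := by
  funext p
  obtain ⟨b, rfl⟩ := Helper4.pt_bijective.2 p
  rw [key w h b, Pi.add_apply, Pi.smul_apply, smul_eq_mul]
  congr 2
  unfold b01
  by_cases hb : b.val = 23
  · rw [Pi.single_apply, if_pos ((pt_eq_none_iff b).mpr hb)]
    simp [hb]
  · rw [Pi.single_apply, if_neg (fun hh => hb ((pt_eq_none_iff b).mp hh))]
    simp [hb]

/-- **(G1)** -/
theorem ker_iff (w : Cfsg.GolayPt → ZMod 2) :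
    (∀ k < 253, ip w (cm k) = 0) ↔
      (w ∈ Cfsg.golayCode ∨ w + Pi.single none 1 ∈ Cfsg.golayCode) := by
  constructor
  · intro h
    have hd := decomp w h
    rcases zmod2_cases (cpart w) with hc | hc
    · left
      rw [hc, zero_smul, add_zero] at hd
      exact hd ▸ gpart_mem w
    · right
      rw [hc, one_smul] at hd
      have h2 : w + Pi.single none 1 = gpart w := by
        have h3 : w + Pi.single none 1 = (gpart w + Pi.single none 1) + Pi.single none 1 :=
          congrArg (fun t => t + (Pi.single none 1 : GolayPt → ZMod 2)) hd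
        rw [h3, add_assoc, add_self_zero, add_zero]
      rw [h2]
      exact gpart_mem w
  · rintro (h | h)
    · exact golay_le_S h
    · have h1 : w = (w + Pi.single none 1) + Pi.single none 1 := by
        rw [add_assoc, add_self_zero, add_zero]
      have h2 : w ∈ S := by
        rw [h1]
        exact S.add_mem (golay_le_S h) enone_mem_S
      exact h2

end Cfsg.Agent.Lib.Helper2.M23ExtKer
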