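import Mathlib
import Cfsg.Prelude.Def_Blocks
import Cfsg.Prelude.Def_DegreeGraph
import Cfsg.Agent.Lib.Helper20.CD3Step2

/-!
# Manz: the character degree graph of a finite solvable group has at most two components (helper2)

Assembly from helper20's `lemma_12_3` and `twelve_four` (Isaacs 12.3, 12.4).
-/

set_option autoImplicit false
set_option linter.style.haveILetI false
set_option linter.unusedSectionVars false

namespace Cfsg.Agent.Lib.Helper2.ManzTwo

open Cfsg Cfsg.Agent.Lib.Helper2 Cfsg.Agent.Lib.Helper20.CD3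
open scoped ComplexConjugate commutatorElement

universe u

theorem commutator_comm_of_min {L : Type*} [Group L] [Group.IsSolvable L]
    (hmin : ∀ N : Subgroup L, N.Normal → N ≠ ⊥ → commutator L ≤ N) :
    ∀ a ∈ commutator L, ∀ b ∈ commutator L, a * b = b * a := by
  by_contra hcon
  push Not at hcon
  obtain ⟨a, ha, b, hb, hab⟩ := hcon
  have hD2 : ⁅commutator L, commutator L⁆ ≠ ⊥ := by
    intro h0
    apply hab
    have : ⁅a, b⁆ ∈ ⁅commutator L, commutator L⁆ := Subgroup.commutator_mem_commutator ha hb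
    rw [h0, Subgroup.mem_bot] at this
    exact commutatorElement_eq_one_iff_mul_comm.mp this
  have hle : commutator L ≤ ⁅commutator L, commutator L⁆ := hmin _ inferInstance hD2
  have hstab : ∀ n : ℕ, derivedSeries L (n + 1) = commutator L := by
    intro n
    induction n with
    | zero => rfl
    | succ k ih =>
      rw [derivedSeries_succ, ih]
      exact le_antisymm (Subgroup.commutator_le_left _ _) hle
  obtain ⟨n, hn⟩ := (Group.IsSolvable.solvable (G := L))
  have hbot : commutator L = ⊥ := by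
    cases n with
    | zero =>
      rw [derivedSeries_zero] at hn
      rw [eq_bot_iff, ← hn]
      exact le_top
    | succ k => rw [← hstab k]; exact hn
  rw [hbot, Subgroup.mem_bot] at ha
  apply hab
  rw [ha, one_mul, mul_one]

section Fin

variable {G : Type u} [Group G] [Fintype G]

theorem eq_or_adj {x a d : ℕ} (hx : x.Prime) (ha : a.Prime) (hd : d ∈ charDegrees G)
    (hxd : x ∣ d) (had : a ∣ d) : x = a ∨ (degreeGraph G).Adj x a := by
  by_cases h : x = a
  · exact Or.inl h
  · right
    exact ⟨h, hx, ha, d, hd,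
      Nat.Coprime.mul_dvd_of_dvd_of_dvd ((Nat.coprime_primes hx ha).mpr h) hxd had⟩

/-- the case `G/K` a non-abelian `p`-group: every degree prime is `p` or adjacent to `p` -/
theorem hub_pgroup (K : Subgroup G) [K.Normal] (hna : ¬ ∀ a b : G ⧸ K, a * b = b * a)
    (p : ℕ) (hp : p.Prime) (hL : IsPGroup p (G ⧸ K)) :
    p ∈ degreePrimes G ∧ ∀ x ∈ degreePrimes G, x = p ∨ (degreeGraph G).Adj x p := by
  classical
  haveI : Fact p.Prime := ⟨hp⟩
  haveI : Fintype K := Fintype.ofFinite K
  have h1 : ¬ ∀ β : IrrCharacter (G ⧸ K), (β : G ⧸ K → ℂ) 1 = 1 :=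
    fun h => hna (comm_iff_forall_irr_degree_one.mpr h)
  push Not at h1
  obtain ⟨β, hβ⟩ := h1
  obtain ⟨βt, hβt, hβtv⟩ := exists_inflation K β
  set f := charDegree (β : G ⧸ K → ℂ) with hf
  have hf1 : f ≠ 1 := by
    intro h
    apply hβ
    rw [TwoDeg.apply_one_eq_charDegree β, ← hf, h]
    simp
  obtain ⟨e, he⟩ := IsPGroup.iff_card.mp hL
  obtain ⟨d, hd, hdvd, hdpos⟩ := IrrCharacter.exists_degree β
  have hfd : f = d := ThompsonDeg.charDegree_eq hd
  have hpf : p ∣ f := by
    rw [hfd]
    rw [he] at hdvd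
    obtain ⟨j, _, hj⟩ := (Nat.dvd_prime_pow hp).mp hdvd
    rw [hj]
    have hj0 : j ≠ 0 := by
      rintro rfl
      rw [pow_zero] at hj
      exact hf1 (hfd.trans hj)
    exact dvd_pow_self p hj0
  refine ⟨⟨hp, f, ⟨βt, hβt⟩, hpf⟩, ?_⟩
  rintro x ⟨hx, g, ⟨χ, hχ⟩, hxg⟩
  by_cases hpg : p ∣ g
  · exact eq_or_adj hx hp ⟨χ, hχ⟩ hxg hpg
  -- `χ` restricts irreducibly to `K`
  obtain ⟨θ, hθ⟩ := Cfsg.Agent.Lib.Helper7.exists_constituent_restrict K χ
  obtain ⟨b, d2, hd2, hbd, hb⟩ := DegreeRatio.main K (χ : G → ℂ) χ.2 (θ : K → ℂ) θ.2 hθ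
  have hKidx : K.index = p ^ e := by rw [Subgroup.index_eq_card]; exact he
  have hχdeg : g = b * d2 := by rw [← hχ]; exact ThompsonDeg.charDegree_eq hbd
  have hb1 : b = 1 := by
    rw [hKidx] at hb
    obtain ⟨j, _, hj⟩ := (Nat.dvd_prime_pow hp).mp hb
    rcases Nat.eq_zero_or_pos j with h0 | h0
    · rw [hj, h0, pow_zero]
    · exfalso
      apply hpg
      rw [hχdeg, hj]
      exact Dvd.dvd.mul_right (dvd_pow_self p (by omega)) d2
  have hθdeg : charDegree (θ : K → ℂ) = charDegree (χ : G → ℂ) := by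
    rw [ThompsonDeg.charDegree_eq hd2, hχ, hχdeg, hb1, one_mul]
  have hres := restrict_eq_of_degree_eq K χ θ hθ hθdeg
  have hηN : IsIrrCharacter K (fun k : K => (χ : G → ℂ) k) := by rw [hres]; exact θ.2
  have hprod := gallagher_mul K χ.2 hηN βt.2 (fun x hx => by
    rw [hβtv x, hβtv 1, (QuotientGroup.eq_one_iff x).mpr hx, QuotientGroup.mk_one])
  have hdegprod : charDegree ((βt : G → ℂ) * (χ : G → ℂ)) = f * g := by
    apply ThompsonDeg.charDegree_eq
    rw [Pi.mul_apply, TwoDeg.apply_one_eq_charDegree βt, TwoDeg.apply_one_eq_charDegree χ, hβt,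
      hχ]
    push_cast
    rfl
  exact eq_or_adj hx hp ⟨⟨_, hprod⟩, hdegprod⟩ (Dvd.dvd.mul_left hxg f) (Dvd.dvd.mul_right hpf g)

/-- the Frobenius-like case -/
theorem hub_frob (N K : Subgroup G) [hNn : N.Normal] [hKn : K.Normal]
    (hKneN : ∃ x ∈ N, x ∉ K) (hNtop : N.index ≠ 1)
    (hab : ∀ a ∈ N, ∀ b ∈ N, ⁅a, b⁆ ∈ K) (hGN : commutator G ≤ N)
    (p : ℕ) (hp : p.Prime) (hpN : ¬ p ∣ N.index) (a : ℕ) (hrel : K.relIndex N = p ^ a)
    (hfpf : ∀ g : G, g ∉ N → ∀ x ∈ N, ⁅x, g⁆ ∈ K → x ∈ K) :
    ∃ r : ℕ, r ∈ degreePrimes G ∧ ∀ x ∈ degreePrimes G,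
      (x = r ∨ (degreeGraph G).Adj x r) ∨
        (p ∈ degreePrimes G ∧ (x = p ∨ (degreeGraph G).Adj x p)) := by
  classical
  haveI : Fintype N := Fintype.ofFinite N
  have hcopr : (N.index).Coprime (K.relIndex N) := by
    rw [hrel]
    exact Nat.Coprime.pow_right a ((Nat.Prime.coprime_iff_not_dvd hp).mpr hpN).symm
  have T := twelve_four N K hab hGN hcopr hfpf
  have ha0 : a ≠ 0 := by
    rintro rfl
    rw [pow_zero, Subgroup.relIndex_eq_one] at hrel
    obtain ⟨x, hxN, hxK⟩ := hKneN
    exact hxK (hrel hxN)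
  -- the index of `N` is a degree
  have hf : N.index ∈ charDegrees G := by
    rcases T (fun _ => 1) Cfsg.Agent.Lib.Helper25.isIrrCharacter_one with
      ⟨ψ', hψ', hψ'1, hind⟩ | hvan
    · have hdeg : charDegree (indFun N ψ') = N.index := by
        apply ThompsonDeg.charDegree_eq
        rw [indFun_apply_one, hψ'1, mul_one]
      exact ⟨⟨_, hind⟩, hdeg⟩
    · exfalso
      obtain ⟨x, hxN, hxK⟩ := hKneN
      have := hvan ⟨x, hxN⟩ hxK
      exact one_ne_zero this
  set r := (N.index).minFac with hr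
  have hrp : r.Prime := Nat.minFac_prime hNtop
  have hrf : r ∣ N.index := Nat.minFac_dvd _
  refine ⟨r, ⟨hrp, N.index, hf, hrf⟩, ?_⟩
  rintro x ⟨hx, d, ⟨χ, hχ⟩, hxd⟩
  obtain ⟨θ, hθ⟩ := Cfsg.Agent.Lib.Helper7.exists_constituent_restrict N χ
  obtain ⟨c, d3, hd3, hcd3, hc⟩ := DegreeRatio.main N (χ : G → ℂ) χ.2 (θ : N → ℂ) θ.2 hθ
  have hχdeg : d = c * d3 := by rw [← hχ]; exact ThompsonDeg.charDegree_eq hcd3
  rw [hχdeg] at hxd
  rcases (Nat.Prime.dvd_mul hx).mp hxd with hxc | hxd3
  · left
    exact eq_or_adj hx hrp hf (hxc.trans hc) hrf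
  rcases T (θ : N → ℂ) θ.2 with ⟨ψ', hψ', hψ'1, hind⟩ | hvan
  · left
    have hdeg : charDegree (indFun N ψ') = N.index * d3 := by
      apply ThompsonDeg.charDegree_eq
      rw [indFun_apply_one, hψ'1, hd3]
      push_cast
      rfl
    exact eq_or_adj hx hrp ⟨⟨_, hind⟩, hdeg⟩ (Dvd.dvd.mul_left hxd3 _) (Dvd.dvd.mul_right hrf _)
  · right
    -- `p` divides the degree of `θ`
    have hpd : p ∣ d3 := by
      set K' : Subgroup N := K.subgroupOf N with hK'
      haveI : K'.Normal := by rw [hK']; infer_instance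
      haveI : Fintype K' := Fintype.ofFinite _
      obtain ⟨η, hη⟩ := Cfsg.Agent.Lib.Helper7.exists_constituent_restrict K' θ
      obtain ⟨b, d2, hd2', hbd, hb⟩ :=
        DegreeRatio.main K' (θ : N → ℂ) θ.2 (η : K' → ℂ) η.2 hη
      have hidx : K'.index = p ^ a := hrel
      have hb' : b ∣ p ^ a := by rw [← hidx]; exact hb
      have hdb : d3 = b * d2 := by
        have h1 : ((d3 : ℕ) : ℂ) = ((b * d2 : ℕ) : ℂ) := by rw [← hd3, hbd]
        exact_mod_cast h1
      by_cases hb1 : b = 1
      · exfalso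
        have hθdeg : charDegree (η : K' → ℂ) = charDegree (θ : N → ℂ) := by
          rw [ThompsonDeg.charDegree_eq hd2', ThompsonDeg.charDegree_eq hd3, hdb, hb1, one_mul]
        have hres := restrict_eq_of_degree_eq K' θ η hη hθdeg
        have hnorm := classInner_restrict_of_vanish K' (θ : N → ℂ) (fun x hx => hvan x (by
          intro hxK
          exact hx (Subgroup.mem_subgroupOf.mpr hxK)))
        rw [hres, classInner_irrCharacter_self η, classInner_irrCharacter_self θ, mul_one, hidx]
          at hnorm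
        have h1 : p ^ a = 1 := by exact_mod_cast hnorm.symm
        have h2 : 1 < p ^ a := Nat.one_lt_pow ha0 hp.one_lt
        omega
      · obtain ⟨j, _, hj⟩ := (Nat.dvd_prime_pow hp).mp hb'
        have hj0 : j ≠ 0 := by
          rintro rfl
          exact hb1 (by rw [hj, pow_zero])
        rw [hdb, hj]
        exact Dvd.dvd.mul_right (dvd_pow_self p hj0) d2
    have hpd' : p ∣ c * d3 := Dvd.dvd.mul_left hpd c
    have hmem : c * d3 ∈ charDegrees G := ⟨χ, by rw [hχ, hχdeg]⟩
    exact ⟨⟨hp, c * d3, hmem, hpd'⟩, eq_or_adj hx hp hmem hxd hpd'⟩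

theorem hubs [Group.IsSolvable G] (hna : ¬ ∀ a b : G, a * b = b * a) :
    ∃ r p : ℕ, r ∈ degreePrimes G ∧ ∀ x ∈ degreePrimes G,
      (x = r ∨ (degreeGraph G).Adj x r) ∨
        (p ∈ degreePrimes G ∧ (x = p ∨ (degreeGraph G).Adj x p)) := by
  classical
  obtain ⟨K, hKn, hKG, hKmax⟩ := exists_max_nonabelian_quotient hna
  haveI := hKn
  have hLna : ¬ ∀ a b : G ⧸ K, a * b = b * a :=
    fun h => hKG (commutator_le_of_quotient_comm K h)
  have hmkcomm : ∀ x y : G, ((⁅x, y⁆ : G) : G ⧸ K) = ⁅(x : G ⧸ K), (y : G ⧸ K)⁆ := by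
    intro x y
    exact map_commutatorElement (QuotientGroup.mk' K) x y
  have hLmin : ∀ N : Subgroup (G ⧸ K), N.Normal → N ≠ ⊥ → commutator (G ⧸ K) ≤ N := by
    intro Nb hNb hNb1
    set N := Nb.comap (QuotientGroup.mk' K) with hN
    have hNn : N.Normal := Subgroup.Normal.comap hNb _
    have hKN : K ≤ N := by
      intro x hx
      rw [hN, Subgroup.mem_comap, QuotientGroup.mk'_apply, (QuotientGroup.eq_one_iff x).mpr hx]
      exact Nb.one_mem
    have hKltN : K < N := by
      apply lt_of_le_of_ne hKN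
      intro h
      apply hNb1
      have h1 : Nb = N.map (QuotientGroup.mk' K) :=
        (Subgroup.map_comap_eq_self_of_surjective (QuotientGroup.mk'_surjective K) Nb).symm
      rw [h1, ← h, Subgroup.map_eq_bot_iff, QuotientGroup.ker_mk']
    have hGN := hKmax N hNn hKltN
    show ⁅(⊤ : Subgroup (G ⧸ K)), ⊤⁆ ≤ Nb
    rw [Subgroup.commutator_le]
    intro a _ b _
    induction a using QuotientGroup.induction_on with
    | H x =>
    induction b using QuotientGroup.induction_on with
    | H y =>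
    have h1 : ⁅x, y⁆ ∈ N :=
      hGN (Subgroup.commutator_mem_commutator (Subgroup.mem_top x) (Subgroup.mem_top y))
    rw [hN, Subgroup.mem_comap, QuotientGroup.mk'_apply, hmkcomm] at h1
    exact h1
  have hLab : ∀ a ∈ commutator (G ⧸ K), ∀ b ∈ commutator (G ⧸ K), a * b = b * a :=
    commutator_comm_of_min hLmin
  rcases lemma_12_3 hLna hLmin hLab with ⟨p, hp, hL⟩ | ⟨p, hp, hMp, hpidx, hfpf⟩
  · obtain ⟨h1, h2⟩ := hub_pgroup K hLna p hp hL
    exact ⟨p, p, h1, fun x hx => Or.inl (h2 x hx)⟩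
  · set N : Subgroup G := (commutator (G ⧸ K)).comap (QuotientGroup.mk' K) with hN
    haveI hNn : N.Normal := Subgroup.Normal.comap inferInstance _
    have hmemN : ∀ x : G, x ∈ N ↔ (x : G ⧸ K) ∈ commutator (G ⧸ K) := fun x => Iff.rfl
    have hM1 : commutator (G ⧸ K) ≠ ⊥ := by
      intro h0
      apply hLna
      intro a b
      have h1 : ⁅a, b⁆ ∈ commutator (G ⧸ K) :=
        Subgroup.commutator_mem_commutator (Subgroup.mem_top a) (Subgroup.mem_top b)
      rw [h0, Subgroup.mem_bot] at h1
      exact commutatorElement_eq_one_iff_mul_comm.mp h1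
    have hKneN : ∃ x ∈ N, x ∉ K := by
      obtain ⟨y, hy, hy1⟩ : ∃ y ∈ commutator (G ⧸ K), y ≠ 1 := by
        by_contra hcon
        push Not at hcon
        apply hM1
        rw [eq_bot_iff]
        intro y hy
        rw [Subgroup.mem_bot]
        exact hcon y hy
      induction y using QuotientGroup.induction_on with
      | H x =>
      refine ⟨x, (hmemN x).mpr hy, fun hxK => hy1 ?_⟩
      exact (QuotientGroup.eq_one_iff x).mpr hxK
    have hidx : N.index = (commutator (G ⧸ K)).index :=
      Subgroup.index_comap_of_surjective _ (QuotientGroup.mk'_surjective K)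
    have hNtop : N.index ≠ 1 := by
      rw [hidx]
      intro h1
      rw [Subgroup.index_eq_one] at h1
      apply hLna
      intro a b
      exact hLab a (by rw [h1]; exact Subgroup.mem_top a) b (by rw [h1]; exact Subgroup.mem_top b)
    have hab : ∀ a ∈ N, ∀ b ∈ N, ⁅a, b⁆ ∈ K := by
      intro a ha b hb
      rw [← QuotientGroup.eq_one_iff, hmkcomm]
      exact commutatorElement_eq_one_iff_mul_comm.mpr
        (hLab _ ((hmemN a).mp ha) _ ((hmemN b).mp hb))
    have hGN : commutator G ≤ N := by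
      show ⁅(⊤ : Subgroup G), ⊤⁆ ≤ N
      rw [Subgroup.commutator_le]
      intro a _ b _
      rw [hmemN, hmkcomm]
      exact Subgroup.commutator_mem_commutator (Subgroup.mem_top _) (Subgroup.mem_top _)
    have hpN : ¬ p ∣ N.index := by rw [hidx]; exact hpidx
    haveI : Fact p.Prime := ⟨hp⟩
    obtain ⟨a, ha⟩ := IsPGroup.iff_card.mp hMp
    have hrel : K.relIndex N = p ^ a := by
      have h1 := Subgroup.relIndex_ker (QuotientGroup.mk' K) (K := N)
      rw [QuotientGroup.ker_mk'] at h1
      rw [h1, hN, Subgroup.map_comap_eq_self_of_surjective (QuotientGroup.mk'_surjective K), ha]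
    have hfpf' : ∀ g : G, g ∉ N → ∀ x ∈ N, ⁅x, g⁆ ∈ K → x ∈ K := by
      intro g hg x hx hxg
      rw [← QuotientGroup.eq_one_iff, hmkcomm] at hxg
      have h1 := hfpf (g : G ⧸ K) (fun h => hg ((hmemN g).mpr h)) (x : G ⧸ K) ((hmemN x).mp hx)
        (commutatorElement_eq_one_iff_mul_comm.mp hxg)
      exact (QuotientGroup.eq_one_iff x).mp h1
    obtain ⟨r, hr, hall⟩ := hub_frob N K hKneN hNtop hab hGN p hp hpN a hrel hfpf'
    exact ⟨r, p, hr, hall⟩

end Fin

/-- **Manz**: the degree graph of a finite solvable group has at most two connected components. -/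
theorem card_components_le_two {G : Type u} [Group G] [Finite G] [Group.IsSolvable G] :
    Nat.card ((degreeGraph G).induce (degreePrimes G)).ConnectedComponent ≤ 2 := by
  classical
  haveI : Fintype G := Fintype.ofFinite G
  by_cases hna : ∀ a b : G, a * b = b * a
  · have hempty : IsEmpty ↥(degreePrimes G) := by
      constructor
      rintro ⟨x, hx, d, ⟨χ, hχ⟩, hxd⟩
      have h1 := comm_iff_forall_irr_degree_one.mp hna χ
      rw [TwoDeg.apply_one_eq_charDegree χ, hχ] at h1
      have hd1 : d = 1 := by exact_mod_cast h1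
      rw [hd1] at hxd
      exact hx.one_lt.ne' (Nat.dvd_one.mp hxd)
    haveI : IsEmpty ((degreeGraph G).induce (degreePrimes G)).ConnectedComponent := by
      constructor
      intro c
      induction c using SimpleGraph.ConnectedComponent.ind with
      | h v => exact hempty.false v
    rw [Nat.card_of_isEmpty]
    omega
  · obtain ⟨r, p, hr, hall⟩ := hubs hna
    set Γ := (degreeGraph G).induce (degreePrimes G) with hΓ
    have hreach : ∀ (v : ↥(degreePrimes G)) (a : ℕ) (ha : a ∈ degreePrimes G),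
        (v.1 = a ∨ (degreeGraph G).Adj v.1 a) → Γ.Reachable ⟨a, ha⟩ v := by
      intro v a ha h
      rcases h with h | h
      · have : v = ⟨a, ha⟩ := Subtype.ext h
        rw [this]
      · apply SimpleGraph.Adj.reachable
        show (degreeGraph G).Adj a v.1
        exact h.symm
    by_cases hp : p ∈ degreePrimes G
    · let f : Bool → Γ.ConnectedComponent := fun b =>
        if b then Γ.connectedComponentMk ⟨r, hr⟩ else Γ.connectedComponentMk ⟨p, hp⟩
      have hsurj : Function.Surjective f := by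
        intro c
        induction c using SimpleGraph.ConnectedComponent.ind with
        | h v =>
          rcases hall v.1 v.2 with h | ⟨_, h⟩
          · exact ⟨true, SimpleGraph.ConnectedComponent.eq.mpr (hreach v r hr h)⟩
          · exact ⟨false, SimpleGraph.ConnectedComponent.eq.mpr (hreach v p hp h)⟩
      have := Nat.card_le_card_of_surjective f hsurj
      simpa using this
    · let f : Unit → Γ.ConnectedComponent := fun _ => Γ.connectedComponentMk ⟨r, hr⟩
      have hsurj : Function.Surjective f := by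
        intro c
        induction c using SimpleGraph.ConnectedComponent.ind with
        | h v =>
          rcases hall v.1 v.2 with h | ⟨hp', _⟩
          · exact ⟨(), SimpleGraph.ConnectedComponent.eq.mpr (hreach v r hr h)⟩
          · exact absurd hp' hp
      have := Nat.card_le_card_of_surjective f hsurj
      have h1 : Nat.card Unit = 1 := by simp
      omega

end Cfsg.Agent.Lib.Helper2.ManzTwo
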