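import Cfsg.Agent.Lib.Helper20.MinDegCard

/-! S2140 front (helper11), piece F6R: in case (i) `A v` is regular on `G ⧸ H`, so `G = A v · H`. -/

set_option autoImplicit false

namespace Cfsg.Agent.Lib.Helper11.MinDeg

open Matrix

variable {F : Type*} [Field F] [Fintype F] {n : ℕ}

/-- F6R: in case (i) `A v` is regular on `G ⧸ H`, so `G = A v · H`. -/
theorem caseI_factor {q : ℕ} (hq : Fintype.card F = q)
    (H : Subgroup (SpecialLinearGroup (Fin n) F))
    (hidx : H.index = q ^ (n - 1)) (h : ∀ v : Fin n → F, v ≠ 0 → A v ⊓ H = ⊥)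
    {v : Fin n → F} (hv : v ≠ 0) (x : SpecialLinearGroup (Fin n) F) :
    ∃ a ∈ A v, a * x ∈ H := by
  classical
  have hfin : Finite (SpecialLinearGroup (Fin n) F) := inferInstance
  have hcard : Nat.card (A v) * Nat.card H = Nat.card (SpecialLinearGroup (Fin n) F) := by
    rw [card_A hv hq, ← hidx, mul_comm]
    exact Subgroup.card_mul_index H
  have hdisj : Disjoint (A v) H := by
    rw [disjoint_iff]
    exact h v hv
  have hc : Subgroup.IsComplement' (A v) H :=
    Subgroup.isComplement'_of_card_mul_and_disjoint hcard hdisj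
  obtain ⟨⟨⟨a, ha⟩, ⟨k, hk⟩⟩, hak, -⟩ := hc.existsUnique x
  refine ⟨a⁻¹, (A v).inv_mem ha, ?_⟩
  have : a⁻¹ * x = k := by
    rw [← hak]
    simp
  rw [this]
  exact hk

end Cfsg.Agent.Lib.Helper11.MinDeg
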