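import Mathlib
import Cfsg.Prelude.Def_Transfer
import Cfsg.Agent.Lib.Helper13.Frobenius
import Cfsg.Agent.Lib.Helper10.FittingHall

/-!
# Minimal non-p-nilpotent groups (S0132)
(helper2 library)
-/

set_option autoImplicit false

namespace Cfsg.Agent.Lib.Helper2

open scoped commutatorElement
open Cfsg.Agent.Lib.Helper13

universe u

variable {G : Type u} [Group G]

/-- structure of a minimal non-`p`-nilpotent group: `G = Q ⋊ ⟨g⟩`. -/
theorem minNonPNilpotent_structure [Finite G] {p : ℕ} [Fact p.Prime]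
    (h1 : ¬ Cfsg.HasNormalPComplement p G)
    (h2 : ∀ H : Subgroup G, H ≠ ⊤ → Cfsg.HasNormalPComplement p H) :
    ∃ (Q : Subgroup G) (g : G), IsPGroup p Q ∧ Q.Normal ∧ Nat.Coprime (orderOf g) p ∧
      g ∉ Subgroup.centralizer (Q : Set G) ∧ Q ⊔ Subgroup.zpowers g = ⊤ := by
  have hnLC : ¬ LocalCentral p G := by
    intro h
    obtain ⟨P⟩ : Nonempty (Sylow p G) := inferInstance
    obtain ⟨K, hKn, hK⟩ := exists_normal_complement_of_localCentral h P
    exact h1 ⟨P, K, hKn, hK⟩
  unfold LocalCentral at hnLC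
  push Not at hnLC
  obtain ⟨Q, hQ, g, hgN, hgcop, hgC⟩ := hnLC
  have htop : Q ⊔ Subgroup.zpowers g = ⊤ := by
    by_contra hne
    obtain ⟨PH, KH, hKHn, hKH⟩ := h2 _ hne
    haveI := hKHn
    have hLC : LocalCentral p ↥(Q ⊔ Subgroup.zpowers g) :=
      localCentral_of_normal_complement PH KH hKH
    have hgH : g ∈ Q ⊔ Subgroup.zpowers g := Subgroup.mem_sup_right (Subgroup.mem_zpowers g)
    have hQH : Q ≤ Q ⊔ Subgroup.zpowers g := le_sup_left
    have hnorm : (⟨g, hgH⟩ : ↥(Q ⊔ Subgroup.zpowers g)) ∈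
        Subgroup.normalizer ((Q.subgroupOf (Q ⊔ Subgroup.zpowers g) : Subgroup _) : Set _) := by
      rw [Subgroup.mem_normalizer_iff]
      intro x
      rw [Subgroup.mem_subgroupOf, Subgroup.mem_subgroupOf]
      exact (Subgroup.mem_normalizer_iff.mp hgN) x.1
    have hc := hLC _ (hQ.comap_subtype) ⟨g, hgH⟩ hnorm (by rwa [Subgroup.orderOf_mk])
    apply hgC
    rw [Subgroup.mem_centralizer_iff] at hc ⊢
    intro q hq
    have := hc ⟨q, hQH hq⟩ (by exact hq)
    exact congrArg Subtype.val this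
  have hQn : Q.Normal := by
    rw [← Subgroup.normalizer_eq_top_iff, eq_top_iff, ← htop]
    exact sup_le Subgroup.le_normalizer ((Subgroup.zpowers_le).mpr hgN)
  exact ⟨Q, g, hQ, hQn, hgcop, hgC, htop⟩

/-- the quotient by `Q` is generated by the image of `g`. -/
theorem commutator_le_of_sup_zpowers {Q : Subgroup G} [Q.Normal] {g : G}
    (htop : Q ⊔ Subgroup.zpowers g = ⊤) : commutator G ≤ Q := by
  rw [commutator_def, Subgroup.commutator_le]
  intro a _ b _
  have ha : a ∈ Q ⊔ Subgroup.zpowers g := by rw [htop]; trivial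
  have hb : b ∈ Q ⊔ Subgroup.zpowers g := by rw [htop]; trivial
  rw [Subgroup.mem_sup_of_normal_left] at ha hb
  obtain ⟨q₁, hq₁, z₁, ⟨i, rfl⟩, rfl⟩ := ha
  obtain ⟨q₂, hq₂, z₂, ⟨j, rfl⟩, rfl⟩ := hb
  rw [← QuotientGroup.eq_one_iff]
  have e1 : ((q₁ * g ^ i : G) : G ⧸ Q) = (g : G ⧸ Q) ^ i := by
    rw [QuotientGroup.mk_mul, (QuotientGroup.eq_one_iff q₁).mpr hq₁, one_mul, QuotientGroup.mk_zpow]
  have e2 : ((q₂ * g ^ j : G) : G ⧸ Q) = (g : G ⧸ Q) ^ j := by
    rw [QuotientGroup.mk_mul, (QuotientGroup.eq_one_iff q₂).mpr hq₂, one_mul, QuotientGroup.mk_zpow]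
  rw [commutatorElement_def]
  simp only [QuotientGroup.mk_mul, QuotientGroup.mk_inv]
  change ((q₁ * g ^ i : G) : G ⧸ Q) * ((q₂ * g ^ j : G) : G ⧸ Q) * ((q₁ * g ^ i : G) : G ⧸ Q)⁻¹ *
    ((q₂ * g ^ j : G) : G ⧸ Q)⁻¹ = 1
  rw [e1, e2, ← zpow_add, ← zpow_neg, ← zpow_neg, ← zpow_add, ← zpow_add]
  have : i + j + -i + -j = 0 := by ring
  rw [this, zpow_zero]

theorem index_dvd_orderOf_of_sup_zpowers [Finite G] {Q : Subgroup G} [Q.Normal] {g : G}
    (htop : Q ⊔ Subgroup.zpowers g = ⊤) : Q.index ∣ orderOf g := by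
  have h1 : Subgroup.zpowers ((g : G) : G ⧸ Q) = ⊤ := by
    rw [eq_top_iff]
    intro x _
    induction x using QuotientGroup.induction_on with
    | H a =>
      have ha : a ∈ Q ⊔ Subgroup.zpowers g := by rw [htop]; trivial
      rw [Subgroup.mem_sup_of_normal_left] at ha
      obtain ⟨q₁, hq₁, z₁, ⟨i, rfl⟩, rfl⟩ := ha
      refine ⟨i, ?_⟩
      change ((g : G) : G ⧸ Q) ^ i = _
      rw [QuotientGroup.mk_mul, (QuotientGroup.eq_one_iff q₁).mpr hq₁, one_mul,
        QuotientGroup.mk_zpow]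
  rw [Subgroup.index_eq_card, ← Subgroup.card_top (G := G ⧸ Q), ← h1, Nat.card_zpowers]
  exact orderOf_map_dvd (QuotientGroup.mk' Q) g

/-- S0132. -/
theorem minNonPNilpotent [Finite G] {p : ℕ} [Fact p.Prime]
    (h1 : ¬ Cfsg.HasNormalPComplement p G)
    (h2 : ∀ H : Subgroup G, H ≠ ⊤ → Cfsg.HasNormalPComplement p H) :
    (∀ H : Subgroup G, H ≠ ⊤ → Group.IsNilpotent H) ∧ ¬ Group.IsNilpotent G ∧
      ∀ P : Sylow p G, (P : Subgroup G).Normal := by
  have hp : p.Prime := Fact.out
  obtain ⟨Q, g, hQ, hQn, hgcop, hgC, htop⟩ := minNonPNilpotent_structure h1 h2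
  haveI := hQn
  have hcomm : commutator G ≤ Q := commutator_le_of_sup_zpowers htop
  have hidx : Q.index ∣ orderOf g := index_dvd_orderOf_of_sup_zpowers htop
  refine ⟨?_, ?_, ?_⟩
  · -- proper subgroups are nilpotent
    intro M hM
    obtain ⟨PM, KM, hKMn, hKM⟩ := h2 M hM
    haveI := hKMn
    obtain ⟨hKcop, k, hk⟩ := coprime_and_index_of_isComplement' KM PM hKM
    set QM : Subgroup ↥M := Q.subgroupOf M with hQM
    haveI hQMn : QM.Normal := by rw [hQM]; infer_instance
    let f : ↥M →* (↥M ⧸ KM) × (↥M ⧸ QM) :=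
      (QuotientGroup.mk' KM).prod (QuotientGroup.mk' QM)
    have hker : f.ker ≤ Subgroup.center ↥M := by
      intro x hx
      rw [MonoidHom.mem_ker] at hx
      have hx1 : (QuotientGroup.mk' KM) x = 1 := congrArg Prod.fst hx
      have hx2 : (QuotientGroup.mk' QM) x = 1 := congrArg Prod.snd hx
      rw [QuotientGroup.mk'_apply, QuotientGroup.eq_one_iff] at hx1 hx2
      -- `x` has `p`-power order and order dividing `|KM|`
      have hxQ : (x : G) ∈ Q := hx2
      obtain ⟨j, hj⟩ := (IsPGroup.iff_orderOf.mp hQ) ⟨_, hxQ⟩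
      rw [Subgroup.orderOf_mk, Subgroup.orderOf_coe] at hj
      have h4 : orderOf x ∣ Nat.card KM := by
        have := orderOf_dvd_natCard (⟨x, hx1⟩ : KM)
        rwa [Subgroup.orderOf_mk] at this
      have h5 : (orderOf x).Coprime (Nat.card KM) := by
        rw [hj]; exact (Nat.Coprime.pow_right j hKcop).symm
      have h6 : orderOf x = 1 := Nat.Coprime.eq_one_of_dvd h5 h4
      rw [orderOf_eq_one_iff.mp h6]
      exact one_mem _
    haveI : Group.IsNilpotent (↥M ⧸ KM) := by
      have hcard : Nat.card (↥M ⧸ KM) = p ^ k := by rw [← hk, Subgroup.index_eq_card]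
      exact (IsPGroup.of_card hcard).isNilpotent
    haveI : Group.IsNilpotent (↥M ⧸ QM) := by
      have hc : IsMulCommutative (↥M ⧸ QM) := by
        rw [Subgroup.Normal.quotient_commutative_iff_commutator_le, commutator_def,
          Subgroup.commutator_le]
        intro a _ b _
        rw [hQM, Subgroup.mem_subgroupOf]
        apply hcomm
        rw [commutator_def]
        have : ((⁅a, b⁆ : ↥M) : G) = ⁅(a : G), (b : G)⁆ := by
          rw [commutatorElement_def, commutatorElement_def]; simp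
        rw [this]
        exact Subgroup.commutator_mem_commutator (Subgroup.mem_top _) (Subgroup.mem_top _)
      letI : CommGroup (↥M ⧸ QM) :=
        { (inferInstance : Group (↥M ⧸ QM)) with mul_comm := hc.is_comm.comm }
      exact CommGroup.isNilpotent
    exact Subgroup.isNilpotent_of_ker_le_center f hker
  · -- `G` is not nilpotent
    intro hnil
    apply hgC
    rw [Subgroup.mem_centralizer_iff]
    intro q hq
    obtain ⟨j, hj⟩ := (IsPGroup.iff_orderOf.mp hQ) ⟨_, hq⟩
    rw [Subgroup.orderOf_mk] at hj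
    have hcop : (orderOf q).Coprime (orderOf g) := by
      rw [hj]; exact (Nat.Coprime.pow_right j hgcop).symm
    exact (Cfsg.Agent.Lib.Helper10.commute_of_coprime_orderOf G q g hcop).eq
  · -- the Sylow `p`-subgroup is `Q`
    intro P
    have hQP : Q ≤ (P : Subgroup G) := hQ.le_sylow_of_normal P
    have hcard : Nat.card (P : Subgroup G) ≤ Nat.card Q := by
      obtain ⟨k, hk⟩ := IsPGroup.iff_card.mp P.2
      have h3 : Nat.card (P : Subgroup G) ∣ Nat.card Q * Q.index := by
        rw [Subgroup.card_mul_index]; exact Subgroup.card_subgroup_dvd_card _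
      have h4 : (Nat.card (P : Subgroup G)).Coprime Q.index := by
        rw [hk]
        apply Nat.Coprime.pow_left
        exact (Nat.Coprime.coprime_dvd_left hidx hgcop).symm
      exact Nat.le_of_dvd Nat.card_pos (h4.dvd_of_dvd_mul_right h3)
    have : Q = (P : Subgroup G) := Subgroup.eq_of_le_of_card_ge hQP hcard
    rw [← this]; exact hQn

end Cfsg.Agent.Lib.Helper2
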