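import Mathlib
import Cfsg.Prelude.Def_Blocks
import Cfsg.Agent.Lib.Helper2.CharBasic
import Cfsg.Agent.Lib.Helper2.Column
import Cfsg.Agent.Lib.Helper24.GaloisProd

/-!
If no irreducible character vanishes at `g` then `k(G) ≤ |C_G(g)|` (Galois averaging + AM–GM).
-/

set_option autoImplicit false
set_option linter.style.haveILetI false
set_option linter.unusedSectionVars false

namespace Cfsg.Agent.Lib.Helper2

namespace NonvanishingBound

open Cfsg Representation
open scoped ComplexConjugate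

variable {G : Type*} [Group G] [Fintype G]

/-- For a character value `χ(g) ≠ 0`, the Galois conjugates `χ(g^k)` have squared absolute
values summing to at least `φ(|G|)`. -/
theorem card_units_le_sum_char [NeZero (Nat.card G)] (χ : Cfsg.IrrCharacter G) (g : G)
    (h : (χ : G → ℂ) g ≠ 0) :
    (Fintype.card (ZMod (Nat.card G))ˣ : ℝ) ≤
      ∑ k : (ZMod (Nat.card G))ˣ, ‖(χ : G → ℂ) (g ^ (k : ZMod (Nat.card G)).val)‖ ^ 2 := by
  obtain ⟨n, ρ, _, hρ⟩ := χ.2
  obtain ⟨μ, hμ, h1, -⟩ := exists_eigenvalues ρ g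
  have hμ' : ∀ i, μ i ^ Nat.card G = 1 := by
    intro i
    obtain ⟨c, hc⟩ := orderOf_dvd_natCard g
    rw [hc, pow_mul, hμ, one_pow]
  have hsum1 : (∑ i, μ i) ≠ 0 := by
    have := h1 1
    simp only [pow_one] at this
    rw [← this, hρ]
    exact h
  have h2 := (Cfsg.Agent.Lib.Helper24.card_units_le_sum_normSq (Nat.card G) _ μ hμ' hsum1).2
  refine le_trans h2 (le_of_eq ?_)
  apply Finset.sum_congr rfl
  intro k _
  rw [← hρ, h1]

/-- the centralizer of `g ^ k` equals that of `g` when `k` is prime to `|G|` -/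
theorem centralizer_pow_coprime (g : G) (k : ℕ) (hk : (Nat.card G).Coprime k) :
    Subgroup.centralizer ({g ^ k} : Set G) = Subgroup.centralizer ({g} : Set G) := by
  apply le_antisymm
  · intro x hx
    rw [Subgroup.mem_centralizer_singleton_iff] at hx ⊢
    have h1 : g = (g ^ k) ^ ((Nat.card G).gcdB k) := by
      have := (powCoprime hk).symm_apply_apply g
      simpa [powCoprime] using this.symm
    have hc : Commute x (g ^ k) := hx
    have hc2 : Commute x ((g ^ k) ^ ((Nat.card G).gcdB k)) := hc.zpow_right _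
    rw [← h1] at hc2
    exact hc2
  · intro x hx
    rw [Subgroup.mem_centralizer_singleton_iff] at hx ⊢
    have hc : Commute x g := hx
    exact hc.pow_right k

/-- `φ(|G|) · #Irr(G) ≤ φ(|G|) · |C_G(g)|` when no irreducible character vanishes at `g`;
stated with the inner sums to also give the equality case. -/
theorem sum_sum_eq [NeZero (Nat.card G)] [Fintype (Cfsg.IrrCharacter G)] (g : G) :
    ∑ χ : Cfsg.IrrCharacter G, ∑ k : (ZMod (Nat.card G))ˣ,
        ‖(χ : G → ℂ) (g ^ (k : ZMod (Nat.card G)).val)‖ ^ 2 =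
      (Fintype.card (ZMod (Nat.card G))ˣ : ℝ) *
        (Nat.card (Subgroup.centralizer ({g} : Set G)) : ℝ) := by
  classical
  rw [Finset.sum_comm]
  have h1 : ∀ k : (ZMod (Nat.card G))ˣ, ∑ χ : Cfsg.IrrCharacter G,
      ‖(χ : G → ℂ) (g ^ (k : ZMod (Nat.card G)).val)‖ ^ 2 =
      (Nat.card (Subgroup.centralizer ({g} : Set G)) : ℝ) := by
    intro k
    have hk : (Nat.card G).Coprime (k : ZMod (Nat.card G)).val :=
      (ZMod.val_coe_unit_coprime k).symm
    have h2 := column_orthogonality (g ^ (k : ZMod (Nat.card G)).val)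
      (g ^ (k : ZMod (Nat.card G)).val)
    rw [if_pos (IsConj.refl _), centralizer_pow_coprime g _ hk] at h2
    have h3 : ((∑ χ : Cfsg.IrrCharacter G,
        ‖(χ : G → ℂ) (g ^ (k : ZMod (Nat.card G)).val)‖ ^ 2 : ℝ) : ℂ) =
        (Nat.card (Subgroup.centralizer ({g} : Set G)) : ℂ) := by
      rw [← h2]
      push_cast
      apply Finset.sum_congr rfl
      intro χ _
      rw [Complex.mul_conj, Complex.normSq_eq_norm_sq]
      push_cast
      rfl
    exact_mod_cast h3
  rw [Finset.sum_congr rfl (fun k _ => h1 k), Finset.sum_const, Finset.card_univ, nsmul_eq_mul]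

/-- `k(G) ≤ |C_G(g)|` when no irreducible character vanishes at `g`; in case of equality,
every irreducible character has Galois-sum exactly `φ(|G|)`. -/
theorem card_irr_le_card_centralizer [NeZero (Nat.card G)] [Fintype (Cfsg.IrrCharacter G)]
    (g : G) (hnv : ∀ χ : Cfsg.IrrCharacter G, (χ : G → ℂ) g ≠ 0) :
    Fintype.card (Cfsg.IrrCharacter G) ≤ Nat.card (Subgroup.centralizer ({g} : Set G)) ∧
    (Fintype.card (Cfsg.IrrCharacter G) = Nat.card (Subgroup.centralizer ({g} : Set G)) →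
      ∀ χ : Cfsg.IrrCharacter G, ∑ k : (ZMod (Nat.card G))ˣ,
        ‖(χ : G → ℂ) (g ^ (k : ZMod (Nat.card G)).val)‖ ^ 2 =
        (Fintype.card (ZMod (Nat.card G))ˣ : ℝ)) := by
  classical
  set φn : ℝ := (Fintype.card (ZMod (Nat.card G))ˣ : ℝ) with hφn
  have hφpos : 0 < φn := by
    rw [hφn]
    exact_mod_cast Fintype.card_pos
  have hle : ∀ χ : Cfsg.IrrCharacter G, φn ≤ ∑ k : (ZMod (Nat.card G))ˣ,
      ‖(χ : G → ℂ) (g ^ (k : ZMod (Nat.card G)).val)‖ ^ 2 :=
    fun χ => card_units_le_sum_char χ g (hnv χ)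
  have hsum := sum_sum_eq g
  have h1 : (Fintype.card (Cfsg.IrrCharacter G) : ℝ) * φn ≤
      φn * (Nat.card (Subgroup.centralizer ({g} : Set G)) : ℝ) := by
    rw [← hsum]
    calc (Fintype.card (Cfsg.IrrCharacter G) : ℝ) * φn
        = ∑ _χ : Cfsg.IrrCharacter G, φn := by
          rw [Finset.sum_const, Finset.card_univ, nsmul_eq_mul]
      _ ≤ _ := Finset.sum_le_sum (fun χ _ => hle χ)
  constructor
  · have h2 : (Fintype.card (Cfsg.IrrCharacter G) : ℝ) ≤
        (Nat.card (Subgroup.centralizer ({g} : Set G)) : ℝ) := by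
      rw [mul_comm] at h1
      exact le_of_mul_le_mul_left h1 hφpos
    exact_mod_cast h2
  · intro heq χ
    by_contra hne
    have hlt : φn < ∑ k : (ZMod (Nat.card G))ˣ,
        ‖(χ : G → ℂ) (g ^ (k : ZMod (Nat.card G)).val)‖ ^ 2 :=
      lt_of_le_of_ne (hle χ) (fun h => hne h.symm)
    have h3 : ∑ _χ : Cfsg.IrrCharacter G, φn < ∑ χ : Cfsg.IrrCharacter G,
        ∑ k : (ZMod (Nat.card G))ˣ, ‖(χ : G → ℂ) (g ^ (k : ZMod (Nat.card G)).val)‖ ^ 2 :=
      Finset.sum_lt_sum (fun χ _ => hle χ) ⟨χ, Finset.mem_univ _, hlt⟩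
    rw [hsum, Finset.sum_const, Finset.card_univ, nsmul_eq_mul, heq, mul_comm] at h3
    exact lt_irrefl _ h3

end NonvanishingBound

end Cfsg.Agent.Lib.Helper2
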