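import Mathlib
import Cfsg.Prelude.Def_Characters
import Cfsg.Agent.Lib.Helper2.CharBasic

/-!
# The sum of an irreducible representation over a normal subgroup not in the kernel
(helper2 library)
-/

set_option autoImplicit false

namespace Cfsg.Agent.Lib.Helper2

open Module

variable {G : Type*} [Group G] {k : Type*} [Field k] {V : Type*} [AddCommGroup V] [Module k V]

/-- The sum of `ρ h` over a normal subgroup commutes with the representation. -/
theorem sum_normal_comm (ρ : Representation k G V) (H : Subgroup G) [H.Normal] [Fintype H]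
    (g : G) : (∑ h : H, ρ (h : G)) ∘ₗ ρ g = ρ g ∘ₗ ∑ h : H, ρ (h : G) := by
  change (∑ h : H, ρ (h : G)) * ρ g = ρ g * ∑ h : H, ρ (h : G)
  rw [Finset.sum_mul, Finset.mul_sum]
  rw [← Equiv.sum_comp (MulAut.conjNormal (H := H) g).toEquiv]
  apply Finset.sum_congr rfl
  intro h _
  have : ((MulAut.conjNormal (H := H) g).toEquiv h : G) = g * h * g⁻¹ := by
    simp [MulAut.conjNormal_apply]
  rw [this]
  change ρ (g * h * g⁻¹) * ρ g = ρ g * ρ h
  rw [← map_mul, ← map_mul]
  congr 1
  group

/-- If `ρ` is irreducible and the normal subgroup `H` is not contained in the kernel, then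
`∑ h ∈ H, ρ h = 0`. -/
theorem sum_normal_eq_zero (ρ : Representation k G V) [ρ.IsIrreducible] (H : Subgroup G)
    [H.Normal] [Fintype H] (hker : ∃ h ∈ H, ρ h ≠ LinearMap.id) :
    ∑ h : H, ρ (h : G) = 0 := by
  let f : Representation.IntertwiningMap ρ ρ := ⟨∑ h : H, ρ (h : G), sum_normal_comm ρ H⟩
  rcases Representation.IsIrreducible.injective_or_eq_zero f with hinj | h0
  · exfalso
    obtain ⟨h₀, hh₀, hne⟩ := hker
    apply hne
    ext v
    apply hinj
    change (∑ h : H, ρ (h : G)) (ρ h₀ v) = (∑ h : H, ρ (h : G)) (LinearMap.id v)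
    rw [LinearMap.sum_apply, LinearMap.sum_apply]
    simp only [LinearMap.id_coe, id_eq]
    rw [← Equiv.sum_comp (Equiv.mulRight (⟨h₀, hh₀⟩ : H)) (fun h : H => ρ (h : G) v)]
    apply Finset.sum_congr rfl
    intro h _
    simp only [Equiv.coe_mulRight, Subgroup.coe_mul, map_mul, Module.End.mul_apply]
  · have := congrArg Representation.IntertwiningMap.toLinearMap h0
    exact this

/-- Let `H` be a normal subgroup and `ρ` an irreducible representation whose kernel does not contain
`H`.  If `g` commutes with no non-identity element of `H`, then the character vanishes at `g`. -/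
theorem char_eq_zero_of_free {G : Type*} [Group G] [Finite G] {V : Type*} [AddCommGroup V]
    [Module ℂ V] [FiniteDimensional ℂ V] (ρ : Representation ℂ G V) [ρ.IsIrreducible]
    (H : Subgroup G) [H.Normal] (hker : ∃ h ∈ H, ρ h ≠ LinearMap.id) (g : G)
    (hg : ∀ h ∈ H, h * g = g * h → h = 1) : ρ.character g = 0 := by
  classical
  haveI : Fintype H := Fintype.ofFinite H
  have hmem : ∀ h : H, g⁻¹ * (h : G)⁻¹ * g * h ∈ H := by
    intro h
    have h1 : g⁻¹ * (h : G)⁻¹ * g⁻¹⁻¹ ∈ H :=
      Subgroup.Normal.conj_mem inferInstance _ (H.inv_mem h.2) g⁻¹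
    rw [inv_inv] at h1
    exact H.mul_mem h1 h.2
  let φ : H → H := fun h => ⟨g⁻¹ * (h : G)⁻¹ * g * h, hmem h⟩
  have hφinj : Function.Injective φ := by
    intro a b hab
    have h1 : g⁻¹ * (a : G)⁻¹ * g * a = g⁻¹ * (b : G)⁻¹ * g * b := congrArg Subtype.val hab
    have h2 : ((b : G) * (a : G)⁻¹) * g = g * ((b : G) * (a : G)⁻¹) := by
      have h3 : (a : G)⁻¹ * g * a = (b : G)⁻¹ * g * b := by
        have := congrArg (fun t => g * t) h1
        simpa [mul_assoc] using this
      calc ((b : G) * (a : G)⁻¹) * g = b * ((a : G)⁻¹ * g * a) * (a : G)⁻¹ := by group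
        _ = b * ((b : G)⁻¹ * g * b) * (a : G)⁻¹ := by rw [h3]
        _ = g * ((b : G) * (a : G)⁻¹) := by group
    have h4 := hg _ (H.mul_mem b.2 (H.inv_mem a.2)) h2
    apply Subtype.ext
    have : (b : G) = a := by
      calc (b : G) = (b : G) * (a : G)⁻¹ * a := by group
        _ = a := by rw [h4, one_mul]
    exact this.symm
  have hφsurj : Function.Surjective φ := Finite.injective_iff_surjective.mp hφinj
  have hconj : ∀ x : H, ρ.character (g * x) = ρ.character g := by
    intro x
    obtain ⟨h, rfl⟩ := hφsurj x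
    have : g * ((φ h : H) : G) = (h : G)⁻¹ * g * ((h : G)⁻¹)⁻¹ := by
      change g * (g⁻¹ * (h : G)⁻¹ * g * h) = _
      group
    rw [this, Representation.char_conj]
  have hsum : ∑ x : H, ρ.character (g * x) = 0 := by
    have h0 := sum_normal_eq_zero ρ H hker
    calc ∑ x : H, ρ.character (g * x) = LinearMap.trace ℂ V (ρ g * ∑ x : H, ρ (x : G)) := by
          rw [Finset.mul_sum, map_sum]
          apply Finset.sum_congr rfl
          intro x _
          rw [Representation.character, map_mul]
      _ = 0 := by rw [h0, mul_zero, map_zero]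
  simp only [hconj, Finset.sum_const, Finset.card_univ, nsmul_eq_mul] at hsum
  have hne : (Fintype.card H : ℂ) ≠ 0 := by exact_mod_cast Fintype.card_ne_zero
  exact (mul_eq_zero.mp hsum).resolve_left hne

end Cfsg.Agent.Lib.Helper2
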