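import Mathlib
import Cfsg.Agent.Lib.Helper2.SylowTrick

/-!
# S5681 / S5709 (O ⊗ O), piece NP `not_pgroup` (helper2, for helper28)

The Sylow trick in fixed-point form: two elements of `H` whose fixed cosets in `H / (H ∩ N)` are different
single points cannot generate a `p`-group.
-/

set_option autoImplicit false

namespace Cfsg.Agent.Lib.Helper2.OTNP

open Cfsg.Agent.Lib.Helper2.SylowTrick

/-- NP : (Sylow trick, fixed-point form) -/
theorem not_pgroup {G : Type*} [Group G] (p : ℕ) [Fact p.Prime] (H N : Subgroup G) [Finite H]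
    (x₁ x₂ g₂ : G) (hx₁ : x₁ ∈ H) (hx₂ : x₂ ∈ H) (hg₂ : g₂ ∈ H) (hx₁N : x₁ ∈ N)
    (hfix₁ : ∀ g ∈ H, g⁻¹ * x₁ * g ∈ N → g ∈ N)
    (hfix₂ : ∀ g ∈ H, g⁻¹ * x₂ * g ∈ N → g₂⁻¹ * g ∈ N) (hg₂N : g₂ ∉ N) :
    ¬ IsPGroup p (Subgroup.closure ({x₁, x₂} : Set G)) := by
  classical
  intro hD
  -- the closure inside `H`
  set y₁ : ↥H := ⟨x₁, hx₁⟩ with hy₁
  set y₂ : ↥H := ⟨x₂, hx₂⟩ with hy₂
  set D' : Subgroup ↥H := Subgroup.closure ({y₁, y₂} : Set ↥H) with hD'
  have hmap : D'.map H.subtype = Subgroup.closure ({x₁, x₂} : Set G) := by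
    rw [hD', MonoidHom.map_closure]
    congr 1
    ext g
    simp only [Set.mem_image, Set.mem_insert_iff, Set.mem_singleton_iff]
    constructor
    · rintro ⟨y, rfl | rfl, rfl⟩
      · exact Or.inl rfl
      · exact Or.inr rfl
    · rintro (rfl | rfl)
      · exact ⟨y₁, Or.inl rfl, rfl⟩
      · exact ⟨y₂, Or.inr rfl, rfl⟩
  have hD'p : IsPGroup p D' := by
    have h1 : IsPGroup p (D'.map H.subtype) := by rw [hmap]; exact hD
    intro d
    obtain ⟨k, hk⟩ := h1 ⟨H.subtype d.1, Subgroup.mem_map_of_mem _ d.2⟩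
    refine ⟨k, ?_⟩
    apply Subtype.ext
    apply Subtype.ext
    have := congrArg Subtype.val hk
    simpa using this
  -- the action on the cosets
  set N' : Subgroup ↥H := N.subgroupOf H with hN'
  have hfixpt : ∀ (x : ↥H) (g : ↥H), x • (g : ↥H ⧸ N') = (g : ↥H ⧸ N') ↔ ((g : G)⁻¹ * (x : G) * (g : G)) ∈ N := by
    intro x g
    rw [MulAction.Quotient.smul_coe, eq_comm, QuotientGroup.eq, hN', Subgroup.mem_subgroupOf]
    simp only [smul_eq_mul, Subgroup.coe_mul, Subgroup.coe_inv, mul_assoc]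
  have hw₁ : ∀ w : ↥H ⧸ N', y₁ • w = w ↔ w = ((1 : ↥H) : ↥H ⧸ N') := by
    intro w
    induction w using QuotientGroup.induction_on with
    | H g =>
      rw [hfixpt]
      constructor
      · intro h
        have := hfix₁ (g : G) g.2 h
        rw [QuotientGroup.eq, hN', Subgroup.mem_subgroupOf]
        simpa using N.inv_mem this
      · intro h
        rw [QuotientGroup.eq, hN', Subgroup.mem_subgroupOf] at h
        have hgN : (g : G) ∈ N := by
          have := N.inv_mem h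
          simpa using this
        exact N.mul_mem (N.mul_mem (N.inv_mem hgN) hx₁N) hgN
  have hcard : Nat.card (↥H ⧸ N') ≡ 1 [MOD p] :=
    card_modEq_one p D' hD'p y₁ (Subgroup.subset_closure (Or.inl rfl)) _ hw₁
  obtain ⟨w, hw⟩ := exists_fixed p D' hD'p hcard
  have e1 : w = ((1 : ↥H) : ↥H ⧸ N') := (hw₁ w).1 (hw y₁ (Subgroup.subset_closure (Or.inl rfl)))
  have e2 : y₂ • w = w := hw y₂ (Subgroup.subset_closure (Or.inr rfl))
  rw [e1, hfixpt] at e2
  have := hfix₂ ((1 : ↥H) : G) (1 : ↥H).2 e2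
  apply hg₂N
  have h3 := N.inv_mem this
  simpa using h3

end Cfsg.Agent.Lib.Helper2.OTNP
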