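import Mathlib
import Cfsg.Agent.Lib.Helper3.PermIso
import Cfsg.Agent.Lib.Helper2.Involutions

/-!
# Groups of order 12 without central involutions are `A₄` (S0228)
(helper2 library)
-/

set_option autoImplicit false

namespace Cfsg.Agent.Lib.Helper2

variable {G : Type*} [Group G]

/-- the cardinalities of the Sylow subgroups of a group of order 12 -/
theorem card_sylow_of_card_twelve [Finite G] (hG : Nat.card G = 12) :
    (∀ P : Sylow 3 G, Nat.card (P : Subgroup G) = 3) ∧
    (∀ Q : Sylow 2 G, Nat.card (Q : Subgroup G) = 4) := by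
  haveI : Fact (Nat.Prime 2) := ⟨Nat.prime_two⟩
  haveI : Fact (Nat.Prime 3) := ⟨Nat.prime_three⟩
  constructor
  · intro P
    obtain ⟨k, hk⟩ := IsPGroup.iff_card.mp P.2
    have h1 : 3 ∣ Nat.card (P : Subgroup G) := P.dvd_card_of_dvd_card (by rw [hG]; norm_num)
    have h2 : Nat.card (P : Subgroup G) ∣ 12 := by
      rw [← hG]; exact Subgroup.card_subgroup_dvd_card _
    rw [hk] at h1 h2 ⊢
    have hk1 : k ≤ 1 := by
      by_contra hlt
      push Not at hlt
      have : 3 ^ 2 ∣ 12 := (pow_dvd_pow 3 hlt).trans h2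
      omega
    have hk0 : k ≠ 0 := by
      intro h0; rw [h0] at h1; omega
    have : k = 1 := by omega
    rw [this, pow_one]
  · intro Q
    obtain ⟨k, hk⟩ := IsPGroup.iff_card.mp Q.2
    have h1 : 2 ^ 2 ∣ Nat.card (Q : Subgroup G) :=
      Q.pow_dvd_card_of_pow_dvd_card (by rw [hG]; norm_num)
    have h2 : Nat.card (Q : Subgroup G) ∣ 12 := by
      rw [← hG]; exact Subgroup.card_subgroup_dvd_card _
    rw [hk] at h1 h2 ⊢
    have hk2 : k ≤ 2 := by
      by_contra hlt
      push Not at hlt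
      have : 2 ^ 3 ∣ 12 := (pow_dvd_pow 2 hlt).trans h2
      omega
    have hk2' : 2 ≤ k := by
      by_contra hlt
      push Not at hlt
      have h3 : 2 ^ k ≤ 2 ^ 1 := Nat.pow_le_pow_right (by norm_num) (by omega)
      have h4 := Nat.le_of_dvd (by positivity) h1
      omega
    have : k = 2 := by omega
    rw [this]; norm_num

/-- a normal Sylow 3-subgroup of a group of order 12 gives a central involution -/
theorem exists_central_involution_of_normal_sylow_three [Finite G] (hG : Nat.card G = 12)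
    (P : Sylow 3 G) (hP : (P : Subgroup G).Normal) :
    ∃ z : G, orderOf z = 2 ∧ z ∈ Subgroup.center G := by
  haveI : Fact (Nat.Prime 2) := ⟨Nat.prime_two⟩
  haveI : Fact (Nat.Prime 3) := ⟨Nat.prime_three⟩
  obtain ⟨hP3, hQ4⟩ := card_sylow_of_card_twelve hG
  obtain ⟨Q⟩ : Nonempty (Sylow 2 G) := inferInstance
  have hQcomm : ∀ a b : (Q : Subgroup G), a * b = b * a :=
    IsPGroup.commutative_of_card_eq_prime_sq (p := 2) (by rw [hQ4 Q]; norm_num)
  -- a generator `a` of `P`
  obtain ⟨a, ha⟩ := exists_prime_orderOf_dvd_card' (G := (P : Subgroup G)) 3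
    (by rw [hP3 P])
  have haP : (a : G) ∈ (P : Subgroup G) := a.2
  have haord : orderOf (a : G) = 3 := by rw [Subgroup.orderOf_coe]; exact ha
  have hPzp : (P : Subgroup G) = Subgroup.zpowers (a : G) := by
    symm
    apply Subgroup.eq_of_le_of_card_ge ((Subgroup.zpowers_le).mpr haP)
    rw [Nat.card_zpowers, haord, hP3 P]
  -- elements of `P`
  have hPelts : ∀ x ∈ (P : Subgroup G), x = 1 ∨ x = a ∨ x = (a : G) ^ 2 := by
    intro x hx
    rw [hPzp] at hx
    rw [← mem_powers_iff_mem_zpowers, Submonoid.mem_powers_iff] at hx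
    obtain ⟨n, rfl⟩ := hx
    have h3 : (a : G) ^ 3 = 1 := by
      have := pow_orderOf_eq_one (a : G)
      rwa [haord] at this
    have : (a : G) ^ n = (a : G) ^ (n % 3) := by
      conv_lhs => rw [← Nat.div_add_mod n 3, pow_add, pow_mul, h3, one_pow, one_mul]
    rw [this]
    have hlt : n % 3 < 3 := Nat.mod_lt _ (by norm_num)
    interval_cases (n % 3)
    · left; exact pow_zero _
    · right; left; exact pow_one _
    · right; right; rfl
  -- every `g` centralizes or inverts `a`
  have hconj : ∀ g : G, g * a * g⁻¹ = a ∨ g * a * g⁻¹ = (a : G) ^ 2 := by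
    intro g
    have hmem : g * a * g⁻¹ ∈ (P : Subgroup G) := hP.conj_mem a haP g
    rcases hPelts _ hmem with h | h | h
    · exfalso
      have : (a : G) = 1 := by
        have h2 : (a : G) = g⁻¹ * (g * a * g⁻¹) * g := by group
        rw [h2, h]; group
      rw [this, orderOf_one] at haord
      omega
    · left; exact h
    · right; exact h
  -- some nontrivial element of `Q` centralizes `a`
  have hex : ∃ q ∈ (Q : Subgroup G), q ≠ 1 ∧ q * a * q⁻¹ = a := by
    by_contra hcon
    push Not at hcon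
    -- two distinct nontrivial elements
    have hcard : 2 < Nat.card (Q : Subgroup G) := by rw [hQ4 Q]; norm_num
    obtain ⟨q₁, q₂, hq₁, hq₂, hq₁₂⟩ :
        ∃ q₁ q₂ : (Q : Subgroup G), q₁ ≠ 1 ∧ q₂ ≠ 1 ∧ q₁ ≠ q₂ := by
      haveI : Fintype (Q : Subgroup G) := Fintype.ofFinite _
      rw [Nat.card_eq_fintype_card] at hcard
      obtain ⟨x, y, z, hxy, hxz, hyz⟩ := Fintype.two_lt_card_iff.mp hcard
      by_cases hx : x = 1
      · exact ⟨y, z, fun h => hxy (hx.trans h.symm), fun h => hxz (hx.trans h.symm), hyz⟩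
      · by_cases hy : y = 1
        · exact ⟨x, z, hx, fun h => hyz (hy.trans h.symm), hxz⟩
        · exact ⟨x, y, hx, hy, hxy⟩
    have h1 : (q₁ : G) * a * (q₁ : G)⁻¹ = (a : G) ^ 2 := by
      rcases hconj q₁ with h | h
      · exact absurd h (hcon q₁ q₁.2 (fun h => hq₁ (Subtype.ext h)))
      · exact h
    have h2 : (q₂ : G) * a * (q₂ : G)⁻¹ = (a : G) ^ 2 := by
      rcases hconj q₂ with h | h
      · exact absurd h (hcon q₂ q₂.2 (fun h => hq₂ (Subtype.ext h)))
      · exact h
    have h3 : ((q₂ : G)⁻¹ * q₁) * a * ((q₂ : G)⁻¹ * q₁)⁻¹ = a := by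
      calc ((q₂ : G)⁻¹ * q₁) * a * ((q₂ : G)⁻¹ * q₁)⁻¹
          = (q₂ : G)⁻¹ * ((q₁ : G) * a * (q₁ : G)⁻¹) * q₂ := by group
        _ = (q₂ : G)⁻¹ * ((q₂ : G) * a * (q₂ : G)⁻¹) * q₂ := by rw [h1, h2]
        _ = a := by group
    refine hcon _ ((Q : Subgroup G).mul_mem ((Q : Subgroup G).inv_mem q₂.2) q₁.2) ?_ h3
    intro h
    apply hq₁₂
    apply Subtype.ext
    have : (q₁ : G) = q₂ := by
      calc (q₁ : G) = q₂ * ((q₂ : G)⁻¹ * q₁) := by group
        _ = q₂ := by rw [h, mul_one]
    exact this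
  obtain ⟨q, hqQ, hq1, hqa⟩ := hex
  -- an involution of `⟨q⟩` centralizing `a`
  have hq4 : q ^ 4 = 1 := by
    have := pow_card_eq_one' (G := (Q : Subgroup G)) (x := ⟨q, hqQ⟩)
    rw [hQ4 Q] at this
    exact congrArg Subtype.val this
  obtain ⟨z, hzQ, hzord, hza⟩ : ∃ z ∈ (Q : Subgroup G), orderOf z = 2 ∧ z * a * z⁻¹ = a := by
    by_cases hq2 : q * q = 1
    · exact ⟨q, hqQ, orderOf_eq_two_iff'.mpr ⟨hq1, hq2⟩, hqa⟩
    · refine ⟨q * q, (Q : Subgroup G).mul_mem hqQ hqQ, orderOf_eq_two_iff'.mpr ⟨hq2, ?_⟩, ?_⟩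
      · calc q * q * (q * q) = q ^ 4 := by
              rw [show (4 : ℕ) = 2 + 2 by norm_num, pow_add, pow_two]
          _ = 1 := hq4
      · calc q * q * a * (q * q)⁻¹ = q * (q * a * q⁻¹) * q⁻¹ := by group
          _ = a := by rw [hqa, hqa]
  refine ⟨z, hzord, ?_⟩
  -- the centralizer of `z` contains `P` and `Q`
  have hCP : (P : Subgroup G) ≤ Subgroup.centralizer ({z} : Set G) := by
    rw [hPzp, Subgroup.zpowers_le, Subgroup.mem_centralizer_iff]
    intro y hy
    rw [Set.mem_singleton_iff] at hy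
    subst hy
    exact (mul_inv_eq_iff_eq_mul.mp hza)
  have hCQ : (Q : Subgroup G) ≤ Subgroup.centralizer ({z} : Set G) := by
    intro x hx
    rw [Subgroup.mem_centralizer_iff]
    intro y hy
    rw [Set.mem_singleton_iff] at hy
    subst hy
    exact congrArg Subtype.val (hQcomm ⟨y, hzQ⟩ ⟨x, hx⟩)
  have h3 : 3 ∣ Nat.card (Subgroup.centralizer ({z} : Set G)) := by
    rw [← hP3 P]; exact Subgroup.card_dvd_of_le hCP
  have h4 : 4 ∣ Nat.card (Subgroup.centralizer ({z} : Set G)) := by
    rw [← hQ4 Q]; exact Subgroup.card_dvd_of_le hCQ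
  have h12 : 12 ∣ Nat.card (Subgroup.centralizer ({z} : Set G)) := by
    have : Nat.Coprime 3 4 := by norm_num
    exact this.mul_dvd_of_dvd_of_dvd h3 h4
  have htop : Subgroup.centralizer ({z} : Set G) = ⊤ := by
    apply Subgroup.eq_top_of_card_eq
    rw [hG]
    have hle : Nat.card (Subgroup.centralizer ({z} : Set G)) ≤ 12 := by
      rw [← hG]; exact Subgroup.card_le_card_group _
    have := Nat.le_of_dvd Nat.card_pos h12
    omega
  rw [Subgroup.mem_center_iff]
  intro g
  have hg : g ∈ Subgroup.centralizer ({z} : Set G) := by rw [htop]; trivial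
  exact (Subgroup.mem_centralizer_iff.mp hg z (Set.mem_singleton z)).symm

/-- S0228. -/
theorem nonempty_mulEquiv_A4 [Finite G] (hG : Nat.card G = 12)
    (hz : ∀ z : G, orderOf z = 2 → z ∉ Subgroup.center G) :
    Nonempty (G ≃* alternatingGroup (Fin 4)) := by
  classical
  haveI : Fact (Nat.Prime 3) := ⟨Nat.prime_three⟩
  obtain ⟨hP3, -⟩ := card_sylow_of_card_twelve hG
  haveI : Fintype (Sylow 3 G) := Fintype.ofFinite _
  obtain ⟨P₀⟩ : Nonempty (Sylow 3 G) := inferInstance
  -- the number of Sylow 3-subgroups is 4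
  have hidx : (P₀ : Subgroup G).index = 4 := by
    have := (P₀ : Subgroup G).card_mul_index
    rw [hP3 P₀, hG] at this
    omega
  have hn3 : Nat.card (Sylow 3 G) = 4 := by
    have h1 : Nat.card (Sylow 3 G) ∣ 4 := by rw [← hidx]; exact Sylow.card_dvd_index P₀
    have h2 := card_sylow_modEq_one 3 G
    have hle : Nat.card (Sylow 3 G) ≤ 4 := Nat.le_of_dvd (by norm_num) h1
    have hne1 : Nat.card (Sylow 3 G) ≠ 1 := by
      intro h1'
      have hsub : Subsingleton (Sylow 3 G) := (Nat.card_eq_one_iff_unique.mp h1').1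
      have hnorm : (P₀ : Subgroup G).Normal := Sylow.normal_of_subsingleton P₀
      obtain ⟨z, hzord, hzc⟩ := exists_central_involution_of_normal_sylow_three hG P₀ hnorm
      exact hz z hzord hzc
    unfold Nat.ModEq at h2
    interval_cases h : Nat.card (Sylow 3 G) <;> simp_all
  -- the normalizer of a Sylow 3-subgroup is itself
  have hnorm : ∀ P : Sylow 3 G, Subgroup.normalizer ((P : Subgroup G) : Set G) = P := by
    intro P
    symm
    apply Subgroup.eq_of_le_of_card_ge Subgroup.le_normalizer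
    have h1 : Nat.card (Sylow 3 G) =
        (Subgroup.normalizer ((P : Subgroup G) : Set G)).index := P.card_eq_index_normalizer
    rw [hn3] at h1
    have h2 := (Subgroup.normalizer ((P : Subgroup G) : Set G)).card_mul_index
    rw [← h1, hG] at h2
    rw [hP3 P]
    omega
  -- the action is faithful
  have hinj : Function.Injective (MulAction.toPermHom G (Sylow 3 G)) := by
    rw [injective_iff_map_eq_one]
    intro g hg
    have hgP : ∀ P : Sylow 3 G, g ∈ (P : Subgroup G) := by
      intro P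
      have h1 : g • P = P := by
        have := congrArg (fun σ : Equiv.Perm (Sylow 3 G) => σ P) hg
        simpa using this
      rw [Sylow.smul_eq_iff_mem_normalizer] at h1
      have h2 : g ∈ Subgroup.normalizer ((P : Subgroup G) : Set G) := h1
      rw [hnorm P] at h2
      exact h2
    by_contra hg1
    -- `g` generates every Sylow 3-subgroup, so there is only one
    have hgord : orderOf g = 3 := by
      have h1 : orderOf g ∣ 3 := by
        have := orderOf_dvd_natCard (⟨g, hgP P₀⟩ : (P₀ : Subgroup G))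
        rwa [Subgroup.orderOf_mk, hP3 P₀] at this
      rcases (Nat.dvd_prime Nat.prime_three).mp h1 with h | h
      · exact absurd (orderOf_eq_one_iff.mp h) hg1
      · exact h
    have hall : ∀ P : Sylow 3 G, (P : Subgroup G) = Subgroup.zpowers g := by
      intro P
      symm
      apply Subgroup.eq_of_le_of_card_ge ((Subgroup.zpowers_le).mpr (hgP P))
      rw [Nat.card_zpowers, hgord, hP3 P]
    have hsub : Subsingleton (Sylow 3 G) :=
      ⟨fun P Q => Sylow.ext ((hall P).trans (hall Q).symm)⟩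
    have : Nat.card (Sylow 3 G) ≤ 1 := Finite.card_le_one_iff_subsingleton.mpr hsub
    omega
  apply Cfsg.Agent.Lib.Helper3.PermIso.nonempty_mulEquiv_alternatingGroup
    (MulAction.toPermHom G (Sylow 3 G)) hinj 4
  · rw [← Nat.card_eq_fintype_card]; exact hn3
  · rw [hG]; rfl

end Cfsg.Agent.Lib.Helper2
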