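import Mathlib

set_option autoImplicit false

namespace Cfsg.Agent.Lib.Helper2.PGraphBounds

theorem prime_dvd_32760 {p : ℕ} (hp : p.Prime) (h : p ∣ 32760) :
    p ∈ ({2, 3, 5, 7, 13} : Finset ℕ) := by
  have e : (32760 : ℕ) = 2 ^ 3 * 3 ^ 2 * 5 * 7 * 13 := by norm_num
  rw [e] at h
  simp only [Finset.mem_insert, Finset.mem_singleton]
  rcases (Nat.Prime.dvd_mul hp).1 h with h | h
  · rcases (Nat.Prime.dvd_mul hp).1 h with h | h
    · rcases (Nat.Prime.dvd_mul hp).1 h with h | h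
      · rcases (Nat.Prime.dvd_mul hp).1 h with h | h
        · left
          exact (Nat.prime_dvd_prime_iff_eq hp Nat.prime_two).1 (hp.dvd_of_dvd_pow h)
        · right; left
          exact (Nat.prime_dvd_prime_iff_eq hp Nat.prime_three).1 (hp.dvd_of_dvd_pow h)
      · right; right; left
        exact (Nat.prime_dvd_prime_iff_eq hp Nat.prime_five).1 h
    · right; right; right; left
      exact (Nat.prime_dvd_prime_iff_eq hp (by norm_num)).1 h
  · right; right; right; right
    exact (Nat.prime_dvd_prime_iff_eq hp (by norm_num)).1 h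

/-- (G1) prime graph from exponent bounds + witnesses -/
theorem graph_of_bounds {G : Type*} [Group G] [Finite G] (S : Finset ℕ)
    (hS1 : ∀ n ∈ S, n ∣ 32760)
    (hS2 : ∀ n ∈ S, ∀ p ∈ ({2, 3, 5, 7, 13} : Finset ℕ), ∀ q ∈ ({2, 3, 5, 7, 13} : Finset ℕ), p ≠ q →
      p * q ∣ n → p * q ∈ ({6, 10, 14, 15} : Finset ℕ))
    (hup : ∀ x : G, ∃ n ∈ S, x ^ n = 1)
    (hw : ∀ n ∈ ({6, 10, 13, 14, 15} : Finset ℕ), ∃ x : G, orderOf x = n) :
    (∀ p : ℕ, p.Prime → (p ∣ Nat.card G ↔ p ∈ ({2, 3, 5, 7, 13} : Finset ℕ))) ∧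
    (∀ p q : ℕ, p.Prime → q.Prime → p ≠ q →
      ((∃ g : G, orderOf g = p * q) ↔ p * q ∈ ({6, 10, 14, 15} : Finset ℕ))) := by
  have key : ∀ (x : G) (p : ℕ), p.Prime → p ∣ orderOf x → p ∈ ({2, 3, 5, 7, 13} : Finset ℕ) := by
    intro x p hp hpx
    obtain ⟨n, hn, hxn⟩ := hup x
    exact prime_dvd_32760 hp ((hpx.trans (orderOf_dvd_of_pow_eq_one hxn)).trans (hS1 n hn))
  refine ⟨?_, ?_⟩
  · intro p hp
    constructor
    · intro hpd
      haveI : Fact p.Prime := ⟨hp⟩
      obtain ⟨x, hx⟩ := exists_prime_orderOf_dvd_card' (G := G) p hpd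
      exact key x p hp (by rw [hx])
    · intro hpm
      have hdiv : ∀ n ∈ ({6, 10, 13, 14, 15} : Finset ℕ), p ∣ n → p ∣ Nat.card G := by
        intro n hn hpn
        obtain ⟨x, hx⟩ := hw n hn
        exact hpn.trans (hx ▸ orderOf_dvd_natCard x)
      simp only [Finset.mem_insert, Finset.mem_singleton] at hpm
      rcases hpm with rfl | rfl | rfl | rfl | rfl
      · exact hdiv 6 (by decide) (by decide)
      · exact hdiv 6 (by decide) (by decide)
      · exact hdiv 10 (by decide) (by decide)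
      · exact hdiv 14 (by decide) (by decide)
      · exact hdiv 13 (by decide) (by decide)
  · intro p q hp hq hpq
    constructor
    · rintro ⟨g, hg⟩
      obtain ⟨n, hn, hgn⟩ := hup g
      have hdvd : p * q ∣ n := hg ▸ orderOf_dvd_of_pow_eq_one hgn
      have hpm := key g p hp (hg ▸ Dvd.intro _ rfl)
      have hqm := key g q hq (hg ▸ Dvd.intro_left _ rfl)
      exact hS2 n hn p hpm q hqm hpq hdvd
    · intro hm
      apply hw
      simp only [Finset.mem_insert, Finset.mem_singleton] at hm ⊢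
      omega

end Cfsg.Agent.Lib.Helper2.PGraphBounds
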