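import Mathlib
import Cfsg.Prelude.Def_Characters
import Cfsg.Agent.Lib.Helper2.Orthogonality
import Cfsg.Agent.Lib.Helper2.Linear
import Cfsg.Agent.Lib.Helper2.DirectProduct

set_option autoImplicit false

/-! S4640 farm (architect helper24), leaf **[F]** (spare): restriction inner products to a normal
subgroup with abelian quotient count linear characters of the quotient. -/

namespace Cfsg.Agent.Lib.Helper24.PIdx.Helper2

open Cfsg Cfsg.Agent.Lib.Helper2
open scoped ComplexConjugate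

variable {G : Type*} [Group G] [Fintype G]

/-- values of a linear character have absolute value one -/
theorem lin_mul_conj (lam : G →* ℂˣ) (g : G) :
    ((lam g : ℂˣ) : ℂ) * conj ((lam g : ℂˣ) : ℂ) = 1 := by
  have h1 : ((lam g : ℂˣ) : ℂ) ^ (Fintype.card G) = 1 := by
    rw [← Units.val_pow_eq_pow_val, ← map_pow, pow_card_eq_one, map_one, Units.val_one]
  have h2 : ‖((lam g : ℂˣ) : ℂ)‖ = 1 :=
    Complex.norm_eq_one_of_pow_eq_one h1 Fintype.card_ne_zero
  rw [Complex.mul_conj, Complex.normSq_eq_norm_sq, h2]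
  simp

/-- linear times irreducible is irreducible -/
theorem isIrr_lin_mul (lam : G →* ℂˣ) (χ : IrrCharacter G) :
    IsIrrCharacter G (fun g => ((lam g : ℂˣ) : ℂ) * (χ : G → ℂ) g) := by
  have hlam : IsCharacter G (fun g => ((lam g : ℂˣ) : ℂ)) := by
    obtain ⟨n, ρ, -, h⟩ := isIrrCharacter_of_monoidHom lam
    exact ⟨n, ρ, h⟩
  have hχ : IsCharacter G (χ : G → ℂ) := by
    obtain ⟨n, ρ, -, h⟩ := χ.2
    exact ⟨n, ρ, h⟩
  have hmul : IsCharacter G (fun g => ((lam g : ℂˣ) : ℂ) * (χ : G → ℂ) g) :=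
    isCharacter_mul hlam hχ
  apply isIrrCharacter_of_classInner_self_eq_one hmul
  rw [← classInner_irrCharacter_self χ, classInner_def, classInner_def]
  congr 1
  refine Finset.sum_congr rfl (fun g _ => ?_)
  rw [map_mul]
  calc ((lam g : ℂˣ) : ℂ) * (χ : G → ℂ) g * (conj ((lam g : ℂˣ) : ℂ) * conj ((χ : G → ℂ) g))
      = (((lam g : ℂˣ) : ℂ) * conj ((lam g : ℂˣ) : ℂ)) *
          ((χ : G → ℂ) g * conj ((χ : G → ℂ) g)) := by ring
    _ = (χ : G → ℂ) g * conj ((χ : G → ℂ) g) := by rw [lin_mul_conj, one_mul]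

variable (N : Subgroup G) [N.Normal]

/-- the linear characters of `G / N` -/
abbrev Lam : Type _ := {lam : G →* ℂˣ // ∀ n ∈ N, lam n = 1}

/-- translation by a member of `Lam` -/
noncomputable def lamShift (l0 : Lam N) : Lam N ≃ Lam N where
  toFun l := ⟨l0.1 * l.1, fun n hn => by
    rw [MonoidHom.mul_apply, l0.2 n hn, l.2 n hn, one_mul]⟩
  invFun l := ⟨l0.1⁻¹ * l.1, fun n hn => by
    rw [MonoidHom.mul_apply, MonoidHom.inv_apply, l0.2 n hn, l.2 n hn, inv_one, one_mul]⟩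
  left_inv l := by
    apply Subtype.ext
    ext g
    simp [MonoidHom.mul_apply, MonoidHom.inv_apply]
  right_inv l := by
    apply Subtype.ext
    ext g
    simp [MonoidHom.mul_apply, MonoidHom.inv_apply]

/-- `Lam N` is the dual group of `G / N` -/
noncomputable def lamEquiv : Lam N ≃ (G ⧸ N →* ℂˣ) where
  toFun l := QuotientGroup.lift N l.1 (fun n hn => l.2 n hn)
  invFun φ := ⟨φ.comp (QuotientGroup.mk' N), fun n hn => by
    rw [MonoidHom.comp_apply, QuotientGroup.mk'_apply, (QuotientGroup.eq_one_iff n).mpr hn,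
      map_one]⟩
  left_inv l := by
    apply Subtype.ext
    ext g
    rfl
  right_inv φ := by
    ext x
    rfl

/-- the commutative group structure on `G / N` -/
@[reducible] def commGroupQuot (hab : ∀ x y : G, x * y * x⁻¹ * y⁻¹ ∈ N) : CommGroup (G ⧸ N) :=
  { (inferInstance : Group (G ⧸ N)) with
    mul_comm := by
      intro a b
      induction a using QuotientGroup.induction_on with | H x => ?_
      induction b using QuotientGroup.induction_on with | H y => ?_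
      rw [← QuotientGroup.mk_mul, ← QuotientGroup.mk_mul, QuotientGroup.eq]
      have h := hab y⁻¹ x⁻¹
      rw [inv_inv, inv_inv] at h
      rw [mul_inv_rev, ← mul_assoc]
      exact h }

theorem card_Lam (hab : ∀ x y : G, x * y * x⁻¹ * y⁻¹ ∈ N) : Nat.card (Lam N) = N.index := by
  letI := commGroupQuot N hab
  rw [Nat.card_congr (lamEquiv N), CommGroup.card_monoidHom_of_hasEnoughRootsOfUnity,
    Subgroup.index_eq_card]

theorem exists_lam_ne_one (hab : ∀ x y : G, x * y * x⁻¹ * y⁻¹ ∈ N) {g : G} (hg : g ∉ N) :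
    ∃ l : Lam N, l.1 g ≠ 1 := by
  letI := commGroupQuot N hab
  have hne : (QuotientGroup.mk g : G ⧸ N) ≠ 1 := fun h => hg ((QuotientGroup.eq_one_iff g).mp h)
  obtain ⟨φ, hφ⟩ := CommGroup.exists_apply_ne_one_of_hasEnoughRootsOfUnity (G ⧸ N) ℂ hne
  exact ⟨(lamEquiv N).symm φ, hφ⟩

/-- orthogonality for the dual group of `G / N`, on `N` -/
theorem sum_lam_mem [Fintype (Lam N)] (hab : ∀ x y : G, x * y * x⁻¹ * y⁻¹ ∈ N) {g : G}
    (hg : g ∈ N) : ∑ l : Lam N, ((l.1 g : ℂˣ) : ℂ) = (N.index : ℂ) := by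
  have h1 : ∀ l : Lam N, ((l.1 g : ℂˣ) : ℂ) = 1 := fun l => by rw [l.2 g hg, Units.val_one]
  rw [Finset.sum_congr rfl (fun l _ => h1 l), Finset.sum_const, Finset.card_univ,
    ← Nat.card_eq_fintype_card, card_Lam N hab]
  simp

/-- orthogonality for the dual group of `G / N`, off `N` -/
theorem sum_lam_not_mem [Fintype (Lam N)] (hab : ∀ x y : G, x * y * x⁻¹ * y⁻¹ ∈ N) {g : G}
    (hg : g ∉ N) : ∑ l : Lam N, ((l.1 g : ℂˣ) : ℂ) = 0 := by
  obtain ⟨l0, hl0⟩ := exists_lam_ne_one N hab hg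
  have h1 : ∑ l : Lam N, ((l.1 g : ℂˣ) : ℂ) =
      ((l0.1 g : ℂˣ) : ℂ) * ∑ l : Lam N, ((l.1 g : ℂˣ) : ℂ) := by
    rw [Finset.mul_sum, ← Equiv.sum_comp (lamShift N l0)]
    refine Finset.sum_congr rfl (fun l _ => ?_)
    change (((l0.1 * l.1) g : ℂˣ) : ℂ) = _
    rw [MonoidHom.mul_apply, Units.val_mul]
  have h2 : (1 - ((l0.1 g : ℂˣ) : ℂ)) * ∑ l : Lam N, ((l.1 g : ℂˣ) : ℂ) = 0 := by
    rw [sub_mul, one_mul, ← h1, sub_self]
  rcases mul_eq_zero.mp h2 with h3 | h3
  · exfalso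
    apply hl0
    apply Units.ext
    rw [Units.val_one]
    exact (sub_eq_zero.mp h3).symm
  · exact h3

/-- **[F]** (spare) restriction inner products count linear characters of `G / N` -/
theorem classInner_res_eq_card_spare (N : Subgroup G) [N.Normal] [Fintype N]
    (hab : ∀ x y : G, x * y * x⁻¹ * y⁻¹ ∈ N) (χ χ' : Cfsg.IrrCharacter G) :
    Cfsg.classInner (fun n : N => (χ : G → ℂ) n) (fun n : N => (χ' : G → ℂ) n)
      = (Nat.card {lam : G →* ℂˣ // (∀ n ∈ N, lam n = 1) ∧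
          ∀ g : G, ((lam g : ℂˣ) : ℂ) * (χ : G → ℂ) g = (χ' : G → ℂ) g} : ℂ) := by
  classical
  haveI : Fintype (Lam N) := Fintype.ofFinite _
  -- the sum over `N` as a sum over `G`
  have hsumN : ∑ n : N, (χ : G → ℂ) n * conj ((χ' : G → ℂ) n) =
      ∑ g : G, if g ∈ N then (χ : G → ℂ) g * conj ((χ' : G → ℂ) g) else 0 := by
    rw [← Finset.sum_filter]
    symm
    apply Finset.sum_subtype
    intro x
    simp
  -- the inner products with the twists
  have hinner : ∀ l : Lam N,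
      Cfsg.classInner (fun g => ((l.1 g : ℂˣ) : ℂ) * (χ : G → ℂ) g) (χ' : G → ℂ) =
        if (∀ g : G, ((l.1 g : ℂˣ) : ℂ) * (χ : G → ℂ) g = (χ' : G → ℂ) g) then 1 else 0 := by
    intro l
    have h := classInner_irrCharacter
      (⟨fun g => ((l.1 g : ℂˣ) : ℂ) * (χ : G → ℂ) g, isIrr_lin_mul l.1 χ⟩ : IrrCharacter G) χ'
    rw [h]
    by_cases hP : ∀ g : G, ((l.1 g : ℂˣ) : ℂ) * (χ : G → ℂ) g = (χ' : G → ℂ) g
    · rw [if_pos hP, if_pos]
      apply Subtype.ext
      funext g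
      exact hP g
    · rw [if_neg hP, if_neg]
      intro he
      apply hP
      intro g
      exact congrFun (congrArg Subtype.val he) g
  -- the double sum
  have hdouble : (N.index : ℂ) * ∑ n : N, (χ : G → ℂ) n * conj ((χ' : G → ℂ) n) =
      ∑ l : Lam N, ∑ g : G, ((l.1 g : ℂˣ) : ℂ) * (χ : G → ℂ) g * conj ((χ' : G → ℂ) g) := by
    rw [Finset.sum_comm, hsumN, Finset.mul_sum]
    refine Finset.sum_congr rfl (fun g _ => ?_)
    have h1 : ∑ l : Lam N, ((l.1 g : ℂˣ) : ℂ) * (χ : G → ℂ) g * conj ((χ' : G → ℂ) g) =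
        (∑ l : Lam N, ((l.1 g : ℂˣ) : ℂ)) * ((χ : G → ℂ) g * conj ((χ' : G → ℂ) g)) := by
      rw [Finset.sum_mul]
      refine Finset.sum_congr rfl (fun l _ => ?_)
      ring
    rw [h1]
    by_cases hg : g ∈ N
    · rw [if_pos hg, sum_lam_mem N hab hg]
    · rw [if_neg hg, sum_lam_not_mem N hab hg, mul_zero, zero_mul]
  -- counting
  have hcount : ∑ l : Lam N,
      (if (∀ g : G, ((l.1 g : ℂˣ) : ℂ) * (χ : G → ℂ) g = (χ' : G → ℂ) g) then (1 : ℂ) else 0) =
      (Nat.card {lam : G →* ℂˣ // (∀ n ∈ N, lam n = 1) ∧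
          ∀ g : G, ((lam g : ℂˣ) : ℂ) * (χ : G → ℂ) g = (χ' : G → ℂ) g} : ℂ) := by
    rw [Finset.sum_boole]
    congr 1
    rw [← Fintype.card_subtype, ← Nat.card_eq_fintype_card]
    exact Nat.card_congr (Equiv.subtypeSubtypeEquivSubtypeInter
      (fun lam : G →* ℂˣ => ∀ n ∈ N, lam n = 1)
      (fun lam => ∀ g : G, ((lam g : ℂˣ) : ℂ) * (χ : G → ℂ) g = (χ' : G → ℂ) g))
  -- cardinalities
  have hcard : (Nat.card N : ℂ) * (N.index : ℂ) = (Nat.card G : ℂ) := by
    rw [← Nat.cast_mul, mul_comm, Subgroup.index_mul_card]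
  have hN0 : (Nat.card N : ℂ) ≠ 0 := by
    rw [Nat.cast_ne_zero]; exact Nat.card_pos.ne'
  have hI0 : (N.index : ℂ) ≠ 0 := by
    rw [Nat.cast_ne_zero]; exact Subgroup.index_ne_zero_of_finite
  have hG0 : (Nat.card G : ℂ) ≠ 0 := by
    rw [Nat.cast_ne_zero]; exact Nat.card_pos.ne'
  rw [← hcount, ← Finset.sum_congr rfl (fun l _ => hinner l)]
  simp only [classInner_def]
  rw [← Finset.mul_sum, ← hdouble, ← hcard]
  field_simp

end Cfsg.Agent.Lib.Helper24.PIdx.Helper2
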