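import Mathlib

set_option autoImplicit false

/-!
# Maximality of a point stabiliser from the sizes of suborbits

If `G` acts on `X`, `K ≤ G_a`, the orbit of `a` is `{a} ∪ ⋃ i, O i` (disjoint) with `K`
transitive on every `O i`, and no proper partial sum `1 + ∑_{i ∈ T} |O i|` divides the orbit
length `1 + ∑ i, |O i|`, then `G_a` is a maximal subgroup of `G`.
-/

namespace Cfsg.Agent.Lib.Helper2.PrimSuborb

open MulAction

variable {G X : Type*} [Group G] [MulAction G X]

/-- a subgroup containing the stabiliser of `a` and transitive on the orbit of `a` is everything -/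
theorem eq_top_of_stabilizer_le_of_orbit {a : X} {M : Subgroup G} (hM : stabilizer G a ≤ M)
    (horb : ∀ x ∈ orbit G a, ∃ m ∈ M, m • a = x) : M = ⊤ := by
  rw [eq_top_iff]
  intro g _
  obtain ⟨m, hm, hma⟩ := horb (g • a) (mem_orbit a g)
  have h1 : m⁻¹ * g ∈ stabilizer G a := by
    rw [mem_stabilizer_iff, mul_smul, ← hma, inv_smul_smul]
  have h2 : g = m * (m⁻¹ * g) := by group
  rw [h2]
  exact M.mul_mem hm (hM h1)

/-- conjugate point stabilisers are maximal together -/
theorem isCoatom_stabilizer_smul {a : X} (g : G) (h : IsCoatom (stabilizer G a)) :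
    IsCoatom (stabilizer G (g • a)) := by
  rw [stabilizer_smul_eq_stabilizer_map_conj]
  exact ((MulAut.conj g).mapSubgroup.isCoatom_iff _).mpr h

theorem isCoatom_stabilizer_of_mem_orbit {a b : X} (hb : b ∈ orbit G a)
    (h : IsCoatom (stabilizer G a)) : IsCoatom (stabilizer G b) := by
  obtain ⟨g, rfl⟩ := hb
  exact isCoatom_stabilizer_smul g h

section Main

variable [DecidableEq X]

theorem isCoatom_stabilizer_of_suborbits (a : X) (K : Subgroup G)
    (hK : K ≤ stabilizer G a) {ι : Type*} [Fintype ι] [DecidableEq ι] [Nonempty ι]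
    (O : ι → Finset X) (hne : ∀ i, (O i).Nonempty) (ha : ∀ i, a ∉ O i)
    (hdisj : ∀ i j, i ≠ j → Disjoint (O i) (O j))
    (hcover : ∀ x, x ∈ orbit G a ↔ x = a ∨ ∃ i, x ∈ O i)
    (htrans : ∀ i, ∀ x ∈ O i, ∀ y ∈ O i, ∃ k ∈ K, k • x = y)
    (harith : ∀ T : Finset ι, (1 + ∑ i ∈ T, (O i).card) ∣ (1 + ∑ i, (O i).card) →
      T = ∅ ∨ T = Finset.univ) :
    IsCoatom (stabilizer G a) := by
  classical
  -- the orbit as a finset
  set U : Finset X := insert a (Finset.univ.biUnion O) with hU
  have hUmem : ∀ x, x ∈ U ↔ x ∈ orbit G a := by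
    intro x
    rw [hcover x, hU, Finset.mem_insert, Finset.mem_biUnion]
    simp
  have hUcard : U.card = 1 + ∑ i, (O i).card := by
    rw [hU, Finset.card_insert_of_notMem, Finset.card_biUnion (fun i _ j _ hij => hdisj i j hij)]
    · ring
    · rw [Finset.mem_biUnion]
      rintro ⟨i, _, hi⟩
      exact ha i hi
  have horbfin : (orbit G a).Finite := by
    apply Set.Finite.subset U.finite_toSet
    intro x hx
    exact Finset.mem_coe.mpr ((hUmem x).mpr hx)
  have horbcard : (orbit G a).ncard = 1 + ∑ i, (O i).card := by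
    rw [← hUcard, ← Set.ncard_coe_finset]
    congr 1
    ext x
    rw [Finset.mem_coe, hUmem]
  refine ⟨?_, ?_⟩
  · -- the stabiliser is proper
    intro htop
    obtain ⟨i⟩ := ‹Nonempty ι›
    obtain ⟨x, hx⟩ := hne i
    have hxo : x ∈ orbit G a := (hcover x).mpr (Or.inr ⟨i, hx⟩)
    obtain ⟨g, rfl⟩ := hxo
    have hg : g ∈ stabilizer G a := by rw [htop]; trivial
    rw [mem_stabilizer_iff] at hg
    change g • a ∈ O i at hx
    rw [hg] at hx
    exact ha i hx
  · intro M hM
    have hle : stabilizer G a ≤ M := hM.le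
    -- the block B = M • a
    set T : Finset ι := Finset.univ.filter (fun i => ∃ x ∈ O i, ∃ m ∈ M, m • a = x) with hT
    have hB : ∀ i, i ∈ T → ∀ y ∈ O i, ∃ m ∈ M, m • a = y := by
      intro i hi y hy
      rw [hT, Finset.mem_filter] at hi
      obtain ⟨x, hx, m, hm, hmx⟩ := hi.2
      obtain ⟨k, hk, hkxy⟩ := htrans i x hx y hy
      refine ⟨k * m, M.mul_mem (hle (hK hk)) hm, ?_⟩
      rw [mul_smul, hmx, hkxy]
    -- the block as a finset
    set B : Finset X := insert a (T.biUnion O) with hBdef
    have hBmem : ∀ x, x ∈ B ↔ ∃ m ∈ M, m • a = x := by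
      intro x
      rw [hBdef, Finset.mem_insert, Finset.mem_biUnion]
      constructor
      · rintro (rfl | ⟨i, hi, hx⟩)
        · exact ⟨1, M.one_mem, one_smul _ _⟩
        · exact hB i hi x hx
      · rintro ⟨m, hm, rfl⟩
        have h1 : m • a ∈ orbit G a := mem_orbit a m
        rcases (hcover _).mp h1 with h | ⟨i, hi⟩
        · exact Or.inl h
        · refine Or.inr ⟨i, ?_, hi⟩
          rw [hT, Finset.mem_filter]
          exact ⟨Finset.mem_univ i, m • a, hi, m, hm, rfl⟩
    have hBcard : B.card = 1 + ∑ i ∈ T, (O i).card := by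
      rw [hBdef, Finset.card_insert_of_notMem,
        Finset.card_biUnion (fun i _ j _ hij => hdisj i j hij)]
      · ring
      · rw [Finset.mem_biUnion]
        rintro ⟨i, _, hi⟩
        exact ha i hi
    -- B is the orbit of a under M
    have hBorb : (B : Set X) = orbit M a := by
      ext x
      rw [Finset.mem_coe, hBmem]
      constructor
      · rintro ⟨m, hm, rfl⟩
        exact ⟨⟨m, hm⟩, rfl⟩
      · rintro ⟨⟨m, hm⟩, rfl⟩
        exact ⟨m, hm, rfl⟩
    -- index computations
    have hstabM : stabilizer M a = (stabilizer G a).subgroupOf M := by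
      ext ⟨m, hm⟩
      rw [mem_stabilizer_iff, Subgroup.mem_subgroupOf, mem_stabilizer_iff]
      rfl
    have hidxM : (stabilizer G a).relIndex M = B.card := by
      rw [Subgroup.relIndex, ← hstabM, index_stabilizer, ← hBorb, Set.ncard_coe_finset]
    have hidxG : (stabilizer G a).index = 1 + ∑ i, (O i).card := by
      rw [index_stabilizer, horbcard]
    have hdvd : B.card ∣ 1 + ∑ i, (O i).card := by
      rw [← hidxM, ← hidxG]
      exact Subgroup.relIndex_dvd_index_of_le hle
    rw [hBcard] at hdvd
    rcases harith T hdvd with hTe | hTu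
    · -- then M fixes a, so M ≤ stabilizer
      exfalso
      apply hM.not_ge
      intro m hm
      have h1 : m • a ∈ B := (hBmem _).mpr ⟨m, hm, rfl⟩
      rw [hBdef, hTe, Finset.biUnion_empty, Finset.mem_insert] at h1
      rcases h1 with h | h
      · exact h
      · exact absurd h (Finset.notMem_empty _)
    · apply eq_top_of_stabilizer_le_of_orbit hle
      intro x hx
      rcases (hcover x).mp hx with rfl | ⟨i, hi⟩
      · exact ⟨1, M.one_mem, one_smul _ _⟩
      · exact hB i (by rw [hTu]; exact Finset.mem_univ i) x hi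

end Main

/-- the stabiliser of a point in a subgroup `H`, for the action of `↥H` -/
theorem stabilizer_subgroup_eq (H : Subgroup G) (a : X) :
    stabilizer H a = (stabilizer G a).subgroupOf H := by
  ext ⟨m, hm⟩
  rw [mem_stabilizer_iff, Subgroup.mem_subgroupOf, mem_stabilizer_iff]
  rfl

end Cfsg.Agent.Lib.Helper2.PrimSuborb
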