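import Mathlib
import Cfsg.Agent.Lib.Helper2.PrimSuborb

set_option autoImplicit false

/-!
# More on point stabilisers and suborbits (for S5746, architect helper27)

* `isCoatom_stabilizer_of_suborbits'` : variant of `isCoatom_stabilizer_of_suborbits` with the
  suborbit sizes given by a function `c : ι → ℕ`.
* `orbit_stabilizer_of_two_blocks` : identification of the two non-trivial suborbits.
* `extremely_primitive_of_two_suborbits` : if the point stabiliser `H` is primitive on its two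
  non-trivial orbits then every `H ⊓ H^x`, `x ∉ H`, is maximal in `H`.
-/

namespace Cfsg.Agent.Lib.Helper2.PrimSuborb

open MulAction

variable {G X : Type*} [Group G] [MulAction G X]

theorem isCoatom_stabilizer_of_suborbits' [DecidableEq X] (a : X) (K : Subgroup G)
    (hK : K ≤ stabilizer G a) {ι : Type*} [Fintype ι] [DecidableEq ι] [Nonempty ι]
    (O : ι → Finset X) (c : ι → ℕ) (hc : ∀ i, (O i).card = c i) (hpos : ∀ i, 0 < c i)
    (ha : ∀ i, a ∉ O i)
    (hdisj : ∀ i j, i ≠ j → Disjoint (O i) (O j))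
    (hcover : ∀ x, x ∈ orbit G a ↔ x = a ∨ ∃ i, x ∈ O i)
    (htrans : ∀ i, ∀ x ∈ O i, ∀ y ∈ O i, ∃ k ∈ K, k • x = y)
    (harith : ∀ T : Finset ι, (1 + ∑ i ∈ T, c i) ∣ (1 + ∑ i, c i) →
      T = ∅ ∨ T = Finset.univ) :
    IsCoatom (stabilizer G a) := by
  apply isCoatom_stabilizer_of_suborbits a K hK O ?_ ha hdisj hcover htrans ?_
  · intro i
    rw [← Finset.card_pos, hc i]
    exact hpos i
  · intro T hT
    apply harith T
    have h1 : ∑ i ∈ T, c i = ∑ i ∈ T, (O i).card :=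
      Finset.sum_congr rfl (fun i _ => (hc i).symm)
    have h2 : ∑ i, c i = ∑ i, (O i).card :=
      Finset.sum_congr rfl (fun i _ => (hc i).symm)
    rw [h1, h2]
    exact hT

/-- identification of the two non-trivial orbits of a point stabiliser -/
theorem orbit_stabilizer_of_two_blocks [Fintype X] [DecidableEq X] (a β γ : X)
    (Δ Γ : Finset X) (K : Subgroup G) (hK : K ≤ stabilizer G a) (hβ : β ∈ Δ) (hγ : γ ∈ Γ)
    (haΔ : a ∉ Δ) (haΓ : a ∉ Γ) (hdisj : Disjoint Δ Γ) (hcov : ∀ x : X, x = a ∨ x ∈ Δ ∨ x ∈ Γ)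
    (hΔ : ∀ y ∈ Δ, ∃ k ∈ K, k • β = y) (hΓ : ∀ y ∈ Γ, ∃ k ∈ K, k • γ = y)
    (hcard : ¬ (Δ.card + Γ.card) ∣ Nat.card ↥(stabilizer G a)) :
    (∀ x : X, x ∈ orbit ↥(stabilizer G a) β ↔ x ∈ Δ) ∧
      (∀ x : X, x ∈ orbit ↥(stabilizer G a) γ ↔ x ∈ Γ) := by
  classical
  -- general statement, symmetric in (Δ, β) and (Γ, γ)
  have key : ∀ (β γ : X) (Δ Γ : Finset X), β ∈ Δ → γ ∈ Γ → a ∉ Δ → a ∉ Γ → Disjoint Δ Γ →
      (∀ x : X, x = a ∨ x ∈ Δ ∨ x ∈ Γ) → (∀ y ∈ Δ, ∃ k ∈ K, k • β = y) →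
      (∀ y ∈ Γ, ∃ k ∈ K, k • γ = y) → ¬ (Δ.card + Γ.card) ∣ Nat.card ↥(stabilizer G a) →
      ∀ x : X, x ∈ orbit ↥(stabilizer G a) β ↔ x ∈ Δ := by
    intro β γ Δ Γ hβ hγ haΔ haΓ hdisj hcov hΔ hΓ hcard
    have hsub : ∀ y ∈ Δ, y ∈ orbit ↥(stabilizer G a) β := by
      intro y hy
      obtain ⟨k, hk, rfl⟩ := hΔ y hy
      exact ⟨⟨k, hK hk⟩, rfl⟩
    have hna : a ∉ orbit ↥(stabilizer G a) β := by
      rintro ⟨⟨h, hh⟩, hha⟩
      have h1 : h • β = a := hha
      have h2 : β = a := by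
        have h3 : h⁻¹ • a = a := by
          rw [inv_smul_eq_iff]
          exact (mem_stabilizer_iff.mp hh).symm
        rw [← h3, ← h1, inv_smul_smul]
      exact haΔ (h2 ▸ hβ)
    have hnΓ : ∀ y ∈ Γ, y ∉ orbit ↥(stabilizer G a) β := by
      intro y hy hyo
      -- then all of Γ is in the orbit
      have hΓsub : ∀ z ∈ Γ, z ∈ orbit ↥(stabilizer G a) β := by
        intro z hz
        obtain ⟨k1, hk1, rfl⟩ := hΓ y hy
        obtain ⟨k2, hk2, rfl⟩ := hΓ z hz
        obtain ⟨h, hh⟩ := hyo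
        have hh' : h • β = k1 • γ := hh
        refine ⟨⟨k2, hK hk2⟩ * (⟨k1, hK hk1⟩ : ↥(stabilizer G a))⁻¹ * h, ?_⟩
        show (⟨k2, hK hk2⟩ * (⟨k1, hK hk1⟩ : ↥(stabilizer G a))⁻¹ * h) • β = k2 • γ
        rw [mul_smul, hh']
        show (⟨k2, hK hk2⟩ * (⟨k1, hK hk1⟩ : ↥(stabilizer G a))⁻¹ : ↥(stabilizer G a)) •
          ((⟨k1, hK hk1⟩ : ↥(stabilizer G a)) • γ) = k2 • γ
        rw [smul_smul, inv_mul_cancel_right]
        rfl
      have hset : orbit ↥(stabilizer G a) β = ((Δ ∪ Γ : Finset X) : Set X) := by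
        ext x
        rw [Finset.mem_coe, Finset.mem_union]
        constructor
        · intro hx
          rcases hcov x with rfl | h | h
          · exact absurd hx hna
          · exact Or.inl h
          · exact Or.inr h
        · rintro (h | h)
          · exact hsub x h
          · exact hΓsub x h
      have hcardorb : (orbit ↥(stabilizer G a) β).ncard = Δ.card + Γ.card := by
        rw [hset, Set.ncard_coe_finset, Finset.card_union_of_disjoint hdisj]
      apply hcard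
      rw [← hcardorb, ← index_stabilizer]
      exact Subgroup.index_dvd_card _
    intro x
    constructor
    · intro hx
      rcases hcov x with rfl | h | h
      · exact absurd hx hna
      · exact h
      · exact absurd hx (hnΓ x h)
    · exact hsub x
  refine ⟨key β γ Δ Γ hβ hγ haΔ haΓ hdisj hcov hΔ hΓ hcard, ?_⟩
  refine key γ β Γ Δ hγ hβ haΓ haΔ hdisj.symm ?_ hΓ hΔ ?_
  · intro x
    rcases hcov x with h | h | h
    · exact Or.inl h
    · exact Or.inr (Or.inr h)
    · exact Or.inr (Or.inl h)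
  · rw [add_comm]
    exact hcard

/-- `(H ⊓ H^x).subgroupOf H` is the stabiliser of `x • a` in `H = G_a` -/
theorem inf_map_conj_subgroupOf (a : X) (x : G) :
    ((stabilizer G a) ⊓ (stabilizer G a).map (MulAut.conj x).toMonoidHom).subgroupOf
      (stabilizer G a) = stabilizer ↥(stabilizer G a) (x • a) := by
  rw [stabilizer_subgroup_eq, stabilizer_smul_eq_stabilizer_map_conj, Subgroup.inf_subgroupOf_left]

/-- the last clause of S5746 from primitivity of `H = G_a` on its two non-trivial orbits -/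
theorem extremely_primitive_of_two_suborbits (a β γ : X)
    (horb : ∀ x : X, x = a ∨ (∃ h ∈ stabilizer G a, h • β = x) ∨
      (∃ h ∈ stabilizer G a, h • γ = x))
    (hβ : IsCoatom (stabilizer ↥(stabilizer G a) β))
    (hγ : IsCoatom (stabilizer ↥(stabilizer G a) γ)) :
    ∀ x : G, x ∉ stabilizer G a →
      IsCoatom (((stabilizer G a) ⊓
        (stabilizer G a).map (MulAut.conj x).toMonoidHom).subgroupOf (stabilizer G a)) := by
  intro x hx
  rw [inf_map_conj_subgroupOf]
  rcases horb (x • a) with h | ⟨h, hh, hhx⟩ | ⟨h, hh, hhx⟩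
  · exact absurd (mem_stabilizer_iff.mpr h) hx
  · have h1 : x • a = (⟨h, hh⟩ : ↥(stabilizer G a)) • β := hhx.symm
    rw [h1]
    exact isCoatom_stabilizer_smul _ hβ
  · have h1 : x • a = (⟨h, hh⟩ : ↥(stabilizer G a)) • γ := hhx.symm
    rw [h1]
    exact isCoatom_stabilizer_smul _ hγ

end Cfsg.Agent.Lib.Helper2.PrimSuborb
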