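import Mathlib

set_option autoImplicit false
set_option linter.deprecated false

namespace Cfsg.Agent.Lib.Helper2.RUN28a

open Pointwise

variable {X : Type*} [Group X]

/-- conjugation by `u` inverting `s` inverts all of `zpowers s` -/
theorem inv_of_mem_zpowers {u s n : X} (hinv : u * s * u⁻¹ = s⁻¹) (hn : n ∈ Subgroup.zpowers s) :
    u * n * u⁻¹ = n⁻¹ := by
  obtain ⟨k, rfl⟩ := Subgroup.mem_zpowers_iff.mp hn
  have h1 : u * s ^ k * u⁻¹ = (u * s * u⁻¹) ^ k := by
    have := map_zpow (MulAut.conj u).toMonoidHom s k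
    simpa [MulAut.conj_apply] using this
  rw [h1, hinv, inv_zpow]

/-- `zpowers u ≤ normalizer (zpowers s)` when `u` inverts `s`. -/
theorem zpowers_le_normalizer {u s : X} (hinv : u * s * u⁻¹ = s⁻¹) :
    Subgroup.zpowers u ≤ Subgroup.normalizer (Subgroup.zpowers s : Set X) := by
  rw [Subgroup.zpowers_le]
  rw [Subgroup.mem_normalizer_iff]
  intro n
  constructor
  · intro hn
    rw [inv_of_mem_zpowers hinv hn]
    exact inv_mem hn
  · intro hn
    have h3 : n = u⁻¹ * (u * n * u⁻¹) * u⁻¹⁻¹ := by group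
    have e : s = u⁻¹ * s⁻¹ * u := by rw [← hinv]; group
    have hu' : u⁻¹ * s * u⁻¹⁻¹ = s⁻¹ := by
      conv_rhs => rw [e]
      group
    have h4 := inv_of_mem_zpowers hu' hn
    rw [h3, h4]
    exact inv_mem hn

/-- `zpowers v ≤ normalizer (zpowers u)` when `v` commutes with `u`. -/
theorem zpowers_le_normalizer_of_comm {u v : X} (hc : v * u = u * v) :
    Subgroup.zpowers v ≤ Subgroup.normalizer (Subgroup.zpowers u : Set X) := by
  rw [Subgroup.zpowers_le]
  rw [Subgroup.mem_normalizer_iff]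
  intro n
  have key : ∀ n ∈ Subgroup.zpowers u, v * n * v⁻¹ = n := by
    intro n hn
    obtain ⟨k, rfl⟩ := Subgroup.mem_zpowers_iff.mp hn
    have hcm : Commute v (u ^ k) := Commute.zpow_right hc k
    rw [hcm.eq, mul_assoc, mul_inv_cancel, mul_one]
  constructor
  · intro hn
    rw [key n hn]; exact hn
  · intro hn
    have := key _ hn
    have e1 : (v * n * v⁻¹) * v = v * (v * n * v⁻¹) := by
      calc (v * n * v⁻¹) * v = (v * (v * n * v⁻¹) * v⁻¹) * v := by rw [this]
        _ = v * (v * n * v⁻¹) := by group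
    have hw : v⁻¹ * (v * n * v⁻¹) * v = v * n * v⁻¹ := by
      rw [mul_assoc, e1]; group
    have h3 : n = v⁻¹ * (v * n * v⁻¹) * v := by group
    rw [h3, hw]
    exact hn

/-- the order of a join `H ⊔ N` with `H` normalizing `N` is at most `|H| |N|`. -/
theorem card_sup_le (H N : Subgroup X) (h : H ≤ Subgroup.normalizer (N : Set X)) :
    Nat.card ↥(H ⊔ N) ≤ Nat.card H * Nat.card N := by
  have h1 : ((H ⊔ N : Subgroup X) : Set X) = (H : Set X) * (N : Set X) :=
    Subgroup.coe_mul_of_left_le_normalizer_right H N h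
  have h2 : Nat.card ↥(H ⊔ N) = Nat.card ((H : Set X) * (N : Set X) : Set X) := by
    rw [← h1]; rfl
  rw [h2]
  exact Set.natCard_mul_le

/-- members of `zpowers u` for an involution `u`. -/
theorem mem_zpowers_invol {u h : X} (hu : u * u = 1) (hh : h ∈ Subgroup.zpowers u) :
    h = 1 ∨ h = u := by
  obtain ⟨k, rfl⟩ := Subgroup.mem_zpowers_iff.mp hh
  rcases Int.even_or_odd k with ⟨j, rfl⟩ | ⟨j, rfl⟩
  · left
    rw [zpow_add, ← (Commute.refl u).mul_zpow, hu, one_zpow]
  · right
    rw [zpow_add, zpow_one, zpow_mul, zpow_two, hu, one_zpow, one_mul]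


/-- a subgroup of the centre is normal -/
theorem normal_of_le_center' {S : Subgroup X} (h : S ≤ Subgroup.center X) : S.Normal := by
  refine ⟨fun n hn g => ?_⟩
  have hc := Subgroup.mem_center_iff.mp (h hn) g
  have : g * n * g⁻¹ = n := by rw [hc, mul_assoc, mul_inv_cancel, mul_one]
  rw [this]; exact hn

/-- **[N28a]** -/
theorem exists_s3 [Finite X] (Y : Subgroup X)
    (hY : Y ≤ Subgroup.center X) (hodd : Odd (Nat.card Y)) (hX : Nat.card X = 6 * Nat.card Y)
    (hnab : ∃ a b : X, a * b * a⁻¹ * b⁻¹ ∉ Y) :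
    ∃ K : Subgroup X, Nat.card K = 6 ∧ K ⊓ Y = ⊥ := by
  obtain ⟨m, hm⟩ := hodd
  have h2 : 2 ∣ Nat.card X := ⟨3 * Nat.card Y, by rw [hX]; ring⟩
  have : Fact (Nat.Prime 2) := ⟨Nat.prime_two⟩
  obtain ⟨u, hu⟩ := exists_prime_orderOf_dvd_card' 2 h2
  have hu2 : u * u = 1 := by rw [← sq, ← hu]; exact pow_orderOf_eq_one u
  have hu1 : u ≠ 1 := by
    intro h; rw [h, orderOf_one] at hu; omega
  have huinv : u⁻¹ = u := inv_eq_of_mul_eq_one_left hu2
  have hn4 : ¬ 4 ∣ Nat.card X := by rw [hX, hm]; omega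
  have hYn : Y.Normal := normal_of_le_center' hY
  have hYpos : 0 < Nat.card Y := Nat.card_pos
  have hidx : Y.index = 6 := by
    have := Y.card_mul_index
    rw [hX, mul_comm] at this
    exact Nat.eq_of_mul_eq_mul_right hYpos this
  have hcardu : Nat.card (Subgroup.zpowers u) = 2 := by rw [Nat.card_zpowers, hu]
  by_cases hcen : ∀ g : X, g * u * g⁻¹ = u
  · exfalso
    have huc : u ∈ Subgroup.center X := by
      rw [Subgroup.mem_center_iff]
      intro g
      have := hcen g
      calc g * u = g * u * g⁻¹ * g := by group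
        _ = u * g := by rw [this]
    have hS : Y ⊔ Subgroup.zpowers u ≤ Subgroup.center X :=
      sup_le hY (Subgroup.zpowers_le.mpr huc)
    have hSn : (Y ⊔ Subgroup.zpowers u).Normal := normal_of_le_center' hS
    have hdiv : (Y ⊔ Subgroup.zpowers u).index ∣ 2 * 3 := by
      have := Subgroup.index_dvd_of_le (le_sup_left : Y ≤ Y ⊔ Subgroup.zpowers u)
      rwa [hidx] at this
    have h2S : 2 ∣ Nat.card ↥(Y ⊔ Subgroup.zpowers u) := by
      have := Subgroup.card_dvd_of_le (le_sup_right : Subgroup.zpowers u ≤ Y ⊔ Subgroup.zpowers u)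
      rwa [hcardu] at this
    have hmul := (Y ⊔ Subgroup.zpowers u).card_mul_index
    have hodd' : ¬ 2 ∣ (Y ⊔ Subgroup.zpowers u).index := by
      intro h
      apply hn4
      rw [← hmul]
      exact Nat.mul_dvd_mul h2S h
    have h3 : (Y ⊔ Subgroup.zpowers u).index ∣ 3 := by
      have hc : Nat.Coprime (Y ⊔ Subgroup.zpowers u).index 2 := by
        rw [Nat.coprime_comm]
        exact (Nat.Prime.coprime_iff_not_dvd Nat.prime_two).mpr hodd'
      exact hc.dvd_of_dvd_mul_left hdiv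
    have : Fact (Nat.Prime 3) := ⟨Nat.prime_three⟩
    have : IsCyclic (X ⧸ (Y ⊔ Subgroup.zpowers u)) :=
      isCyclic_of_card_dvd_prime (p := 3) (by rw [← Subgroup.index_eq_card]; exact h3)
    have hcomm := commutative_of_cyclic_center_quotient
      (QuotientGroup.mk' (Y ⊔ Subgroup.zpowers u)) (by rw [QuotientGroup.ker_mk']; exact hS)
    obtain ⟨a, b, hab⟩ := hnab
    apply hab
    have : a * b * a⁻¹ * b⁻¹ = 1 := by rw [hcomm a b]; group
    rw [this]; exact one_mem _
  · push Not at hcen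
    obtain ⟨g, hg⟩ := hcen
    have hv2 : (g * u * g⁻¹) * (g * u * g⁻¹) = 1 := by
      calc (g * u * g⁻¹) * (g * u * g⁻¹) = g * (u * u) * g⁻¹ := by group
        _ = 1 := by rw [hu2]; group
    have hvinv : (g * u * g⁻¹)⁻¹ = g * u * g⁻¹ := inv_eq_of_mul_eq_one_left hv2
    have hv1 : g * u * g⁻¹ ≠ 1 := by
      intro h
      apply hu1
      calc u = g⁻¹ * (g * u * g⁻¹) * g := by group
        _ = 1 := by rw [h]; group
    -- r = u * v is inverted by u
    have hrinv : u * (u * (g * u * g⁻¹)) * u⁻¹ = (u * (g * u * g⁻¹))⁻¹ := by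
      rw [mul_inv_rev, hvinv, huinv]
      calc u * (u * (g * u * g⁻¹)) * u = (u * u) * (g * u * g⁻¹) * u := by group
        _ = g * u * g⁻¹ * u := by rw [hu2, one_mul]
    -- r^6 ∈ Y
    have hr6 : (u * (g * u * g⁻¹)) ^ 6 ∈ Y := by
      rw [← hidx]; exact Y.pow_index_mem _
    have hr12 : (u * (g * u * g⁻¹)) ^ 12 = 1 := by
      have hc : u * (u * (g * u * g⁻¹)) ^ 6 * u⁻¹ = (u * (g * u * g⁻¹)) ^ 6 := by
        have := Subgroup.mem_center_iff.mp (hY hr6) u
        rw [this, mul_assoc, mul_inv_cancel, mul_one]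
      have hi : u * (u * (g * u * g⁻¹)) ^ 6 * u⁻¹ = ((u * (g * u * g⁻¹)) ^ 6)⁻¹ :=
        inv_of_mem_zpowers hrinv (Subgroup.npow_mem_zpowers _ 6)
      rw [hc] at hi
      have : (u * (g * u * g⁻¹)) ^ 12 = (u * (g * u * g⁻¹)) ^ 6 * (u * (g * u * g⁻¹)) ^ 6 := by
        rw [← pow_add]
      rw [this]
      nth_rewrite 1 [hi]
      exact inv_mul_cancel _
    have hr6' : (u * (g * u * g⁻¹)) ^ 6 = 1 := by
      have h1 : orderOf (u * (g * u * g⁻¹)) ∣ 12 := orderOf_dvd_of_pow_eq_one hr12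
      have h2' : orderOf (u * (g * u * g⁻¹)) ∣ Nat.card X := orderOf_dvd_natCard _
      have h3 : orderOf (u * (g * u * g⁻¹)) ∣ Nat.gcd 12 (Nat.card X) := Nat.dvd_gcd h1 h2'
      have h4 : Nat.gcd 12 (Nat.card X) = 6 := by
        rw [hX, hm]
        have : 12 = 6 * 2 := rfl
        rw [this, Nat.gcd_mul_left]
        have : Nat.gcd 2 (2 * m + 1) = 1 := by
          rw [Nat.gcd_comm, Nat.gcd_rec]; simp
        rw [this]
      rw [h4] at h3
      exact orderOf_dvd_iff_pow_eq_one.mp h3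
    have hs3 : ((u * (g * u * g⁻¹)) ^ 2) ^ 3 = 1 := by rw [← pow_mul]; exact hr6'
    have hsinv : u * (u * (g * u * g⁻¹)) ^ 2 * u⁻¹ = ((u * (g * u * g⁻¹)) ^ 2)⁻¹ :=
      inv_of_mem_zpowers hrinv (Subgroup.npow_mem_zpowers _ 2)
    have hs1 : (u * (g * u * g⁻¹)) ^ 2 ≠ 1 := by
      intro hs
      -- u and v commute
      have hcomm : (g * u * g⁻¹) * u = u * (g * u * g⁻¹) := by
        have e : u * (g * u * g⁻¹) * (u * (g * u * g⁻¹)) = 1 := by rw [← sq]; exact hs
        calc (g * u * g⁻¹) * u = (u * u) * ((g * u * g⁻¹) * u) * ((g * u * g⁻¹) * (g * u * g⁻¹)) := by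
              rw [hu2, hv2, one_mul, mul_one]
          _ = u * (u * (g * u * g⁻¹) * (u * (g * u * g⁻¹))) * (g * u * g⁻¹) := by group
          _ = u * (g * u * g⁻¹) := by rw [e, mul_one]
      have hP : IsPGroup 2 ↥(Subgroup.zpowers (g * u * g⁻¹) ⊔ Subgroup.zpowers u) := by
        apply IsPGroup.to_sup_of_normal_right' _ _ (zpowers_le_normalizer_of_comm hcomm)
        · apply IsPGroup.of_card (n := 1)
          rw [Nat.card_zpowers, pow_one]
          exact orderOf_eq_prime (by rw [sq]; exact hv2) hv1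
        · apply IsPGroup.of_card (n := 1)
          rw [hcardu, pow_one]
      obtain ⟨k, hk⟩ := IsPGroup.iff_card.mp hP
      have hdvd : 2 ^ k ∣ Nat.card X := by
        rw [← hk]; exact Subgroup.card_subgroup_dvd_card _
      have hk1 : k ≤ 1 := by
        by_contra hcon
        push Not at hcon
        apply hn4
        exact dvd_trans (pow_dvd_pow 2 hcon : 2 ^ 2 ∣ 2 ^ k) hdvd
      have hle : Nat.card ↥(Subgroup.zpowers (g * u * g⁻¹) ⊔ Subgroup.zpowers u) ≤
          Nat.card (Subgroup.zpowers u) := by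
        rw [hk, hcardu]
        calc 2 ^ k ≤ 2 ^ 1 := Nat.pow_le_pow_right (by norm_num) hk1
          _ = 2 := by norm_num
      have heq := Subgroup.eq_of_le_of_card_ge
        (le_sup_right : Subgroup.zpowers u ≤ Subgroup.zpowers (g * u * g⁻¹) ⊔ Subgroup.zpowers u) hle
      have hvmem : g * u * g⁻¹ ∈ Subgroup.zpowers u := by
        rw [heq]
        exact (le_sup_left : Subgroup.zpowers (g * u * g⁻¹) ≤ _) (Subgroup.mem_zpowers _)
      rcases mem_zpowers_invol hu2 hvmem with h | h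
      · exact hv1 h
      · exact hg h
    have hos : orderOf ((u * (g * u * g⁻¹)) ^ 2) = 3 := orderOf_eq_prime hs3 hs1
    have hnorm := zpowers_le_normalizer hsinv
    refine ⟨Subgroup.zpowers u ⊔ Subgroup.zpowers ((u * (g * u * g⁻¹)) ^ 2), ?_, ?_⟩
    · have hle := card_sup_le _ _ hnorm
      rw [Nat.card_zpowers, Nat.card_zpowers, hu, hos] at hle
      have d2 : 2 ∣ Nat.card ↥(Subgroup.zpowers u ⊔ Subgroup.zpowers ((u * (g * u * g⁻¹)) ^ 2)) := by
        have := Subgroup.card_dvd_of_le (le_sup_left :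
          Subgroup.zpowers u ≤ Subgroup.zpowers u ⊔ Subgroup.zpowers ((u * (g * u * g⁻¹)) ^ 2))
        rwa [hcardu] at this
      have d3 : 3 ∣ Nat.card ↥(Subgroup.zpowers u ⊔ Subgroup.zpowers ((u * (g * u * g⁻¹)) ^ 2)) := by
        have := Subgroup.card_dvd_of_le (le_sup_right :
          Subgroup.zpowers ((u * (g * u * g⁻¹)) ^ 2) ≤
            Subgroup.zpowers u ⊔ Subgroup.zpowers ((u * (g * u * g⁻¹)) ^ 2))
        rwa [Nat.card_zpowers, hos] at this
      have pos : 0 < Nat.card ↥(Subgroup.zpowers u ⊔ Subgroup.zpowers ((u * (g * u * g⁻¹)) ^ 2)) :=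
        Nat.card_pos
      omega
    · rw [eq_bot_iff]
      rintro x ⟨hxK, hxY⟩
      rw [Subgroup.mem_bot]
      have hxK' : x ∈ ((Subgroup.zpowers u ⊔ Subgroup.zpowers ((u * (g * u * g⁻¹)) ^ 2) :
          Subgroup X) : Set X) := hxK
      rw [Subgroup.coe_mul_of_left_le_normalizer_right _ _ hnorm] at hxK'
      obtain ⟨h, hh, n, hn, rfl⟩ := Set.mem_mul.mp hxK'
      have hninv := inv_of_mem_zpowers hsinv hn
      have hn3 : n ^ 3 = 1 := by
        obtain ⟨k, rfl⟩ := Subgroup.mem_zpowers_iff.mp hn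
        rw [← zpow_natCast, ← zpow_mul, mul_comm, zpow_mul, zpow_natCast, hs3, one_zpow]
      have hxo : orderOf (h * n) ∣ 2 * m + 1 := by
        rw [← hm]
        have := Subgroup.orderOf_dvd_natCard Y hxY
        exact this
      rcases mem_zpowers_invol hu2 hh with rfl | rfl
      · rw [one_mul] at hxY ⊢
        -- n central, inverted by u
        have hc : u * n * u⁻¹ = n := by
          have := Subgroup.mem_center_iff.mp (hY hxY) u
          rw [this, mul_assoc, mul_inv_cancel, mul_one]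
        rw [hc] at hninv
        have hn2 : n ^ 2 = 1 := by
          rw [sq]; nth_rewrite 1 [hninv]; exact inv_mul_cancel n
        calc n = n ^ 3 * (n ^ 2)⁻¹ := by group
          _ = 1 := by rw [hn3, hn2]; group
      · -- x = u n has x^2 = 1
        have hx2 : (h * n) ^ 2 = 1 := by
          rw [sq]
          calc h * n * (h * n) = (h * n * h⁻¹) * (h * h) * n := by group
            _ = 1 := by rw [hninv, hu2, mul_one, inv_mul_cancel]
        have h1 : orderOf (h * n) ∣ 2 := orderOf_dvd_of_pow_eq_one hx2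
        have h2'' : orderOf (h * n) ∣ Nat.gcd 2 (2 * m + 1) := Nat.dvd_gcd h1 hxo
        have : Nat.gcd 2 (2 * m + 1) = 1 := by
          rw [Nat.gcd_comm, Nat.gcd_rec]; simp
        rw [this, Nat.dvd_one] at h2''
        exact orderOf_eq_one_iff.mp h2''

end Cfsg.Agent.Lib.Helper2.RUN28a
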