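import Mathlib
import Cfsg.Agent.Lib.Helper9.Wr.Klein

/-!
# Groups of 2-rank one (helper2 library)

Reduction of "a group of even order without four-subgroups has an involution central modulo a
normal subgroup of odd order" to the conclusion of Glauberman's `Z*`-theorem.
-/

set_option autoImplicit false

namespace Cfsg.Agent.Lib.Helper2.RankOne

/-- two distinct commuting involutions lie in a four-subgroup -/
theorem kleinFour_of_commuting_involutions {G : Type*} [Group G] (a z : G) (haa : a * a = 1)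
    (hzz : z * z = 1) (hza : z * a = a * z) (ha1 : a ≠ 1) (hz1 : z ≠ 1) (haz : a ≠ z) :
    ∃ E : Subgroup G, IsKleinFour E := by
  have haa' : ∀ x, a * (a * x) = x := fun x => by rw [← mul_assoc, haa, one_mul]
  have hzz' : ∀ x, z * (z * x) = x := fun x => by rw [← mul_assoc, hzz, one_mul]
  have hza' : ∀ x, z * (a * x) = a * (z * x) := fun x => by rw [← mul_assoc, hza, mul_assoc]
  have hainv : a⁻¹ = a := inv_eq_of_mul_eq_one_left haa
  have hzinv : z⁻¹ = z := inv_eq_of_mul_eq_one_left hzz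
  let E : Subgroup G :=
    { carrier := {g | g = 1 ∨ g = a ∨ g = z ∨ g = a * z}
      one_mem' := Or.inl rfl
      mul_mem' := by
        rintro x y (hx | hx | hx | hx) (hy | hy | hy | hy) <;> rw [hx, hy] <;>
          simp [mul_assoc, haa, hzz, hza, haa', hzz', hza']
      inv_mem' := by
        rintro x (hx | hx | hx | hx) <;> rw [hx] <;>
          simp [mul_assoc, haa, hzz, hza, haa', hzz', hza', hainv, hzinv] }
  refine ⟨E, Cfsg.Agent.Lib.Helper9.Wr.isKleinFour_of_mem_iff E a z (a * z) ha1 hz1 ?_ haz ?_ ?_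
    haa hzz ?_ (fun g => Iff.rfl)⟩
  · intro h
    apply haz
    have : a = z⁻¹ := eq_inv_of_mul_eq_one_left h
    rw [this, hzinv]
  · intro h
    apply hz1
    have h' : a * 1 = a * z := by rw [mul_one]; exact h
    exact (mul_left_cancel h').symm
  · intro h
    apply ha1
    have h' : 1 * z = a * z := by rw [one_mul]; exact h
    exact (mul_right_cancel h').symm
  · simp [mul_assoc, haa, hzz, hza, haa', hzz', hza']

/-- S0225 from the conclusion of the `Z*`-theorem. -/
theorem rank_one_central_involution {G : Type*} [Group G] [Finite G]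
    (hZ : ∀ (P : Sylow 2 G) (u : G), orderOf u = 2 → u ∈ P →
      (∀ g : G, g * u * g⁻¹ ∈ P → g * u * g⁻¹ = u) →
      ∃ N : Subgroup G, N.Normal ∧ Odd (Nat.card N) ∧ ∀ g : G, u * g * u⁻¹ * g⁻¹ ∈ N)
    (heven : Even (Nat.card G)) (hrank : ∀ E : Subgroup G, ¬ IsKleinFour E) :
    ∃ z : G, orderOf z = 2 ∧ ∃ N : Subgroup G, N.Normal ∧ Odd (Nat.card N) ∧
      ∀ g : G, z * g * z⁻¹ * g⁻¹ ∈ N := by
  classical
  haveI : Fact (Nat.Prime 2) := ⟨Nat.prime_two⟩
  obtain ⟨P⟩ : Nonempty (Sylow 2 G) := inferInstance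
  have h2 : 2 ∣ Nat.card G := even_iff_two_dvd.1 heven
  have hPcard : Nat.card P = 2 ^ (Nat.card G).factorization 2 := P.card_eq_multiplicity
  have hk : 0 < (Nat.card G).factorization 2 :=
    Nat.Prime.factorization_pos_of_dvd Nat.prime_two Nat.card_pos.ne' h2
  obtain ⟨k, hk0, hck⟩ := IsPGroup.card_center_eq_prime_pow hPcard hk
  have h2c : 2 ∣ Nat.card (Subgroup.center (↥(P : Subgroup G))) := by
    rw [hck]
    exact dvd_pow_self 2 hk0.ne'
  obtain ⟨z₀, hz₀⟩ := exists_prime_orderOf_dvd_card' 2 h2c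
  obtain ⟨z, hz⟩ : ∃ z : G, z = ((z₀ : (P : Subgroup G)) : G) := ⟨_, rfl⟩
  have hzP : z ∈ P := by rw [hz]; exact (z₀ : (P : Subgroup G)).2
  have hz2 : orderOf z = 2 := by
    rw [hz, Subgroup.orderOf_coe, Subgroup.orderOf_coe]
    exact hz₀
  have hzz : z * z = 1 := by
    have := pow_orderOf_eq_one z
    rwa [hz2, pow_two] at this
  have hz1 : z ≠ 1 := by
    intro h
    rw [h, orderOf_one] at hz2
    norm_num at hz2
  have hcent : ∀ a ∈ P, z * a = a * z := by
    intro a ha
    have h1 := Subgroup.mem_center_iff.1 z₀.2 ⟨a, ha⟩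
    have h2 := congrArg Subtype.val h1
    rw [hz]
    exact h2.symm
  have hiso : ∀ g : G, g * z * g⁻¹ ∈ P → g * z * g⁻¹ = z := by
    intro g hg
    by_contra hne
    obtain ⟨a, ha⟩ : ∃ a : G, a = g * z * g⁻¹ := ⟨_, rfl⟩
    rw [← ha] at hg hne
    have haa : a * a = 1 := by
      rw [ha]
      calc g * z * g⁻¹ * (g * z * g⁻¹) = g * (z * z) * g⁻¹ := by group
        _ = 1 := by rw [hzz]; group
    have ha1 : a ≠ 1 := by
      rw [ha]
      intro h
      exact hz1 (conj_eq_one_iff.1 h)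
    obtain ⟨E, hE⟩ := kleinFour_of_commuting_involutions a z haa hzz (hcent a hg) ha1 hz1 hne
    exact hrank E hE
  obtain ⟨N, hN, hodd, hcomm⟩ := hZ P z hz2 hzP hiso
  exact ⟨z, hz2, N, hN, hodd, hcomm⟩

end Cfsg.Agent.Lib.Helper2.RankOne
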