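import Mathlib
import Cfsg.Prelude.Def_Transfer
import Cfsg.Agent.Lib.Helper2.ClassThree
import Cfsg.Agent.Lib.Helper2.PGroupAbelianBound
import Cfsg.Agent.Lib.Helper10.PGroup

/-!
# `Ω₁` of a `p`-group of rank at most two, `p > 3` (helper2 library)
-/

set_option autoImplicit false

universe u

namespace Cfsg.Agent.Lib.Helper2

namespace RankTwo

variable {p : ℕ} [hp : Fact p.Prime]

/-- a `p`-group of order at most `p ^ 2` is commutative -/
theorem isMulCommutative_of_card_le_sq {X : Type u} [Group X] [Finite X] (hX : IsPGroup p X)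
    (hc : Nat.card X ≤ p ^ 2) : IsMulCommutative X := by
  obtain ⟨n, hn⟩ := IsPGroup.iff_card.mp hX
  have hn2 : n ≤ 2 := by
    rw [hn] at hc
    exact (Nat.pow_le_pow_iff_right hp.out.one_lt).mp hc
  interval_cases n
  · haveI : Subsingleton X := (Nat.card_eq_one_iff_unique.mp (by simpa using hn)).1
    exact ⟨⟨fun a b => Subsingleton.elim _ _⟩⟩
  · haveI : IsCyclic X := isCyclic_of_prime_card (p := p) (by simpa using hn)
    exact ⟨⟨fun a b => IsCyclic.commGroup.mul_comm a b⟩⟩
  · exact IsPGroup.isMulCommutative_of_card_eq_prime_sq hn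

/-- a `p`-group of order at most `p ^ (k + 2)` has class at most `k + 1` -/
theorem nilpotencyClass_le_of_card_le (k : ℕ) :
    ∀ (X : Type u) [Group X] [Finite X] [Group.IsNilpotent X], IsPGroup p X →
      Nat.card X ≤ p ^ (k + 2) → Group.nilpotencyClass X ≤ k + 1 := by
  induction k with
  | zero =>
    intro X _ _ _ hX hc
    rw [Group.IsNilpotent.nilpotencyClass_le_one_iff]
    exact isMulCommutative_of_card_le_sq hX hc
  | succ k ih =>
    intro X _ _ _ hX hc
    by_cases hsub : Subsingleton X
    · have : Group.nilpotencyClass X = 0 := Group.nilpotencyClass_zero_iff_subsingleton.mpr hsub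
      omega
    · haveI : Nontrivial X := not_subsingleton_iff_nontrivial.mp hsub
      rw [Group.nilpotencyClass_eq_quotient_center_plus_one]
      have hZ : Nontrivial (Subgroup.center X) := hX.center_nontrivial
      have hZp : p ≤ Nat.card (Subgroup.center X) := by
        obtain ⟨n, hn⟩ := IsPGroup.iff_card.mp (hX.to_subgroup (Subgroup.center X))
        have h1 : 1 < Nat.card (Subgroup.center X) := Finite.one_lt_card
        rw [hn] at h1 ⊢
        have hn0 : n ≠ 0 := by
          rintro rfl
          simp at h1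
        calc p = p ^ 1 := (pow_one p).symm
          _ ≤ p ^ n := Nat.pow_le_pow_right hp.out.pos (Nat.one_le_iff_ne_zero.mpr hn0)
      have hcard := Subgroup.card_eq_card_quotient_mul_card_subgroup (Subgroup.center X)
      have hq : Nat.card (X ⧸ Subgroup.center X) ≤ p ^ (k + 2) := by
        by_contra hcon
        push Not at hcon
        have h1 : p ^ (k + 2) * p < Nat.card (X ⧸ Subgroup.center X) *
            Nat.card (Subgroup.center X) := Nat.mul_lt_mul_of_lt_of_le hcon hZp Nat.card_pos
        rw [← hcard, ← pow_succ] at h1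
        have h2 : k + 2 + 1 = k + 1 + 2 := by ring
        rw [h2] at h1
        omega
      have := ih (X ⧸ Subgroup.center X) (hX.to_quotient _) hq
      omega

/-- a `p`-group of order at most `p ^ 4` has class at most three -/
theorem class_three_of_card_le {X : Type u} [Group X] [Finite X] (hX : IsPGroup p X)
    (hc : Nat.card X ≤ p ^ 4) :
    ⁅⁅commutator X, (⊤ : Subgroup X)⁆, (⊤ : Subgroup X)⁆ = ⊥ := by
  haveI : Group.IsNilpotent X := hX.isNilpotent
  have h1 := nilpotencyClass_le_of_card_le (p := p) 2 X hX hc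
  have h2 := Subgroup.lowerCentralSeries_eq_bot_iff_nilpotencyClass_le.mpr h1
  exact h2

omit hp in
/-- the rank hypothesis passes to subgroups -/
theorem rank_subgroup {R : Type u} [Group R]
    (hrk : ∀ E : Subgroup R, Cfsg.IsElementaryAbelian p E → Nat.card E ≤ p ^ 2) (M : Subgroup R) :
    ∀ E : Subgroup M, Cfsg.IsElementaryAbelian p E → Nat.card E ≤ p ^ 2 := by
  intro E hE
  haveI := hE.1
  have h1 : Cfsg.IsElementaryAbelian p (E.map M.subtype) := by
    refine ⟨inferInstance, ?_⟩
    rintro _ ⟨e, he, rfl⟩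
    rw [← map_pow, hE.2 e he, map_one]
  have h2 := hrk _ h1
  rwa [Subgroup.card_map_of_injective M.subtype_injective] at h2

/-- a group of exponent `p` and rank at most two has order at most `p ^ 3` -/
theorem card_le_cube_of_exponent {X : Type u} [Group X] [Finite X] (hX : IsPGroup p X)
    (hexp : ∀ x : X, x ^ p = 1)
    (hrk : ∀ E : Subgroup X, Cfsg.IsElementaryAbelian p E → Nat.card E ≤ p ^ 2) :
    Nat.card X ≤ p ^ 3 := by
  obtain ⟨A, hAn, hAc, hmax⟩ := Cfsg.Agent.Lib.Helper10.exists_maximal_normal_abelian X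
  have hA2 : Nat.card A ≤ p ^ 2 := hrk A ⟨hAc, fun a _ => hexp a⟩
  obtain ⟨a, ha⟩ := IsPGroup.iff_card.mp (hX.to_subgroup A)
  have ha2 : a ≤ 2 := by
    rw [ha] at hA2
    exact (Nat.pow_le_pow_iff_right hp.out.one_lt).mp hA2
  have h1 := card_le_of_maximal_normal_abelian hX A hAc hmax a ha
  refine h1.trans (Nat.pow_le_pow_right hp.out.pos ?_)
  interval_cases a <;> norm_num

/-- **Rank at most two, `p > 3`**: products of elements of order dividing `p` have order
dividing `p`. -/
theorem mul_pow_eq_one_aux (h3 : 3 < p) : ∀ n : ℕ, ∀ (R : Type u) [Group R] [Finite R],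
    Nat.card R = n → IsPGroup p R →
    (∀ E : Subgroup R, Cfsg.IsElementaryAbelian p E → Nat.card E ≤ p ^ 2) →
    ∀ x y : R, x ^ p = 1 → y ^ p = 1 → (x * y) ^ p = 1 := by
  intro n
  induction n using Nat.strong_induction_on with
  | _ n ih =>
  intro R _ _ hn hR hrk x y hx hy
  -- the induction hypothesis for proper subgroups
  have ihS : ∀ M : Subgroup R, M ≠ ⊤ → ∀ a b : R, a ∈ M → b ∈ M → a ^ p = 1 → b ^ p = 1 →
      (a * b) ^ p = 1 := by
    intro M hM a b ha hb hap hbp
    have hlt : Nat.card M < n := by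
      rw [← hn]
      by_contra hcon
      push Not at hcon
      exact hM (Subgroup.eq_top_of_le_card M hcon)
    have := ih (Nat.card M) hlt (↥M) rfl (hR.to_subgroup M) (rank_subgroup hrk M) ⟨a, ha⟩ ⟨b, hb⟩
      (Subtype.ext (by simpa using hap)) (Subtype.ext (by simpa using hbp))
    have h2 := congrArg Subtype.val this
    simpa using h2
  by_cases hgen : Subgroup.closure {x, y} = ⊤
  swap
  · exact ihS _ hgen x y (Subgroup.subset_closure (by simp)) (Subgroup.subset_closure (by simp))
      hx hy
  by_cases hxtop : Subgroup.zpowers x = ⊤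
  · have hyx : y ∈ Subgroup.zpowers x := hxtop ▸ Subgroup.mem_top y
    obtain ⟨k, rfl⟩ := Subgroup.mem_zpowers_iff.mp hyx
    have hc : Commute x (x ^ k) := (Commute.refl x).zpow_right k
    rw [hc.mul_pow, hx, hy, one_mul]
  obtain ⟨M, hMco, hxM⟩ := (eq_top_or_exists_le_coatom (Subgroup.zpowers x)).resolve_left hxtop
  haveI : Group.IsNilpotent R := hR.isNilpotent
  haveI hMn : M.Normal :=
    Subgroup.NormalizerCondition.normal_of_coatom M Group.normalizerCondition_of_isNilpotent hMco
  have hMtop : M ≠ ⊤ := hMco.1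
  have hxM' : x ∈ M := hxM (Subgroup.mem_zpowers x)
  set Ω : Subgroup R := Subgroup.closure {m : R | m ∈ M ∧ m ^ p = 1} with hΩ
  have hΩexp : ∀ m ∈ Ω, m ^ p = 1 := by
    intro m hm
    have : m ∈ M ∧ m ^ p = 1 := by
      induction hm using Subgroup.closure_induction with
      | mem a ha => exact ha
      | one => exact ⟨M.one_mem, one_pow p⟩
      | mul a b _ _ ha hb =>
        exact ⟨M.mul_mem ha.1 hb.1, ihS M hMtop a b ha.1 hb.1 ha.2 hb.2⟩
      | inv a _ ha => exact ⟨M.inv_mem ha.1, by rw [inv_pow, ha.2, inv_one]⟩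
    exact this.2
  haveI hΩn : Ω.Normal := by
    constructor
    intro m hm g
    induction hm using Subgroup.closure_induction with
    | mem a ha =>
      apply Subgroup.subset_closure
      refine ⟨hMn.conj_mem a ha.1 g, ?_⟩
      rw [conj_pow, ha.2]
      group
    | one => simp
    | mul a b _ _ ha hb =>
      have : g * (a * b) * g⁻¹ = (g * a * g⁻¹) * (g * b * g⁻¹) := by group
      rw [this]
      exact Ω.mul_mem ha hb
    | inv a _ ha =>
      have : g * a⁻¹ * g⁻¹ = (g * a * g⁻¹)⁻¹ := by group
      rw [this]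
      exact Ω.inv_mem ha
  have hΩcard : Nat.card Ω ≤ p ^ 3 :=
    card_le_cube_of_exponent (hR.to_subgroup Ω)
      (fun w => Subtype.ext (by simpa using hΩexp w w.2)) (rank_subgroup hrk Ω)
  set K : Subgroup R := Subgroup.zpowers y ⊔ Ω with hK
  have hKcard : Nat.card K ≤ p ^ 4 := by
    have h1 : Ω.relIndex K = Ω.relIndex (Subgroup.zpowers y) :=
      Subgroup.relIndex_sup_right (Subgroup.zpowers y) Ω
    have h2 : Ω.relIndex (Subgroup.zpowers y) ∣ p := by
      refine (Subgroup.relIndex_dvd_card Ω (Subgroup.zpowers y)).trans ?_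
      rw [Nat.card_zpowers]
      exact orderOf_dvd_of_pow_eq_one hy
    have h3' : Ω.relIndex K ≤ p := by
      rw [h1]
      exact Nat.le_of_dvd hp.out.pos h2
    have h4 : Nat.card Ω * Ω.relIndex K = Nat.card K := by
      have := Subgroup.relIndex_mul_relIndex (⊥ : Subgroup R) Ω K bot_le le_sup_right
      rwa [Subgroup.relIndex_bot_left, Subgroup.relIndex_bot_left] at this
    rw [← h4]
    calc Nat.card Ω * Ω.relIndex K ≤ p ^ 3 * p := Nat.mul_le_mul hΩcard h3'
      _ = p ^ 4 := by ring
  have hxK : x ∈ K := by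
    have : x ∈ Ω := Subgroup.subset_closure ⟨hxM', hx⟩
    exact (le_sup_right : Ω ≤ K) this
  have hyK : y ∈ K := (le_sup_left : Subgroup.zpowers y ≤ K) (Subgroup.mem_zpowers y)
  have hcl := class_three_of_card_le (hR.to_subgroup K) hKcard
  have := ClassThree.mul_pow_prime_eq_one hp.out h3 hcl (a := (⟨x, hxK⟩ : K)) (b := ⟨y, hyK⟩)
    (Subtype.ext (by simpa using hx)) (Subtype.ext (by simpa using hy))
  have h2 := congrArg Subtype.val this
  simpa using h2

/-- **S0128** -/
theorem pow_prime_eq_one_of_mem_closure {R : Type u} [Group R] [Finite R] (h3 : 3 < p)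
    (hR : IsPGroup p R)
    (hrk : ∀ E : Subgroup R, Cfsg.IsElementaryAbelian p E → Nat.card E ≤ p ^ 2) (g : R)
    (hg : g ∈ Subgroup.closure {x : R | x ^ p = 1}) : g ^ p = 1 := by
  induction hg using Subgroup.closure_induction with
  | mem x hx => exact hx
  | one => exact one_pow p
  | mul x y _ _ hx hy => exact mul_pow_eq_one_aux h3 _ R rfl hR hrk x y hx hy
  | inv x _ hx => rw [inv_pow, hx, inv_one]

end RankTwo

end Cfsg.Agent.Lib.Helper2
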