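import Mathlib
import Cfsg.Agent.Lib.Helper2.FrobeniusSchur
import Cfsg.Agent.Lib.Helper2.Orthogonality
import Cfsg.Agent.Lib.Helper2.Regular
import Cfsg.Agent.Lib.Helper25.Complete

/-!
# Frobenius–Schur indicator `+1` and real representations (helper2 library)

An irreducible character has Frobenius–Schur indicator `1` exactly when it is the character of a
representation by real matrices.
-/

set_option autoImplicit false
set_option linter.style.haveILetI false
set_option linter.unusedSectionVars false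

namespace Cfsg.Agent.Lib.Helper2

namespace RealRep

open Cfsg Module
open scoped ComplexConjugate

section Conj

variable {n : Type*} [Fintype n] [DecidableEq n]

/-- entrywise complex conjugation -/
def cj (M : Matrix n n ℂ) : Matrix n n ℂ := M.map (starRingEnd ℂ)

theorem cj_apply (M : Matrix n n ℂ) (i j : n) : cj M i j = conj (M i j) := rfl

theorem cj_eq (M : Matrix n n ℂ) : cj M = (starRingEnd ℂ).mapMatrix M := rfl

theorem cj_mul (M N : Matrix n n ℂ) : cj (M * N) = cj M * cj N := by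
  rw [cj_eq, map_mul]; rfl

theorem cj_one : cj (1 : Matrix n n ℂ) = 1 := by
  rw [cj_eq, map_one]

theorem cj_add (M N : Matrix n n ℂ) : cj (M + N) = cj M + cj N := by
  rw [cj_eq, map_add]; rfl

theorem cj_sub (M N : Matrix n n ℂ) : cj (M - N) = cj M - cj N := by
  rw [cj_eq, map_sub]; rfl

theorem cj_sum {ι : Type*} (s : Finset ι) (f : ι → Matrix n n ℂ) :
    cj (∑ i ∈ s, f i) = ∑ i ∈ s, cj (f i) := by
  rw [cj_eq, map_sum]; rfl

theorem cj_smul (a : ℂ) (M : Matrix n n ℂ) : cj (a • M) = conj a • cj M := by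
  ext i j
  simp [cj_apply]

theorem cj_cj (M : Matrix n n ℂ) : cj (cj M) = M := by
  ext i j
  simp [cj_apply]

theorem cj_transpose (M : Matrix n n ℂ) : cj M.transpose = (cj M).transpose := by
  ext i j
  rfl

/-- the squared Frobenius norm -/
noncomputable def frob (X : Matrix n n ℂ) : ℝ := ∑ i, ∑ j, Complex.normSq (X i j)

theorem frob_nonneg (X : Matrix n n ℂ) : 0 ≤ frob X :=
  Finset.sum_nonneg (fun i _ => Finset.sum_nonneg (fun j _ => Complex.normSq_nonneg _))

theorem frob_pos {X : Matrix n n ℂ} (hX : X ≠ 0) : 0 < frob X := by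
  have : ∃ i j, X i j ≠ 0 := by
    by_contra h
    push Not at h
    exact hX (by ext i j; exact h i j)
  obtain ⟨i, j, hij⟩ := this
  have h1 : 0 < Complex.normSq (X i j) := Complex.normSq_pos.mpr hij
  have h2 : Complex.normSq (X i j) ≤ ∑ j', Complex.normSq (X i j') :=
    Finset.single_le_sum (f := fun j' => Complex.normSq (X i j'))
      (fun j' _ => Complex.normSq_nonneg _) (Finset.mem_univ j)
  have h3 : ∑ j', Complex.normSq (X i j') ≤ frob X :=
    Finset.single_le_sum (f := fun i' => ∑ j', Complex.normSq (X i' j'))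
      (fun i' _ => Finset.sum_nonneg (fun j' _ => Complex.normSq_nonneg _)) (Finset.mem_univ i)
  linarith

theorem trace_mul_cj_transpose (X : Matrix n n ℂ) :
    (X * cj X.transpose).trace = (frob X : ℂ) := by
  unfold frob
  rw [Matrix.trace, Complex.ofReal_sum]
  apply Finset.sum_congr rfl
  intro i _
  rw [Matrix.diag_apply, Matrix.mul_apply, Complex.ofReal_sum]
  apply Finset.sum_congr rfl
  intro j _
  rw [cj_apply, Matrix.transpose_apply, Complex.mul_conj]

/-- "Hilbert 90": a matrix with `M * conj M = 1` is of the form `P * (conj P)⁻¹`. -/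
theorem exists_conj_fixed (M : Matrix n n ℂ) (hM : M * cj M = 1) :
    ∃ P : Matrix n n ℂ, IsUnit P.det ∧ M * cj P = P := by
  let C : Matrix n n ℂ := 1 + M
  let D : Matrix n n ℂ := Complex.I • (1 - M)
  have hfix : ∀ s : ℝ, M * cj (C + (s : ℂ) • D) = C + (s : ℂ) • D := by
    intro s
    have h1 : cj (C + (s : ℂ) • D) = (1 + cj M) + (s : ℂ) • ((-Complex.I) • (1 - cj M)) := by
      show cj ((1 + M) + (s : ℂ) • (Complex.I • (1 - M))) = _
      rw [cj_add, cj_smul, Complex.conj_ofReal, cj_add, cj_one, cj_smul, Complex.conj_I, cj_sub,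
        cj_one]
    rw [h1, Matrix.mul_add, Matrix.mul_add, Matrix.mul_one, Matrix.mul_smul, Matrix.mul_smul,
      Matrix.mul_sub, Matrix.mul_one, hM]
    show M + 1 + (s : ℂ) • (-Complex.I) • (M - 1) = (1 + M) + (s : ℂ) • (Complex.I • (1 - M))
    ext i j
    simp only [Matrix.add_apply, Matrix.smul_apply, Matrix.sub_apply, smul_eq_mul]
    ring
  let MX : Matrix n n (Polynomial ℂ) :=
    C.map (Polynomial.C : ℂ → Polynomial ℂ)
      + (Polynomial.X : Polynomial ℂ) • D.map (Polynomial.C : ℂ → Polynomial ℂ)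
  have heval : ∀ z : ℂ, (MX.det).eval z = (C + z • D).det := by
    intro z
    have h := RingHom.map_det (Polynomial.evalRingHom z) MX
    rw [Polynomial.coe_evalRingHom] at h
    rw [h]
    congr 1
    ext i j
    simp [MX, RingHom.mapMatrix_apply, Matrix.map_apply, Matrix.add_apply, Matrix.smul_apply]
    ring
  have hp : MX.det ≠ 0 := by
    intro h0
    have h := heval (-Complex.I)
    rw [h0, Polynomial.eval_zero] at h
    have h2 : C + (-Complex.I) • D = (2 : ℂ) • (1 : Matrix n n ℂ) := by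
      show (1 + M) + (-Complex.I) • (Complex.I • (1 - M)) = _
      rw [smul_smul]
      have : -Complex.I * Complex.I = 1 := by
        rw [neg_mul, Complex.I_mul_I, neg_neg]
      rw [this, one_smul, two_smul]
      abel
    rw [h2, Matrix.det_smul, Matrix.det_one, mul_one] at h
    exact absurd h.symm (pow_ne_zero _ (by norm_num))
  by_contra hall
  push Not at hall
  have hroot : ∀ s : ℝ, (MX.det).IsRoot (s : ℂ) := by
    intro s
    rw [Polynomial.IsRoot.def, heval]
    by_contra hne
    exact hall _ (isUnit_iff_ne_zero.mpr hne) (hfix s)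
  have hinf : Set.Infinite {x | (MX.det).IsRoot x} := by
    apply Set.Infinite.mono (s := Set.range (fun s : ℝ => (s : ℂ)))
    · rintro _ ⟨s, rfl⟩
      exact hroot s
    · exact Set.infinite_range_of_injective Complex.ofReal_injective
  exact hp (Polynomial.eq_zero_of_infinite_isRoot _ hinf)

theorem cj_conj_eq (M P A : Matrix n n ℂ) (hP : IsUnit P.det) (hMP : M * cj P = P)
    (hA : A * M = M * cj A) : cj (P⁻¹ * A * P) = P⁻¹ * A * P := by
  have h1 : P * (P⁻¹ * A * P) = A * P := by
    rw [← Matrix.mul_assoc, ← Matrix.mul_assoc, Matrix.mul_nonsing_inv P hP, Matrix.one_mul]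
  have h2 : cj P * cj (P⁻¹ * A * P) = cj A * cj P := by
    rw [← cj_mul, h1, cj_mul]
  have h3 : P * cj (P⁻¹ * A * P) = A * P := by
    calc P * cj (P⁻¹ * A * P) = M * cj P * cj (P⁻¹ * A * P) := by rw [hMP]
      _ = M * (cj P * cj (P⁻¹ * A * P)) := by rw [Matrix.mul_assoc]
      _ = M * (cj A * cj P) := by rw [h2]
      _ = (M * cj A) * cj P := by rw [Matrix.mul_assoc]
      _ = A * M * cj P := by rw [hA]
      _ = A * (M * cj P) := by rw [Matrix.mul_assoc]
      _ = A * P := by rw [hMP]
  calc cj (P⁻¹ * A * P) = P⁻¹ * (P * cj (P⁻¹ * A * P)) := by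
        rw [← Matrix.mul_assoc, Matrix.nonsing_inv_mul P hP, Matrix.one_mul]
    _ = P⁻¹ * (A * P) := by rw [h3]
    _ = P⁻¹ * A * P := by rw [Matrix.mul_assoc]

theorem commute_of_intertwine (Ag M₀ : Matrix n n ℂ) (h : Ag * M₀ = M₀ * cj Ag) :
    Ag * (M₀ * cj M₀) = (M₀ * cj M₀) * Ag := by
  have h' : cj Ag * cj M₀ = cj M₀ * Ag := by
    have := congrArg cj h
    rw [cj_mul, cj_mul, cj_cj] at this
    exact this
  calc Ag * (M₀ * cj M₀) = (Ag * M₀) * cj M₀ := by rw [Matrix.mul_assoc]
    _ = M₀ * cj Ag * cj M₀ := by rw [h]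
    _ = M₀ * (cj Ag * cj M₀) := by rw [Matrix.mul_assoc]
    _ = M₀ * (cj M₀ * Ag) := by rw [h']
    _ = M₀ * cj M₀ * Ag := by rw [Matrix.mul_assoc]

/-- real matrices as complex matrices -/
def toC (N : Matrix n n ℝ) : Matrix n n ℂ := Complex.ofRealHom.mapMatrix N

theorem toC_apply (N : Matrix n n ℝ) (i j : n) : toC N i j = ((N i j : ℝ) : ℂ) := rfl

theorem toC_mul (N N' : Matrix n n ℝ) : toC (N * N') = toC N * toC N' := map_mul _ _ _

theorem toC_one : toC (1 : Matrix n n ℝ) = 1 := map_one _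

theorem toC_injective : Function.Injective (toC (n := n)) := by
  intro N N' h
  ext i j
  have := Matrix.ext_iff.mpr h i j
  rw [toC_apply, toC_apply] at this
  exact Complex.ofReal_injective this

theorem toC_trace (N : Matrix n n ℝ) : (toC N).trace = ((N.trace : ℝ) : ℂ) := by
  unfold Matrix.trace
  rw [Complex.ofReal_sum]
  rfl

end Conj

section Invariant

variable {G : Type*} [Group G] [Fintype G] {n : Type*} [Fintype n] [DecidableEq n]

theorem exists_invariant_of_trace_one (A : G → Matrix n n ℂ)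
    (hA : ∀ g h : G, A (g * h) = A g * A h)
    (h1 : LinearMap.trace ℂ _ (avgOp A) = 1) :
    ∃ (M₀ : Matrix n n ℂ) (c' : ℂ), M₀ ≠ 0 ∧ (∀ h : G, A h * M₀ * (A h).transpose = M₀) ∧
      M₀.transpose = c' • M₀ ∧
      (∀ M : Matrix n n ℂ, (∀ h : G, A h * M * (A h).transpose = M) → ∃ a : ℂ, M = a • M₀) ∧
      LinearMap.trace ℂ _ (transposeLin ∘ₗ avgOp A) = c' := by
  have hproj := avgOp_isProj A hA
  have hfr : (finrank ℂ (LinearMap.range (avgOp A)) : ℂ) = LinearMap.trace ℂ _ (avgOp A) :=
    (hproj.trace).symm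
  rw [h1] at hfr
  have hfr1 : finrank ℂ (LinearMap.range (avgOp A)) = 1 := by exact_mod_cast hfr
  obtain ⟨⟨M₀, hM₀r⟩, hM₀ne, hspan⟩ := finrank_eq_one_iff'.mp hfr1
  have hM₀ne' : M₀ ≠ 0 := fun h => hM₀ne (Subtype.ext h)
  have hspan' : ∀ M : Matrix n n ℂ, ∃ a : ℂ, a • M₀ = avgOp A M := by
    intro M
    obtain ⟨a, ha⟩ := hspan ⟨avgOp A M, LinearMap.mem_range_self _ M⟩
    exact ⟨a, congrArg Subtype.val ha⟩
  obtain ⟨M₁, hM₁⟩ := hM₀r
  obtain ⟨c', hc'⟩ := hspan' M₁.transpose
  have hτM₀ : M₀.transpose = c' • M₀ := by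
    rw [← hM₁, transpose_avgOp, ← hc', hM₁]
  have hτPc : transposeLin ∘ₗ avgOp A = c' • avgOp A := by
    apply LinearMap.ext
    intro M
    obtain ⟨a, ha⟩ := hspan' M
    rw [LinearMap.comp_apply, transposeLin_apply, LinearMap.smul_apply, ← ha,
      Matrix.transpose_smul, hτM₀, smul_comm]
  refine ⟨M₀, c', hM₀ne', ?_, hτM₀, ?_, ?_⟩
  · intro h
    rw [← hM₁]
    exact avgOp_invariant A hA h M₁
  · intro M hM
    obtain ⟨a, ha⟩ := hspan' M
    exact ⟨a, by rw [ha, avgOp_fix A M hM]⟩
  · rw [hτPc, map_smul, h1, smul_eq_mul, mul_one]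

theorem trace_avgOp_of_real (χ : IrrCharacter G) (hr : ∀ g, ((χ : G → ℂ) g).im = 0)
    (A : G → Matrix n n ℂ) (hAtr : ∀ g, (A g).trace = (χ : G → ℂ) g) :
    LinearMap.trace ℂ _ (avgOp A) = 1 := by
  rw [trace_avgOp]
  have h := classInner_irrCharacter_self χ
  rw [classInner_def] at h
  rw [← h]
  congr 1
  apply Finset.sum_congr rfl
  intro g _
  rw [hAtr, Complex.conj_eq_iff_im.mpr (hr g)]

theorem trace_transpose_avgOp_of (χ : IrrCharacter G) (A : G → Matrix n n ℂ)
    (hA : ∀ g h : G, A (g * h) = A g * A h) (hAtr : ∀ g, (A g).trace = (χ : G → ℂ) g) :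
    LinearMap.trace ℂ _ (transposeLin ∘ₗ avgOp A)
      = (Nat.card G : ℂ)⁻¹ * ∑ s : G, (χ : G → ℂ) (s * s) := by
  rw [trace_transpose_avgOp]
  congr 1
  apply Finset.sum_congr rfl
  intro g _
  rw [← hA, hAtr]

/-- the conjugated Gram matrix -/
noncomputable def gram (A : G → Matrix n n ℂ) : Matrix n n ℂ :=
  ∑ g : G, (A g).transpose * cj (A g)

theorem gram_invariant (A : G → Matrix n n ℂ) (hA : ∀ g h : G, A (g * h) = A g * A h) (h : G) :
    (A h).transpose * gram A * cj (A h) = gram A := by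
  unfold gram
  rw [Finset.mul_sum, Finset.sum_mul]
  rw [← Equiv.sum_comp (Equiv.mulRight h) (fun g => (A g).transpose * cj (A g))]
  apply Finset.sum_congr rfl
  intro g _
  simp only [Equiv.coe_mulRight, hA, Matrix.transpose_mul, cj_mul]
  simp only [Matrix.mul_assoc]

theorem intertwine (A : G → Matrix n n ℂ) (hA : ∀ g h : G, A (g * h) = A g * A h)
    (hA1 : A 1 = 1) (S : Matrix n n ℂ) (hS : ∀ h : G, A h * S * (A h).transpose = S) (g : G) :
    A g * (S * gram A) = (S * gram A) * cj (A g) := by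
  have hK := gram_invariant A hA g⁻¹
  have h1 : A g⁻¹ * A g = 1 := by rw [← hA, inv_mul_cancel, hA1]
  have h2 : gram A * cj (A g⁻¹) = (A g).transpose * gram A := by
    calc gram A * cj (A g⁻¹)
        = ((A g).transpose * (A g⁻¹).transpose) * gram A * cj (A g⁻¹) := by
          rw [← Matrix.transpose_mul, h1, Matrix.transpose_one, Matrix.one_mul]
      _ = (A g).transpose * ((A g⁻¹).transpose * gram A * cj (A g⁻¹)) := by
          simp only [Matrix.mul_assoc]
      _ = (A g).transpose * gram A := by rw [hK]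
  have h3 : cj (A g⁻¹) * cj (A g) = 1 := by rw [← cj_mul, h1, cj_one]
  calc A g * (S * gram A) = A g * (S * gram A) * (cj (A g⁻¹) * cj (A g)) := by
        rw [h3, Matrix.mul_one]
    _ = A g * S * (gram A * cj (A g⁻¹)) * cj (A g) := by simp only [Matrix.mul_assoc]
    _ = A g * S * ((A g).transpose * gram A) * cj (A g) := by rw [h2]
    _ = (A g * S * (A g).transpose) * gram A * cj (A g) := by simp only [Matrix.mul_assoc]
    _ = S * gram A * cj (A g) := by rw [hS]

theorem trace_gram_formula (A : G → Matrix n n ℂ) (S : Matrix n n ℂ)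
    (hSsym : S.transpose = S) :
    ((S * gram A) * cj (S * gram A)).trace
      = ((∑ g : G, ∑ k : G, frob (A k * S * (A g).transpose) : ℝ) : ℂ) := by
  have hcjK : cj (gram A) = ∑ k : G, cj (A k).transpose * A k := by
    unfold gram
    rw [cj_sum]
    apply Finset.sum_congr rfl
    intro k _
    rw [cj_mul, cj_cj]
  rw [cj_mul, hcjK]
  unfold gram
  rw [Finset.mul_sum, Finset.mul_sum, Finset.sum_mul_sum, Matrix.trace_sum, Complex.ofReal_sum]
  apply Finset.sum_congr rfl
  intro g _
  rw [Matrix.trace_sum, Complex.ofReal_sum]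
  apply Finset.sum_congr rfl
  intro k _
  rw [← trace_mul_cj_transpose]
  have hX : cj (A k * S * (A g).transpose).transpose
      = cj (A g) * cj S * cj (A k).transpose := by
    rw [Matrix.transpose_mul, Matrix.transpose_mul, Matrix.transpose_transpose, hSsym, cj_mul,
      cj_mul, ← Matrix.mul_assoc]
  rw [hX]
  have h : S * ((A g).transpose * cj (A g)) * (cj S * (cj (A k).transpose * A k))
      = (S * (A g).transpose * (cj (A g) * cj S * cj (A k).transpose)) * A k := by
    simp only [Matrix.mul_assoc]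
  rw [h, Matrix.trace_mul_comm]
  simp only [Matrix.mul_assoc]

end Invariant

section Main

variable {G : Type*} [Group G] [Fintype G]

/-- a real representation has Frobenius–Schur indicator `1` -/
theorem fs_eq_one_of_real_rep (χ : IrrCharacter G) (m : ℕ)
    (ρ : Representation ℝ G (Fin m → ℝ))
    (hρ : ∀ g : G, ((LinearMap.trace ℝ (Fin m → ℝ) (ρ g) : ℝ) : ℂ) = (χ : G → ℂ) g) :
    (Nat.card G : ℂ)⁻¹ * ∑ s : G, (χ : G → ℂ) (s * s) = 1 := by
  classical
  let R : G → Matrix (Fin m) (Fin m) ℝ := fun g => LinearMap.toMatrix' (ρ g)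
  have hR : ∀ g h : G, R (g * h) = R g * R h := by
    intro g h
    show LinearMap.toMatrix' (ρ (g * h)) = _
    rw [map_mul]
    exact LinearMap.toMatrix'_mul _ _
  have hR1 : R 1 = 1 := by
    show LinearMap.toMatrix' (ρ 1) = 1
    rw [map_one]
    exact LinearMap.toMatrix'_one
  have hRtr : ∀ g : G, (R g).trace = LinearMap.trace ℝ (Fin m → ℝ) (ρ g) := by
    intro g
    rw [← Matrix.trace_toLin'_eq]
    show LinearMap.trace ℝ _ (Matrix.toLin' (LinearMap.toMatrix' (ρ g))) = _
    rw [Matrix.toLin'_toMatrix']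
  let A : G → Matrix (Fin m) (Fin m) ℂ := fun g => toC (R g)
  have hA : ∀ g h : G, A (g * h) = A g * A h := by
    intro g h
    show toC (R (g * h)) = toC (R g) * toC (R h)
    rw [hR, toC_mul]
  have hA1 : A 1 = 1 := by
    show toC (R 1) = 1
    rw [hR1, toC_one]
  have hAtr : ∀ g : G, (A g).trace = (χ : G → ℂ) g := by
    intro g
    show (toC (R g)).trace = _
    rw [toC_trace, hRtr, hρ]
  have hr : ∀ g : G, ((χ : G → ℂ) g).im = 0 := by
    intro g
    rw [← hρ g]
    exact Complex.ofReal_im _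
  have h1 := trace_avgOp_of_real χ hr A hAtr
  obtain ⟨M₀, c', hM₀, hinv, hτ, hspan, htr⟩ := exists_invariant_of_trace_one A hA h1
  rw [← trace_transpose_avgOp_of χ A hA hAtr, htr]
  -- the invariant symmetric matrix
  let S : Matrix (Fin m) (Fin m) ℂ := ∑ g : G, A g * (A g).transpose
  have hSinv : ∀ h : G, A h * S * (A h).transpose = S := by
    intro h
    show A h * (∑ g : G, A g * (A g).transpose) * (A h).transpose = ∑ g : G, A g * (A g).transpose
    rw [Finset.mul_sum, Finset.sum_mul]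
    rw [← Equiv.sum_comp (Equiv.mulLeft h) (fun g => A g * (A g).transpose)]
    apply Finset.sum_congr rfl
    intro g _
    simp only [Equiv.coe_mulLeft, hA, Matrix.transpose_mul]
    simp only [Matrix.mul_assoc]
  have hSsym : S.transpose = S := by
    show (∑ g : G, A g * (A g).transpose).transpose = ∑ g : G, A g * (A g).transpose
    rw [Matrix.transpose_sum]
    apply Finset.sum_congr rfl
    intro g _
    rw [Matrix.transpose_mul, Matrix.transpose_transpose]
  have hm : m ≠ 0 := by
    intro h0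
    have h2 := hAtr 1
    rw [hA1, Matrix.trace_one, Fintype.card_fin, h0, Nat.cast_zero] at h2
    exact IsIrrCharacter.apply_one_ne_zero χ.2 h2.symm
  have hSne : S ≠ 0 := by
    intro h0
    let i₀ : Fin m := ⟨0, Nat.pos_of_ne_zero hm⟩
    have h2 : S i₀ i₀ = ((∑ g : G, ∑ k : Fin m, R g i₀ k * R g i₀ k : ℝ) : ℂ) := by
      show (∑ g : G, A g * (A g).transpose) i₀ i₀ = _
      rw [Matrix.sum_apply, Complex.ofReal_sum]
      apply Finset.sum_congr rfl
      intro g _
      rw [Matrix.mul_apply, Complex.ofReal_sum]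
      apply Finset.sum_congr rfl
      intro k _
      rw [Matrix.transpose_apply, Complex.ofReal_mul]
      rfl
    rw [h0, Matrix.zero_apply] at h2
    have h3 : (0 : ℝ) = ∑ g : G, ∑ k : Fin m, R g i₀ k * R g i₀ k := by exact_mod_cast h2
    have h4 : (1 : ℝ) ≤ ∑ g : G, ∑ k : Fin m, R g i₀ k * R g i₀ k := by
      calc (1 : ℝ) = R 1 i₀ i₀ * R 1 i₀ i₀ := by rw [hR1]; simp
        _ ≤ ∑ k : Fin m, R 1 i₀ k * R 1 i₀ k :=
          Finset.single_le_sum (f := fun k => R 1 i₀ k * R 1 i₀ k)
            (fun k _ => mul_self_nonneg _) (Finset.mem_univ i₀)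
        _ ≤ ∑ g : G, ∑ k : Fin m, R g i₀ k * R g i₀ k :=
          Finset.single_le_sum (f := fun g => ∑ k : Fin m, R g i₀ k * R g i₀ k)
            (fun g _ => Finset.sum_nonneg (fun k _ => mul_self_nonneg _)) (Finset.mem_univ 1)
    linarith
  obtain ⟨a, ha⟩ := hspan S hSinv
  have ha0 : a ≠ 0 := by
    intro h0
    rw [h0, zero_smul] at ha
    exact hSne ha
  have h5 : (a * c' - a) • M₀ = 0 := by
    have h6 : (a • M₀).transpose = a • M₀ := by rw [← ha]; exact hSsym
    rw [Matrix.transpose_smul, hτ, smul_smul] at h6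
    rw [sub_smul, h6, sub_self]
  rcases smul_eq_zero.mp h5 with h | h
  · have h7 : a * (c' - 1) = 0 := by rw [mul_sub, mul_one]; exact h
    rcases mul_eq_zero.mp h7 with h8 | h8
    · exact absurd h8 ha0
    · exact sub_eq_zero.mp h8
  · exact absurd h hM₀

/-- Frobenius–Schur indicator `1` gives a real representation -/
theorem exists_real_rep_of_fs_eq_one (χ : IrrCharacter G)
    (hν : (Nat.card G : ℂ)⁻¹ * ∑ s : G, (χ : G → ℂ) (s * s) = 1) :
    ∃ (n : ℕ) (ρ : Representation ℝ G (Fin n → ℝ)), ∀ g : G,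
      ((LinearMap.trace ℝ (Fin n → ℝ) (ρ g) : ℝ) : ℂ) = (χ : G → ℂ) g := by
  classical
  obtain ⟨m, ρ, hirr, hχ⟩ := χ.2
  haveI := hirr
  let A : G → Matrix (Fin m) (Fin m) ℂ := fun g => LinearMap.toMatrix' (ρ g)
  have hA : ∀ g h : G, A (g * h) = A g * A h := by
    intro g h
    show LinearMap.toMatrix' (ρ (g * h)) = _
    rw [map_mul]
    exact LinearMap.toMatrix'_mul _ _
  have hA1 : A 1 = 1 := by
    show LinearMap.toMatrix' (ρ 1) = 1
    rw [map_one]
    exact LinearMap.toMatrix'_one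
  have hρA : ∀ g : G, ρ g = Matrix.toLin' (A g) := fun g => (Matrix.toLin'_toMatrix' (ρ g)).symm
  have hAtr : ∀ g : G, (A g).trace = (χ : G → ℂ) g := by
    intro g
    rw [← hχ, ← Matrix.trace_toLin'_eq, ← hρA]
    rfl
  -- `χ` is real valued
  have hfs := frobenius_schur ρ
  rw [hχ] at hfs
  have hr : ∀ g : G, ((χ : G → ℂ) g).im = 0 := by
    intro g
    by_contra hne
    have := hfs.2.mpr ⟨g, hne⟩
    rw [hν] at this
    exact one_ne_zero this
  have h1 := trace_avgOp_of_real χ hr A hAtr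
  obtain ⟨S, c', hSne, hSinv, hSτ, -, htr⟩ := exists_invariant_of_trace_one A hA h1
  rw [trace_transpose_avgOp_of χ A hA hAtr, hν] at htr
  have hSsym : S.transpose = S := by rw [hSτ, ← htr, one_smul]
  -- the intertwiner
  have hint := intertwine A hA hA1 S hSinv
  have hcomm : ∀ g : G, A g * ((S * gram A) * cj (S * gram A))
      = ((S * gram A) * cj (S * gram A)) * A g :=
    fun g => commute_of_intertwine (A g) (S * gram A) (hint g)
  obtain ⟨c, hc⟩ := Cfsg.Agent.Lib.Helper25.schur_scalar ρ hirr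
    (Matrix.toLin' ((S * gram A) * cj (S * gram A))) (by
      intro g
      rw [hρA g, ← Matrix.toLin'_mul, ← Matrix.toLin'_mul, hcomm g])
  have hc' : (S * gram A) * cj (S * gram A) = c • (1 : Matrix (Fin m) (Fin m) ℂ) := by
    have := congrArg LinearMap.toMatrix' hc
    rw [LinearMap.toMatrix'_toLin', map_smul, LinearMap.toMatrix'_id] at this
    exact this
  -- `c` is a positive real number
  have htrace := trace_gram_formula A S hSsym
  rw [hc', Matrix.trace_smul, Matrix.trace_one, smul_eq_mul, Fintype.card_fin] at htrace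
  have hTpos : 0 < ∑ g : G, ∑ k : G, frob (A k * S * (A g).transpose) := by
    have h2 : frob S ≤ ∑ k : G, frob (A k * S * (A 1).transpose) := by
      have h3 := Finset.single_le_sum (f := fun k : G => frob (A k * S * (A 1).transpose))
        (fun k _ => frob_nonneg _) (Finset.mem_univ 1)
      simp only [hA1, Matrix.one_mul, Matrix.transpose_one, Matrix.mul_one] at h3
      simp only [hA1, Matrix.transpose_one, Matrix.mul_one]
      exact h3
    have h3 := Finset.single_le_sum
      (f := fun g : G => ∑ k : G, frob (A k * S * (A g).transpose))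
      (fun g _ => Finset.sum_nonneg (fun k _ => frob_nonneg _)) (Finset.mem_univ 1)
    have h4 := frob_pos hSne
    linarith
  have hm : (m : ℝ) ≠ 0 := by
    intro h0
    have : (m : ℂ) = 0 := by exact_mod_cast h0
    rw [this, mul_zero] at htrace
    have h5 : (0 : ℝ) = ∑ g : G, ∑ k : G, frob (A k * S * (A g).transpose) := by
      exact_mod_cast htrace
    linarith
  have hmpos : (0 : ℝ) < m := lt_of_le_of_ne (Nat.cast_nonneg m) (Ne.symm hm)
  set T : ℝ := ∑ g : G, ∑ k : G, frob (A k * S * (A g).transpose) with hT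
  have hcr : c = ((T / m : ℝ) : ℂ) := by
    push_cast
    have hm' : (m : ℂ) ≠ 0 := by exact_mod_cast hm
    field_simp
    exact htrace
  have hrpos : 0 < T / m := div_pos hTpos hmpos
  set t : ℝ := Real.sqrt (T / m) with ht
  have htpos : 0 < t := Real.sqrt_pos.mpr hrpos
  have htt : t * t = T / m := Real.mul_self_sqrt hrpos.le
  -- the normalised intertwiner
  let M : Matrix (Fin m) (Fin m) ℂ := ((t⁻¹ : ℝ) : ℂ) • (S * gram A)
  have hMM : M * cj M = 1 := by
    show (((t⁻¹ : ℝ) : ℂ) • (S * gram A)) * cj (((t⁻¹ : ℝ) : ℂ) • (S * gram A)) = 1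
    rw [cj_smul, Complex.conj_ofReal, Matrix.smul_mul, Matrix.mul_smul, smul_smul, hc', smul_smul,
      hcr]
    have : ((t⁻¹ : ℝ) : ℂ) * ((t⁻¹ : ℝ) : ℂ) * ((T / m : ℝ) : ℂ) = 1 := by
      rw [← Complex.ofReal_mul, ← Complex.ofReal_mul, ← htt]
      have : t⁻¹ * t⁻¹ * (t * t) = 1 := by
        field_simp
      rw [this, Complex.ofReal_one]
    rw [this, one_smul]
  have hMA : ∀ g : G, A g * M = M * cj (A g) := by
    intro g
    show A g * (((t⁻¹ : ℝ) : ℂ) • (S * gram A)) = (((t⁻¹ : ℝ) : ℂ) • (S * gram A)) * cj (A g)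
    rw [Matrix.mul_smul, Matrix.smul_mul, hint g]
  obtain ⟨P, hP, hMP⟩ := exists_conj_fixed M hMM
  let R : G → Matrix (Fin m) (Fin m) ℂ := fun g => P⁻¹ * A g * P
  have hRreal : ∀ g : G, cj (R g) = R g := fun g => cj_conj_eq M P (A g) hP hMP (hMA g)
  have hRmul : ∀ g h : G, R (g * h) = R g * R h := by
    intro g h
    show P⁻¹ * A (g * h) * P = (P⁻¹ * A g * P) * (P⁻¹ * A h * P)
    rw [hA]
    simp only [Matrix.mul_assoc]
    rw [Matrix.mul_nonsing_inv_cancel_left _ _ hP]
  have hR1 : R 1 = 1 := by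
    show P⁻¹ * A 1 * P = 1
    rw [hA1, Matrix.mul_one, Matrix.nonsing_inv_mul P hP]
  have hRtr : ∀ g : G, (R g).trace = (A g).trace := by
    intro g
    show (P⁻¹ * A g * P).trace = _
    rw [Matrix.trace_mul_comm, ← Matrix.mul_assoc, Matrix.mul_nonsing_inv P hP, Matrix.one_mul]
  -- the real matrices
  let Rr : G → Matrix (Fin m) (Fin m) ℝ := fun g => (R g).map Complex.re
  have hRr : ∀ g : G, toC (Rr g) = R g := by
    intro g
    ext i j
    rw [toC_apply]
    show (((R g i j).re : ℝ) : ℂ) = R g i j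
    have h2 : conj (R g i j) = R g i j := by
      have := Matrix.ext_iff.mpr (hRreal g) i j
      rw [cj_apply] at this
      exact this
    exact Complex.conj_eq_iff_re.mp h2
  have hRrmul : ∀ g h : G, Rr (g * h) = Rr g * Rr h := by
    intro g h
    apply toC_injective
    rw [toC_mul, hRr, hRr, hRr, hRmul]
  have hRr1 : Rr 1 = 1 := by
    apply toC_injective
    rw [hRr, toC_one, hR1]
  let ρr : Representation ℝ G (Fin m → ℝ) :=
    { toFun := fun g => Matrix.toLin' (Rr g)
      map_one' := by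
        rw [hRr1]
        exact Matrix.toLin'_one
      map_mul' := fun g h => by
        rw [hRrmul, Matrix.toLin'_mul]
        rfl }
  refine ⟨m, ρr, ?_⟩
  intro g
  show ((LinearMap.trace ℝ (Fin m → ℝ) (Matrix.toLin' (Rr g)) : ℝ) : ℂ) = _
  rw [Matrix.trace_toLin'_eq, ← toC_trace, hRr, hRtr, hAtr]

end Main

end RealRep

end Cfsg.Agent.Lib.Helper2
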