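import Mathlib
import Cfsg.Prelude.Def_RootSubgroups
import Cfsg.Agent.H26.RootInv2

/-!
# S5046 reduction farm (helper3), piece [LADIR1] (helper2): `LA` and `odd_eq_of_comm_eq`
-/

set_option autoImplicit false

namespace Cfsg.Agent.Lib.Helper3.Red
open Cfsg Cfsg.Agent.H26

variable {G : Type*} [Group G] {D : Set G}

namespace Helper2

/-- for involutions `e`, `a` with `(e a)^4 = 1`: `(e a)² a = e a e`. -/
theorem sq_mul_right {e a : G} (ha : a * a = 1) : (e * a) ^ 2 * a = e * a * e := by
  rw [sq]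
  calc e * a * (e * a) * a = e * a * e * (a * a) := by group
    _ = e * a * e := by rw [ha, mul_one]

/-- for involutions `e`, `a` with `(e a)^4 = 1`: `(e a)² = (a e)²`. -/
theorem sq_eq_sq_swap {e a : G} (he : e * e = 1) (ha : a * a = 1) (h4 : (e * a) ^ 4 = 1) :
    (e * a) ^ 2 = (a * e) ^ 2 := by
  have hinv : (e * a)⁻¹ = a * e := by
    rw [mul_inv_rev, inv_eq_of_mul_eq_one_left ha, inv_eq_of_mul_eq_one_left he]
  have h1 : (e * a) ^ 2 * (e * a) ^ 2 = 1 := by rw [← pow_add]; exact h4
  have h2 : (e * a) ^ 2 = ((e * a) ^ 2)⁻¹ := eq_inv_of_mul_eq_one_left h1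
  rw [h2, ← inv_pow, hinv]

/-- for involutions `e`, `a` with `(e a)^4 = 1`: `a (e a)² = e a e`. -/
theorem mul_sq_left {e a : G} (he : e * e = 1) (ha : a * a = 1) (h4 : (e * a) ^ 4 = 1) :
    a * (e * a) ^ 2 = e * a * e := by
  rw [sq_eq_sq_swap he ha h4, sq]
  calc a * (a * e * (a * e)) = (a * a) * (e * a * e) := by group
    _ = e * a * e := by rw [ha, one_mul]

/-- for involutions `e`, `a` with `(e a)^4 = 1`: `(e a)²` commutes with `e`. -/
theorem sq_comm_left {e a : G} (he : e * e = 1) (ha : a * a = 1) (h4 : (e * a) ^ 4 = 1) :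
    (e * a) ^ 2 * e = e * (e * a) ^ 2 := by
  have h1 : (e * a) ^ 2 * e = a * e * a := by
    rw [sq_eq_sq_swap he ha h4, sq]
    calc a * e * (a * e) * e = a * e * a * (e * e) := by group
      _ = a * e * a := by rw [he, mul_one]
  have h2 : e * (e * a) ^ 2 = a * e * a := by
    rw [sq]
    calc e * (e * a * (e * a)) = (e * e) * (a * e * a) := by group
      _ = a * e * a := by rw [he, one_mul]
  rw [h1, h2]

end Helper2

/-- [LA] `d, e` commuting, `a ∈ A_d ∩ V_e` ⇒ `(e a)²` does not commute with `d`.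
(`d·(e a e) = e (d a) e` has odd order `m > 1`; `e a e = a·(a e)²`, `(a e)² = ((e a)²)⁻¹`; if
`z = (e a)²` (an involution, central in `⟨e, a⟩`) commuted with `d` then `d a z` would have order `2m`.) -/
theorem LA (hD : IsRootInvolutionSet D) {d e a : G} (hd : d ∈ D) (he : e ∈ D)
    (hde : d * e = e * d) (had : a ∈ oddPartners D d) (hae : a ∈ fourPartners D e) :
    (e * a) ^ 2 * d ≠ d * (e * a) ^ 2 := by
  have _ := hde
  intro hcomm
  obtain ⟨haD, hne, hodd⟩ := had
  obtain ⟨-, h4⟩ := hae
  have he2 := ri_mul_self hD he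
  have ha2 := ri_mul_self hD haD
  have h44 : (e * a) ^ 4 = 1 := by rw [← h4]; exact pow_orderOf_eq_one _
  have hzD : (e * a) ^ 2 ∈ D := ri_four hD he haD h4
  have hza : (e * a) ^ 2 * a ∈ D := by
    rw [Helper2.sq_mul_right ha2]
    exact ri_conj' hD haD he
  have hzac : (e * a) ^ 2 * a = a * (e * a) ^ 2 := by
    rw [Helper2.sq_mul_right ha2, Helper2.mul_sq_left he2 ha2 h44]
  have hodd' : Odd (orderOf (a * d)) := by rw [orderOf_mul_comm_eq]; exact hodd
  exact hne (ri_L1 hD hzD haD hza hzac hd hcomm hodd')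

/-- [DIR1] same commuting members ⇒ same odd partners (uses [LA], [PART]). -/
theorem odd_eq_of_comm_eq (hD : IsRootInvolutionSet D) {d e : G} (hd : d ∈ D) (he : e ∈ D)
    (h : commutingMembers D d = commutingMembers D e) : oddPartners D d = oddPartners D e := by
  -- one inclusion, symmetric in `d`, `e`
  have key : ∀ {d e : G}, d ∈ D → e ∈ D → commutingMembers D d = commutingMembers D e →
      oddPartners D d ⊆ oddPartners D e := by
    intro d e hd he h a had
    have haD : a ∈ D := had.1
    have hde : d * e = e * d := by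
      have : e ∈ commutingMembers D d := by rw [h]; exact ⟨he, rfl⟩
      exact this.2.symm
    rcases hD.pair e he a haD with hc | ho | ⟨h4, -⟩
    · -- `a` commutes with `e`, hence with `d`
      exfalso
      have hae : a ∈ commutingMembers D d := by rw [h]; exact ⟨haD, hc.symm⟩
      exact had.2.1 (ri_eq_of_odd_of_comm hD hd haD had.2.2 hae.2.symm).symm
    · by_cases hae : a = e
      · exfalso
        subst hae
        exact had.2.1 (ri_eq_of_odd_of_comm hD hd haD had.2.2 hde).symm
      · exact ⟨haD, hae, ho⟩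
    · exfalso
      have he2 := ri_mul_self hD he
      have ha2 := ri_mul_self hD haD
      have h44 : (e * a) ^ 4 = 1 := by rw [← h4]; exact pow_orderOf_eq_one _
      have hzD : (e * a) ^ 2 ∈ D := ri_four hD he haD h4
      have hz : (e * a) ^ 2 ∈ commutingMembers D d := by
        rw [h]
        exact ⟨hzD, Helper2.sq_comm_left he2 ha2 h44⟩
      exact LA hD hd he hde had ⟨haD, h4⟩ hz.2
  exact Set.Subset.antisymm (key hd he h) (key he hd h.symm)

end Cfsg.Agent.Lib.Helper3.Red
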