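import Mathlib
import Cfsg.Prelude.Def_RootSubgroups
import Cfsg.Agent.H26.RootInv2

/-!
# S5046 reduction farm (helper3), piece [LE] (helper2)
-/

set_option autoImplicit false

namespace Cfsg.Agent.Lib.Helper3.Red
open Cfsg Cfsg.Agent.H26

variable {G : Type*} [Group G] {D : Set G}

/-- [LE] `e, z, e z ∈ D` commuting, `A_{ez} = A_e`, all `A` of the same size ⇒ `A_z = A_e`
(`ri_line_odd`: `A_z ⊆ A_e ∪ A_{ez}`; then `Set.eq_of_subset_of_ncard_le`). -/
theorem odd_eq_of_line [Finite G] (hD : IsRootInvolutionSet D)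
    (hcard : ∀ a ∈ D, ∀ b ∈ D, (oddPartners D a).ncard = (oddPartners D b).ncard)
    {e z : G} (he : e ∈ D) (hz : z ∈ D) (hez : e * z ∈ D) (hcomm : e * z = z * e)
    (hA : oddPartners D (e * z) = oddPartners D e) : oddPartners D z = oddPartners D e := by
  have hsub : oddPartners D z ⊆ oddPartners D e := by
    rintro f ⟨hf, hne, hodd⟩
    have hzf : OddAdj D z f := ⟨hz, hf, fun h => hne h.symm, hodd⟩
    rcases ri_line_odd hD he hz hez hcomm hzf with h | h
    · exact ⟨hf, h.2.2.1, by rw [orderOf_mul_comm_eq]; exact h.2.2.2⟩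
    · rw [← hA]
      exact ⟨hf, h.2.2.1, by rw [orderOf_mul_comm_eq]; exact h.2.2.2⟩
  exact Set.eq_of_subset_of_ncard_le hsub (le_of_eq (hcard e he z hz)) (Set.toFinite _)

end Cfsg.Agent.Lib.Helper3.Red
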