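import Mathlib

/-!
# S5046 reduction farm (helper3), piece [TC3] (helper2)
-/

set_option autoImplicit false

namespace Cfsg.Agent.Lib.Helper3.Red

variable {G : Type*} [Group G] {D : Set G}

/-- [TC3] a finite 2-group equal to its commutator subgroup is trivial. -/
theorem eq_bot_of_le_commutator [Finite G] (Q : Subgroup G) (hQ : IsPGroup 2 Q)
    (h : Q ≤ ⁅Q, Q⁆) : Q = ⊥ := by
  by_contra hne
  have : Nontrivial Q := (Subgroup.nontrivial_iff_ne_bot Q).mpr hne
  have : Fact (Nat.Prime 2) := ⟨Nat.prime_two⟩
  have : Group.IsNilpotent Q := hQ.isNilpotent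
  have hlt : _root_.commutator Q < ⊤ := Group.IsSolvable.commutator_lt_top_of_nontrivial Q
  have hmap : (_root_.commutator Q).map Q.subtype < (⊤ : Subgroup Q).map Q.subtype :=
    (Subgroup.map_lt_map_iff_of_injective Q.subtype_injective).mpr hlt
  rw [Subgroup.map_subtype_commutator, ← MonoidHom.range_eq_map, Subgroup.range_subtype] at hmap
  exact (not_le_of_gt hmap) h

end Cfsg.Agent.Lib.Helper3.Red
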