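import Mathlib
import Cfsg.Agent.Lib.Helper2.RelChar
import Cfsg.Agent.Lib.Helper25.Kernel
import Cfsg.Agent.Lib.Helper25.DefectZeroQuot

/-!
# Characters of sections `U/Q` for subgroups `Q ≤ U ≤ N(Q)` of an ambient group (helper2 library)

The quotient `N(Q)/Q`, the images `bar U` of subgroups, the projections `proj : U → bar U`,
inflation `infl` of functions on `bar U` to `U`, and its compatibility with restriction,
conjugation and inner products; deflation.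
-/

set_option autoImplicit false
set_option linter.unusedSectionVars false
set_option linter.style.haveILetI false
set_option linter.unusedVariables false

namespace Cfsg.Agent.Lib.Helper2.RelQ

open Cfsg Cfsg.Agent.Lib Cfsg.Agent.Lib.Helper2 Cfsg.Agent.Lib.Helper2.GlPG
  Cfsg.Agent.Lib.Helper2.GlSolv Cfsg.Agent.Lib.Helper2.Rel
open scoped ComplexConjugate

section Defs

variable {Γ : Type*} [Group Γ] (Q : Subgroup Γ)

/-- the normaliser of `Q` -/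
abbrev Nz : Subgroup Γ := Subgroup.normalizer (Q : Set Γ)

/-- `Q` inside its normaliser -/
abbrev Qz : Subgroup ↥(Nz Q) := Q.subgroupOf (Nz Q)

instance Qz_normal : (Qz Q).Normal :=
  (Subgroup.normal_subgroupOf_iff_le_normalizer Subgroup.le_normalizer).2 le_rfl

/-- the quotient `N(Q)/Q` -/
abbrev Quo : Type _ := ↥(Nz Q) ⧸ Qz Q

/-- the class of an element of `N(Q)` -/
def mkz (x : Γ) (hx : x ∈ Nz Q) : Quo Q := QuotientGroup.mk' (Qz Q) ⟨x, hx⟩

theorem mkz_mul (x y : Γ) (hx : x ∈ Nz Q) (hy : y ∈ Nz Q) :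
    mkz Q (x * y) (mul_mem hx hy) = mkz Q x hx * mkz Q y hy := by
  unfold mkz
  rw [← map_mul]
  rfl

theorem mkz_inv (x : Γ) (hx : x ∈ Nz Q) : mkz Q x⁻¹ (inv_mem hx) = (mkz Q x hx)⁻¹ := by
  unfold mkz
  rw [← map_inv]
  rfl

theorem mkz_eq_one_iff (x : Γ) (hx : x ∈ Nz Q) : mkz Q x hx = 1 ↔ x ∈ Q := by
  unfold mkz
  rw [QuotientGroup.mk'_apply, QuotientGroup.eq_one_iff, Subgroup.mem_subgroupOf]

theorem mkz_congr {x y : Γ} (h : x = y) (hx : x ∈ Nz Q) (hy : y ∈ Nz Q) :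
    mkz Q x hx = mkz Q y hy := by
  subst h
  rfl

/-- the image in `N(Q)/Q` of a subgroup -/
def bar (U : Subgroup Γ) : Subgroup (Quo Q) :=
  (U.subgroupOf (Nz Q)).map (QuotientGroup.mk' (Qz Q))

theorem mem_bar_iff {U : Subgroup Γ} (hU : U ≤ Nz Q) (y : Quo Q) :
    y ∈ bar Q U ↔ ∃ (u : Γ) (hu : u ∈ U), y = mkz Q u (hU hu) := by
  constructor
  · intro hy
    obtain ⟨x, hx, rfl⟩ := Subgroup.mem_map.1 hy
    exact ⟨(x : Γ), Subgroup.mem_subgroupOf.1 hx, rfl⟩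
  · rintro ⟨u, hu, rfl⟩
    exact Subgroup.mem_map_of_mem _ (Subgroup.mem_subgroupOf.2 hu)

theorem bar_mono {U V : Subgroup Γ} (hUV : U ≤ V) : bar Q U ≤ bar Q V := by
  apply Subgroup.map_mono
  intro x hx
  exact Subgroup.mem_subgroupOf.2 (hUV (Subgroup.mem_subgroupOf.1 hx))

/-- the projection `U → bar U` -/
def proj {U : Subgroup Γ} (hU : U ≤ Nz Q) : ↥U →* ↥(bar Q U) where
  toFun u := ⟨mkz Q u (hU u.2), (mem_bar_iff Q hU _).2 ⟨u, u.2, rfl⟩⟩
  map_one' := by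
    apply Subtype.ext
    exact (mkz_eq_one_iff Q _ _).2 (one_mem Q)
  map_mul' a b := by
    apply Subtype.ext
    exact mkz_mul Q a b (hU a.2) (hU b.2)

theorem proj_coe {U : Subgroup Γ} (hU : U ≤ Nz Q) (u : U) :
    ((proj Q hU u : ↥(bar Q U)) : Quo Q) = mkz Q u (hU u.2) := rfl

theorem proj_surjective {U : Subgroup Γ} (hU : U ≤ Nz Q) : Function.Surjective (proj Q hU) := by
  rintro ⟨y, hy⟩
  obtain ⟨u, hu, rfl⟩ := (mem_bar_iff Q hU y).1 hy
  exact ⟨⟨u, hu⟩, rfl⟩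

theorem proj_eq_one_iff {U : Subgroup Γ} (hU : U ≤ Nz Q) (u : U) :
    proj Q hU u = 1 ↔ (u : Γ) ∈ Q := by
  rw [← mkz_eq_one_iff Q (u : Γ) (hU u.2)]
  constructor
  · intro h
    exact congrArg Subtype.val h
  · intro h
    exact Subtype.ext h

/-- inflation of a function on `bar U` to `U` -/
def infl {U : Subgroup Γ} (hU : U ≤ Nz Q) (β : ↥(bar Q U) → ℂ) : ↥U → ℂ :=
  fun u => β (proj Q hU u)

theorem infl_apply {U : Subgroup Γ} (hU : U ≤ Nz Q) (β : ↥(bar Q U) → ℂ) (u : U) :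
    infl Q hU β u = β (proj Q hU u) := rfl

theorem infl_injective {U : Subgroup Γ} (hU : U ≤ Nz Q) {β γ : ↥(bar Q U) → ℂ}
    (h : infl Q hU β = infl Q hU γ) : β = γ := by
  funext y
  obtain ⟨u, rfl⟩ := proj_surjective Q hU y
  exact congrFun h u

theorem infl_one {U : Subgroup Γ} (hU : U ≤ Nz Q) (β : ↥(bar Q U) → ℂ) :
    infl Q hU β 1 = β 1 := by
  rw [infl_apply, map_one]

theorem infl_of_mem {U : Subgroup Γ} (hU : U ≤ Nz Q) (β : ↥(bar Q U) → ℂ) (u : U)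
    (hu : (u : Γ) ∈ Q) : infl Q hU β u = β 1 := by
  rw [infl_apply, (proj_eq_one_iff Q hU u).2 hu]

theorem res_infl {U V : Subgroup Γ} (hUV : U ≤ V) (hV : V ≤ Nz Q) (β : ↥(bar Q V) → ℂ) :
    res hUV (infl Q hV β) = infl Q (hUV.trans hV) (res (bar_mono Q hUV) β) := by
  funext u
  show β (proj Q hV ⟨u, hUV u.2⟩) = β ⟨(proj Q (hUV.trans hV) u : Quo Q), _⟩
  apply congrArg β
  apply Subtype.ext
  rfl

theorem infl_sum {U : Subgroup Γ} (hU : U ≤ Nz Q) {ι : Type*} (s : Finset ι)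
    (f : ι → ↥(bar Q U) → ℂ) :
    infl Q hU (∑ i ∈ s, f i) = ∑ i ∈ s, infl Q hU (f i) := by
  funext u
  rw [infl_apply, Finset.sum_apply, Finset.sum_apply]
  rfl

theorem infl_smul {U : Subgroup Γ} (hU : U ≤ Nz Q) (c : ℂ) (f : ↥(bar Q U) → ℂ) :
    infl Q hU (c • f) = c • infl Q hU f := rfl

end Defs

section Finite

variable {Γ : Type*} [Group Γ] [Fintype Γ] (Q : Subgroup Γ)

theorem infl_irr {U : Subgroup Γ} (hU : U ≤ Nz Q) {β : ↥(bar Q U) → ℂ}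
    (hβ : IsIrrCharacter ↥(bar Q U) β) : IsIrrCharacter ↥U (infl Q hU β) :=
  Helper25.isIrrCharacter_comp (proj Q hU) (proj_surjective Q hU) hβ

theorem infl_isCharacter {U : Subgroup Γ} (hU : U ≤ Nz Q) {β : ↥(bar Q U) → ℂ}
    (hβ : IsCharacter ↥(bar Q U) β) : IsCharacter ↥U (infl Q hU β) :=
  Helper25.isCharacter_comp (proj Q hU) hβ

theorem cinn_infl {U : Subgroup Γ} (hU : U ≤ Nz Q) (β γ : ↥(bar Q U) → ℂ) :
    cinn (infl Q hU β) (infl Q hU γ) = cinn β γ := by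
  classical
  haveI : Fintype ↥U := Fintype.ofFinite _
  haveI : Fintype ↥(bar Q U) := Fintype.ofFinite _
  rw [cinn_eq, cinn_eq]
  exact Helper25.classInner_comp_surjective (proj Q hU) (proj_surjective Q hU) β γ

/-- conjugation by an element of `N(Q)` normalising `U` normalises `bar U` -/
theorem mkz_mem_normalizer_bar {U : Subgroup Γ} (hU : U ≤ Nz Q) {x : Γ} (hx0 : x ∈ Nz Q)
    (hx : x ∈ Subgroup.normalizer (U : Set Γ)) :
    mkz Q x hx0 ∈ Subgroup.normalizer ((bar Q U : Subgroup (Quo Q)) : Set (Quo Q)) := by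
  have key : ∀ (z : Γ) (hz0 : z ∈ Nz Q), z ∈ Subgroup.normalizer (U : Set Γ) →
      ∀ y ∈ bar Q U, mkz Q z hz0 * y * (mkz Q z hz0)⁻¹ ∈ bar Q U := by
    intro z hz0 hz y hy
    obtain ⟨u, hu, rfl⟩ := (mem_bar_iff Q hU y).1 hy
    rw [mem_bar_iff Q hU]
    refine ⟨z * u * z⁻¹, conj_mem_of_mem_normalizer hz hu, ?_⟩
    rw [← mkz_inv Q z hz0, ← mkz_mul Q z u hz0 (hU hu), ← mkz_mul Q (z * u) z⁻¹]
  apply mem_normalizer_of_conj_mem (key x hx0 hx)
  intro y hy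
  have := key x⁻¹ (inv_mem hx0) (inv_mem hx) y hy
  rw [mkz_inv Q x hx0, inv_inv] at this
  exact this

theorem cj_infl {U : Subgroup Γ} (hU : U ≤ Nz Q) {x : Γ} (hx0 : x ∈ Nz Q)
    (hx : x ∈ Subgroup.normalizer (U : Set Γ)) (β : ↥(bar Q U) → ℂ) :
    cj U x hx (infl Q hU β) =
      infl Q hU (cj (bar Q U) (mkz Q x hx0) (mkz_mem_normalizer_bar Q hU hx0 hx) β) := by
  funext u
  show β (proj Q hU (conjE U x hx u)) =
    β (conjE (bar Q U) (mkz Q x hx0) (mkz_mem_normalizer_bar Q hU hx0 hx) (proj Q hU u))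
  apply congrArg β
  apply Subtype.ext
  rw [conjE_coe, proj_coe, proj_coe]
  have h1 : ((conjE U x hx u : U) : Γ) = x * u * x⁻¹ := conjE_coe U x hx u
  rw [mkz_congr Q h1 _ (mul_mem (mul_mem hx0 (hU u.2)) (inv_mem hx0)),
    mkz_mul Q (x * u) x⁻¹ (mul_mem hx0 (hU u.2)) (inv_mem hx0), mkz_mul Q x u hx0 (hU u.2),
    mkz_inv Q x hx0]

theorem invUnder_infl_iff {U : Subgroup Γ} (hU : U ≤ Nz Q) {x : Γ} (hx0 : x ∈ Nz Q)
    (hx : x ∈ Subgroup.normalizer (U : Set Γ)) (β : ↥(bar Q U) → ℂ) :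
    InvUnder U x (infl Q hU β) ↔ InvUnder (bar Q U) (mkz Q x hx0) β := by
  rw [invUnder_iff_cj_eq U x hx, invUnder_iff_cj_eq (bar Q U) (mkz Q x hx0)
    (mkz_mem_normalizer_bar Q hU hx0 hx), cj_infl Q hU hx0 hx]
  constructor
  · intro h
    exact infl_injective Q hU h
  · intro h
    rw [h]

/-- deflation: an irreducible character of `U` with `Q` in its kernel is inflated from `bar U` -/
theorem exists_deflation {U : Subgroup Γ} (hU : U ≤ Nz Q) {β : ↥U → ℂ}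
    (hβ : IsIrrCharacter ↥U β) (hQ : ∀ u : U, (u : Γ) ∈ Q → β u = β 1) :
    ∃ β' : ↥(bar Q U) → ℂ, IsIrrCharacter ↥(bar Q U) β' ∧ β = infl Q hU β' := by
  classical
  obtain ⟨QU, hQU⟩ : ∃ QU : Subgroup ↥U, QU = (proj Q hU).ker := ⟨_, rfl⟩
  haveI : QU.Normal := by rw [hQU]; exact MonoidHom.normal_ker _
  have hmem : ∀ u : U, u ∈ QU ↔ (u : Γ) ∈ Q := by
    intro u
    rw [hQU, MonoidHom.mem_ker]
    exact proj_eq_one_iff Q hU u
  obtain ⟨ψ, hψ, hψβ⟩ := Helper25.exists_deflation QU hβ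
    (fun n hn => hQ n ((hmem n).1 hn))
  have hker : QU ≤ (proj Q hU).ker := by rw [hQU]
  obtain ⟨φ, hφ⟩ : ∃ φ : ↥U ⧸ QU →* ↥(bar Q U), φ = QuotientGroup.lift QU (proj Q hU) hker :=
    ⟨_, rfl⟩
  have hφmk : ∀ u : U, φ (QuotientGroup.mk u) = proj Q hU u := by
    intro u
    rw [hφ]
    rfl
  have hφbij : Function.Bijective φ := by
    constructor
    · rw [injective_iff_map_eq_one]
      intro q hq
      obtain ⟨u, rfl⟩ := QuotientGroup.mk_surjective q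
      rw [hφmk] at hq
      rw [QuotientGroup.eq_one_iff, hQU, MonoidHom.mem_ker]
      exact hq
    · intro y
      obtain ⟨u, rfl⟩ := proj_surjective Q hU y
      exact ⟨QuotientGroup.mk u, hφmk u⟩
  obtain ⟨e, he⟩ : ∃ e : ↥U ⧸ QU ≃* ↥(bar Q U), ∀ q, e q = φ q :=
    ⟨MulEquiv.ofBijective φ hφbij, fun q => rfl⟩
  refine ⟨fun y => ψ (e.symm y), Helper11.isIrrCharacter_comp_equiv e.symm hψ, ?_⟩
  funext u
  rw [infl_apply, hψβ u]
  apply congrArg ψ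
  rw [← hφmk u, ← he, MulEquiv.symm_apply_apply]

/-- the order of `bar U` -/
theorem card_bar {U : Subgroup Γ} (hQU : Q ≤ U) (hU : U ≤ Nz Q) :
    Nat.card ↥(bar Q U) = Q.relIndex U := by
  classical
  have hle : Qz Q ≤ U.subgroupOf (Nz Q) := fun x hx =>
    Subgroup.mem_subgroupOf.2 (hQU (Subgroup.mem_subgroupOf.1 hx))
  have hidx : (bar Q U).index = (U.subgroupOf (Nz Q)).index :=
    Subgroup.index_map_eq _ (QuotientGroup.mk'_surjective (Qz Q))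
      (by rw [QuotientGroup.ker_mk']; exact hle)
  have h1 := Subgroup.card_mul_index (bar Q U)
  rw [hidx, ← Subgroup.index_eq_card, ← Subgroup.relIndex_mul_index hle] at h1
  have h2 : (Qz Q).relIndex (U.subgroupOf (Nz Q)) = Q.relIndex U :=
    Subgroup.relIndex_subgroupOf hU
  rw [← h2]
  exact Nat.eq_of_mul_eq_mul_right (Nat.pos_of_ne_zero Subgroup.index_ne_zero_of_finite) h1

theorem isPGroup_bar {p : ℕ} {P : Subgroup Γ} (hP : IsPGroup p P) : IsPGroup p ↥(bar Q P) := by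
  unfold bar
  apply IsPGroup.map
  exact hP.comap_of_injective (Nz Q).subtype (Nz Q).subtype_injective

/-- the centraliser in `bar U` of `bar P` -/
theorem bar_centralizer {U P D : Subgroup Γ} (hU : U ≤ Nz Q) (hP : P ≤ Nz Q)
    (hD : ∀ k : Γ, k ∈ D ↔ (k ∈ U ∧ ∀ x ∈ P, x * k * x⁻¹ * k⁻¹ ∈ Q)) :
    bar Q D = bar Q U ⊓ Subgroup.centralizer ((bar Q P : Subgroup (Quo Q)) : Set (Quo Q)) := by
  have hDU : D ≤ U := fun k hk => ((hD k).1 hk).1
  ext y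
  rw [Subgroup.mem_inf, mem_bar_iff Q (hDU.trans hU), mem_bar_iff Q hU,
    Subgroup.mem_centralizer_iff]
  constructor
  · rintro ⟨k, hk, rfl⟩
    refine ⟨⟨k, hDU hk, rfl⟩, ?_⟩
    intro z hz
    obtain ⟨x, hx, rfl⟩ := (mem_bar_iff Q hP z).1 hz
    have hq := ((hD k).1 hk).2 x hx
    have h1 := (mkz_eq_one_iff Q _ (Subgroup.le_normalizer hq)).2 hq
    have hk0 : k ∈ Nz Q := hU (hDU hk)
    have h2 : mkz Q (x * k * x⁻¹ * k⁻¹) (Subgroup.le_normalizer hq) =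
        mkz Q x (hP hx) * mkz Q k hk0 * (mkz Q x (hP hx))⁻¹ * (mkz Q k hk0)⁻¹ := by
      rw [← mkz_inv Q x (hP hx), ← mkz_inv Q k hk0, ← mkz_mul Q x k (hP hx) hk0,
        ← mkz_mul Q (x * k) x⁻¹ (mul_mem (hP hx) hk0) (inv_mem (hP hx)),
        ← mkz_mul Q (x * k * x⁻¹) k⁻¹ (mul_mem (mul_mem (hP hx) hk0) (inv_mem (hP hx)))
          (inv_mem hk0)]
    rw [h2] at h1
    have h3 : mkz Q x (hP hx) * mkz Q k hk0 = mkz Q k hk0 * mkz Q x (hP hx) := by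
      have := congrArg (fun w => w * mkz Q k hk0 * mkz Q x (hP hx)) h1
      simpa [mul_assoc] using this
    exact h3
  · rintro ⟨⟨k, hk, rfl⟩, hcent⟩
    refine ⟨k, ?_, rfl⟩
    rw [hD]
    refine ⟨hk, fun x hx => ?_⟩
    have hk0 : k ∈ Nz Q := hU hk
    have h3 := hcent (mkz Q x (hP hx)) ((mem_bar_iff Q hP _).2 ⟨x, hx, rfl⟩)
    have hmem : x * k * x⁻¹ * k⁻¹ ∈ Nz Q :=
      mul_mem (mul_mem (mul_mem (hP hx) hk0) (inv_mem (hP hx))) (inv_mem hk0)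
    rw [← mkz_eq_one_iff Q _ hmem]
    rw [mkz_mul Q (x * k * x⁻¹) k⁻¹ (mul_mem (mul_mem (hP hx) hk0) (inv_mem (hP hx)))
        (inv_mem hk0),
      mkz_mul Q (x * k) x⁻¹ (mul_mem (hP hx) hk0) (inv_mem (hP hx)),
      mkz_mul Q x k (hP hx) hk0, mkz_inv Q x (hP hx), mkz_inv Q k hk0, h3]
    group

end Finite

end Cfsg.Agent.Lib.Helper2.RelQ
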