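import Mathlib
import Cfsg.Agent.Lib.Helper2.RelQuot
import Cfsg.Agent.Lib.Helper7.Gallagher
import Cfsg.Agent.Lib.Helper25.Linear

/-!
# Gallagher's theorem for sections `Q ≤ V ≤ N(Q)` of an ambient group (helper2 library)

If `η ∈ Irr(V)` restricts irreducibly to `Q`, then `β ↦ η · infl β` is an injection of
`Irr(V/Q)` onto the irreducible characters of `V` over `η_Q`, and it is isometric against
inflated class functions.
-/

set_option autoImplicit false
set_option linter.unusedSectionVars false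
set_option linter.style.haveILetI false
set_option linter.unusedVariables false

namespace Cfsg.Agent.Lib.Helper2.RelG

open Cfsg Cfsg.Agent.Lib Cfsg.Agent.Lib.Helper2 Cfsg.Agent.Lib.Helper2.GlPG
  Cfsg.Agent.Lib.Helper2.GlSolv Cfsg.Agent.Lib.Helper2.Rel Cfsg.Agent.Lib.Helper2.RelQ
open scoped ComplexConjugate

section TypeLevel

variable {G : Type*} [Group G] [Fintype G] (N : Subgroup G) [hN : N.Normal] [Fintype N]

/-- an irreducible character has `N` in its kernel iff its restriction to `N` contains the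
trivial character -/
theorem inner_one_ne_zero_iff {β : G → ℂ} (hβ : IsIrrCharacter G β) :
    classInner (fun _ : N => (1 : ℂ)) (fun n : N => β n) ≠ 0 ↔ ∀ n ∈ N, β n = β 1 := by
  have hN0 : (Nat.card N : ℂ) ≠ 0 := Nat.cast_ne_zero.2 Nat.card_pos.ne'
  rw [classInner_def]
  constructor
  · intro h
    rcases Helper25.sum_normal_char hβ N with h1 | h1
    · exact h1
    · exfalso
      apply h
      have h2 := h1 1
      have h3 : ∑ n : N, (1 : ℂ) * conj (β n) = conj (∑ n : N, β ((1 : G) * (n : G))) := by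
        rw [map_sum]
        apply Finset.sum_congr rfl
        intro n _
        rw [one_mul, one_mul]
      rw [h3, h2, map_zero, mul_zero]
  · intro h
    have h3 : ∑ n : N, (1 : ℂ) * conj (β n) = (Nat.card N : ℂ) * conj (β 1) := by
      have h4 : ∀ n ∈ (Finset.univ : Finset N), (1 : ℂ) * conj (β (n : G)) = conj (β 1) := by
        intro n _
        rw [one_mul, h n n.2]
      rw [Finset.sum_congr rfl h4, Finset.sum_const, Finset.card_univ, Nat.card_eq_fintype_card,
        nsmul_eq_mul]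
    rw [h3, ← mul_assoc, inv_mul_cancel₀ hN0, one_mul]
    exact fun h0 => IsIrrCharacter.apply_one_ne_zero hβ ((map_eq_zero _).1 h0)

/-- Gallagher's theorem for an irreducible character restricting irreducibly to `N` -/
theorem gallagher_type {η : G → ℂ} (hη : IsIrrCharacter G η)
    (hηN : IsIrrCharacter N (fun n : N => η n)) :
    (∀ β : G → ℂ, IsIrrCharacter G β → (∀ n ∈ N, β n = β 1) → IsIrrCharacter G (β * η)) ∧
    (∀ β β' : G → ℂ, IsIrrCharacter G β → IsIrrCharacter G β' → (∀ n ∈ N, β n = β 1) →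
      (∀ n ∈ N, β' n = β' 1) → β * η = β' * η → β = β') ∧
    (∀ ψ : G → ℂ, IsIrrCharacter G ψ →
      classInner (fun n : N => ψ n) (fun n : N => η n) ≠ 0 →
      ∃ β : G → ℂ, IsIrrCharacter G β ∧ (∀ n ∈ N, β n = β 1) ∧ β * η = ψ) := by
  have hone : IsIrrCharacter N (fun _ : N => (1 : ℂ)) := Helper25.isIrrCharacter_one
  have hinv : ∀ g : G, Helper11.conjFn N g (fun _ : N => (1 : ℂ)) = fun _ : N => (1 : ℂ) :=
    fun g => rfl
  have hmul : ((fun _ : N => (1 : ℂ)) * fun n : N => η n) = fun n : N => η n := by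
    funext n
    rw [Pi.mul_apply, one_mul]
  have hprod : IsIrrCharacter N ((fun _ : N => (1 : ℂ)) * fun n : N => η n) := by
    rw [hmul]; exact hηN
  obtain ⟨h1, h2, h3⟩ := Helper7.gallagher_rigidity N hone hinv
    (Helper25.isCharacter_of_irr hη) hprod
  have hfr : ∀ β : G → ℂ, IsIrrCharacter G β →
      (classInner (indFun N (fun _ : N => (1 : ℂ))) β ≠ 0 ↔ ∀ n ∈ N, β n = β 1) := by
    intro β hβ
    rw [frobenius_reciprocity N _ _
      (Helper25.isClassFunction_of_char (Helper25.isCharacter_of_irr hβ))]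
    exact inner_one_ne_zero_iff N hβ
  refine ⟨?_, ?_, ?_⟩
  · intro β hβ hker
    exact (h1 β hβ ((hfr β hβ).2 hker)).1
  · intro β β' hβ hβ' hker hker' he
    exact h2 β β' hβ hβ' ((hfr β hβ).2 hker) ((hfr β' hβ').2 hker') he
  · intro ψ hψ hne
    have hne' : classInner (indFun N ((fun _ : N => (1 : ℂ)) * fun n : N => η n)) ψ ≠ 0 := by
      rw [hmul, frobenius_reciprocity N _ _
        (Helper25.isClassFunction_of_char (Helper25.isCharacter_of_irr hψ)),
        ← classInner_conj_symm]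
      exact fun h0 => hne ((map_eq_zero _).1 h0)
    obtain ⟨β, hβ, hβ1, hβψ⟩ := h3 ψ hψ hne'
    exact ⟨β, hβ, (hfr β hβ).1 hβ1, hβψ⟩

end TypeLevel

section RelLevel

open Classical

variable {Γ : Type*} [Group Γ] [Fintype Γ] {Q V : Subgroup Γ}

/-- Gallagher's theorem for `Q ≤ V ≤ N(Q)` and `η ∈ Irr(V)` with `η_Q` irreducible -/
theorem gallagher_rel (hQV : Q ≤ V) (hV : V ≤ Nz Q) {η : V → ℂ} (hη : IsIrrCharacter V η)
    (hθ : IsIrrCharacter Q (res hQV η)) :
    (∀ β : ↥(bar Q V) → ℂ, IsIrrCharacter ↥(bar Q V) β →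
      IsIrrCharacter V (η * infl Q hV β)) ∧
    (∀ β β' : ↥(bar Q V) → ℂ, IsIrrCharacter ↥(bar Q V) β → IsIrrCharacter ↥(bar Q V) β' →
      η * infl Q hV β = η * infl Q hV β' → β = β') ∧
    (∀ ψ : V → ℂ, IsIrrCharacter V ψ → cinn (res hQV ψ) (res hQV η) ≠ 0 →
      ∃ β : ↥(bar Q V) → ℂ, IsIrrCharacter ↥(bar Q V) β ∧ ψ = η * infl Q hV β) := by
  haveI : (Q.subgroupOf V).Normal := (Subgroup.normal_subgroupOf_iff_le_normalizer hQV).2 hV
  haveI : Fintype V := Fintype.ofFinite _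
  haveI : Fintype (Q.subgroupOf V) := Fintype.ofFinite _
  have hηN : IsIrrCharacter (Q.subgroupOf V) (fun n : Q.subgroupOf V => η n) := pb_irr hQV hθ
  obtain ⟨h1, h2, h3⟩ := gallagher_type (Q.subgroupOf V) hη hηN
  have hker : ∀ β : ↥(bar Q V) → ℂ, ∀ n ∈ Q.subgroupOf V, infl Q hV β n = infl Q hV β 1 := by
    intro β n hn
    rw [infl_of_mem Q hV β n (Subgroup.mem_subgroupOf.1 hn), infl_one]
  refine ⟨?_, ?_, ?_⟩
  · intro β hβ
    rw [mul_comm]
    exact h1 _ (infl_irr Q hV hβ) (hker β)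
  · intro β β' hβ hβ' he
    apply infl_injective Q hV
    apply h2 _ _ (infl_irr Q hV hβ) (infl_irr Q hV hβ') (hker β) (hker β')
    rw [mul_comm, he, mul_comm]
  · intro ψ hψ hne
    have hne' : classInner (fun n : Q.subgroupOf V => ψ n)
        (fun n : Q.subgroupOf V => η n) ≠ 0 := by
      have e1 : (fun n : Q.subgroupOf V => ψ n) = pb V (res hQV ψ) := rfl
      have e2 : (fun n : Q.subgroupOf V => η n) = pb V (res hQV η) := rfl
      rw [e1, e2, classInner_pb_cinn hQV]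
      exact hne
    obtain ⟨β, hβ, hβker, hβψ⟩ := h3 ψ hψ hne'
    obtain ⟨β', hβ', hββ'⟩ := exists_deflation Q hV hβ
      (fun u hu => hβker u (Subgroup.mem_subgroupOf.2 hu))
    refine ⟨β', hβ', ?_⟩
    rw [← hβψ, hββ', mul_comm]

/-- `η · infl β` lies over `η_Q` -/
theorem gallagher_over (hQV : Q ≤ V) (hV : V ≤ Nz Q) (η : V → ℂ)
    (hθ : IsIrrCharacter Q (res hQV η)) {β : ↥(bar Q V) → ℂ}
    (hβ : IsIrrCharacter ↥(bar Q V) β) :
    cinn (res hQV (η * infl Q hV β)) (res hQV η) ≠ 0 := by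
  haveI : Fintype Q := Fintype.ofFinite _
  have e : res hQV (η * infl Q hV β) = β 1 • res hQV η := by
    funext q
    show η ⟨q, hQV q.2⟩ * infl Q hV β ⟨q, hQV q.2⟩ = β 1 * η ⟨q, hQV q.2⟩
    rw [infl_of_mem Q hV β ⟨q, hQV q.2⟩ q.2, mul_comm]
  have h1 : classInner (res hQV η) (res hQV η) = 1 :=
    classInner_irrCharacter_self (⟨_, hθ⟩ : IrrCharacter Q)
  rw [e, cinn_eq, classInner_smul_left, h1, mul_one]
  exact IsIrrCharacter.apply_one_ne_zero hβ

/-- the Gallagher map is isometric against inflated class functions -/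
theorem gallagher_inner (hQV : Q ≤ V) (hV : V ≤ Nz Q) {η : V → ℂ} (hη : IsIrrCharacter V η)
    (hθ : IsIrrCharacter Q (res hQV η)) (F : ↥(bar Q V) → ℂ)
    (hF : IsClassFunction ↥(bar Q V) F) (γ : IrrCharacter ↥(bar Q V)) :
    cinn (η * infl Q hV F) (η * infl Q hV (γ : ↥(bar Q V) → ℂ)) =
      cinn F (γ : ↥(bar Q V) → ℂ) := by
  haveI : Fintype V := Fintype.ofFinite _
  haveI : Fintype ↥(bar Q V) := Fintype.ofFinite _
  haveI : Fintype (IrrCharacter ↥(bar Q V)) := Fintype.ofFinite _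
  obtain ⟨h1, h2, h3⟩ := gallagher_rel hQV hV hη hθ
  have hexp := classFunction_expansion F hF
  have e1 : η * infl Q hV F = ∑ γ' : IrrCharacter ↥(bar Q V),
      classInner F (γ' : ↥(bar Q V) → ℂ) • (η * infl Q hV (γ' : ↥(bar Q V) → ℂ)) := by
    conv_lhs => rw [hexp]
    rw [infl_sum, Finset.mul_sum]
    apply Finset.sum_congr rfl
    intro γ' _
    rw [infl_smul, mul_smul_comm]
  rw [cinn_eq, e1, classInner_sum_left, Finset.sum_eq_single γ]
  · have h5 : classInner (η * infl Q hV (γ : ↥(bar Q V) → ℂ))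
        (η * infl Q hV (γ : ↥(bar Q V) → ℂ)) = 1 :=
      classInner_irrCharacter_self (⟨_, h1 _ γ.2⟩ : IrrCharacter V)
    rw [classInner_smul_left, h5, mul_one, cinn_eq]
  · intro γ' _ hne
    obtain ⟨ψ₁, hψ₁⟩ : ∃ ψ₁ : IrrCharacter V,
        (ψ₁ : V → ℂ) = η * infl Q hV (γ' : ↥(bar Q V) → ℂ) := ⟨⟨_, h1 _ γ'.2⟩, rfl⟩
    obtain ⟨ψ₂, hψ₂⟩ : ∃ ψ₂ : IrrCharacter V,
        (ψ₂ : V → ℂ) = η * infl Q hV (γ : ↥(bar Q V) → ℂ) := ⟨⟨_, h1 _ γ.2⟩, rfl⟩
    have hne' : ψ₁ ≠ ψ₂ := by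
      intro he
      apply hne
      apply Subtype.ext
      apply h2 _ _ γ'.2 γ.2
      rw [← hψ₁, ← hψ₂, he]
    rw [classInner_smul_left, ← hψ₁, ← hψ₂, classInner_irrCharacter_ne hne', mul_zero]
  · intro h
    exact absurd (Finset.mem_univ _) h

end RelLevel

end Cfsg.Agent.Lib.Helper2.RelG
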