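import Mathlib
import Cfsg.Agent.Lib.Helper2.RelGallagher
import Cfsg.Agent.Lib.Helper2.RelClifford2
import Cfsg.Agent.Lib.Helper2.GlaubermanPair
import Cfsg.Agent.Lib.Helper25.DetGallagher

/-!
# The relative Glauberman correspondence over a normal Sylow `p`-subgroup (helper2 library)

`P` a `p`-group normalising `K`, `Q ⊴ K` a normal Sylow `p`-subgroup normalised by `P`,
`C/Q = C_{K/Q}(P)`.  Then there is a bijection between the `P`-invariant irreducible characters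
of `K` and those of `C`, given by multiplicities modulo `p`.
-/

set_option autoImplicit false
set_option linter.unusedSectionVars false
set_option linter.style.haveILetI false
set_option linter.unusedVariables false

namespace Cfsg.Agent.Lib.Helper2.RelGl

open Cfsg Cfsg.Agent.Lib Cfsg.Agent.Lib.Helper2 Cfsg.Agent.Lib.Helper2.GlPG
  Cfsg.Agent.Lib.Helper2.GlSolv Cfsg.Agent.Lib.Helper2.Rel Cfsg.Agent.Lib.Helper2.RelQ
  Cfsg.Agent.Lib.Helper2.RelG Cfsg.Agent.Lib.Helper2.GlCyc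
open scoped ComplexConjugate

section Param

open Classical

variable {Γ : Type*} [Group Γ] [Fintype Γ]

/-- a group normalising `U` and fixing `θ` normalises the inertia group of `θ` in `U` -/
theorem normalizer_inertia {P Q U : Subgroup Γ} {θ : Q → ℂ}
    (hPU : P ≤ Subgroup.normalizer (U : Set Γ)) (hPQ : P ≤ Nz Q)
    (hθ : ∀ x ∈ P, InvUnder Q x θ) :
    P ≤ Subgroup.normalizer ((U ⊓ invSubgroup Q θ : Subgroup Γ) : Set Γ) := by
  have key : ∀ y : Γ, y ∈ Subgroup.normalizer (U : Set Γ) → y ∈ invSubgroup Q θ →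
      ∀ t ∈ U ⊓ invSubgroup Q θ, y * t * y⁻¹ ∈ U ⊓ invSubgroup Q θ := by
    intro y hyU hyI t ht
    have ht' := Subgroup.mem_inf.1 ht
    exact Subgroup.mem_inf.2 ⟨conj_mem_of_mem_normalizer hyU ht'.1,
      mul_mem (mul_mem hyI ht'.2) (inv_mem hyI)⟩
  intro x hx
  have hxI : x ∈ invSubgroup Q θ := mem_invSubgroup.2 ⟨hPQ hx, hθ x hx⟩
  apply mem_normalizer_of_conj_mem (key x (hPU hx) hxI)
  intro t ht
  have := key x⁻¹ (inv_mem (hPU hx)) (inv_mem hxI) t ht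
  rwa [inv_inv] at this

/-- the data for parametrising `Irr(U | θ)` by `Irr(T/Q)`, `T` the inertia group of the
`P`-invariant `θ` and `η` a `P`-invariant extension of `θ` to `T` -/
structure PData (P Q U T : Subgroup Γ) (θ : IrrCharacter Q) (η : T → ℂ) : Prop where
  hQU : Q ≤ U
  hUQ : U ≤ Nz Q
  hPU : P ≤ Subgroup.normalizer (U : Set Γ)
  hPQ : P ≤ Nz Q
  hθ : ∀ x ∈ P, InvUnder Q x (θ : Q → ℂ)
  hT : T = U ⊓ invSubgroup Q (θ : Q → ℂ)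
  hη : IsIrrCharacter T η
  hηθ : ∀ (q : Q) (hq : (q : Γ) ∈ T), η ⟨q, hq⟩ = (θ : Q → ℂ) q
  hηP : ∀ x ∈ P, InvUnder T x η

variable {P Q U T : Subgroup Γ} {θ : IrrCharacter Q} {η : T → ℂ}

theorem PData.hQT (D : PData P Q U T θ η) : Q ≤ T := by
  rw [D.hT]
  exact le_inf D.hQU (le_invSubgroup (IrrCharacter.isClassFunction θ))

theorem PData.hTU (D : PData P Q U T θ η) : T ≤ U := by
  rw [D.hT]
  exact inf_le_left

theorem PData.hTQ (D : PData P Q U T θ η) : T ≤ Nz Q := D.hTU.trans D.hUQ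

theorem PData.hPT (D : PData P Q U T θ η) : P ≤ Subgroup.normalizer (T : Set Γ) := by
  rw [D.hT]
  exact normalizer_inertia D.hPU D.hPQ D.hθ

theorem PData.res_η (D : PData P Q U T θ η) : res D.hQT η = (θ : Q → ℂ) := by
  funext q
  exact D.hηθ q (D.hQT q.2)

theorem PData.hθirr (D : PData P Q U T θ η) : IsIrrCharacter Q (res D.hQT η) := by
  rw [D.res_η]
  exact θ.2

theorem PData.hinert (D : PData P Q U T θ η) :
    ∀ g ∈ U, InvUnder Q g (θ : Q → ℂ) → g ∈ T := by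
  intro g hg hinv
  rw [D.hT]
  exact Subgroup.mem_inf.2 ⟨hg, mem_invSubgroup.2 ⟨D.hUQ hg, hinv⟩⟩

/-- the character `η · infl β` of `T` -/
noncomputable def PData.psi (D : PData P Q U T θ η) (β : IrrCharacter ↥(bar Q T)) :
    IrrCharacter T :=
  ⟨η * infl Q D.hTQ (β : ↥(bar Q T) → ℂ), (gallagher_rel D.hQT D.hTQ D.hη D.hθirr).1 _ β.2⟩

theorem PData.psi_coe (D : PData P Q U T θ η) (β : IrrCharacter ↥(bar Q T)) :
    (D.psi β : T → ℂ) = η * infl Q D.hTQ (β : ↥(bar Q T) → ℂ) := rfl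

theorem PData.psi_over (D : PData P Q U T θ η) (β : IrrCharacter ↥(bar Q T)) :
    cinn (res D.hQT (D.psi β : T → ℂ)) (θ : Q → ℂ) ≠ 0 := by
  have h := gallagher_over D.hQT D.hTQ η D.hθirr β.2
  have e : cinn (res D.hQT (D.psi β : T → ℂ)) (θ : Q → ℂ) =
      cinn (res D.hQT (η * infl Q D.hTQ (β : ↥(bar Q T) → ℂ))) (res D.hQT η) := by
    rw [D.res_η]
    rfl
  rw [e]
  exact h

theorem PData.psi_injective (D : PData P Q U T θ η) {β β' : IrrCharacter ↥(bar Q T)}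
    (h : D.psi β = D.psi β') : β = β' := by
  apply Subtype.ext
  exact (gallagher_rel D.hQT D.hTQ D.hη D.hθirr).2.1 _ _ β.2 β'.2 (congrArg Subtype.val h)

theorem PData.exists_psi (D : PData P Q U T θ η) (ψ : IrrCharacter T)
    (hψ : cinn (res D.hQT (ψ : T → ℂ)) (θ : Q → ℂ) ≠ 0) :
    ∃ β : IrrCharacter ↥(bar Q T), ψ = D.psi β := by
  have h : cinn (res D.hQT (ψ : T → ℂ)) (res D.hQT η) ≠ 0 := by
    rw [D.res_η]
    exact hψ
  obtain ⟨β, hβ, hψβ⟩ := (gallagher_rel D.hQT D.hTQ D.hη D.hθirr).2.2 _ ψ.2 h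
  exact ⟨⟨β, hβ⟩, Subtype.ext hψβ⟩

/-- the relation "`χ` lies over `η · infl β`" -/
def PData.R (D : PData P Q U T θ η) (χ : IrrCharacter U) (β : IrrCharacter ↥(bar Q T)) : Prop :=
  cinn (res D.hTU (χ : U → ℂ)) (D.psi β : T → ℂ) ≠ 0

theorem PData.clifford (D : PData P Q U T θ η) {χ : IrrCharacter U}
    {β : IrrCharacter ↥(bar Q T)} (h : D.R χ β) :
    cinn (res D.hTU (χ : U → ℂ)) (D.psi β : T → ℂ) = 1 ∧
    (∀ χ' : IrrCharacter U, cinn (res D.hTU (χ' : U → ℂ)) (D.psi β : T → ℂ) ≠ 0 → χ' = χ) ∧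
    (∀ ψ' : IrrCharacter T, cinn (res D.hQT (ψ' : T → ℂ)) (θ : Q → ℂ) ≠ 0 →
      cinn (res D.hTU (χ : U → ℂ)) (ψ' : T → ℂ) ≠ 0 → ψ' = D.psi β) := by
  obtain ⟨χ₀, h1, h2, h3⟩ := rel_clifford_full D.hQU D.hUQ θ T D.hQT D.hTU D.hinert
    (D.psi β) (D.psi_over β)
  have e : χ = χ₀ := h2 χ h
  rw [e]
  exact ⟨h1, h2, h3⟩

theorem PData.exists_R (D : PData P Q U T θ η) (χ : IrrCharacter U)
    (h : cinn (res D.hQU (χ : U → ℂ)) (θ : Q → ℂ) ≠ 0) :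
    ∃ β : IrrCharacter ↥(bar Q T), D.R χ β := by
  obtain ⟨ψ, h1, h2⟩ := exists_mid_constituent D.hQT D.hTU χ θ h
  obtain ⟨β, rfl⟩ := D.exists_psi ψ h2
  exact ⟨β, h1⟩

theorem PData.R_over (D : PData P Q U T θ η) {χ : IrrCharacter U}
    {β : IrrCharacter ↥(bar Q T)} (h : D.R χ β) :
    cinn (res D.hQU (χ : U → ℂ)) (θ : Q → ℂ) ≠ 0 :=
  cinn_res_ne_zero_trans D.hQT D.hTU χ (D.psi β) θ h (D.psi_over β)

theorem PData.exists_R' (D : PData P Q U T θ η) (β : IrrCharacter ↥(bar Q T)) :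
    ∃ χ : IrrCharacter U, D.R χ β := by
  obtain ⟨χ, h1, h2, h3⟩ := rel_clifford_full D.hQU D.hUQ θ T D.hQT D.hTU D.hinert
    (D.psi β) (D.psi_over β)
  refine ⟨χ, ?_⟩
  show cinn (res D.hTU (χ : U → ℂ)) (D.psi β : T → ℂ) ≠ 0
  rw [h1]
  exact one_ne_zero

theorem PData.R_right_unique (D : PData P Q U T θ η) {χ : IrrCharacter U}
    {β β' : IrrCharacter ↥(bar Q T)} (h : D.R χ β) (h' : D.R χ β') : β' = β := by
  obtain ⟨_, _, h3⟩ := D.clifford h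
  exact D.psi_injective (h3 (D.psi β') (D.psi_over β') h')

theorem PData.R_left_unique (D : PData P Q U T θ η) {χ χ' : IrrCharacter U}
    {β : IrrCharacter ↥(bar Q T)} (h : D.R χ β) (h' : D.R χ' β) : χ' = χ :=
  (D.clifford h).2.1 χ' h'

theorem PData.cj_psi (D : PData P Q U T θ η) {x : Γ} (hx : x ∈ P)
    (β : IrrCharacter ↥(bar Q T)) :
    cj T x (D.hPT hx) (D.psi β : T → ℂ) =
      (D.psi (cjI (bar Q T) (mkz Q x (D.hPQ hx))
        (mkz_mem_normalizer_bar Q D.hTQ (D.hPQ hx) (D.hPT hx)) β) : T → ℂ) := by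
  funext t
  have h1 : η (conjE T x (D.hPT hx) t) = η t := D.hηP x hx t (conjE T x (D.hPT hx) t) rfl
  have h2 := congrFun (cj_infl Q D.hTQ (D.hPQ hx) (D.hPT hx) (β : ↥(bar Q T) → ℂ)) t
  show η (conjE T x (D.hPT hx) t) *
      infl Q D.hTQ (β : ↥(bar Q T) → ℂ) (conjE T x (D.hPT hx) t) =
    η t * infl Q D.hTQ (cj (bar Q T) (mkz Q x (D.hPQ hx))
      (mkz_mem_normalizer_bar Q D.hTQ (D.hPQ hx) (D.hPT hx)) (β : ↥(bar Q T) → ℂ)) t
  rw [h1]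
  exact congrArg (fun z => η t * z) h2

theorem PData.inv_iff (D : PData P Q U T θ η) {χ : IrrCharacter U}
    {β : IrrCharacter ↥(bar Q T)} (h : D.R χ β) :
    (∀ x ∈ P, InvUnder U x (χ : U → ℂ)) ↔
      (∀ y ∈ bar Q P, InvUnder (bar Q T) y (β : ↥(bar Q T) → ℂ)) := by
  have key : ∀ (x : Γ) (hx : x ∈ P) (χ' : U → ℂ) (ψ : T → ℂ),
      cinn (res D.hTU (cj U x (D.hPU hx) χ')) (cj T x (D.hPT hx) ψ) =
        cinn (res D.hTU χ') ψ := by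
    intro x hx χ' ψ
    rw [res_cj D.hTU x (D.hPU hx) (D.hPT hx), cinn_cj]
  constructor
  · intro hχ y hy
    obtain ⟨x, hx, rfl⟩ := (mem_bar_iff Q D.hPQ y).1 hy
    rw [invUnder_iff_cj_eq (bar Q T) _
      (mkz_mem_normalizer_bar Q D.hTQ (D.hPQ hx) (D.hPT hx))]
    have hcjχ : cj U x (D.hPU hx) (χ : U → ℂ) = (χ : U → ℂ) :=
      (invUnder_iff_cj_eq U x (D.hPU hx) _).1 (hχ x hx)
    have h1 : D.R χ (cjI (bar Q T) (mkz Q x (D.hPQ hx))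
        (mkz_mem_normalizer_bar Q D.hTQ (D.hPQ hx) (D.hPT hx)) β) := by
      show cinn (res D.hTU (χ : U → ℂ)) (D.psi (cjI (bar Q T) (mkz Q x (D.hPQ hx))
        (mkz_mem_normalizer_bar Q D.hTQ (D.hPQ hx) (D.hPT hx)) β) : T → ℂ) ≠ 0
      rw [← D.cj_psi hx β]
      have h2 := key x hx (χ : U → ℂ) (D.psi β : T → ℂ)
      rw [hcjχ] at h2
      rw [h2]
      exact h
    have h2 := D.R_right_unique h h1
    exact congrArg Subtype.val h2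
  · intro hβ x hx
    rw [invUnder_iff_cj_eq U x (D.hPU hx)]
    have hβx : cjI (bar Q T) (mkz Q x (D.hPQ hx))
        (mkz_mem_normalizer_bar Q D.hTQ (D.hPQ hx) (D.hPT hx)) β = β :=
      (cjI_eq_self_iff _ _ _ β).2 (hβ _ ((mem_bar_iff Q D.hPQ _).2 ⟨x, hx, rfl⟩))
    have hψ : cj T x (D.hPT hx) (D.psi β : T → ℂ) = (D.psi β : T → ℂ) := by
      rw [D.cj_psi hx β, hβx]
    have h1 : D.R (cjI U x (D.hPU hx) χ) β := by
      show cinn (res D.hTU (cj U x (D.hPU hx) (χ : U → ℂ))) (D.psi β : T → ℂ) ≠ 0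
      have h2 := key x hx (χ : U → ℂ) (D.psi β : T → ℂ)
      rw [hψ] at h2
      rw [h2]
      exact h
    have h2 := D.R_left_unique h h1
    exact congrArg Subtype.val h2

end Param

section Main

open Classical

variable {Γ : Type*} [Group Γ] [Fintype Γ] {p : ℕ}

/-- the data for comparing `K` and `C` over a fixed `P`-invariant `θ ∈ Irr(Q)` -/
structure MData (p : ℕ) (P Q K C T TC : Subgroup Γ) (θ : IrrCharacter Q) (η : T → ℂ) :
    Prop where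
  hCK : C ≤ K
  hTCT : TC ≤ T
  DK : PData P Q K T θ η
  DC : PData P Q C TC θ (res hTCT η)
  hC : ∀ k : Γ, k ∈ C ↔ (k ∈ K ∧ ∀ x ∈ P, x * k * x⁻¹ * k⁻¹ ∈ Q)
  hp : p.Prime
  hP : IsPGroup p P
  hcop : ¬ p ∣ Q.relIndex K

variable {P Q K C T TC : Subgroup Γ} {θ : IrrCharacter Q} {η : T → ℂ}

theorem MData.hTC_mem (M : MData p P Q K C T TC θ η) :
    ∀ k : Γ, k ∈ TC ↔ (k ∈ T ∧ ∀ x ∈ P, x * k * x⁻¹ * k⁻¹ ∈ Q) := by
  intro k
  rw [M.DC.hT, M.DK.hT, Subgroup.mem_inf, Subgroup.mem_inf, M.hC]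
  constructor
  · rintro ⟨⟨a, b⟩, c⟩
    exact ⟨⟨a, c⟩, b⟩
  · rintro ⟨⟨a, c⟩, b⟩
    exact ⟨⟨a, b⟩, c⟩

theorem MData.hbc (M : MData p P Q K C T TC θ η) :
    bar Q TC = bar Q T ⊓ Subgroup.centralizer ((bar Q P : Subgroup (Quo Q)) : Set (Quo Q)) :=
  bar_centralizer Q M.DK.hTQ M.DK.hPQ M.hTC_mem

/-- the Glauberman correspondence for `P Q / Q` acting on `T / Q` -/
theorem MData.hGl (M : MData p P Q K C T TC θ η) :
    GlP p (bar Q T) (bar Q TC) (bar_mono Q M.hTCT)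
      (fun β => ∀ y ∈ bar Q P, InvUnder (bar Q T) y β) := by
  haveI : Fintype (Quo Q) := Fintype.ofFinite _
  haveI : Fact p.Prime := ⟨M.hp⟩
  have hnorm : bar Q P ≤ Subgroup.normalizer ((bar Q T : Subgroup (Quo Q)) : Set (Quo Q)) := by
    intro y hy
    obtain ⟨x, hx, rfl⟩ := (mem_bar_iff Q M.DK.hPQ y).1 hy
    exact mkz_mem_normalizer_bar Q M.DK.hTQ (M.DK.hPQ hx) (M.DK.hPT hx)
  have hcard : Nat.card ↥(bar Q T) = Q.relIndex T := card_bar Q M.DK.hQT M.DK.hTQ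
  have hdvd : Q.relIndex T ∣ Q.relIndex K := by
    rw [← Subgroup.relIndex_mul_relIndex Q T K M.DK.hQT M.DK.hTU]
    exact dvd_mul_right _ _
  have hPbar : IsPGroup p ↥(bar Q P) := isPGroup_bar Q M.hP
  obtain ⟨k, hk⟩ := hPbar.exists_card_eq
  have hcop : (Nat.card ↥(bar Q T)).Coprime (Nat.card ↥(bar Q P)) := by
    rw [hcard, hk]
    exact Nat.Coprime.pow_right k
      ((Nat.Prime.coprime_iff_not_dvd M.hp).2 (fun h => M.hcop (dvd_trans h hdvd))).symm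
  exact glP_pgroup M.hp _ (bar Q P) rfl hPbar (bar Q T) hnorm hcop (bar Q TC) M.hbc
    (bar_mono Q M.hTCT)

/-- every function on `bar TC` is invariant under `bar P` -/
theorem MData.inv_C (M : MData p P Q K C T TC θ η) (γ : ↥(bar Q TC) → ℂ) :
    ∀ y ∈ bar Q P, InvUnder (bar Q TC) y γ := by
  intro y hy g g' hg
  have hg1 : (g : Quo Q) ∈ bar Q T ⊓
      Subgroup.centralizer ((bar Q P : Subgroup (Quo Q)) : Set (Quo Q)) := by
    rw [← M.hbc]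
    exact g.2
  have hc := (Subgroup.mem_centralizer_iff.1 (Subgroup.mem_inf.1 hg1).2) y hy
  have e : g' = g := by
    apply Subtype.ext
    rw [hg, hc, mul_inv_cancel_right]
  rw [e]

/-- transfer of multiplicities -/
theorem MData.transfer (M : MData p P Q K C T TC θ η) {χ : IrrCharacter K}
    {β : IrrCharacter ↥(bar Q T)} {ξ : IrrCharacter C} {γ : IrrCharacter ↥(bar Q TC)}
    (h : M.DK.R χ β) (h' : M.DC.R ξ γ) :
    cinn (res M.hCK (χ : K → ℂ)) (ξ : C → ℂ) =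
      cinn (res (bar_mono Q M.hTCT) (β : ↥(bar Q T) → ℂ)) (γ : ↥(bar Q TC) → ℂ) := by
  obtain ⟨a1, a2, a3⟩ := M.DK.clifford h
  obtain ⟨b1, b2, b3⟩ := M.DC.clifford h'
  have h1 := clifford_mult_transfer M.hCK M.DK.hTU M.DC.hTU M.hTCT M.DC.hQT θ χ (M.DK.psi β) ξ
    (M.DC.psi γ) (M.DC.psi_over γ) a1 (fun ψ' e1 e2 => a3 ψ' e1 e2) b1 b2
  rw [h1]
  have e : res M.hTCT (M.DK.psi β : T → ℂ) = res M.hTCT η *
      infl Q M.DC.hTQ (res (bar_mono Q M.hTCT) (β : ↥(bar Q T) → ℂ)) := by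
    funext t
    rfl
  rw [e]
  exact gallagher_inner M.DC.hQT M.DC.hTQ M.DC.hη M.DC.hθirr _
    (res_isClassFunction _ (IrrCharacter.isClassFunction β)) γ

theorem MData.main1 (M : MData p P Q K C T TC θ η) (χ : IrrCharacter K)
    (hχ : ∀ x ∈ P, InvUnder K x (χ : K → ℂ))
    (hχθ : cinn (res M.DK.hQU (χ : K → ℂ)) (θ : Q → ℂ) ≠ 0) :
    ∃ ξ₀ : IrrCharacter C, (∀ x ∈ P, InvUnder C x (ξ₀ : C → ℂ)) ∧
      cinn (res M.DC.hQU (ξ₀ : C → ℂ)) (θ : Q → ℂ) ≠ 0 ∧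
      ∃ ε : ℤ, (ε = 1 ∨ ε = -1) ∧ ∀ ξ : IrrCharacter C,
        cinn (res M.DC.hQU (ξ : C → ℂ)) (θ : Q → ℂ) ≠ 0 →
        ∃ m : ℕ, cinn (res M.hCK (χ : K → ℂ)) (ξ : C → ℂ) = (m : ℂ) ∧
          (ξ = ξ₀ → (m : ℤ) ≡ ε [ZMOD p]) ∧ (ξ ≠ ξ₀ → (m : ℤ) ≡ 0 [ZMOD p]) := by
  obtain ⟨β, hR⟩ := M.DK.exists_R χ hχθ
  have hβ := (M.DK.inv_iff hR).1 hχ
  obtain ⟨γ₀, ε, hε, hγ⟩ := M.hGl.ex β hβ
  obtain ⟨ξ₀, hR₀⟩ := M.DC.exists_R' γ₀
  refine ⟨ξ₀, (M.DC.inv_iff hR₀).2 (M.inv_C _), M.DC.R_over hR₀, ε, hε, ?_⟩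
  intro ξ hξθ
  obtain ⟨γ, hRγ⟩ := M.DC.exists_R ξ hξθ
  obtain ⟨m, hm, hcong⟩ := hγ γ
  refine ⟨m, ?_, ?_, ?_⟩
  · rw [M.transfer hR hRγ]
    exact hm
  · intro he
    have e : γ = γ₀ := by
      rw [he] at hRγ
      exact M.DC.R_right_unique hR₀ hRγ
    rw [if_pos e] at hcong
    exact hcong
  · intro hne
    have e : γ ≠ γ₀ := by
      intro he
      apply hne
      rw [he] at hRγ
      exact M.DC.R_left_unique hR₀ hRγ
    rw [if_neg e] at hcong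
    exact hcong

theorem MData.main2 (M : MData p P Q K C T TC θ η) (χ χ' : IrrCharacter K)
    (hχ : ∀ x ∈ P, InvUnder K x (χ : K → ℂ)) (hχ' : ∀ x ∈ P, InvUnder K x (χ' : K → ℂ))
    (hχθ : cinn (res M.DK.hQU (χ : K → ℂ)) (θ : Q → ℂ) ≠ 0)
    (hχ'θ : cinn (res M.DK.hQU (χ' : K → ℂ)) (θ : Q → ℂ) ≠ 0)
    (ξ : IrrCharacter C) (hξθ : cinn (res M.DC.hQU (ξ : C → ℂ)) (θ : Q → ℂ) ≠ 0)
    (m m' : ℕ) (hm : cinn (res M.hCK (χ : K → ℂ)) (ξ : C → ℂ) = (m : ℂ)) (hpm : ¬ p ∣ m)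
    (hm' : cinn (res M.hCK (χ' : K → ℂ)) (ξ : C → ℂ) = (m' : ℂ)) (hpm' : ¬ p ∣ m') :
    χ = χ' := by
  obtain ⟨β, hR⟩ := M.DK.exists_R χ hχθ
  obtain ⟨β', hR'⟩ := M.DK.exists_R χ' hχ'θ
  obtain ⟨γ, hRγ⟩ := M.DC.exists_R ξ hξθ
  have hβ := (M.DK.inv_iff hR).1 hχ
  have hβ' := (M.DK.inv_iff hR').1 hχ'
  rw [M.transfer hR hRγ] at hm
  rw [M.transfer hR' hRγ] at hm'
  have e : β = β' := M.hGl.inj β β' hβ hβ' γ m m' hm hpm hm' hpm'
  rw [← e] at hR'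
  exact M.DK.R_left_unique hR' hR

theorem MData.main3 (M : MData p P Q K C T TC θ η) (ξ : IrrCharacter C)
    (hξθ : cinn (res M.DC.hQU (ξ : C → ℂ)) (θ : Q → ℂ) ≠ 0) :
    ∃ χ : IrrCharacter K, (∀ x ∈ P, InvUnder K x (χ : K → ℂ)) ∧
      ∃ m : ℕ, cinn (res M.hCK (χ : K → ℂ)) (ξ : C → ℂ) = (m : ℂ) ∧ ¬ p ∣ m := by
  obtain ⟨γ, hRγ⟩ := M.DC.exists_R ξ hξθ
  obtain ⟨β, hβ, m, hm, hpm⟩ := M.hGl.surj γ
  obtain ⟨χ, hR⟩ := M.DK.exists_R' β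
  refine ⟨χ, (M.DK.inv_iff hR).2 hβ, m, ?_, hpm⟩
  rw [M.transfer hR hRγ]
  exact hm

end Main

section Extension

open Classical

variable {Γ : Type*} [Group Γ] [Fintype Γ] {p : ℕ}

/-- an invariant irreducible character of a normal `p`-subgroup of index prime to `p` has an
extension which is invariant under every group of operators fixing it -/
theorem exists_inv_extension (hp : p.Prime) {P Q T : Subgroup Γ} (hQT : Q ≤ T) (hTQ : T ≤ Nz Q)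
    (hPT : P ≤ Subgroup.normalizer (T : Set Γ)) (hPQ : P ≤ Nz Q) (hQp : IsPGroup p Q)
    (hcop : ¬ p ∣ Q.relIndex T) (θ : IrrCharacter Q)
    (hθT : ∀ t ∈ T, InvUnder Q t (θ : Q → ℂ)) (hθP : ∀ x ∈ P, InvUnder Q x (θ : Q → ℂ)) :
    ∃ η : T → ℂ, IsIrrCharacter T η ∧ res hQT η = (θ : Q → ℂ) ∧ ∀ x ∈ P, InvUnder T x η := by
  haveI hn : (Q.subgroupOf T).Normal :=
    (Subgroup.normal_subgroupOf_iff_le_normalizer hQT).2 hTQ
  haveI : Fact p.Prime := ⟨hp⟩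
  obtain ⟨a, ha⟩ := hQp.exists_card_eq
  have hcardN : Nat.card (Q.subgroupOf T) = p ^ a := by
    rw [Nat.card_congr (Subgroup.subgroupOfEquivOfLe hQT).toEquiv, ha]
  have hidx : (Q.subgroupOf T).index = Q.relIndex T := rfl
  have hcop' : Nat.Coprime (Q.subgroupOf T).index (Nat.card (Q.subgroupOf T)) := by
    rw [hcardN, hidx]
    exact Nat.Coprime.pow_right a ((Nat.Prime.coprime_iff_not_dvd hp).2 hcop).symm
  have hϑ : IsIrrCharacter (Q.subgroupOf T) (pb T (θ : Q → ℂ)) := pb_irr hQT θ.2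
  have hinv : ∀ (g : T) (n : Q.subgroupOf T),
      pb T (θ : Q → ℂ) ⟨g * n * g⁻¹, hn.conj_mem (n : T) n.2 g⟩ = pb T (θ : Q → ℂ) n := by
    intro g n
    exact hθT g g.2 ⟨((n : T) : Γ), Subgroup.mem_subgroupOf.1 n.2⟩ _ rfl
  obtain ⟨η, hη, hηr, hηd⟩ := canon_exists (Q.subgroupOf T) hϑ hcop' hinv
  have hres : res hQT η = (θ : Q → ℂ) := by
    funext q
    exact hηr ⟨⟨q, hQT q.2⟩, Subgroup.mem_subgroupOf.2 q.2⟩
  refine ⟨η, hη, hres, ?_⟩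
  intro x hx
  rw [invUnder_iff_cj_eq T x (hPT hx)]
  have hη' : IsIrrCharacter T (cj T x (hPT hx) η) := cj_isIrr T x (hPT hx) hη
  have hr' : ∀ n : Q.subgroupOf T, cj T x (hPT hx) η n = pb T (θ : Q → ℂ) n := by
    intro n
    have hmem : conjE T x (hPT hx) (n : T) ∈ Q.subgroupOf T :=
      Subgroup.mem_subgroupOf.2
        (conj_mem_of_mem_normalizer (hPQ hx) (Subgroup.mem_subgroupOf.1 n.2))
    have h1 := hηr ⟨conjE T x (hPT hx) (n : T), hmem⟩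
    refine Eq.trans h1 ?_
    exact hθP x hx ⟨((n : T) : Γ), Subgroup.mem_subgroupOf.1 n.2⟩ _ rfl
  have hd' : detOrder (cj T x (hPT hx) η) ∣ detOrder η := by
    unfold detOrder
    apply orderOf_dvd_of_pow_eq_one
    have e1 : detChar (cj T x (hPT hx) η) = fun t => detChar η (conjE T x (hPT hx) t) :=
      Helper25.detChar_comp_hom (conjE T x (hPT hx)).toMonoidHom
        (Helper25.isCharacter_of_irr hη)
    rw [e1]
    funext t
    have e2 := congrFun (pow_orderOf_eq_one (detChar η)) (conjE T x (hPT hx) t)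
    simp only [Pi.pow_apply, Pi.one_apply] at e2 ⊢
    exact e2
  have hcopd : ∀ χ : T → ℂ, detOrder χ ∣ detOrder η →
      Nat.Coprime (Q.subgroupOf T).index (detOrder χ) := by
    intro χ hχ
    exact Nat.Coprime.coprime_dvd_right (hχ.trans hηd) hcop'
  exact canon_unique (Q.subgroupOf T) hϑ hcop' hη' hη hr' hηr (hcopd _ hd') (hcopd _ dvd_rfl)

end Extension

section Global

open Classical

variable {Γ : Type*} [Group Γ] [Fintype Γ] {p : ℕ}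

/-- the global setting -/
structure GData (p : ℕ) (P K Q C : Subgroup Γ) : Prop where
  hp : p.Prime
  hP : IsPGroup p P
  hPK : P ≤ Subgroup.normalizer (K : Set Γ)
  hQK : Q ≤ K
  hKQ : K ≤ Nz Q
  hPQ : P ≤ Nz Q
  hQp : IsPGroup p Q
  hcop : ¬ p ∣ Q.relIndex K
  hC : ∀ k : Γ, k ∈ C ↔ (k ∈ K ∧ ∀ x ∈ P, x * k * x⁻¹ * k⁻¹ ∈ Q)

variable {P K Q C : Subgroup Γ}

theorem GData.hCK (Gd : GData p P K Q C) : C ≤ K := fun k hk => ((Gd.hC k).1 hk).1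

theorem GData.hQC (Gd : GData p P K Q C) : Q ≤ C := by
  intro q hq
  rw [Gd.hC]
  refine ⟨Gd.hQK hq, fun x hx => ?_⟩
  exact mul_mem (conj_mem_of_mem_normalizer (Gd.hPQ hx) hq) (inv_mem hq)

theorem GData.hCQ (Gd : GData p P K Q C) : C ≤ Nz Q := Gd.hCK.trans Gd.hKQ

theorem GData.hPC (Gd : GData p P K Q C) : P ≤ Subgroup.normalizer (C : Set Γ) := by
  have key : ∀ y ∈ P, ∀ c ∈ C, y * c * y⁻¹ ∈ C := by
    intro y hy c hc
    have hc' := (Gd.hC c).1 hc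
    rw [Gd.hC]
    refine ⟨conj_mem_of_mem_normalizer (Gd.hPK hy) hc'.1, fun x hx => ?_⟩
    have hx' : y⁻¹ * x * y ∈ P := mul_mem (mul_mem (inv_mem hy) hx) hy
    have h1 := hc'.2 _ hx'
    have h2 := conj_mem_of_mem_normalizer (Gd.hPQ hy) h1
    have e : y * (y⁻¹ * x * y * c * (y⁻¹ * x * y)⁻¹ * c⁻¹) * y⁻¹ =
        x * (y * c * y⁻¹) * x⁻¹ * (y * c * y⁻¹)⁻¹ := by group
    rwa [e] at h2
  intro y hy
  apply mem_normalizer_of_conj_mem (key y hy)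
  intro c hc
  have := key y⁻¹ (inv_mem hy) c hc
  rwa [inv_inv] at this

theorem GData.solvP (Gd : GData p P K Q C) : Group.IsSolvable P := by
  haveI : Fact p.Prime := ⟨Gd.hp⟩
  haveI := Gd.hP.isNilpotent
  infer_instance

theorem GData.copK (Gd : GData p P K Q C) : (Q.relIndex K).Coprime (Nat.card P) := by
  haveI : Fact p.Prime := ⟨Gd.hp⟩
  obtain ⟨b, hb⟩ := Gd.hP.exists_card_eq
  rw [hb]
  exact Nat.Coprime.pow_right b ((Nat.Prime.coprime_iff_not_dvd Gd.hp).2 Gd.hcop).symm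

theorem GData.copC (Gd : GData p P K Q C) : (Q.relIndex C).Coprime (Nat.card P) := by
  have hdvd : Q.relIndex C ∣ Q.relIndex K := by
    rw [← Subgroup.relIndex_mul_relIndex Q C K Gd.hQC Gd.hCK]
    exact dvd_mul_right _ _
  exact Nat.Coprime.coprime_dvd_left hdvd Gd.copK

theorem GData.exists_mdata (Gd : GData p P K Q C) (θ : IrrCharacter Q)
    (hθ : ∀ x ∈ P, InvUnder Q x (θ : Q → ℂ)) :
    ∃ (T TC : Subgroup Γ) (η : T → ℂ), MData p P Q K C T TC θ η := by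
  obtain ⟨T, hT⟩ : ∃ T : Subgroup Γ, T = K ⊓ invSubgroup Q (θ : Q → ℂ) := ⟨_, rfl⟩
  obtain ⟨TC, hTC⟩ : ∃ TC : Subgroup Γ, TC = C ⊓ invSubgroup Q (θ : Q → ℂ) := ⟨_, rfl⟩
  have hQT : Q ≤ T := by
    rw [hT]
    exact le_inf Gd.hQK (le_invSubgroup (IrrCharacter.isClassFunction θ))
  have hQTC : Q ≤ TC := by
    rw [hTC]
    exact le_inf Gd.hQC (le_invSubgroup (IrrCharacter.isClassFunction θ))
  have hTK : T ≤ K := by
    rw [hT]
    exact inf_le_left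
  have hTQ : T ≤ Nz Q := hTK.trans Gd.hKQ
  have hTCT : TC ≤ T := by
    rw [hT, hTC]
    exact inf_le_inf_right _ Gd.hCK
  have hPT : P ≤ Subgroup.normalizer (T : Set Γ) := by
    rw [hT]
    exact normalizer_inertia Gd.hPK Gd.hPQ hθ
  have hθT : ∀ t ∈ T, InvUnder Q t (θ : Q → ℂ) := by
    intro t ht
    rw [hT] at ht
    exact (mem_invSubgroup.1 (Subgroup.mem_inf.1 ht).2).2
  have hcopT : ¬ p ∣ Q.relIndex T := by
    intro h
    apply Gd.hcop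
    refine dvd_trans h ?_
    rw [← Subgroup.relIndex_mul_relIndex Q T K hQT hTK]
    exact dvd_mul_right _ _
  obtain ⟨η, hη, hηθ, hηP⟩ := exists_inv_extension Gd.hp hQT hTQ hPT Gd.hPQ Gd.hQp hcopT θ hθT hθ
  have hηCirr : IsIrrCharacter TC (res hTCT η) := by
    apply Helper25.isIrrCharacter_of_comp_irr (Subgroup.inclusion hQTC)
      (res_isCharacter hTCT (Helper25.isCharacter_of_irr hη))
    show IsIrrCharacter Q (res hQT η)
    rw [hηθ]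
    exact θ.2
  refine ⟨T, TC, η, ?_⟩
  exact
    { hCK := Gd.hCK
      hTCT := hTCT
      DK := ⟨Gd.hQK, Gd.hKQ, Gd.hPK, Gd.hPQ, hθ, hT, hη, fun q hq => congrFun hηθ q, hηP⟩
      DC := ⟨Gd.hQC, Gd.hCQ, Gd.hPC, Gd.hPQ, hθ, hTC, hηCirr, fun q hq => congrFun hηθ q,
        fun x hx g g' hg => hηP x hx ⟨g, hTCT g.2⟩ ⟨g', hTCT g'.2⟩ hg⟩
      hC := Gd.hC
      hp := Gd.hp
      hP := Gd.hP
      hcop := Gd.hcop }

/-- existence of the correspondent and the congruences -/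
theorem GData.ex (Gd : GData p P K Q C) (χ : IrrCharacter K)
    (hχ : ∀ x ∈ P, InvUnder K x (χ : K → ℂ)) :
    ∃ ξ₀ : IrrCharacter C, (∀ x ∈ P, InvUnder C x (ξ₀ : C → ℂ)) ∧
      ∃ ε : ℤ, (ε = 1 ∨ ε = -1) ∧ ∀ ξ : IrrCharacter C,
        (∀ x ∈ P, InvUnder C x (ξ : C → ℂ)) →
        ∃ m : ℕ, cinn (res Gd.hCK (χ : K → ℂ)) (ξ : C → ℂ) = (m : ℂ) ∧
          (ξ = ξ₀ → (m : ℤ) ≡ ε [ZMOD p]) ∧ (ξ ≠ ξ₀ → (m : ℤ) ≡ 0 [ZMOD p]) := by
  haveI : (Q.subgroupOf K).Normal :=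
    (Subgroup.normal_subgroupOf_iff_le_normalizer Gd.hQK).2 Gd.hKQ
  haveI : (Q.subgroupOf C).Normal :=
    (Subgroup.normal_subgroupOf_iff_le_normalizer Gd.hQC).2 Gd.hCQ
  obtain ⟨θ, hθχ, hθP⟩ := exists_inv_constituent K P Q Gd.hPK Gd.hQK Gd.hPQ Gd.copK
    (Or.inl Gd.solvP) χ hχ
  obtain ⟨T, TC, η, M⟩ := Gd.exists_mdata θ hθP
  obtain ⟨ξ₀, hξ₀P, hξ₀θ, ε, hε, hall⟩ := M.main1 χ hχ hθχ
  refine ⟨ξ₀, hξ₀P, ε, hε, ?_⟩
  intro ξ hξP
  by_cases hξθ : cinn (res Gd.hQC (ξ : C → ℂ)) (θ : Q → ℂ) = 0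
  · have h0 : cinn (res Gd.hCK (χ : K → ℂ)) (ξ : C → ℂ) = 0 := by
      by_contra hne
      obtain ⟨θ', hθ'ξ, hθ'P⟩ := exists_inv_constituent C P Q Gd.hPC Gd.hQC Gd.hPQ Gd.copC
        (Or.inl Gd.solvP) ξ hξP
      have hθ'χ : cinn (res Gd.hQK (χ : K → ℂ)) (θ' : Q → ℂ) ≠ 0 :=
        cinn_res_ne_zero_trans Gd.hQC Gd.hCK χ ξ θ' hne hθ'ξ
      obtain ⟨k, hk, hkK, hcomm, hkθ⟩ := conj_inv_constituents K P Q Gd.hPK Gd.hQK Gd.hPQ
        Gd.copK (Or.inl Gd.solvP) χ hχ θ θ' hθχ hθ'χ hθP hθ'P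
      have hkC : k ∈ C := (Gd.hC k).2 ⟨hkK, hcomm⟩
      have hkC' : k⁻¹ ∈ C := inv_mem hkC
      have hcjξ : cj C k⁻¹ (Subgroup.le_normalizer hkC') (ξ : C → ℂ) = (ξ : C → ℂ) :=
        (invUnder_iff_cj_eq C _ _ _).1
          (le_invSubgroup (IrrCharacter.isClassFunction ξ) hkC').2
      have e : res Gd.hQC (ξ : C → ℂ) = cj Q k⁻¹ hk (res Gd.hQC (ξ : C → ℂ)) := by
        conv_lhs => rw [← hcjξ]
        exact res_cj Gd.hQC _ _ _ _
      apply hθ'ξ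
      rw [← hkθ, e, cinn_cj]
      exact hξθ
    refine ⟨0, ?_, ?_, ?_⟩
    · rw [h0, Nat.cast_zero]
    · intro he
      exfalso
      rw [he] at hξθ
      exact hξ₀θ hξθ
    · intro _
      rw [Nat.cast_zero]
  · exact hall ξ hξθ

theorem GData.inj (Gd : GData p P K Q C) (χ χ' : IrrCharacter K)
    (hχ : ∀ x ∈ P, InvUnder K x (χ : K → ℂ)) (hχ' : ∀ x ∈ P, InvUnder K x (χ' : K → ℂ))
    (ξ : IrrCharacter C) (hξ : ∀ x ∈ P, InvUnder C x (ξ : C → ℂ))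
    (m m' : ℕ) (hm : cinn (res Gd.hCK (χ : K → ℂ)) (ξ : C → ℂ) = (m : ℂ)) (hpm : ¬ p ∣ m)
    (hm' : cinn (res Gd.hCK (χ' : K → ℂ)) (ξ : C → ℂ) = (m' : ℂ)) (hpm' : ¬ p ∣ m') :
    χ = χ' := by
  haveI : (Q.subgroupOf C).Normal :=
    (Subgroup.normal_subgroupOf_iff_le_normalizer Gd.hQC).2 Gd.hCQ
  obtain ⟨θ, hθξ, hθP⟩ := exists_inv_constituent C P Q Gd.hPC Gd.hQC Gd.hPQ Gd.copC
    (Or.inl Gd.solvP) ξ hξ
  obtain ⟨T, TC, η, M⟩ := Gd.exists_mdata θ hθP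
  have hne : cinn (res Gd.hCK (χ : K → ℂ)) (ξ : C → ℂ) ≠ 0 := by
    rw [hm]
    intro h
    apply hpm
    have h2 : m = 0 := by exact_mod_cast h
    rw [h2]
    exact dvd_zero p
  have hne' : cinn (res Gd.hCK (χ' : K → ℂ)) (ξ : C → ℂ) ≠ 0 := by
    rw [hm']
    intro h
    apply hpm'
    have h2 : m' = 0 := by exact_mod_cast h
    rw [h2]
    exact dvd_zero p
  exact M.main2 χ χ' hχ hχ' (cinn_res_ne_zero_trans Gd.hQC Gd.hCK χ ξ θ hne hθξ)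
    (cinn_res_ne_zero_trans Gd.hQC Gd.hCK χ' ξ θ hne' hθξ) ξ hθξ m m' hm hpm hm' hpm'

theorem GData.surj (Gd : GData p P K Q C) (ξ : IrrCharacter C)
    (hξ : ∀ x ∈ P, InvUnder C x (ξ : C → ℂ)) :
    ∃ χ : IrrCharacter K, (∀ x ∈ P, InvUnder K x (χ : K → ℂ)) ∧
      ∃ m : ℕ, cinn (res Gd.hCK (χ : K → ℂ)) (ξ : C → ℂ) = (m : ℂ) ∧ ¬ p ∣ m := by
  haveI : (Q.subgroupOf C).Normal :=
    (Subgroup.normal_subgroupOf_iff_le_normalizer Gd.hQC).2 Gd.hCQ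
  obtain ⟨θ, hθξ, hθP⟩ := exists_inv_constituent C P Q Gd.hPC Gd.hQC Gd.hPQ Gd.copC
    (Or.inl Gd.solvP) ξ hξ
  obtain ⟨T, TC, η, M⟩ := Gd.exists_mdata θ hθP
  exact M.main3 ξ hθξ

end Global

section Final

open Classical

variable {Γ : Type*} [Group Γ] [Fintype Γ] {p : ℕ} {P K Q C : Subgroup Γ}

/-- the degree congruence -/
theorem GData.degree (Gd : GData p P K Q C) (χ : IrrCharacter K)
    (hχ : ∀ x ∈ P, InvUnder K x (χ : K → ℂ)) (ξ₀ : IrrCharacter C)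
    (hξ₀ : ∀ x ∈ P, InvUnder C x (ξ₀ : C → ℂ)) (ε : ℤ)
    (hall : ∀ ξ : IrrCharacter C, (∀ x ∈ P, InvUnder C x (ξ : C → ℂ)) →
      ∃ m : ℕ, cinn (res Gd.hCK (χ : K → ℂ)) (ξ : C → ℂ) = (m : ℂ) ∧
        (ξ = ξ₀ → (m : ℤ) ≡ ε [ZMOD p]) ∧ (ξ ≠ ξ₀ → (m : ℤ) ≡ 0 [ZMOD p])) :
    (charDegree (χ : K → ℂ) : ZMod p) =
      ((ε : ℤ) : ZMod p) * (charDegree (ξ₀ : C → ℂ) : ZMod p) := by
  haveI : Fintype C := Fintype.ofFinite _
  haveI : Fintype (IrrCharacter C) := Fintype.ofFinite _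
  have hm : ∀ ξ : IrrCharacter C, ∃ m : ℕ,
      cinn (res Gd.hCK (χ : K → ℂ)) (ξ : C → ℂ) = (m : ℂ) := by
    intro ξ
    rw [cinn_eq]
    exact classInner_isCharacter_nat
      (res_isCharacter Gd.hCK (IsIrrCharacter.isCharacter χ.2))
      (IsIrrCharacter.isCharacter ξ.2)
  choose m hm using hm
  have hexp := classFunction_expansion (res Gd.hCK (χ : K → ℂ))
    (res_isClassFunction Gd.hCK (IrrCharacter.isClassFunction χ))
  have h1 := congrFun hexp 1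
  have hdegC : ∀ ξ : IrrCharacter C, (ξ : C → ℂ) 1 = (charDegree (ξ : C → ℂ) : ℂ) :=
    fun ξ => Helper25.char_one_eq_charDegree (Helper25.isCharacter_of_irr ξ.2)
  have hdegK : (χ : K → ℂ) 1 = (charDegree (χ : K → ℂ) : ℂ) :=
    Helper25.char_one_eq_charDegree (Helper25.isCharacter_of_irr χ.2)
  have hnat : charDegree (χ : K → ℂ) =
      ∑ ξ : IrrCharacter C, m ξ * charDegree (ξ : C → ℂ) := by
    have h2 : ((charDegree (χ : K → ℂ) : ℕ) : ℂ) =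
        ((∑ ξ : IrrCharacter C, m ξ * charDegree (ξ : C → ℂ) : ℕ) : ℂ) := by
      rw [← hdegK]
      have h3 : res Gd.hCK (χ : K → ℂ) 1 = (χ : K → ℂ) 1 := rfl
      rw [← h3, h1, Finset.sum_apply]
      push_cast
      apply Finset.sum_congr rfl
      intro ξ _
      rw [Pi.smul_apply, smul_eq_mul, ← cinn_eq, hm ξ, hdegC ξ]
    exact_mod_cast h2
  obtain ⟨g, hg⟩ : ∃ g : IrrCharacter C → ZMod p,
      ∀ ξ, g ξ = (m ξ : ZMod p) * (charDegree (ξ : C → ℂ) : ZMod p) := ⟨_, fun _ => rfl⟩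
  have hsum : (charDegree (χ : K → ℂ) : ZMod p) = ∑ ξ : IrrCharacter C, g ξ := by
    rw [hnat]
    push_cast
    apply Finset.sum_congr rfl
    intro ξ _
    rw [hg]
  have hginv : ∀ (x : Γ) (hx : x ∈ P) (ϑ : IrrCharacter C),
      g (cjI C x (Gd.hPC hx) ϑ) = g ϑ := by
    intro x hx ϑ
    have e1 : m (cjI C x (Gd.hPC hx) ϑ) = m ϑ := by
      have h2 : ((m (cjI C x (Gd.hPC hx) ϑ) : ℕ) : ℂ) = (m ϑ : ℂ) := by
        rw [← hm, ← hm]
        have hcjχ : cj K x (Gd.hPK hx) (χ : K → ℂ) = (χ : K → ℂ) :=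
          (invUnder_iff_cj_eq K x (Gd.hPK hx) _).1 (hχ x hx)
        have e : res Gd.hCK (χ : K → ℂ) =
            cj C x (Gd.hPC hx) (res Gd.hCK (χ : K → ℂ)) := by
          conv_lhs => rw [← hcjχ]
          exact res_cj Gd.hCK _ _ _ _
        show cinn (res Gd.hCK (χ : K → ℂ)) (cj C x (Gd.hPC hx) (ϑ : C → ℂ)) =
          cinn (res Gd.hCK (χ : K → ℂ)) (ϑ : C → ℂ)
        conv_lhs => rw [e]
        exact cinn_cj C x (Gd.hPC hx) _ _
      exact_mod_cast h2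
    have e2 : charDegree ((cjI C x (Gd.hPC hx) ϑ : IrrCharacter C) : C → ℂ) =
        charDegree (ϑ : C → ℂ) := by
      have h2 : ((cjI C x (Gd.hPC hx) ϑ : IrrCharacter C) : C → ℂ) 1 = (ϑ : C → ℂ) 1 := by
        show (ϑ : C → ℂ) (conjE C x (Gd.hPC hx) 1) = (ϑ : C → ℂ) 1
        rw [map_one]
      unfold charDegree
      rw [h2]
    rw [hg, hg, e1, e2]
  rw [hsum, GlPair.sum_irr_fixed Gd.hp P C Gd.hP Gd.hPC g hginv, Finset.sum_eq_single ξ₀]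
  · obtain ⟨m', hm', h1', _⟩ := hall ξ₀ hξ₀
    have e : m' = m ξ₀ := by exact_mod_cast hm'.symm.trans (hm ξ₀)
    have h2 := h1' rfl
    rw [e] at h2
    have h3 : ((m ξ₀ : ℤ) : ZMod p) = ((ε : ℤ) : ZMod p) :=
      (ZMod.intCast_eq_intCast_iff _ _ _).2 h2
    rw [Int.cast_natCast] at h3
    rw [hg, h3]
  · intro ξ hξ hne
    have hξP := (Finset.mem_filter.1 hξ).2
    obtain ⟨m', hm', _, h0'⟩ := hall ξ hξP
    have e : m' = m ξ := by exact_mod_cast hm'.symm.trans (hm ξ)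
    have h2 := h0' hne
    rw [e] at h2
    have h3 : (m ξ : ZMod p) = 0 := (ZMod.natCast_eq_zero_iff _ _).2 (dvd_of_modEq_zero h2)
    rw [hg, h3, zero_mul]
  · intro h
    exfalso
    apply h
    exact Finset.mem_filter.2 ⟨Finset.mem_univ _, hξ₀⟩

/-- the relative Glauberman correspondence over a normal Sylow `p`-subgroup -/
theorem GData.main (Gd : GData p P K Q C) :
    ∃ f : {χ : IrrCharacter K // ∀ x ∈ P, InvUnder K x (χ : K → ℂ)} →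
        {ξ : IrrCharacter C // ∀ x ∈ P, InvUnder C x (ξ : C → ℂ)},
      Function.Bijective f ∧ ∀ χ,
        (∀ ξ : {ξ : IrrCharacter C // ∀ x ∈ P, InvUnder C x (ξ : C → ℂ)}, ∃ m : ℕ,
          cinn (res Gd.hCK (χ.1 : K → ℂ)) (ξ.1 : C → ℂ) = (m : ℂ) ∧
          (ξ = f χ → ((m : ZMod p) = 1 ∨ (m : ZMod p) = -1)) ∧ (ξ ≠ f χ → p ∣ m)) ∧
        ((charDegree ((f χ).1 : C → ℂ) : ZMod p) = (charDegree (χ.1 : K → ℂ) : ZMod p) ∨
          (charDegree ((f χ).1 : C → ℂ) : ZMod p) =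
            -(charDegree (χ.1 : K → ℂ) : ZMod p)) := by
  have hex := fun χ : {χ : IrrCharacter K // ∀ x ∈ P, InvUnder K x (χ : K → ℂ)} =>
    Gd.ex χ.1 χ.2
  choose ξ₀ hξ₀P ε hε hall using hex
  have hεZ : ∀ χ, ((ε χ : ℤ) : ZMod p) = 1 ∨ ((ε χ : ℤ) : ZMod p) = -1 := by
    intro χ
    rcases hε χ with h | h
    · left
      rw [h]
      simp
    · right
      rw [h]
      simp
  refine ⟨fun χ => ⟨ξ₀ χ, hξ₀P χ⟩, ⟨?_, ?_⟩, ?_⟩
  · intro χ χ' he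
    have he' : ξ₀ χ = ξ₀ χ' := congrArg Subtype.val he
    obtain ⟨m, hm, hm1, _⟩ := hall χ (ξ₀ χ) (hξ₀P χ)
    obtain ⟨m', hm', hm1', _⟩ := hall χ' (ξ₀ χ) (hξ₀P χ)
    apply Subtype.ext
    exact Gd.inj χ.1 χ'.1 χ.2 χ'.2 (ξ₀ χ) (hξ₀P χ) m m' hm
      (not_dvd_of_modEq_unit Gd.hp (hε χ) (hm1 rfl)) hm'
      (not_dvd_of_modEq_unit Gd.hp (hε χ') (hm1' he'))
  · intro ξ
    obtain ⟨χ, hχ, m, hm, hpm⟩ := Gd.surj ξ.1 ξ.2
    refine ⟨⟨χ, hχ⟩, ?_⟩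
    apply Subtype.ext
    show ξ₀ ⟨χ, hχ⟩ = ξ.1
    by_contra hne
    obtain ⟨m', hm', _, h0⟩ := hall ⟨χ, hχ⟩ ξ.1 ξ.2
    have e : m' = m := by exact_mod_cast hm'.symm.trans hm
    apply hpm
    rw [← e]
    exact dvd_of_modEq_zero (h0 (fun h => hne h.symm))
  · intro χ
    constructor
    · intro ξ
      obtain ⟨m, hm, h1, h0⟩ := hall χ ξ.1 ξ.2
      refine ⟨m, hm, ?_, ?_⟩
      · intro he
        have h2 := h1 (congrArg Subtype.val he)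
        have h3 : ((m : ℤ) : ZMod p) = ((ε χ : ℤ) : ZMod p) :=
          (ZMod.intCast_eq_intCast_iff _ _ _).2 h2
        rw [Int.cast_natCast] at h3
        rw [h3]
        exact hεZ χ
      · intro hne
        exact dvd_of_modEq_zero (h0 (fun he => hne (Subtype.ext he)))
    · have hdeg := Gd.degree χ.1 χ.2 (ξ₀ χ) (hξ₀P χ) (ε χ) (hall χ)
      show (charDegree ((ξ₀ χ : IrrCharacter C) : C → ℂ) : ZMod p) = _ ∨
        (charDegree ((ξ₀ χ : IrrCharacter C) : C → ℂ) : ZMod p) = _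
      rcases hεZ χ with h | h
      · left
        rw [hdeg, h, one_mul]
      · right
        rw [hdeg, h, neg_mul, one_mul, neg_neg]

end Final

end Cfsg.Agent.Lib.Helper2.RelGl
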