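import Mathlib
import Cfsg.Prelude.Def_RootSubgroups
import Cfsg.Agent.H26.RootInv2
import Cfsg.Agent.Lib.Helper12.Diamond.Main

/-!
# Root involutions: Timmesfeld (2.4) (helper2, for S5047)

* (helper12's `Diamond.exists_swap`: for a line `{z, c, zc}` and `p ∈ A_z ∩ V_c` there is `y ∈ D`
  commuting with `c`, of order `4` with `z`, with `y z y = z c`.)
* `cfg_of_line`: `p ∈ A_z ∖ A_c` gives the configuration `Cfg D z c p`.
* `order_three`: `g, c, y ∈ D`, `z = (g c)²`, `y` commutes with `c`, `y z y = z c` ⇒ `o(g y) = 3`.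
* `exists_order_three`: (2.4), with (2.3) and "all `A_d` have the same size" as hypotheses.
-/

set_option autoImplicit false

namespace Cfsg.Agent.Lib.Helper2.Ri24

open Cfsg Cfsg.Agent.H26 Cfsg.Agent.Lib.Helper12.Diamond

variable {G : Type*} [Group G] {D : Set G}

/-- `p ∈ A_z ∖ A_c` on a line `{z, c, zc}` gives the configuration `(z, c, p)`. -/
theorem cfg_of_line (hD : IsRootInvolutionSet D) {z c p : G} (hz : z ∈ D) (hc : c ∈ D)
    (hzc : z * c = c * z) (hzcD : z * c ∈ D) (hpz : p ∈ oddPartners D z)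
    (hpc : p ∉ oddPartners D c) : Cfg D z c p := by
  obtain ⟨hp, hne, hodd⟩ := hpz
  have hczD : c * z ∈ D := by rw [← hzc]; exact hzcD
  -- `p` does not commute with `c`
  have hncp : c * p ≠ p * c := by
    intro hcomm
    exact hne (ri_L1 hD hc hz hczD hzc.symm hp hcomm hodd).symm
  have h4 : orderOf (c * p) = 4 := by
    rcases ri_odd_or_four hD hc hp hncp with ho | h4
    · exfalso
      apply hpc
      refine ⟨hp, ?_, ho⟩
      rintro rfl
      exact hncp rfl
    · exact h4
  refine ⟨hD, hz, hc, hp, hzc, hzcD, hodd, h4, ?_⟩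
  have hzp : OddAdj D z p := ⟨hz, hp, fun h => hne h.symm, hodd⟩
  rcases ri_line_odd hD hc hz hczD hzc.symm hzp with h | h
  · exfalso
    have : Odd (orderOf (c * p)) := by rw [orderOf_mul_comm_eq]; exact h.2.2.2
    rw [h4] at this
    exact (by decide : ¬ Odd 4) this
  · have h1 : Odd (orderOf (p * (c * z))) := h.2.2.2
    rw [orderOf_mul_comm_eq, ← hzc] at h1
    exact h1

/-- for involutions `e`, `a` with `(e a)^4 = 1`: `(e a)² = (a e)²`. -/
theorem sq_eq_sq_swap {e a : G} (he : e * e = 1) (ha : a * a = 1) (h4 : (e * a) ^ 4 = 1) :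
    (e * a) ^ 2 = (a * e) ^ 2 := by
  have hinv : (e * a)⁻¹ = a * e := by
    rw [mul_inv_rev, inv_eq_of_mul_eq_one_left ha, inv_eq_of_mul_eq_one_left he]
  have h1 : (e * a) ^ 2 * (e * a) ^ 2 = 1 := by rw [← pow_add]; exact h4
  have h2 : (e * a) ^ 2 = ((e * a) ^ 2)⁻¹ := eq_inv_of_mul_eq_one_left h1
  rw [h2, ← inv_pow, hinv]

/-- `e (e a)² e = (e a)²`. -/
theorem conj_sq_left {e a : G} (he : e * e = 1) (ha : a * a = 1) (h4 : (e * a) ^ 4 = 1) :
    e * (e * a) ^ 2 * e = (e * a) ^ 2 := by
  have h2 : e * (e * a) ^ 2 * e = (a * e) ^ 2 := by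
    rw [sq, sq]
    calc e * (e * a * (e * a)) * e = (e * e) * (a * e * (a * e)) := by group
      _ = a * e * (a * e) := by rw [he, one_mul]
  rw [h2, sq_eq_sq_swap he ha h4]

/-- `e a e = a (e a)²`. -/
theorem conj_right {e a : G} (he : e * e = 1) (ha : a * a = 1) (h4 : (e * a) ^ 4 = 1) :
    e * a * e = a * (e * a) ^ 2 := by
  rw [sq_eq_sq_swap he ha h4, sq]
  calc e * a * e = (a * a) * (e * a * e) := by rw [ha, one_mul]
    _ = a * (a * e * (a * e)) := by group

/-- `a (e a)² a = (e a)²`. -/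
theorem conj_sq_right {e a : G} (he : e * e = 1) (ha : a * a = 1) (h4 : (e * a) ^ 4 = 1) :
    a * (e * a) ^ 2 * a = (e * a) ^ 2 := by
  have h2 : a * (e * a) ^ 2 * a = (a * e) ^ 2 := by
    rw [sq, sq]
    calc a * (e * a * (e * a)) * a = a * e * (a * e) * (a * a) := by group
      _ = a * e * (a * e) := by rw [ha, mul_one]
  rw [h2, sq_eq_sq_swap he ha h4]

/-- conjugation by an involution is multiplicative. -/
theorem conj_mul {y s t : G} (hy2 : y * y = 1) : y * (s * t) * y = (y * s * y) * (y * t * y) := by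
  calc y * (s * t) * y = y * s * 1 * t * y := by group
    _ = y * s * (y * y) * t * y := by rw [hy2]
    _ = (y * s * y) * (y * t * y) := by group

/-- **Order three.** `g, c, y ∈ D`, `z = (g c)² ∈ D`, `y` commutes with `c` and `y z y = z c`:
then `g y` has order `3`. -/
theorem order_three (hD : IsRootInvolutionSet D) {g c y : G} (hg : g ∈ D) (hc : c ∈ D) (hy : y ∈ D)
    (hz : (g * c) ^ 2 ∈ D) (hyc : y * c = c * y) (hconj : y * (g * c) ^ 2 * y = (g * c) ^ 2 * c) :
    orderOf (g * y) = 3 := by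
  have hq := quad_lemma hD hg hc hy hz hyc hconj
  obtain ⟨-, hyg, hodd⟩ := hq
  have hg2 := ri_mul_self hD hg
  have hc2 := ri_mul_self hD hc
  have hy2 := ri_mul_self hD hy
  have hz2 := ri_mul_self hD hz
  -- `(g c)^4 = 1`
  have h44 : (g * c) ^ 4 = 1 := by
    have : (g * c) ^ 4 = (g * c) ^ 2 * (g * c) ^ 2 := by rw [← pow_add]
    rw [this, hz2]
  have hgz : g * (g * c) ^ 2 * g = (g * c) ^ 2 := conj_sq_left hg2 hc2 h44
  have hgc : g * c * g = c * (g * c) ^ 2 := conj_right hg2 hc2 h44
  have hcz : c * (g * c) ^ 2 * c = (g * c) ^ 2 := conj_sq_right hg2 hc2 h44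
  have hycy : y * c * y = c := by rw [hyc, mul_assoc, hy2, mul_one]
  generalize (g * c) ^ 2 = z at hz hconj hz2 hgz hgc hcz
  have hzc : z * c = c * z := by
    calc z * c = (c * c) * (z * c) := by rw [hc2, one_mul]
      _ = c * (c * z * c) := by group
      _ = c * z := by rw [hcz]
  -- the reflection `g' = y g y g y`
  have hg'D : y * (g * y * g) * y ∈ D := ri_conj' hD (ri_conj' hD hy hg) hy
  -- it commutes with `z`
  have hzcz : z * (c * z) = c := by
    rw [← hzc, ← mul_assoc, hz2, one_mul]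
  have hczc : c * (z * c) = z := by
    rw [hzc, ← mul_assoc, hc2, one_mul]
  have hconj2 : y * (c * z) * y = z := by
    rw [conj_mul (s := c) (t := z) hy2, hycy, hconj, hczc]
  have hg'z : y * (g * y * g) * y * z * (y * (g * y * g) * y) = z := by
    have h0 : y * (g * y * g) * y * z * (y * (g * y * g) * y)
        = y * (g * (y * (g * (y * z * y) * g) * y) * g) * y := by group
    rw [h0, hconj, conj_mul (s := z) (t := c) hg2, hgz, hgc, hzcz, hycy, hgc, hconj2]
  have hg'2 : (y * (g * y * g) * y) * (y * (g * y * g) * y) = 1 := ri_mul_self hD hg'D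
  have hzg' : z * (y * (g * y * g) * y) = (y * (g * y * g) * y) * z := by
    calc z * (y * (g * y * g) * y)
        = (y * (g * y * g) * y * z * (y * (g * y * g) * y)) * (y * (g * y * g) * y) := by
          rw [hg'z]
      _ = (y * (g * y * g) * y) * z * ((y * (g * y * g) * y) * (y * (g * y * g) * y)) := by group
      _ = (y * (g * y * g) * y) * z := by rw [hg'2, mul_one]
  -- `g * g' = (g y)^3`
  have hprod : g * (y * (g * y * g) * y) = (g * y) ^ 3 := by
    simp only [pow_succ, pow_zero, one_mul]; group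
  have hodd3 : Odd (orderOf (g * (y * (g * y * g) * y))) := by
    rw [hprod]
    exact Odd.of_dvd_nat hodd (orderOf_pow_dvd 3)
  -- `z g ∈ D`, `z g = g z`
  have hzg : z * g = g * z := by
    calc z * g = (g * g) * (z * g) := by rw [hg2, one_mul]
      _ = g * (g * z * g) := by group
      _ = g * z := by rw [hgz]
  have hzgD : z * g ∈ D := by
    -- `z g = c g c`
    have h1 : c * g * c = z * g := by
      have : c * z = g * c * g := hgc.symm
      calc c * g * c = (g * g) * (c * g * c) := by rw [hg2, one_mul]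
        _ = g * (g * c * g) * c := by group
        _ = g * (c * z) * c := by rw [hgc]
        _ = g * (c * z * c) := by group
        _ = g * z := by rw [hcz]
        _ = z * g := hzg.symm
    rw [← h1]
    exact ri_conj' hD hg hc
  have heq : g = y * (g * y * g) * y := ri_L1 hD hz hg hzgD hzg hg'D hzg' hodd3
  have h3 : (g * y) ^ 3 = 1 := by
    rw [← hprod, ← heq, hg2]
  have hne1 : g * y ≠ 1 := by
    intro h
    apply hyg
    have : y = g⁻¹ := (eq_inv_of_mul_eq_one_right h)
    rw [this, ri_inv hD hg]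
  exact orderOf_eq_prime h3 hne1

/-- **Timmesfeld (2.4)**, with (2.3) and the equality of the sizes of the sets `A_d` as
hypotheses. -/
theorem exists_order_three [Finite G] (hD : IsRootInvolutionSet D)
    (hcard : ∀ a ∈ D, ∀ b ∈ D, (oddPartners D a).ncard = (oddPartners D b).ncard)
    (h23 : ∀ d ∈ D, ∀ e ∈ D, oddPartners D d = oddPartners D e →
      commutingMembers D d = commutingMembers D e)
    {a b : G} (ha : a ∈ D) (hb : b ∈ productPartners D a)
    (hne : oddPartners D a ≠ oddPartners D b) :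
    ∃ x ∈ fourPartners D b, orderOf (a * x) = 3 := by
  obtain ⟨⟨hbD, hba, -⟩, hbaD⟩ := hb
  have hab : a * b = b * a := hba.symm
  have habD : a * b ∈ D := by rw [hab]; exact hbaD
  -- a witness `p ∈ A_a ∖ A_b`
  have hex : ∀ {d e : G}, d ∈ D → e ∈ D → oddPartners D d ≠ oddPartners D e →
      ∃ p ∈ oddPartners D d, p ∉ oddPartners D e := by
    intro d e hd he hde
    by_contra hcon
    push Not at hcon
    exact hde (Set.eq_of_subset_of_ncard_le hcon (le_of_eq (hcard e he d hd)) (Set.toFinite _))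
  obtain ⟨p, hpa, hpb⟩ := hex ha hbD hne
  have hcfg1 : Cfg D a b p := cfg_of_line hD ha hbD hab habD hpa hpb
  obtain ⟨u, huD, hau4, hub, hconj1⟩ := exists_swap hcfg1
  have ha2 := ri_mul_self hD ha
  have hu2 := ri_mul_self hD huD
  -- `(a u)² = b`
  have hsq : (a * u) ^ 2 = b := by
    rw [sq]
    calc a * u * (a * u) = a * (u * a * u) := by group
      _ = a * (a * b) := by rw [hconj1]
      _ = b := by rw [← mul_assoc, ha2, one_mul]
  -- `b u = a u a ∈ D`
  have hbuD : b * u ∈ D := by
    have h1 : a * u * a = b * u := by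
      calc a * u * a = a * u * a * (u * u) := by rw [hu2, mul_one]
        _ = (a * u * (a * u)) * u := by group
        _ = b * u := by rw [← sq, hsq]
    rw [← h1]
    exact ri_conj' hD huD ha
  have hbu : b * u = u * b := hub.symm
  -- `A_b ≠ A_u`
  have hne2 : oddPartners D b ≠ oddPartners D u := by
    intro h
    have hC := h23 b hbD u huD h
    have haC : a ∈ commutingMembers D b := ⟨ha, hab⟩
    rw [hC] at haC
    have h2 := ri_sq_of_comm hD ha huD haC.2
    have := orderOf_dvd_of_pow_eq_one h2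
    rw [hau4] at this
    omega
  obtain ⟨p', hp'b, hp'u⟩ := hex hbD huD hne2
  have hcfg2 : Cfg D b u p' := cfg_of_line hD hbD huD hbu hbuD hp'b hp'u
  obtain ⟨x, hxD, hbx4, hxu, hconj2⟩ := exists_swap hcfg2
  refine ⟨x, ⟨hxD, hbx4⟩, ?_⟩
  have hzD : (a * u) ^ 2 ∈ D := by rw [hsq]; exact hbD
  apply order_three hD ha huD hxD hzD hxu
  rw [hsq]
  exact hconj2

end Cfsg.Agent.Lib.Helper2.Ri24
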