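import Mathlib
import Cfsg.Prelude.Def_Characters
import Cfsg.Prelude.Def_Blocks
import Cfsg.Agent.Lib.Helper2.S2436P1
import Cfsg.Agent.Lib.Helper2.DegPMain
import Cfsg.Agent.Lib.Helper25.LinearChar
import Cfsg.Agent.Lib.Helper25.Ortho2
import Cfsg.Agent.Lib.Helper24.Contribution

/-!
# S2436 (McKay for SL₂(q)) piece P4 = FO-G11: groups of order 24 of type `SL₂(3)`
-/

set_option autoImplicit false

namespace Cfsg.Agent.Lib.Helper2.McKayP4

open Cfsg Cfsg.Agent.Lib.Helper2.McKayP1

section fix
variable {N : Type*} [Group N] [Finite N]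

/-- fixed points of conjugation by an element of order dividing 3 -/
theorem card_modEq_fix (x : N) (hx : x ^ 3 = 1) (T : Subgroup N)
    (hT : ∀ t ∈ T, x * t * x⁻¹ ∈ T) :
    Nat.card T ≡ Nat.card ((Subgroup.centralizer ({x} : Set N)).subgroupOf T) [MOD 3] := by
  classical
  haveI : Fintype T := Fintype.ofFinite T
  let f : Function.End T := fun t => ⟨x * t * x⁻¹, hT t t.2⟩
  have hf : f ^ 3 ^ 1 = 1 := by
    rw [pow_one]
    funext t
    apply Subtype.ext
    change x * (x * (x * (t : N) * x⁻¹) * x⁻¹) * x⁻¹ = t
    have h1 : x * (x * (x * (t : N) * x⁻¹) * x⁻¹) * x⁻¹ = x ^ 3 * t * (x ^ 3)⁻¹ := by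
      rw [pow_succ, pow_succ, pow_one]
      group
    rw [h1, hx, one_mul, inv_one, mul_one]
  haveI : Fact (Nat.Prime 3) := ⟨by norm_num⟩
  have h := Equiv.Perm.card_fixedPoints_modEq (p := 3) (n := 1) hf
  rw [Nat.card_eq_fintype_card]
  refine h.trans ?_
  have e : Fintype.card (Function.fixedPoints f) =
      Nat.card ((Subgroup.centralizer ({x} : Set N)).subgroupOf T) := by
    rw [← Nat.card_eq_fintype_card]
    apply Nat.card_congr
    refine Equiv.subtypeEquivRight ?_
    intro t
    rw [Subgroup.mem_subgroupOf, Subgroup.mem_centralizer_iff]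
    constructor
    · intro ht y hy
      rw [Set.mem_singleton_iff] at hy
      subst hy
      have h1 : y * (t : N) * y⁻¹ = t := congrArg Subtype.val ht
      calc y * (t : N) = y * (t : N) * y⁻¹ * y := by group
        _ = (t : N) * y := by rw [h1]
    · intro ht
      apply Subtype.ext
      change x * (t : N) * x⁻¹ = t
      rw [ht x rfl]
      group
  rw [e]

end fix

section group
variable {N : Type*} [Group N] [Finite N]

/-- the group theory: the commutator subgroup is `S` and the centre is nontrivial -/
theorem structure_24 (hN : Nat.card N = 24)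
    (S : Subgroup N) [S.Normal] (hS : Nat.card S = 8)
    (hinv : ∀ x ∈ S, ∀ y ∈ S, orderOf x = 2 → orderOf y = 2 → x = y)
    (hC : Nat.card (Subgroup.centralizer (S : Set N)) = 2) :
    (commutator N).index = 3 ∧ (Subgroup.center N).index ≤ 12 := by
  classical
  haveI : Fact (Nat.Prime 2) := ⟨Nat.prime_two⟩
  haveI : Fact (Nat.Prime 3) := ⟨by norm_num⟩
  -- the involution
  obtain ⟨z₀, hz₀⟩ := exists_prime_orderOf_dvd_card' (G := S) 2 (by rw [hS]; norm_num)
  obtain ⟨z, hzS, hz⟩ : ∃ z ∈ S, orderOf z = 2 :=
    ⟨(z₀ : N), z₀.2, by rw [Subgroup.orderOf_coe]; exact hz₀⟩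
  have hzc : z ∈ Subgroup.center N := by
    rw [Subgroup.mem_center_iff]
    intro g
    have h1 : g * z * g⁻¹ ∈ S := Subgroup.Normal.conj_mem inferInstance z hzS g
    have h2 : orderOf (g * z * g⁻¹) = 2 := by
      have hsc : SemiconjBy g z (g * z * g⁻¹) := by
        unfold SemiconjBy
        group
      rw [← hsc.orderOf_eq]
      exact hz
    have h3 := hinv _ h1 z hzS h2 hz
    calc g * z = g * z * g⁻¹ * g := by group
      _ = z * g := by rw [h3]
  have hcenter : (Subgroup.center N).index ≤ 12 := by
    have h1 := Subgroup.card_mul_index (Subgroup.center N)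
    rw [hN] at h1
    have h2 : 2 ≤ Nat.card (Subgroup.center N) := by
      have h3 : orderOf (⟨z, hzc⟩ : Subgroup.center N) = 2 := by
        rw [← Subgroup.orderOf_coe]
        exact hz
      have := orderOf_le_card (G := Subgroup.center N) (x := ⟨z, hzc⟩)
      rw [h3] at this
      exact this
    nlinarith
  refine ⟨?_, hcenter⟩
  -- an element of order three
  obtain ⟨x, hxo⟩ := exists_prime_orderOf_dvd_card' (G := N) 3 (by rw [hN]; norm_num)
  have hx3 : x ^ 3 = 1 := by rw [← hxo]; exact pow_orderOf_eq_one x
  have hxS : ∀ t ∈ S, x * t * x⁻¹ ∈ S := fun t ht =>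
    Subgroup.Normal.conj_mem inferInstance t ht x
  -- `x` does not centralise `S`
  have hnot : ¬ ∀ s ∈ S, x * s = s * x := by
    intro hall
    have hxC : x ∈ Subgroup.centralizer (S : Set N) := by
      rw [Subgroup.mem_centralizer_iff]
      intro s hs
      exact (hall s hs).symm
    have h1 : orderOf (⟨x, hxC⟩ : Subgroup.centralizer (S : Set N)) = 3 := by
      rw [← Subgroup.orderOf_coe]
      exact hxo
    have h2 := orderOf_dvd_natCard (⟨x, hxC⟩ : Subgroup.centralizer (S : Set N))
    rw [h1, hC] at h2
    norm_num at h2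
  -- the fixed points on `S`
  have hfixS := card_modEq_fix x hx3 S hxS
  rw [hS] at hfixS
  have hdvdC : Nat.card ((Subgroup.centralizer ({x} : Set N)).subgroupOf S) ∣ 8 := by
    rw [← hS]
    exact Subgroup.card_subgroup_dvd_card _
  have hC2 : Nat.card ((Subgroup.centralizer ({x} : Set N)).subgroupOf S) = 2 := by
    have hle := Nat.le_of_dvd (by norm_num) hdvdC
    have hpos : 0 < Nat.card ((Subgroup.centralizer ({x} : Set N)).subgroupOf S) := Nat.card_pos
    unfold Nat.ModEq at hfixS
    by_cases h8 : Nat.card ((Subgroup.centralizer ({x} : Set N)).subgroupOf S) = 8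
    · exfalso
      apply hnot
      intro s hs
      have htop : (Subgroup.centralizer ({x} : Set N)).subgroupOf S = ⊤ := by
        apply Subgroup.eq_top_of_card_eq
        rw [h8, hS]
      have h1 : (⟨s, hs⟩ : S) ∈ (Subgroup.centralizer ({x} : Set N)).subgroupOf S := by
        rw [htop]
        exact Subgroup.mem_top _
      rw [Subgroup.mem_subgroupOf, Subgroup.mem_centralizer_iff] at h1
      exact h1 x rfl
    · generalize Nat.card ((Subgroup.centralizer ({x} : Set N)).subgroupOf S) = c at *
      interval_cases c <;> simp_all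
  -- not all of `S` is fixed
  have hmove : ∃ s ∈ S, x * s * x⁻¹ ≠ s := by
    by_contra hcon
    push Not at hcon
    apply hnot
    intro s hs
    have := hcon s hs
    calc x * s = x * s * x⁻¹ * x := by group
      _ = s * x := by rw [this]
  -- the commutator subgroup lies in `S`
  have hDS : commutator N ≤ S := by
    rw [← Subgroup.Normal.quotient_commutative_iff_commutator_le]
    have hq : Nat.card (N ⧸ S) = 3 := by
      have h1 := Subgroup.card_eq_card_quotient_mul_card_subgroup S
      rw [hN, hS] at h1
      omega
    exact (isCyclic_of_prime_card hq).isMulCommutative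
  have hD8 : Nat.card (commutator N) ∣ 8 := by
    rw [← hS]
    exact Subgroup.card_dvd_of_le hDS
  have hxD : ∀ t ∈ commutator N, x * t * x⁻¹ ∈ commutator N := fun t ht =>
    Subgroup.Normal.conj_mem inferInstance t ht x
  have hfixD := card_modEq_fix x hx3 (commutator N) hxD
  -- fixed points in `D` are fixed points in `S`
  have hle2 : Nat.card ((Subgroup.centralizer ({x} : Set N)).subgroupOf (commutator N)) ≤ 2 := by
    rw [← hC2]
    apply Nat.card_le_card_of_injective
      (fun t : (Subgroup.centralizer ({x} : Set N)).subgroupOf (commutator N) =>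
        (⟨⟨((t : commutator N) : N), hDS (t : commutator N).2⟩,
          Subgroup.mem_subgroupOf.mpr (Subgroup.mem_subgroupOf.mp t.2)⟩ :
        (Subgroup.centralizer ({x} : Set N)).subgroupOf S))
    intro a b hab
    apply Subtype.ext
    apply Subtype.ext
    exact congrArg (fun u : (Subgroup.centralizer ({x} : Set N)).subgroupOf S => ((u : S) : N)) hab
  have hpos : 0 < Nat.card ((Subgroup.centralizer ({x} : Set N)).subgroupOf (commutator N)) :=
    Nat.card_pos
  -- the order of `D`
  have hD : Nat.card (commutator N) = 8 := by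
    have hle := Nat.le_of_dvd (by norm_num) hD8
    have hDpos : 0 < Nat.card (commutator N) := Nat.card_pos
    unfold Nat.ModEq at hfixD
    by_contra hne
    have hcases : Nat.card (commutator N) = 1 ∨ Nat.card (commutator N) = 2 ∨
        Nat.card (commutator N) = 4 := by
      generalize Nat.card (commutator N) = c at *
      interval_cases c <;> simp_all
    rcases hcases with h1 | h2 | h4
    · -- `N` abelian
      obtain ⟨s, hs, hsx⟩ := hmove
      apply hsx
      have hc : x * s * x⁻¹ * s⁻¹ ∈ commutator N := by
        have := Subgroup.commutator_mem_commutator (Subgroup.mem_top x) (Subgroup.mem_top s)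
        exact this
      have hbot : commutator N = ⊥ := Subgroup.card_eq_one.mp h1
      rw [hbot, Subgroup.mem_bot] at hc
      calc x * s * x⁻¹ = x * s * x⁻¹ * s⁻¹ * s := by group
        _ = s := by rw [hc, one_mul]
    · -- `|D| = 2`: all of `D` is fixed
      have hfix2 : Nat.card ((Subgroup.centralizer ({x} : Set N)).subgroupOf (commutator N)) = 2 := by
        rw [h2] at hfixD
        generalize Nat.card ((Subgroup.centralizer ({x} : Set N)).subgroupOf (commutator N)) = c at *
        interval_cases c <;> simp_all
      have htop : (Subgroup.centralizer ({x} : Set N)).subgroupOf (commutator N) = ⊤ := by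
        apply Subgroup.eq_top_of_card_eq
        rw [hfix2, h2]
      obtain ⟨s, hs, hsx⟩ := hmove
      apply hsx
      obtain ⟨c, hcdef⟩ : ∃ c, c = x * s * x⁻¹ * s⁻¹ := ⟨_, rfl⟩
      have hc : c ∈ commutator N := by
        rw [hcdef]
        exact Subgroup.commutator_mem_commutator (Subgroup.mem_top x) (Subgroup.mem_top s)
      have hcx : x * c = c * x := by
        have h1 : (⟨c, hc⟩ : commutator N) ∈
            (Subgroup.centralizer ({x} : Set N)).subgroupOf (commutator N) := by
          rw [htop]
          exact Subgroup.mem_top _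
        rw [Subgroup.mem_subgroupOf, Subgroup.mem_centralizer_iff] at h1
        exact h1 x rfl
      have hc2 : c * c = 1 := by
        have h1 : (⟨c, hc⟩ : commutator N) ^ 2 = 1 := by
          rw [← h2]
          exact pow_card_eq_one'
        have h3 := congrArg Subtype.val h1
        rw [pow_two] at h3
        exact h3
      have e1 : x * s * x⁻¹ = c * s := by rw [hcdef]; group
      have e2 : x * (c * s) * x⁻¹ = s := by
        calc x * (c * s) * x⁻¹ = (x * c) * (s * x⁻¹) := by group
          _ = c * x * (s * x⁻¹) := by rw [hcx]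
          _ = c * (x * s * x⁻¹) := by group
          _ = c * (c * s) := by rw [e1]
          _ = (c * c) * s := by group
          _ = s := by rw [hc2, one_mul]
      have e3 : x * (x * s * x⁻¹) * x⁻¹ = s := by rw [e1, e2]
      calc x * s * x⁻¹ = x * (x * (x * s * x⁻¹) * x⁻¹) * x⁻¹ := by rw [e3]
        _ = x ^ 3 * s * (x ^ 3)⁻¹ := by
          rw [pow_succ, pow_succ, pow_one]
          group
        _ = s := by rw [hx3, one_mul, inv_one, mul_one]
    · -- `|D| = 4`: only the identity is fixed, but the involution is fixed
      have hfix1 : Nat.card ((Subgroup.centralizer ({x} : Set N)).subgroupOf (commutator N)) = 1 := by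
        rw [h4] at hfixD
        generalize Nat.card ((Subgroup.centralizer ({x} : Set N)).subgroupOf (commutator N)) = c at *
        interval_cases c <;> simp_all
      have hbot : (Subgroup.centralizer ({x} : Set N)).subgroupOf (commutator N) = ⊥ :=
        Subgroup.card_eq_one.mp hfix1
      obtain ⟨d₀, hd₀⟩ := exists_prime_orderOf_dvd_card' (G := commutator N) 2
        (by rw [h4]; norm_num)
      have hd : orderOf (d₀ : N) = 2 := by rw [Subgroup.orderOf_coe]; exact hd₀
      have hdz : (d₀ : N) = z := hinv _ (hDS d₀.2) z hzS hd hz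
      have hmem : d₀ ∈ (Subgroup.centralizer ({x} : Set N)).subgroupOf (commutator N) := by
        rw [Subgroup.mem_subgroupOf, Subgroup.mem_centralizer_iff]
        intro y hy
        rw [Set.mem_singleton_iff] at hy
        subst hy
        rw [hdz]
        exact (Subgroup.mem_center_iff.mp hzc y)
      rw [hbot, Subgroup.mem_bot] at hmem
      rw [hmem, orderOf_one] at hd₀
      norm_num at hd₀
  -- conclusion
  have h1 := Subgroup.card_mul_index (commutator N)
  rw [hN, hD] at h1
  omega

end group

end Cfsg.Agent.Lib.Helper2.McKayP4
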