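import Mathlib
import Cfsg.Prelude.Def_Characters
import Cfsg.Prelude.Def_Blocks
import Cfsg.Agent.Lib.Helper2.S2436P4a

/-!
# S2436 (McKay for SL₂(q)) piece P4 = FO-G11: groups of order 24 of type `SL₂(3)` have exactly
four irreducible characters of odd degree
-/

set_option autoImplicit false

namespace Cfsg.Agent.Lib.Helper2.McKayP4

open Cfsg Cfsg.Agent.Lib.Helper2.McKayP1

/-- FO-G11 (order 24): a group of order 24 with a normal subgroup `S` of order 8 having a unique
involution and with `C(S)` of order 2 has exactly four irreducible characters of odd degree. -/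
theorem mk_two_of_card_24 {N : Type*} [Group N] [Finite N] (hN : Nat.card N = 24)
    (S : Subgroup N) [S.Normal] (hS : Nat.card S = 8)
    (hinv : ∀ x ∈ S, ∀ y ∈ S, orderOf x = 2 → orderOf y = 2 → x = y)
    (hC : Nat.card (Subgroup.centralizer (S : Set N)) = 2) :
    mk 2 N = 4 := by
  classical
  obtain ⟨hidx, hcen⟩ := structure_24 hN S hS hinv hC
  haveI : Fintype N := Fintype.ofFinite N
  haveI : Fintype (IrrCharacter N) := Fintype.ofFinite _
  obtain ⟨d, hd⟩ : ∃ d : IrrCharacter N → ℕ, ∀ χ, d χ = charDegree (χ : N → ℂ) :=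
    ⟨fun χ => charDegree (χ : N → ℂ), fun _ => rfl⟩
  have hd1 : ∀ χ : IrrCharacter N, (χ : N → ℂ) 1 = (d χ : ℂ) := by
    intro χ
    rw [hd]
    exact Cfsg.Agent.Lib.Helper24.apply_one_eq_charDegree χ
  have hd0 : ∀ χ, d χ ≠ 0 := by
    intro χ
    rw [hd]
    exact Cfsg.Agent.Lib.Helper24.charDegree_ne_zero χ
  have hd3 : ∀ χ, d χ ≤ 3 := by
    intro χ
    have := Cfsg.Agent.Lib.Helper2.DegP.sq_le_index_center χ (d χ) (hd1 χ)
    nlinarith
  have hsum : ∑ χ : IrrCharacter N, d χ ^ 2 = 24 := by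
    have h1 := Cfsg.Agent.Lib.Helper25.sum_degree_sq (G := N)
    have h2 : ((∑ χ : IrrCharacter N, d χ ^ 2 : ℕ) : ℂ) = ((24 : ℕ) : ℂ) := by
      rw [← hN, ← h1]
      push_cast
      apply Finset.sum_congr rfl
      intro χ _
      rw [hd1 χ, pow_two]
    exact_mod_cast h2
  have hlin : (∑ χ : IrrCharacter N, if d χ = 1 then 1 else 0) = 3 := by
    rw [← hidx, ← Cfsg.Agent.Lib.Helper25.card_linear_char, Nat.card_eq_fintype_card,
      Fintype.card_subtype, Finset.card_filter]
    apply Finset.sum_congr rfl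
    intro χ _
    have : ((χ : N → ℂ) 1 = 1) ↔ d χ = 1 := by
      rw [hd1 χ]
      exact_mod_cast Iff.rfl
    simp only [this]
  have hdecomp : ∑ χ : IrrCharacter N, d χ ^ 2 =
      (∑ χ : IrrCharacter N, if d χ = 1 then 1 else 0) +
      4 * (∑ χ : IrrCharacter N, if d χ = 2 then 1 else 0) +
      9 * (∑ χ : IrrCharacter N, if d χ = 3 then 1 else 0) := by
    rw [Finset.mul_sum, Finset.mul_sum, ← Finset.sum_add_distrib, ← Finset.sum_add_distrib]
    apply Finset.sum_congr rfl
    intro χ _
    have h0 := hd0 χ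
    have h3 := hd3 χ
    generalize d χ = k at *
    interval_cases k <;> simp_all
  have hmk : mk 2 N = (∑ χ : IrrCharacter N, if d χ = 1 then 1 else 0) +
      (∑ χ : IrrCharacter N, if d χ = 3 then 1 else 0) := by
    unfold mk
    rw [Nat.card_eq_fintype_card, Fintype.card_subtype, Finset.card_filter,
      ← Finset.sum_add_distrib]
    apply Finset.sum_congr rfl
    intro χ _
    rw [← hd χ]
    have h0 := hd0 χ
    have h3 := hd3 χ
    generalize d χ = k at *
    interval_cases k <;> simp_all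
  omega

end Cfsg.Agent.Lib.Helper2.McKayP4
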