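import Mathlib

/-! Generic lemmas for S4017: p-elements acting on small sets, involutions acting on
abelian groups of odd order. -/

namespace Cfsg.Agent.Lib.Helper2.S4017

variable {G : Type*} [Group G]

/-- `x` is a `p`-element. -/
def PEl (p : ℕ) (x : G) : Prop := ∃ k : ℕ, x ^ p ^ k = 1

theorem PEl.of_mem {p : ℕ} {H : Subgroup G} (hH : IsPGroup p H) {x : G} (hx : x ∈ H) : PEl p x := by
  obtain ⟨k, hk⟩ := hH ⟨x, hx⟩
  exact ⟨k, by simpa using congrArg Subtype.val hk⟩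

theorem PEl.zpowers {p : ℕ} {x : G} (hx : PEl p x) : IsPGroup p (Subgroup.zpowers x) := by
  obtain ⟨k, hk⟩ := hx
  rintro ⟨y, hy⟩
  obtain ⟨n, rfl⟩ := Subgroup.mem_zpowers_iff.mp hy
  refine ⟨k, Subtype.ext ?_⟩
  simp only [Subgroup.coe_pow, Subgroup.coe_one]
  rw [← zpow_natCast, ← zpow_mul, mul_comm, zpow_mul, zpow_natCast, hk, one_zpow]

theorem PEl.conj {p : ℕ} {x : G} (hx : PEl p x) (g : G) : PEl p (g * x * g⁻¹) := by
  obtain ⟨k, hk⟩ := hx
  exact ⟨k, by rw [conj_pow, hk]; simp⟩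

theorem PEl.pow {p : ℕ} {x : G} (hx : PEl p x) (n : ℕ) : PEl p (x ^ n) := by
  obtain ⟨k, hk⟩ := hx
  exact ⟨k, by rw [← pow_mul, mul_comm, pow_mul, hk, one_pow]⟩

theorem PEl.exists_orderOf {p : ℕ} (hp : p.Prime) {x : G} (hx : PEl p x) : ∃ j, orderOf x = p ^ j := by
  obtain ⟨k, hk⟩ := hx
  obtain ⟨j, -, hj⟩ := (Nat.dvd_prime_pow hp).mp (orderOf_dvd_of_pow_eq_one hk)
  exact ⟨j, hj⟩

theorem PEl.of_orderOf {p : ℕ} {x : G} {j : ℕ} (h : orderOf x = p ^ j) : PEl p x :=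
  ⟨j, by rw [← h]; exact pow_orderOf_eq_one x⟩

/-- an element which is both a `p`-element and a `q`-element is trivial. -/
theorem PEl.eq_one {p q : ℕ} (hp : p.Prime) (hq : q.Prime) (hpq : p ≠ q) {x : G}
    (h1 : PEl p x) (h2 : PEl q x) : x = 1 := by
  obtain ⟨i, hi⟩ := h1.exists_orderOf hp
  obtain ⟨j, hj⟩ := h2.exists_orderOf hq
  rw [← orderOf_eq_one_iff]
  have hcop : Nat.Coprime (p ^ i) (q ^ j) :=
    Nat.Coprime.pow _ _ ((Nat.coprime_primes hp hq).mpr hpq)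
  have h1 : orderOf x ∣ p ^ i := hi ▸ dvd_rfl
  have h2 : orderOf x ∣ q ^ j := hj ▸ dvd_rfl
  exact Nat.eq_one_of_dvd_coprimes hcop h1 h2

section perm

variable {p : ℕ} (hp : p.Prime) (S : Finset G) (g : G)

/-- conjugation by `g` as a permutation of the invariant finite set `S`. -/
noncomputable def conjPerm (hS : ∀ x ∈ S, g * x * g⁻¹ ∈ S) : Equiv.Perm S :=
  Equiv.ofBijective (fun x : S => (⟨g * x.1 * g⁻¹, hS x.1 x.2⟩ : S))
    (Finite.injective_iff_bijective.mp (by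
      intro x y h
      have := congrArg Subtype.val h
      simp only [mul_left_inj, mul_right_inj] at this
      exact Subtype.ext this))

theorem conjPerm_pow (hS : ∀ x ∈ S, g * x * g⁻¹ ∈ S) (n : ℕ) (x : S) :
    (((conjPerm S g hS) ^ n) x : G) = g ^ n * x.1 * (g ^ n)⁻¹ := by
  induction n generalizing x with
  | zero => simp
  | succ n ih =>
    rw [pow_succ', Equiv.Perm.mul_apply]
    show g * (((conjPerm S g hS) ^ n) x : G) * g⁻¹ = _
    rw [ih]; group

include hp in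
theorem conjPerm_orderOf (hS : ∀ x ∈ S, g * x * g⁻¹ ∈ S) (hg : PEl p g) : ∃ j, orderOf (conjPerm S g hS) = p ^ j := by
  obtain ⟨k, hk⟩ := hg
  have hσk : (conjPerm S g hS) ^ (p ^ k) = 1 := by
    ext x; rw [conjPerm_pow, hk]; simp
  obtain ⟨j, -, hj⟩ := (Nat.dvd_prime_pow hp).mp (orderOf_dvd_of_pow_eq_one hσk)
  exact ⟨j, hj⟩

include hp in
/-- A `p`-element normalizing a set with fewer than `p` elements centralizes it. -/
theorem conj_fix_of_card_lt (hS : ∀ x ∈ S, g * x * g⁻¹ ∈ S) (hg : PEl p g) (hcard : S.card < p) :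
    ∀ x ∈ S, g * x * g⁻¹ = x := by
  classical
  obtain ⟨j, hj⟩ := conjPerm_orderOf hp S g hS hg
  have hcardP : orderOf (conjPerm S g hS) ∣ (Fintype.card S).factorial := by
    rw [← Fintype.card_perm]; exact orderOf_dvd_card
  have hj0 : j = 0 := by
    by_contra hj0
    have : p ∣ (Fintype.card S).factorial :=
      dvd_trans (by rw [hj]; exact dvd_pow_self p hj0) hcardP
    rw [hp.dvd_factorial] at this
    simp only [Fintype.card_coe] at this
    omega
  have hσ1 : conjPerm S g hS = 1 := by rw [← orderOf_eq_one_iff, hj, hj0, pow_zero]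
  intro x hx
  have := conjPerm_pow S g hS 1 ⟨x, hx⟩
  rw [hσ1] at this
  simpa using this.symm

include hp in
/-- A `p`-element normalizing a set with exactly `p` elements and moving one of them permutes
the set transitively. -/
theorem conj_trans_of_card_eq (hS : ∀ x ∈ S, g * x * g⁻¹ ∈ S) (hg : PEl p g) (hcard : S.card = p) (x₀ : G) (hx₀ : x₀ ∈ S)
    (hmv : g * x₀ * g⁻¹ ≠ x₀) :
    ∀ x ∈ S, ∀ y ∈ S, ∃ n : ℕ, g ^ n * x * (g ^ n)⁻¹ = y := by
  classical
  set σ := conjPerm S g hS with hσ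
  obtain ⟨j, hj⟩ := conjPerm_orderOf hp S g hS hg
  have hmv' : σ ⟨x₀, hx₀⟩ ≠ ⟨x₀, hx₀⟩ := by
    intro h
    apply hmv
    have := conjPerm_pow S g hS 1 ⟨x₀, hx₀⟩
    rw [pow_one, ← hσ, h] at this
    simpa using this.symm
  have hcyc : (σ.cycleOf ⟨x₀, hx₀⟩).IsCycle := Equiv.Perm.isCycle_cycleOf σ hmv'
  have hdvd : orderOf (σ.cycleOf ⟨x₀, hx₀⟩) ∣ p ^ j := by
    rw [← hj]; exact Equiv.Perm.orderOf_cycleOf_dvd_orderOf σ _
  obtain ⟨i, -, hi⟩ := (Nat.dvd_prime_pow hp).mp hdvd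
  have hsupp : (σ.cycleOf ⟨x₀, hx₀⟩).support.card = p ^ i := by
    rw [← hcyc.orderOf, hi]
  have hle : (σ.cycleOf ⟨x₀, hx₀⟩).support.card ≤ p := by
    calc (σ.cycleOf ⟨x₀, hx₀⟩).support.card ≤ Fintype.card S := Finset.card_le_univ _
      _ = p := by simp [hcard]
  have h2 : 2 ≤ (σ.cycleOf ⟨x₀, hx₀⟩).support.card := hcyc.two_le_card_support
  have hi1 : i = 1 := by
    rcases Nat.lt_or_ge i 1 with h | h
    · have : i = 0 := by omega
      rw [this, pow_zero] at hsupp; omega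
    · rcases Nat.lt_or_ge 1 i with h' | h'
      · have : p ^ 2 ≤ p ^ i := Nat.pow_le_pow_right hp.pos h'
        have hp2 := hp.two_le
        nlinarith
      · omega
  have huniv : (σ.cycleOf ⟨x₀, hx₀⟩).support = Finset.univ := by
    apply Finset.eq_univ_of_card
    rw [hsupp, hi1, pow_one]; simp [hcard]
  have hsame : ∀ y : S, σ.SameCycle ⟨x₀, hx₀⟩ y := by
    intro y
    have : y ∈ (σ.cycleOf ⟨x₀, hx₀⟩).support := by rw [huniv]; exact Finset.mem_univ _
    exact (Equiv.Perm.mem_support_cycleOf_iff.mp this).1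
  intro x hx y hy
  have hxy : σ.SameCycle ⟨x, hx⟩ ⟨y, hy⟩ := (hsame ⟨x, hx⟩).symm.trans (hsame ⟨y, hy⟩)
  obtain ⟨n, hn⟩ := hxy.exists_nat_pow_eq
  refine ⟨n, ?_⟩
  have := conjPerm_pow S g hS n ⟨x, hx⟩
  rw [← hσ, hn] at this
  exact this.symm

end perm

section invol

variable {P : Subgroup G} (hab : ∀ x ∈ P, ∀ y ∈ P, x * y = y * x) (s : G) (hs : s * s = 1)
  (hsN : ∀ x ∈ P, s * x * s ∈ P)

include hab hs hsN in
/-- if the involution `s` has no nontrivial fixed point on the abelian group `P`, it inverts `P`. -/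
theorem inverts_of_fixed_trivial (hfix : ∀ x ∈ P, s * x * s = x → x = 1) :
    ∀ x ∈ P, s * x * s = x⁻¹ := by
  intro x hx
  have hy : x * (s * x * s) ∈ P := P.mul_mem hx (hsN x hx)
  have h1 : s * (x * (s * x * s)) * s = x * (s * x * s) := by
    have : s * (x * (s * x * s)) * s = (s * x * s) * x * (s * s) := by group
    rw [this, hs, mul_one]
    exact (hab x hx _ (hsN x hx)).symm
  have := hfix _ hy h1
  exact eq_inv_of_mul_eq_one_right this

include hs hsN in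
/-- if the involution `s` inverts no nontrivial element of the group `P`, it
centralizes `P`. -/
theorem fixes_of_inverted_trivial (hinv : ∀ x ∈ P, s * x * s = x⁻¹ → x = 1) :
    ∀ x ∈ P, s * x * s = x := by
  intro x hx
  have hsx : s * x⁻¹ * s ∈ P := hsN _ (P.inv_mem hx)
  have hy : x * (s * x⁻¹ * s) ∈ P := P.mul_mem hx hsx
  have h1 : s * (x * (s * x⁻¹ * s)) * s = (x * (s * x⁻¹ * s))⁻¹ := by
    have e1 : s * (x * (s * x⁻¹ * s)) * s = (s * x * s) * x⁻¹ * (s * s) := by group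
    have e2 : (x * (s * x⁻¹ * s))⁻¹ = (s⁻¹ * x * s⁻¹) * x⁻¹ := by group
    have hsi : s⁻¹ = s := inv_eq_of_mul_eq_one_left hs
    rw [e1, e2, hs, mul_one, hsi]
  have := hinv _ hy h1
  have h2 : s * x⁻¹ * s = x⁻¹ := eq_inv_of_mul_eq_one_right this
  have h3 : s * x * s = (s * x⁻¹ * s)⁻¹ := by
    have hsi : s⁻¹ = s := inv_eq_of_mul_eq_one_left hs
    have : (s * x⁻¹ * s)⁻¹ = s⁻¹ * x * s⁻¹ := by group
    rw [this, hsi]
  rw [h3, h2, inv_inv]

end invol

/-- An element of odd order equal to its inverse is trivial. -/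
theorem eq_one_of_eq_inv_of_odd {x : G} (hodd : Odd (orderOf x)) (h : x = x⁻¹) : x = 1 := by
  have h2 : x ^ 2 = 1 := by rw [pow_two]; nth_rewrite 2 [h]; exact mul_inv_cancel x
  have hd : orderOf x ∣ 2 := orderOf_dvd_of_pow_eq_one h2
  rw [← orderOf_eq_one_iff]
  rcases (Nat.dvd_prime Nat.prime_two).mp hd with h1 | h1
  · exact h1
  · rw [h1] at hodd; exact absurd hodd (by decide)

theorem PEl.odd_orderOf {p : ℕ} (hp : p.Prime) (hp2 : p ≠ 2) {x : G} (hx : PEl p x) :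
    Odd (orderOf x) := by
  obtain ⟨j, hj⟩ := hx.exists_orderOf hp
  rw [hj]
  exact Odd.pow (hp.odd_of_ne_two hp2)

end Cfsg.Agent.Lib.Helper2.S4017
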