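import Cfsg.Agent.Lib.Helper2.S4017F

/-! S4017, equality case, case AB: the counting argument. -/

namespace Cfsg.Agent.Lib.Helper2.S4017

open Subgroup Pointwise

universe u

variable {G : Type u} [Group G] [Finite G] {p a : ℕ} {Q : Sylow 2 G} {α : G}

omit [Finite G] in
/-- A `p`-element normalizing a finite set without fixed points: `p` divides the cardinality. -/
theorem dvd_card_of_no_fixed {p : ℕ} (hp : p.Prime) (S : Finset G) (g : G)
    (hS : ∀ x ∈ S, g * x * g⁻¹ ∈ S) (hg : PEl p g) (hnf : ∀ x ∈ S, g * x * g⁻¹ ≠ x) :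
    p ∣ S.card := by
  classical
  haveI : Fact p.Prime := ⟨hp⟩
  set σ := conjPerm S g hS with hσ
  obtain ⟨j, hj⟩ := conjPerm_orderOf hp S g hS hg
  have hH : IsPGroup p (Subgroup.zpowers σ) := by
    apply IsPGroup.of_card (n := j)
    rw [Nat.card_zpowers, hj]
  have hmod := hH.card_modEq_card_fixedPoints S
  haveI hempty : IsEmpty (MulAction.fixedPoints (Subgroup.zpowers σ) S) := by
    constructor
    rintro ⟨x, hx⟩
    have h1 := hx ⟨σ, Subgroup.mem_zpowers σ⟩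
    have h2 : σ x = x := h1
    have h3 := conjPerm_pow S g hS 1 x
    rw [pow_one, ← hσ, h2] at h3
    apply hnf x.1 x.2
    simpa using h3.symm
  have h0 : Nat.card (MulAction.fixedPoints (Subgroup.zpowers σ) S) = 0 := Nat.card_of_isEmpty
  rw [h0, Nat.card_eq_fintype_card, Fintype.card_coe] at hmod
  exact (Nat.modEq_zero_iff_dvd).mp hmod

omit [Finite G] in
theorem conj_inverts {c u x : G} (hcu : c * u = u * c) (hux : u * x * u⁻¹ = x⁻¹) :
    u * (c * x * c⁻¹) * u⁻¹ = (c * x * c⁻¹)⁻¹ := by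
  have hcuc : c * u * c⁻¹ = u := conj_eq_of_comm hcu
  calc u * (c * x * c⁻¹) * u⁻¹ = (c * u * c⁻¹) * (c * x * c⁻¹) * (c * u * c⁻¹)⁻¹ := by rw [hcuc]
    _ = c * (u * x * u⁻¹) * c⁻¹ := by group
    _ = c * x⁻¹ * c⁻¹ := by rw [hux]
    _ = (c * x * c⁻¹)⁻¹ := by group

namespace Cfg

variable (h : Cfg G p a Q α) (hCA : CA G)

include h hCA

/-- a Sylow `p`-subgroup inverted by an involution is the centralizer of each of its
nontrivial elements. -/
theorem mem_sylow_iff_comm (P : Sylow p G) {u : G} (hu : Inv u)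
    (hinv : ∀ z ∈ P, u * z * u⁻¹ = z⁻¹) {x : G} (hxP : x ∈ P) (hx1 : x ≠ 1) :
    ∀ g, g ∈ P ↔ g * x = x * g := by
  obtain ⟨P', hP'⟩ := h.cent_sylow hCA (PEl.of_mem P.isPGroup' hxP) hx1 hu (hinv x hxP)
  have hle : (P : Subgroup G) ≤ P' := fun g hg => (hP' g).mpr (h.ab P P.isPGroup' g hg x hxP)
  have heq : (P' : Subgroup G) = P := P.is_maximal' P'.isPGroup' hle
  intro g
  rw [← hP' g]
  constructor
  · intro hg; exact hle hg
  · intro hg
    have : g ∈ (P' : Subgroup G) := hg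
    rwa [heq] at this

/-- the centralizer of an involution `u` is transitive on the Sylow `p`-subgroups
normalized by `u`. -/
theorem exists_conj_sylow (P₁ P₂ : Sylow p G) {u : G} (hu : Inv u)
    (hN₁ : ∀ z ∈ P₁, u * z * u⁻¹ ∈ P₁) (hN₂ : ∀ z ∈ P₂, u * z * u⁻¹ ∈ P₂) :
    ∃ c, c * u = u * c ∧ ∀ y, y ∈ P₂ ↔ c⁻¹ * y * c ∈ P₁ := by
  haveI : Fact p.Prime := ⟨h.hp⟩
  obtain ⟨g, hg⟩ := MulAction.exists_smul_eq G P₁ P₂
  have hmem : ∀ y, y ∈ P₂ ↔ g⁻¹ * y * g ∈ P₁ := by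
    intro y; rw [← hg, mem_smul_sylow_iff]
  have hu'i : Inv (g⁻¹ * u * g) := by
    have := hu.conj g⁻¹
    rwa [inv_inv] at this
  have hN' : ∀ z ∈ P₁, (g⁻¹ * u * g) * z * (g⁻¹ * u * g)⁻¹ ∈ P₁ := by
    intro z hz
    have h1 : g * z * g⁻¹ ∈ P₂ := by
      rw [hmem]
      have : g⁻¹ * (g * z * g⁻¹) * g = z := by group
      rw [this]; exact hz
    have h2 := hN₂ _ h1
    rw [hmem] at h2
    have e : g⁻¹ * (u * (g * z * g⁻¹) * u⁻¹) * g = (g⁻¹ * u * g) * z * (g⁻¹ * u * g)⁻¹ := by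
      group
    rwa [e] at h2
  have hinv₁ := h.inverts_sylow hCA P₁ hu hN₁
  have hinv' := h.inverts_sylow hCA P₁ hu'i hN'
  have hz : PEl p (u * (g⁻¹ * u * g)) ∧ u * (g⁻¹ * u * g) ∈ P₁ := by
    by_cases hc : u * (g⁻¹ * u * g) = (g⁻¹ * u * g) * u
    · have := h.inv_eq_of_comm_of_normalize hCA P₁ hu hu'i hN₁ hN' hc
      rw [← this, hu.2]
      exact ⟨⟨0, by simp⟩, (P₁ : Subgroup G).one_mem⟩
    · obtain ⟨hzp, -⟩ := h.prod_pel hCA hu hu'i hc
      refine ⟨hzp, pel_mem_sylow P₁ hzp ?_⟩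
      intro y hy
      have e : u * (g⁻¹ * u * g) * y * (u * (g⁻¹ * u * g))⁻¹ =
          u * ((g⁻¹ * u * g) * y * (g⁻¹ * u * g)⁻¹) * u⁻¹ := by group
      rw [e, hinv' y hy, hinv₁ _ ((P₁ : Subgroup G).inv_mem hy), inv_inv]; exact hy
  obtain ⟨hzp, hzP⟩ := hz
  obtain ⟨k, hk⟩ := hzp.odd_orderOf h.hp h.p_ne_two
  have hvv : (u * (g⁻¹ * u * g)) ^ (k + 1) * (u * (g⁻¹ * u * g)) ^ (k + 1) =
      u * (g⁻¹ * u * g) := by
    rw [← pow_add]
    have : k + 1 + (k + 1) = orderOf (u * (g⁻¹ * u * g)) + 1 := by omega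
    rw [this, pow_succ, pow_orderOf_eq_one, one_mul]
  have hvP : (u * (g⁻¹ * u * g)) ^ (k + 1) ∈ P₁ := (P₁ : Subgroup G).pow_mem hzP _
  generalize (u * (g⁻¹ * u * g)) ^ (k + 1) = v at hvv hvP
  refine ⟨g * v⁻¹, ?_, ?_⟩
  · apply comm_of_conj_eq
    have h1 : u * v * u⁻¹ = v⁻¹ := hinv₁ v hvP
    have h2 : v⁻¹ * u = u * v := by rw [← h1]; group
    have h3 : v⁻¹ * u * v = g⁻¹ * u * g := by
      rw [h2, mul_assoc, hvv, ← mul_assoc, hu.2, one_mul]
    calc g * v⁻¹ * u * (g * v⁻¹)⁻¹ = g * (v⁻¹ * u * v) * g⁻¹ := by group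
      _ = g * (g⁻¹ * u * g) * g⁻¹ := by rw [h3]
      _ = u := by group
  · intro y
    rw [hmem]
    have e : (g * v⁻¹)⁻¹ * y * (g * v⁻¹) = v * (g⁻¹ * y * g) * v⁻¹ := by group
    rw [e]
    constructor
    · intro hy
      exact (P₁ : Subgroup G).mul_mem ((P₁ : Subgroup G).mul_mem hvP hy)
        ((P₁ : Subgroup G).inv_mem hvP)
    · intro hy
      have : g⁻¹ * y * g = v⁻¹ * (v * (g⁻¹ * y * g) * v⁻¹) * v := by group
      rw [this]
      exact (P₁ : Subgroup G).mul_mem ((P₁ : Subgroup G).mul_mem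
        ((P₁ : Subgroup G).inv_mem hvP) hy) hvP

/-- **Case AB is impossible.** -/
theorem caseAB_false : False := by
  classical
  haveI : Fact p.Prime := ⟨h.hp⟩
  haveI := Fintype.ofFinite G
  obtain ⟨u, s₀, hu, hs₀, hne₀⟩ := h.exists_noncomm
  obtain ⟨hx₀p, hx₀1⟩ := h.prod_pel hCA hu hs₀ hne₀
  have hux₀ : u * (u * s₀) * u⁻¹ = (u * s₀)⁻¹ := TwoInv.conj_left hu.2 hs₀.2
  obtain ⟨P₁, hP₁⟩ := h.cent_sylow hCA hx₀p hx₀1 hu hux₀
  have hN₁ : ∀ z ∈ P₁, u * z * u⁻¹ ∈ P₁ := fun z hz =>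
    (hP₁ _).mpr (conj_comm_of_inverts hux₀ ((hP₁ z).mp hz))
  have hinv₁ := h.inverts_sylow hCA P₁ hu hN₁
  have hx₀P : u * s₀ ∈ P₁ := (hP₁ _).mpr rfl
  obtain ⟨Q', α', h', huQ⟩ := h.exists_cfg_of_inv hu
  have hcentQ : ∀ g, g * u = u * g → g ∈ Q' := fun g hg => h'.mem_of_comm hCA huQ hu.1 hg
  set T : Finset G := Finset.univ.filter (fun s => Inv s ∧ s ∉ Q') with hT
  set X : Finset G := Finset.univ.filter (fun x => x ≠ 1 ∧ PEl p x ∧ u * x * u⁻¹ = x⁻¹) with hX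
  have hmemT : ∀ s, s ∈ T ↔ Inv s ∧ s ∉ Q' := by intro s; simp [hT]
  have hmemX : ∀ x, x ∈ X ↔ x ≠ 1 ∧ PEl p x ∧ u * x * u⁻¹ = x⁻¹ := by intro x; simp [hX]
  -- `p ∣ |T|`
  have hpT : p ∣ T.card := by
    apply dvd_card_of_no_fixed h.hp T α' ?_ h'.hαp ?_
    · intro s hs
      rw [hmemT] at hs ⊢
      refine ⟨hs.1.conj α', fun hmem => hs.2 ?_⟩
      have := h'.αinv_N _ hmem
      have e : α'⁻¹ * (α' * s * α'⁻¹) * α' = s := by group
      rwa [e] at this
    · intro s hs hfix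
      rw [hmemT] at hs
      have hcomm : α' * s = s * α' := comm_of_conj_eq hfix
      exact h'.α_ne_one (h.pel_comm_inv_eq_one hCA h'.hαp hs.1 hcomm)
  -- `|T| = |X|`
  have hTX : T.card = X.card := by
    apply Finset.card_bij' (fun s _ => u * s) (fun x _ => u * x)
    · intro s hs
      rw [hmemT] at hs
      rw [hmemX]
      have hne : u * s ≠ s * u := fun hc => hs.2 (hcentQ s hc.symm)
      obtain ⟨hp1, hp2⟩ := h.prod_pel hCA hu hs.1 hne
      exact ⟨hp2, hp1, TwoInv.conj_left hu.2 hs.1.2⟩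
    · intro x hx
      rw [hmemX] at hx
      rw [hmemT]
      obtain ⟨hx1, hxp, hux⟩ := hx
      refine ⟨⟨?_, ?_⟩, ?_⟩
      · intro h1
        have : x = u := by rw [eq_inv_of_mul_eq_one_right h1, hu.inv_eq]
        rw [this] at hxp
        exact hu.1 (h.eq_one_of_pel_of_pel2 hxp hu.pel)
      · calc u * x * (u * x) = (u * x * u⁻¹) * (u * u) * x := by group
          _ = 1 := by rw [hux, hu.2, mul_one, inv_mul_cancel]
      · intro hmem
        have hxQ : x ∈ Q' := by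
          have : x = u⁻¹ * (u * x) := by group
          rw [this]
          exact (Q' : Subgroup G).mul_mem ((Q' : Subgroup G).inv_mem huQ) hmem
        exact hx1 (h.eq_one_of_pel_of_pel2 hxp (PEl.of_mem Q_isPGroup hxQ))
    · intro s _
      show u * (u * s) = s
      rw [← mul_assoc, hu.2, one_mul]
    · intro x _
      show u * (u * x) = x
      rw [← mul_assoc, hu.2, one_mul]
  -- the fibration
  set Qf : Finset G := Finset.univ.filter (fun c => c ∈ Q') with hQf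
  set Pf : Finset G := (Finset.univ.filter (fun x => x ∈ P₁)).erase 1 with hPf
  have hmemQf : ∀ c, c ∈ Qf ↔ c ∈ Q' := by intro c; simp [hQf]
  have hmemPf : ∀ x, x ∈ Pf ↔ x ≠ 1 ∧ x ∈ P₁ := by intro x; simp [hPf]
  set B : Finset (G × G) := Qf ×ˢ Pf with hB
  set φ : G × G → G := fun cx => cx.1 * cx.2 * cx.1⁻¹ with hφ
  have hmaps : (B : Set (G × G)).MapsTo φ X := by
    intro cx hcx
    have hcx' := Finset.mem_product.mp (Finset.mem_coe.mp hcx)
    have hc : cx.1 ∈ Q' := (hmemQf _).mp hcx'.1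
    obtain ⟨hx1, hxP⟩ := (hmemPf _).mp hcx'.2
    rw [Finset.mem_coe, hmemX]
    have hcu : cx.1 * u = u * cx.1 := h'.Q_comm _ hc u huQ
    refine ⟨?_, (PEl.of_mem P₁.isPGroup' hxP).conj _, conj_inverts hcu (hinv₁ _ hxP)⟩
    intro h1
    apply hx1
    have : cx.2 = cx.1⁻¹ * (cx.1 * cx.2 * cx.1⁻¹) * cx.1 := by group
    rw [this]
    have h1' : cx.1 * cx.2 * cx.1⁻¹ = 1 := h1
    rw [h1']; group
  have hfib : ∀ b ∈ X, (B.filter (fun cx => φ cx = b)).card = 2 := by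
    intro b hb
    rw [hmemX] at hb
    obtain ⟨hb1, hbp, hub⟩ := hb
    obtain ⟨P_b, hP_b⟩ := h.cent_sylow hCA hbp hb1 hu hub
    have hN_b : ∀ z ∈ P_b, u * z * u⁻¹ ∈ P_b := fun z hz =>
      (hP_b _).mpr (conj_comm_of_inverts hub ((hP_b z).mp hz))
    obtain ⟨c, hcu, hcP⟩ := h.exists_conj_sylow hCA P₁ P_b hu hN₁ hN_b
    have hcQ : c ∈ Q' := hcentQ c hcu
    have hbP : b ∈ P_b := (hP_b b).mpr rfl
    have hxP : c⁻¹ * b * c ∈ P₁ := (hcP b).mp hbP
    have hx1 : c⁻¹ * b * c ≠ 1 := by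
      intro h1; apply hb1
      have : b = c * (c⁻¹ * b * c) * c⁻¹ := by group
      rw [this, h1]; group
    have hcx : c * (c⁻¹ * b * c) * c⁻¹ = b := by group
    generalize c⁻¹ * b * c = x at hxP hx1 hcx
    have hfiber : B.filter (fun cx => φ cx = b) = {(c, x), (c * u, x⁻¹)} := by
      ext ⟨c', x'⟩
      simp only [Finset.mem_filter, Finset.mem_insert, Finset.mem_singleton, Prod.mk.injEq]
      constructor
      · rintro ⟨hmem, hφ'⟩
        have hmem' := Finset.mem_product.mp hmem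
        have hc'Q : c' ∈ Q' := (hmemQf _).mp hmem'.1
        obtain ⟨hx'1, hx'P⟩ := (hmemPf _).mp hmem'.2
        have hφ'' : c' * x' * c'⁻¹ = b := hφ'
        have hdQ : c⁻¹ * c' ∈ Q' :=
          (Q' : Subgroup G).mul_mem ((Q' : Subgroup G).inv_mem hcQ) hc'Q
        have hdx : (c⁻¹ * c') * x' * (c⁻¹ * c')⁻¹ = x := by
          have : x = c⁻¹ * (c * x * c⁻¹) * c := by group
          rw [this, hcx, ← hφ'']; group
        have hc'eq : c' = c * (c⁻¹ * c') := by group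
        generalize c⁻¹ * c' = d at hdQ hdx hc'eq
        have hmem1 := h.mem_sylow_iff_comm hCA P₁ hu hinv₁ hxP hx1
        have hmem2 := h.mem_sylow_iff_comm hCA P₁ hu hinv₁ hx'P hx'1
        have hdN : ∀ z ∈ P₁, d * z * d⁻¹ ∈ P₁ := by
          intro z hz
          rw [hmem1, ← hdx]
          exact conj_comm d ((hmem2 z).mp hz)
        by_cases hd1 : d = 1
        · left
          refine ⟨by rw [hc'eq, hd1, mul_one], ?_⟩
          rw [← hdx, hd1]; group
        · right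
          have hdi : Inv d := h'.inv_of_mem_Q hdQ hd1
          have hdu : d * u = u * d := h'.Q_comm d hdQ u huQ
          have hdeq : d = u := h.inv_eq_of_comm_of_normalize hCA P₁ hdi hu hdN hN₁ hdu
          refine ⟨by rw [hc'eq, hdeq], ?_⟩
          have hx' : x' = d⁻¹ * x * d := by rw [← hdx]; group
          rw [hx', hdeq]
          have := hinv₁ x hxP
          rw [hu.inv_eq] at this ⊢
          exact this
      · rintro (⟨rfl, rfl⟩ | ⟨rfl, rfl⟩)
        · exact ⟨Finset.mem_product.mpr ⟨(hmemQf _).mpr hcQ, (hmemPf _).mpr ⟨hx1, hxP⟩⟩, hcx⟩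
        · refine ⟨Finset.mem_product.mpr ⟨(hmemQf _).mpr ((Q' : Subgroup G).mul_mem hcQ huQ),
            (hmemPf _).mpr ⟨inv_ne_one.mpr hx1, (P₁ : Subgroup G).inv_mem hxP⟩⟩, ?_⟩
          show c * u * x⁻¹ * (c * u)⁻¹ = b
          calc c * u * x⁻¹ * (c * u)⁻¹ = c * (u * x⁻¹ * u⁻¹) * c⁻¹ := by group
            _ = c * x * c⁻¹ := by rw [inv_conj_of_inverts (hinv₁ x hxP)]
            _ = b := hcx
    rw [hfiber, Finset.card_pair]
    intro heq
    have h1 : c = c * u := congrArg Prod.fst heq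
    apply hu.1
    have := congrArg (c⁻¹ * ·) h1
    simpa using this.symm
  have hBcard : B.card = X.card * 2 := by
    rw [Finset.card_eq_sum_card_fiberwise hmaps]
    exact Finset.sum_const_nat hfib
  have hQfc : Qf.card = 2 ^ a := by
    rw [← h'.hQc, Nat.card_eq_fintype_card]
    exact (Fintype.card_of_subtype Qf hmemQf).symm
  have hPfc : Pf.card = Nat.card P₁ - 1 := by
    rw [hPf, Finset.card_erase_of_mem (by simp),
      Nat.card_eq_fintype_card]
    congr 1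
    exact (Fintype.card_of_subtype _ (fun x => by
      rw [Finset.mem_filter]
      exact ⟨fun h => h.2, fun h => ⟨Finset.mem_univ _, h⟩⟩)).symm
  obtain ⟨j, hj⟩ := IsPGroup.iff_card.mp P₁.isPGroup'
  have hj0 : j ≠ 0 := by
    rintro rfl
    rw [pow_zero] at hj
    have hbot : (P₁ : Subgroup G) = ⊥ := Subgroup.card_eq_one.mp hj
    have hx : u * s₀ ∈ (P₁ : Subgroup G) := hx₀P
    rw [hbot] at hx
    exact hx₀1 (Subgroup.mem_bot.mp hx)
  have hcard : 2 ^ a * (p ^ j - 1) = T.card * 2 := by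
    rw [hTX, ← hBcard, hB, Finset.card_product, hQfc, hPfc]
    congr 2
    exact hj.symm
  have h1 : p ∣ 2 ^ a * (p ^ j - 1) := by rw [hcard]; exact Dvd.dvd.mul_right hpT 2
  have hcop : Nat.Coprime p (2 ^ a) :=
    Nat.Coprime.pow_right a ((Nat.coprime_primes h.hp Nat.prime_two).mpr h.p_ne_two)
  have h2 : p ∣ p ^ j - 1 := hcop.dvd_of_dvd_mul_left h1
  have h3 : p ∣ (p ^ j - 1) + 1 := by
    rw [Nat.sub_add_cancel (Nat.pow_pos h.hp.pos)]
    exact dvd_pow_self p hj0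
  have h4 : p ∣ 1 := (Nat.dvd_add_right h2).mp h3
  exact h.hp.one_lt.ne' (Nat.dvd_one.mp h4)

end Cfg

end Cfsg.Agent.Lib.Helper2.S4017
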