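import Cfsg.Agent.Lib.Helper2.S4017A
import Cfsg.Agent.Lib.Helper2.Dihedral

/-! S4017, equality case: configuration and basic lemmas. -/

namespace Cfsg.Agent.Lib.Helper2.S4017

open Subgroup Pointwise

variable {G : Type*} [Group G]

/-- membership in a conjugate Sylow subgroup. -/
theorem mem_smul_sylow_iff {p : ℕ} (P : Sylow p G) (g x : G) :
    x ∈ (g • P : Sylow p G) ↔ g⁻¹ * x * g ∈ P := by
  show x ∈ ((g • P : Sylow p G) : Subgroup G) ↔ _
  rw [Sylow.coe_subgroup_smul, Subgroup.mem_pointwise_smul_iff_inv_smul_mem]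
  simp only [MulAut.smul_def, MulAut.conj_inv_apply]
  exact Iff.rfl

/-- involution -/
def Inv (t : G) : Prop := t ≠ 1 ∧ t * t = 1

theorem Inv.conj {t : G} (ht : Inv t) (g : G) : Inv (g * t * g⁻¹) := by
  refine ⟨?_, ?_⟩
  · intro h
    apply ht.1
    have : t = g⁻¹ * (g * t * g⁻¹) * g := by group
    rw [this, h]; group
  · have : g * t * g⁻¹ * (g * t * g⁻¹) = g * (t * t) * g⁻¹ := by group
    rw [this, ht.2]; group

theorem Inv.inv_eq {t : G} (ht : Inv t) : t⁻¹ = t := inv_eq_of_mul_eq_one_left ht.2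

theorem Inv.orderOf {t : G} (ht : Inv t) : _root_.orderOf t = 2 := by
  apply orderOf_eq_prime
  · rw [pow_two]; exact ht.2
  · exact ht.1

theorem Inv.pel {t : G} (ht : Inv t) : PEl 2 t := ⟨1, by rw [pow_one, pow_two]; exact ht.2⟩

theorem Inv.two_dvd [Finite G] {t : G} (ht : Inv t) {H : Subgroup G} (h : t ∈ H) :
    2 ∣ Nat.card H := by
  rw [← ht.orderOf]; exact Subgroup.orderOf_dvd_natCard H h

/-- The configuration of the equality case. -/
structure Cfg (G : Type*) [Group G] [Finite G] (p a : ℕ) (Q : Sylow 2 G) (α : G) : Prop where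
  hp : p.Prime
  hpa : p + 1 = 2 ^ a
  ha : 2 ≤ a
  hQc : Nat.card Q = 2 ^ a
  hQe : ∀ x ∈ Q, x * x = 1
  hαp : PEl p α
  hαN : ∀ x ∈ Q, α * x * α⁻¹ ∈ Q
  htr : ∀ x ∈ Q, x ≠ 1 → ∀ y ∈ Q, y ≠ 1 → ∃ k : ℕ, α ^ k * x * (α ^ k)⁻¹ = y
  star : ∀ H : Subgroup G, H ≠ ⊤ → 2 ∣ Nat.card H →
    ∀ r : ℕ, r.Prime → r ∣ Nat.card H → r = 2 ∨ r = p
  ab : ∀ P : Subgroup G, IsPGroup p P → ∀ x ∈ P, ∀ y ∈ P, x * y = y * x
  O2 : ∀ N : Subgroup G, N.Normal → IsPGroup 2 N → N = ⊥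
  third : ∃ r : ℕ, r.Prime ∧ r ∣ Nat.card G ∧ r ≠ 2 ∧ r ≠ p

namespace Cfg

variable [Finite G] {p a : ℕ} {Q : Sylow 2 G} {α : G} (h : Cfg G p a Q α)

include h

theorem four_le : 4 ≤ 2 ^ a := by
  calc 4 = 2 ^ 2 := by norm_num
    _ ≤ 2 ^ a := Nat.pow_le_pow_right (by norm_num) h.ha

theorem three_le : 3 ≤ p := by
  have := h.four_le; have := h.hpa; omega

theorem p_ne_two : p ≠ 2 := by
  have := h.three_le; omega

theorem p_odd : Odd p := h.hp.odd_of_ne_two h.p_ne_two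

/-- every `2`-element squares to one. -/
theorem two_el_sq {x : G} (hx : PEl 2 x) : x * x = 1 := by
  obtain ⟨S, hS⟩ := hx.zpowers.exists_le_sylow
  obtain ⟨g, hg⟩ := MulAction.exists_smul_eq G Q S
  have hxS : x ∈ S := hS (Subgroup.mem_zpowers x)
  rw [← hg, mem_smul_sylow_iff] at hxS
  have := h.hQe _ hxS
  have e : x * x = g * ((g⁻¹ * x * g) * (g⁻¹ * x * g)) * g⁻¹ := by group
  rw [e, this]; group

omit h in
theorem exists_conj_mem_Q {x : G} (hx : PEl 2 x) : ∃ g : G, g * x * g⁻¹ ∈ Q := by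
  obtain ⟨S, hS⟩ := hx.zpowers.exists_le_sylow
  obtain ⟨g, hg⟩ := MulAction.exists_smul_eq G Q S
  have hxS : x ∈ S := hS (Subgroup.mem_zpowers x)
  rw [← hg, mem_smul_sylow_iff] at hxS
  exact ⟨g⁻¹, by simpa using hxS⟩

/-- all involutions are conjugate. -/
theorem inv_conj {t u : G} (ht : Inv t) (hu : Inv u) : ∃ g : G, g * t * g⁻¹ = u := by
  obtain ⟨g₁, h₁⟩ := exists_conj_mem_Q (Q := Q) ht.pel
  obtain ⟨g₂, h₂⟩ := exists_conj_mem_Q (Q := Q) hu.pel
  obtain ⟨k, hk⟩ := h.htr _ h₁ (ht.conj g₁).1 _ h₂ (hu.conj g₂).1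
  refine ⟨g₂⁻¹ * α ^ k * g₁, ?_⟩
  have : g₂⁻¹ * α ^ k * g₁ * t * (g₂⁻¹ * α ^ k * g₁)⁻¹ =
      g₂⁻¹ * (α ^ k * (g₁ * t * g₁⁻¹) * (α ^ k)⁻¹) * g₂ := by group
  rw [this, hk]; group

omit [Finite G] h in
theorem Q_isPGroup : IsPGroup 2 (Q : Subgroup G) := Q.isPGroup'

open scoped Classical in
/-- the set `Q ∖ {1}` as a finset -/
noncomputable def QS (Q : Sylow 2 G) : Finset G :=
  (Set.toFinite ((Q : Subgroup G) : Set G)).toFinset.erase 1

omit h in
theorem mem_QS {x : G} : x ∈ QS Q ↔ x ≠ 1 ∧ x ∈ Q := by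
  simp [QS]

theorem card_QS : (QS Q).card = p := by
  classical
  have : (QS Q).card = Nat.card Q - 1 := by
    rw [QS, Finset.card_erase_of_mem (by simp),
      ← Set.ncard_eq_toFinset_card, ← Nat.card_coe_set_eq]
    rfl
  rw [this, h.hQc]; have := h.hpa; omega

/-- `Q` has an involution -/
theorem exists_inv_mem_Q : ∃ t ∈ Q, Inv t := by
  have hpos : 0 < (QS Q).card := by rw [h.card_QS]; exact h.hp.pos
  obtain ⟨t, ht⟩ := Finset.card_pos.mp hpos
  rw [mem_QS] at ht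
  exact ⟨t, ht.2, ht.1, h.hQe t ht.2⟩

omit [Finite G] h in
theorem inv_of_mem_Q' (hQe : ∀ x ∈ Q, x * x = 1) {t : G} (ht : t ∈ Q) (h1 : t ≠ 1) : Inv t :=
  ⟨h1, hQe t ht⟩

theorem inv_of_mem_Q {t : G} (ht : t ∈ Q) (h1 : t ≠ 1) : Inv t := ⟨h1, h.hQe t ht⟩

/-- a `p`-element normalizing `Q` and moving an element is transitive on `Q ∖ 1`. -/
theorem trans_of_moves {β : G} (hβ : PEl p β) (hβN : ∀ x ∈ Q, β * x * β⁻¹ ∈ Q)
    {x₀ : G} (hx₀ : x₀ ∈ Q) (hmv : β * x₀ * β⁻¹ ≠ x₀) :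
    ∀ x ∈ Q, x ≠ 1 → ∀ y ∈ Q, y ≠ 1 → ∃ k : ℕ, β ^ k * x * (β ^ k)⁻¹ = y := by
  have hS : ∀ x ∈ QS Q, β * x * β⁻¹ ∈ QS Q := by
    intro x hx
    rw [mem_QS] at hx ⊢
    refine ⟨?_, hβN x hx.2⟩
    intro h1
    apply hx.1
    have : x = β⁻¹ * (β * x * β⁻¹) * β := by group
    rw [this, h1]; group
  have hx₀1 : x₀ ≠ 1 := by
    rintro rfl; apply hmv; group
  have := conj_trans_of_card_eq h.hp (QS Q) β hS hβ h.card_QS x₀ (mem_QS.mpr ⟨hx₀1, hx₀⟩) hmv
  intro x hx hx1 y hy hy1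
  exact this x (mem_QS.mpr ⟨hx1, hx⟩) y (mem_QS.mpr ⟨hy1, hy⟩)

/-- a `p`-element normalizing `Q` and fixing a nontrivial element centralizes `Q`. -/
theorem fix_of_fix_one {β : G} (hβ : PEl p β) (hβN : ∀ x ∈ Q, β * x * β⁻¹ ∈ Q)
    {t : G} (ht : t ∈ Q) (ht1 : t ≠ 1) (hfix : β * t * β⁻¹ = t) :
    ∀ x ∈ Q, β * x * β⁻¹ = x := by
  classical
  have hS : ∀ x ∈ (QS Q).erase t, β * x * β⁻¹ ∈ (QS Q).erase t := by
    intro x hx
    rw [Finset.mem_erase, mem_QS] at hx ⊢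
    refine ⟨?_, ?_, hβN x hx.2.2⟩
    · intro h1
      apply hx.1
      have hfix' : β⁻¹ * t * β = t := by
        nth_rewrite 1 [← hfix]; group
      have : x = β⁻¹ * (β * x * β⁻¹) * β := by group
      rw [this, h1, hfix']
    · intro h1
      apply hx.2.1
      have : x = β⁻¹ * (β * x * β⁻¹) * β := by group
      rw [this, h1]; group
  have hcard : ((QS Q).erase t).card < p := by
    rw [Finset.card_erase_of_mem (mem_QS.mpr ⟨ht1, ht⟩), h.card_QS]
    have := h.hp.pos; omega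
  have := conj_fix_of_card_lt h.hp _ β hS hβ hcard
  intro x hx
  by_cases hx1 : x = 1
  · rw [hx1]; group
  · by_cases hxt : x = t
    · rw [hxt]; exact hfix
    · exact this x (by rw [Finset.mem_erase, mem_QS]; exact ⟨hxt, hx1, hx⟩)

/-- a `p`-element normalizing a proper subgroup of `Q` centralizes it. -/
theorem fix_of_lt {β : G} (hβ : PEl p β) {Q₁ : Subgroup G} (hQ₁ : Q₁ ≤ Q) (hne : Q₁ ≠ Q)
    (hβN : ∀ x ∈ Q₁, β * x * β⁻¹ ∈ Q₁) : ∀ x ∈ Q₁, β * x * β⁻¹ = x := by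
  classical
  set S : Finset G := (Set.toFinite (Q₁ : Set G)).toFinset.erase 1 with hSdef
  have hmem : ∀ x, x ∈ S ↔ x ≠ 1 ∧ x ∈ Q₁ := by intro x; simp [hSdef]
  have hS : ∀ x ∈ S, β * x * β⁻¹ ∈ S := by
    intro x hx
    rw [hmem] at hx ⊢
    refine ⟨?_, hβN x hx.2⟩
    intro h1
    apply hx.1
    have : x = β⁻¹ * (β * x * β⁻¹) * β := by group
    rw [this, h1]; group
  have hcS : S.card = Nat.card Q₁ - 1 := by
    rw [hSdef, Finset.card_erase_of_mem (by simp [Q₁.one_mem]), ← Set.ncard_eq_toFinset_card,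
      ← Nat.card_coe_set_eq]
    rfl
  have hQ₁2 : IsPGroup 2 Q₁ := (Q_isPGroup (Q := Q)).to_le hQ₁
  obtain ⟨b, hb⟩ := IsPGroup.iff_card.mp hQ₁2
  have hba : b < a := by
    by_contra hge
    push Not at hge
    apply hne
    apply Subgroup.eq_of_le_of_card_ge hQ₁
    rw [h.hQc, hb]
    exact Nat.pow_le_pow_right (by norm_num) hge
  have hcard : S.card < p := by
    rw [hcS, hb]
    have h1 : 2 ^ b < 2 ^ a := Nat.pow_lt_pow_right (by norm_num) hba
    have := h.hpa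
    have : 0 < 2 ^ b := Nat.pow_pos (by norm_num)
    omega
  have := conj_fix_of_card_lt h.hp S β hS hβ hcard
  intro x hx
  by_cases hx1 : x = 1
  · rw [hx1]; group
  · exact this x ((hmem x).mpr ⟨hx1, hx⟩)

/-- `α` moves every nontrivial element of `Q`. -/
theorem α_moves {t : G} (ht : t ∈ Q) (ht1 : t ≠ 1) : α * t * α⁻¹ ≠ t := by
  intro hfix
  have hall := h.fix_of_fix_one h.hαp h.hαN ht ht1 hfix
  -- pick another element of `Q ∖ 1`
  have hcard : 1 < (QS Q).card := by rw [h.card_QS]; have := h.three_le; omega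
  obtain ⟨u, hu, hut⟩ := Finset.exists_mem_ne hcard t
  rw [mem_QS] at hu
  obtain ⟨k, hk⟩ := h.htr t ht ht1 u hu.2 hu.1
  apply hut
  rw [← hk]
  have : ∀ n : ℕ, α ^ n * t * (α ^ n)⁻¹ = t := by
    intro n
    induction n with
    | zero => simp
    | succ n ih =>
      have e : α ^ (n + 1) * t * (α ^ (n + 1))⁻¹ = α * (α ^ n * t * (α ^ n)⁻¹) * α⁻¹ := by
        rw [pow_succ']; group
      rw [e, ih, hfix]
  exact this k

theorem α_ne_one : α ≠ 1 := by
  obtain ⟨t, ht, hti⟩ := h.exists_inv_mem_Q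
  intro h1
  apply h.α_moves ht hti.1
  rw [h1]; group

/-- the centralizer of an involution is a proper subgroup. -/
theorem centralizer_inv_ne_top {t : G} (ht : Inv t) : Subgroup.centralizer ({t} : Set G) ≠ ⊤ := by
  intro htop
  have hcen : ∀ g : G, g * t = t * g := by
    intro g
    have : g ∈ Subgroup.centralizer ({t} : Set G) := htop ▸ Subgroup.mem_top g
    exact (Subgroup.mem_centralizer_iff.mp this t rfl).symm
  have hnorm : (Subgroup.zpowers t).Normal := by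
    constructor
    intro x hx g
    obtain ⟨n, rfl⟩ := Subgroup.mem_zpowers_iff.mp hx
    have : g * t ^ n * g⁻¹ = t ^ n := by
      have hc : Commute g t := hcen g
      have := hc.zpow_right n
      rw [this.eq]; group
    rw [this]; exact Subgroup.zpow_mem_zpowers t n
  have := h.O2 _ hnorm ht.pel.zpowers
  apply ht.1
  have hm : t ∈ Subgroup.zpowers t := Subgroup.mem_zpowers t
  rw [this] at hm
  exact Subgroup.mem_bot.mp hm

/-- elements of odd order in a proper subgroup of even order are `p`-elements. -/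
theorem pel_of_odd_of_mem {H : Subgroup G} (hH : H ≠ ⊤) (h2 : 2 ∣ Nat.card H) {x : G}
    (hx : x ∈ H) (hodd : Odd (_root_.orderOf x)) : PEl p x := by
  have hd : _root_.orderOf x ∣ Nat.card H := Subgroup.orderOf_dvd_natCard H hx
  have h0 : _root_.orderOf x ≠ 0 := (orderOf_pos x).ne'
  have := Nat.eq_prime_pow_of_unique_prime_dvd h0 (p := p) (by
    intro d hd' hdg
    rcases h.star H hH h2 d hd' (dvd_trans hdg hd) with h' | h'
    · exfalso
      rw [h'] at hdg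
      exact (Nat.not_even_iff_odd.mpr hodd) (even_iff_two_dvd.mpr hdg)
    · exact h')
  exact PEl.of_orderOf this

/-- elements of a proper subgroup of even order have `{2,p}`-order. -/
theorem order_of_mem {H : Subgroup G} (hH : H ≠ ⊤) (h2 : 2 ∣ Nat.card H) {x : G}
    (hx : x ∈ H) : ∀ r : ℕ, r.Prime → r ∣ _root_.orderOf x → r = 2 ∨ r = p := by
  intro r hr hrx
  exact h.star H hH h2 r hr (dvd_trans hrx (Subgroup.orderOf_dvd_natCard H hx))

open TwoInv in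
/-- two involutions do not generate `G`. -/
theorem closure_inv_ne_top {t u : G} (ht : Inv t) (hu : Inv u) :
    Subgroup.closure ({t, u} : Set G) ≠ ⊤ := by
  intro htop
  have hmem : ∀ d : G, (∃ k : ℤ, d = (t * u) ^ k) ∨ (∃ k : ℤ, d = (t * u) ^ k * t) := by
    intro d
    exact (mem_closure_iff ht.2 hu.2 d).mp (htop ▸ Subgroup.mem_top d)
  -- `α` is a rotation
  have hα : ∃ k : ℤ, α = (t * u) ^ k := by
    rcases hmem α with hk | ⟨k, hk⟩
    · exact hk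
    · exfalso
      have hsq : α * α = 1 := by rw [hk]; exact refl_sq ht.2 hu.2 k
      have h2 : PEl 2 α := ⟨1, by rw [pow_one, pow_two]; exact hsq⟩
      exact h.α_ne_one (PEl.eq_one h.hp Nat.prime_two h.p_ne_two h.hαp h2)
  obtain ⟨k, hk⟩ := hα
  -- no nontrivial element of `Q` is a rotation
  have hnorot : ∀ s ∈ Q, s ≠ 1 → ¬ ∃ j : ℤ, s = (t * u) ^ j := by
    rintro s hs hs1 ⟨j, hj⟩
    apply h.α_moves hs hs1
    rw [hk, hj, ← zpow_add, ← zpow_neg, ← zpow_add]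
    congr 1; ring
  have hcard : 1 < (QS Q).card := by rw [h.card_QS]; have := h.three_le; omega
  obtain ⟨s₁, hs₁⟩ := Finset.card_pos.mp (by omega : 0 < (QS Q).card)
  obtain ⟨s₂, hs₂, hne⟩ := Finset.exists_mem_ne hcard s₁
  rw [mem_QS] at hs₁ hs₂
  have hr₁ : ∃ j : ℤ, s₁ = (t * u) ^ j * t := by
    rcases hmem s₁ with hj | hj
    · exact absurd hj (hnorot s₁ hs₁.2 hs₁.1)
    · exact hj
  have hr₂ : ∃ j : ℤ, s₂ = (t * u) ^ j * t := by
    rcases hmem s₂ with hj | hj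
    · exact absurd hj (hnorot s₂ hs₂.2 hs₂.1)
    · exact hj
  obtain ⟨j₁, hj₁⟩ := hr₁
  obtain ⟨j₂, hj₂⟩ := hr₂
  have hprod : s₂ * s₁ ∈ Q := (Q : Subgroup G).mul_mem hs₂.2 hs₁.2
  have hprod1 : s₂ * s₁ ≠ 1 := by
    intro h1
    apply hne
    have hs₁inv : s₁⁻¹ = s₁ := inv_eq_of_mul_eq_one_left (h.hQe s₁ hs₁.2)
    rw [← hs₁inv]
    exact eq_inv_of_mul_eq_one_left h1
  apply hnorot _ hprod hprod1
  refine ⟨j₂ - j₁, ?_⟩
  rw [hj₁, hj₂, mul_assoc, ← mul_assoc t, mul_zpow_left ht.2 hu.2, mul_assoc _ t t, ht.2, mul_one,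
    ← zpow_add, sub_eq_add_neg]

/-- the product of two involutions has `{2,p}`-order. -/
theorem orderOf_mul_inv {t u : G} (ht : Inv t) (hu : Inv u) :
    ∀ r : ℕ, r.Prime → r ∣ _root_.orderOf (t * u) → r = 2 ∨ r = p := by
  have hH := h.closure_inv_ne_top ht hu
  have h2 : 2 ∣ Nat.card (Subgroup.closure ({t, u} : Set G)) := ht.two_dvd TwoInv.x_mem
  exact h.order_of_mem hH h2 TwoInv.u_mem

end Cfg

/-- a number all of whose prime factors are `2` or `p` is `2 ^ i * p ^ j`. -/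
theorem exists_two_prime_pow (p : ℕ) :
    ∀ n : ℕ, n ≠ 0 → (∀ r : ℕ, r.Prime → r ∣ n → r = 2 ∨ r = p) → ∃ i j : ℕ, n = 2 ^ i * p ^ j := by
  intro n
  induction n using Nat.strong_induction_on with
  | _ n ih =>
  intro hn0 hpr
  by_cases h1 : n = 1
  · exact ⟨0, 0, by simp [h1]⟩
  · obtain ⟨r, hr, hrn⟩ := Nat.exists_prime_and_dvd h1
    obtain ⟨m, hm⟩ := hrn
    have hm0 : m ≠ 0 := by rintro rfl; simp at hm; exact hn0 hm
    have hmlt : m < n := by
      rw [hm]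
      have := hr.two_le
      nlinarith [Nat.pos_of_ne_zero hm0]
    obtain ⟨i, j, hij⟩ := ih m hmlt hm0 (fun r' hr' hr'm => hpr r' hr' (hm ▸ Dvd.dvd.mul_left hr'm r))
    rcases hpr r hr ⟨m, hm⟩ with h2 | hp'
    · exact ⟨i + 1, j, by rw [hm, hij, h2]; ring⟩
    · exact ⟨i, j + 1, by rw [hm, hij, hp']; ring⟩

end Cfsg.Agent.Lib.Helper2.S4017
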