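import Cfsg.Agent.Lib.Helper2.S4017B
import Cfsg.Agent.Lib.Helper2.BurnsidePQ
import Cfsg.Agent.Lib.Helper1.Fitting
import Cfsg.Agent.S0071

/-! S4017, equality case: the dichotomy for proper subgroups containing `Q`, and `O_p(G) = 1`. -/

namespace Cfsg.Agent.Lib.Helper2.S4017

open Subgroup Cfsg.Agent.Lib.Helper1

universe u

variable {G : Type u} [Group G] [Finite G] {p a : ℕ} {Q : Sylow 2 G} {α : G}

namespace Cfg

variable (h : Cfg G p a Q α)

include h

theorem two_dvd_of_Q_le {M : Subgroup G} (hQM : (Q : Subgroup G) ≤ M) : 2 ∣ Nat.card M := by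
  have h1 : Nat.card Q ∣ Nat.card M := Subgroup.card_dvd_of_le hQM
  rw [h.hQc] at h1
  exact dvd_trans (dvd_pow_self 2 (by have := h.ha; omega)) h1

theorem card_eq_two_pow_mul {M : Subgroup G} (hM : M ≠ ⊤) (h2 : 2 ∣ Nat.card M) :
    ∃ i j : ℕ, Nat.card M = 2 ^ i * p ^ j :=
  exists_two_prime_pow p _ Nat.card_pos.ne' (h.star M hM h2)

/-- a subgroup generated by a normal `p`-subgroup and a `p`-element is a `p`-group; hence
a `p`-element centralizes every normal `p`-subgroup it normalizes (inside a subgroup `M`). -/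
theorem commute_of_normal_pgroup {M : Subgroup G} (F : Subgroup M) [F.Normal] (hF : IsPGroup p F)
    (β : M) (hβ : PEl p (β : G)) : ∀ f ∈ F, f * β = β * f := by
  haveI : Fact p.Prime := ⟨h.hp⟩
  intro f hf
  set K : Subgroup M := Subgroup.zpowers β ⊔ F with hK
  have hKp : IsPGroup p K := by
    obtain ⟨i, hi⟩ := IsPGroup.iff_card.mp hF
    have hβ' : PEl p β := by
      obtain ⟨k, hk⟩ := hβ
      exact ⟨k, Subtype.ext (by simpa using hk)⟩
    obtain ⟨j, hj⟩ := hβ'.exists_orderOf h.hp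
    have hd := card_sup_dvd_of_normal (Subgroup.zpowers β) F
    rw [Nat.card_zpowers, hj, hi, ← pow_add] at hd
    obtain ⟨k, -, hk⟩ := (Nat.dvd_prime_pow h.hp).mp hd
    exact IsPGroup.of_card hk
  have hK' : IsPGroup p (K.map M.subtype) :=
    hKp.of_equiv (K.equivMapOfInjective M.subtype M.subtype_injective)
  have hfK : (f : G) ∈ K.map M.subtype :=
    Subgroup.mem_map_of_mem _ (Subgroup.mem_sup_right hf)
  have hβK : (β : G) ∈ K.map M.subtype :=
    Subgroup.mem_map_of_mem _ (Subgroup.mem_sup_left (Subgroup.mem_zpowers β))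
  exact Subtype.ext (h.ab _ hK' _ hfK _ hβK)

/-- **Claim H**: a proper subgroup containing `Q` and a `p`-element acting nontrivially on `Q`
normalizes `Q`. -/
theorem le_normalizer_of_moves {M : Subgroup G} (hM : M ≠ ⊤) (hQM : (Q : Subgroup G) ≤ M)
    {β : G} (hβM : β ∈ M) (hβ : PEl p β) (hβN : ∀ x ∈ Q, β * x * β⁻¹ ∈ Q)
    {x₀ : G} (hx₀ : x₀ ∈ Q) (hmv : β * x₀ * β⁻¹ ≠ x₀) :
    ∀ g ∈ M, ∀ x ∈ Q, g * x * g⁻¹ ∈ Q := by
  haveI : Fact p.Prime := ⟨h.hp⟩
  have h2M := h.two_dvd_of_Q_le hQM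
  obtain ⟨i, j, hij⟩ := h.card_eq_two_pow_mul hM h2M
  haveI : Group.IsSolvable M :=
    isSolvable_of_card_eq_prime_pow_mul_prime_pow 2 p Nat.prime_two h.hp _ M rfl ⟨i, j, hij⟩
  set β' : M := ⟨β, hβM⟩ with hβ'
  by_cases hW : Cfsg.pPrimeCore p M = ⊥
  · exfalso
    have hcen := centralizer_pCore_le (G := M) p hW
    haveI hFn : (Cfsg.pCore p M).Normal := pCore_normal p
    have hFp : IsPGroup p (Cfsg.pCore p M) := pCore_isPGroup p
    have hβF : β' ∈ Cfsg.pCore p M := by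
      apply hcen
      rw [Subgroup.mem_centralizer_iff]
      intro f hf
      exact h.commute_of_normal_pgroup _ hFp β' hβ f hf
    apply hmv
    set c : G := β * x₀ * β⁻¹ * x₀⁻¹ with hc
    have hcQ : c ∈ Q := (Q : Subgroup G).mul_mem (hβN x₀ hx₀) ((Q : Subgroup G).inv_mem hx₀)
    set x' : M := ⟨x₀, hQM hx₀⟩ with hx'
    have hcF : β' * (x' * β'⁻¹ * x'⁻¹) ∈ Cfsg.pCore p M :=
      (Cfsg.pCore p M).mul_mem hβF (hFn.conj_mem _ ((Cfsg.pCore p M).inv_mem hβF) x')
    have hcp : PEl p c := by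
      have := PEl.of_mem hFp hcF
      obtain ⟨k, hk⟩ := this
      refine ⟨k, ?_⟩
      have e : c = ((β' * (x' * β'⁻¹ * x'⁻¹) : M) : G) := by
        simp only [hc, hβ', hx', Subgroup.coe_mul, Subgroup.coe_inv]; group
      rw [e, ← Subgroup.coe_pow, hk]; rfl
    have hc2 : PEl 2 c := PEl.of_mem Q_isPGroup hcQ
    have hc1 : c = 1 := PEl.eq_one h.hp Nat.prime_two h.p_ne_two hcp hc2
    have : β * x₀ * β⁻¹ = c * x₀ := by rw [hc]; group
    rw [this, hc1, one_mul]
  · set W : Subgroup M := Cfsg.pPrimeCore p M with hWdef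
    haveI hWn : W.Normal := pPrimeCore_normal p
    have hWc : (Nat.card W).Coprime p := pPrimeCore_coprime p
    have hW2 : IsPGroup 2 W := by
      have hd : Nat.card W ∣ 2 ^ i * p ^ j := hij ▸ Subgroup.card_subgroup_dvd_card W
      have hd' : Nat.card W ∣ 2 ^ i :=
        (Nat.Coprime.dvd_mul_right (Nat.Coprime.pow_right j hWc)).mp hd
      obtain ⟨k, -, hk⟩ := (Nat.dvd_prime_pow Nat.prime_two).mp hd'
      exact IsPGroup.of_card hk
    have hWQ : ∀ w ∈ W, (w : G) ∈ Q := by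
      intro w hw
      have h1 : W ≤ Cfsg.pCore 2 M := le_pCore hWn hW2
      have h2 : Cfsg.pCore 2 M ≤ (Q.subtype hQM : Sylow 2 M) := pCore_le_sylow _
      have : w ∈ ((Q.subtype hQM : Sylow 2 M) : Subgroup M) := h2 (h1 hw)
      rw [Sylow.coe_subtype, Subgroup.mem_subgroupOf] at this
      exact this
    obtain ⟨⟨w₀, hw₀⟩, hw₀1'⟩ := (Subgroup.ne_bot_iff_exists_ne_one (H := W)).mp hW
    have hw₀1 : w₀ ≠ 1 := fun h1 => hw₀1' (Subtype.ext h1)
    have htr := h.trans_of_moves hβ hβN hx₀ hmv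
    have hw₀G : (w₀ : G) ≠ 1 := fun h1 => hw₀1 (Subtype.ext h1)
    have hall : ∀ y ∈ Q, ∃ w ∈ W, (w : G) = y := by
      intro y hy
      by_cases hy1 : y = 1
      · exact ⟨1, W.one_mem, by rw [hy1]; rfl⟩
      · obtain ⟨k, hk⟩ := htr _ (hWQ w₀ hw₀) hw₀G y hy hy1
        refine ⟨β' ^ k * w₀ * (β' ^ k)⁻¹, hWn.conj_mem _ hw₀ _, ?_⟩
        rw [← hk]; simp [hβ']
    intro g hg x hx
    obtain ⟨w, hw, rfl⟩ := hall x hx
    have := hWQ _ (hWn.conj_mem w hw ⟨g, hg⟩)
    simpa using this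

/-- a proper subgroup `M ≥ Q` in which `p`-elements normalizing `Q` centralize it has a normal
`2`-complement. -/
theorem exists_normal_complement {M : Subgroup G} (hM : M ≠ ⊤) (hQM : (Q : Subgroup G) ≤ M)
    (hcen : ∀ g ∈ M, PEl p g → (∀ x ∈ Q, g * x * g⁻¹ ∈ Q) → ∀ x ∈ Q, g * x * g⁻¹ = x) :
    ∃ Y : Subgroup G, Y ≤ M ∧ IsPGroup p Y ∧ (∀ g ∈ M, ∀ y ∈ Y, g * y * g⁻¹ ∈ Y) ∧
      (∀ x ∈ M, PEl p x → x ∈ Y) ∧ Nat.card M = Nat.card Y * 2 ^ a := by
  haveI : Fact p.Prime := ⟨h.hp⟩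
  have h2M := h.two_dvd_of_Q_le hQM
  set PM : Sylow 2 M := Q.subtype hQM with hPM
  have hPMmem : ∀ y : M, y ∈ PM ↔ (y : G) ∈ Q := by
    intro y
    show y ∈ ((Q.subtype hQM : Sylow 2 M) : Subgroup M) ↔ _
    rw [Sylow.coe_subtype, Subgroup.mem_subgroupOf]; rfl
  have hfrob := (Cfsg.Agent.S0071.result PM).mpr (by
    intro Q₁ hQ₁ g hgN hgcop
    set Q₁' : Subgroup G := Q₁.map M.subtype with hQ₁'
    have hQ₁'Q : Q₁' ≤ Q := by
      rintro x ⟨y, hy, rfl⟩
      exact (hPMmem y).mp (hQ₁ hy)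
    have hodd : Odd (orderOf (g : G)) := by
      rw [Subgroup.orderOf_coe]; exact Nat.coprime_two_right.mp hgcop
    have hgp : PEl p (g : G) := h.pel_of_odd_of_mem hM h2M g.2 hodd
    have hgN' : ∀ x ∈ Q₁', (g : G) * x * (g : G)⁻¹ ∈ Q₁' := by
      rintro x ⟨y, hy, rfl⟩
      exact ⟨g * y * g⁻¹, (Subgroup.mem_normalizer_iff.mp hgN y).mp hy, by simp⟩
    have hfix : ∀ x ∈ Q₁', (g : G) * x * (g : G)⁻¹ = x := by
      by_cases heq : Q₁' = Q
      · intro x hx
        have hgN'' : ∀ x ∈ Q, (g : G) * x * (g : G)⁻¹ ∈ Q := by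
          intro x hx
          have hx' : x ∈ Q₁' := by rw [heq]; exact hx
          have := hgN' x hx'
          rw [heq] at this
          exact this
        exact hcen g g.2 hgp hgN'' x (by rw [heq] at hx; exact hx)
      · exact h.fix_of_lt hgp hQ₁'Q heq hgN'
    rw [Subgroup.mem_centralizer_iff]
    intro y hy
    have := hfix y (Subgroup.mem_map_of_mem _ hy)
    apply Subtype.ext
    simp only [Subgroup.coe_mul]
    calc (y : G) * g = ((g : G) * y * (g : G)⁻¹) * g := by rw [this]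
      _ = g * y := by group)
  obtain ⟨N, hNn, hNP⟩ := hfrob
  have hcardN : Nat.card N * 2 ^ a = Nat.card M := by
    have := hNP.card_mul_card
    rw [← this]
    congr 1
    rw [hPM, Sylow.coe_subtype, Nat.card_congr (Subgroup.subgroupOfEquivOfLe hQM).toEquiv, h.hQc]
  have hNodd : ¬ 2 ∣ Nat.card N := by
    intro h2
    have hG0 : Nat.card G ≠ 0 := Nat.card_pos.ne'
    have ha : a = (Nat.card G).factorization 2 := by
      have := Q.card_eq_multiplicity
      rw [h.hQc] at this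
      exact Nat.pow_right_injective (le_refl 2) this
    have : 2 ^ ((Nat.card G).factorization 2 + 1) ∣ Nat.card G := by
      have h1 : 2 * 2 ^ a ∣ Nat.card N * 2 ^ a := Nat.mul_dvd_mul h2 dvd_rfl
      rw [hcardN] at h1
      rw [pow_succ, mul_comm, ← ha]
      exact dvd_trans h1 (Subgroup.card_subgroup_dvd_card M)
    exact Nat.pow_succ_factorization_not_dvd hG0 Nat.prime_two this
  have hNp : IsPGroup p N := by
    have h0 : Nat.card N ≠ 0 := Nat.card_pos.ne'
    have := Nat.eq_prime_pow_of_unique_prime_dvd h0 (p := p) (by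
      intro d hd hdN
      have hdM : d ∣ Nat.card M := dvd_trans hdN (Subgroup.card_subgroup_dvd_card N)
      rcases h.star M hM h2M d hd hdM with h' | h'
      · exact absurd (h' ▸ hdN) hNodd
      · exact h')
    exact IsPGroup.of_card this
  refine ⟨N.map M.subtype, Subgroup.map_subtype_le N,
    hNp.of_equiv (N.equivMapOfInjective M.subtype M.subtype_injective), ?_, ?_, ?_⟩
  · rintro g hg y ⟨n, hn, rfl⟩
    exact ⟨⟨g, hg⟩ * n * ⟨g, hg⟩⁻¹, hNn.conj_mem n hn _, by simp⟩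
  · intro x hx hxp
    refine ⟨⟨x, hx⟩, ?_, rfl⟩
    have hidx : N.index = 2 ^ a := by
      rw [hNP.symm.index_eq_card, hPM, Sylow.coe_subtype,
        Nat.card_congr (Subgroup.subgroupOfEquivOfLe hQM).toEquiv, h.hQc]
    obtain ⟨k, hk⟩ := hxp
    have h1 : orderOf (QuotientGroup.mk (⟨x, hx⟩ : M) : M ⧸ N) ∣ 2 ^ a := by
      rw [← hidx, Subgroup.index_eq_card]; exact orderOf_dvd_natCard _
    have h2 : orderOf (QuotientGroup.mk (⟨x, hx⟩ : M) : M ⧸ N) ∣ p ^ k := by
      apply orderOf_dvd_of_pow_eq_one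
      rw [← QuotientGroup.mk_pow]
      have : (⟨x, hx⟩ : M) ^ p ^ k = 1 := Subtype.ext (by simpa using hk)
      rw [this]; rfl
    have hcop : Nat.Coprime (2 ^ a) (p ^ k) :=
      Nat.Coprime.pow _ _ ((Nat.coprime_primes Nat.prime_two h.hp).mpr (Ne.symm h.p_ne_two))
    have h3 := Nat.eq_one_of_dvd_coprimes hcop h1 h2
    rw [orderOf_eq_one_iff] at h3
    exact (QuotientGroup.eq_one_iff _).mp h3
  · rw [Subgroup.card_map_of_injective M.subtype_injective, hcardN]

/-- a `p`-element commutes with every normal `p`-subgroup. -/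
theorem commute_of_normal_pgroup' (N : Subgroup G) [N.Normal] (hN : IsPGroup p N)
    (β : G) (hβ : PEl p β) : ∀ f ∈ N, f * β = β * f := by
  haveI : Fact p.Prime := ⟨h.hp⟩
  intro f hf
  set K : Subgroup G := Subgroup.zpowers β ⊔ N with hK
  have hKp : IsPGroup p K := by
    obtain ⟨i, hi⟩ := IsPGroup.iff_card.mp hN
    obtain ⟨j, hj⟩ := hβ.exists_orderOf h.hp
    have hd := card_sup_dvd_of_normal (Subgroup.zpowers β) N
    rw [Nat.card_zpowers, hj, hi, ← pow_add] at hd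
    obtain ⟨k, -, hk⟩ := (Nat.dvd_prime_pow h.hp).mp hd
    exact IsPGroup.of_card hk
  exact h.ab _ hKp _ (Subgroup.mem_sup_right hf) _ (Subgroup.mem_sup_left (Subgroup.mem_zpowers β))

theorem Q_ne_bot : (Q : Subgroup G) ≠ ⊥ := by
  obtain ⟨t, ht, hti⟩ := h.exists_inv_mem_Q
  intro hb
  have ht' : t ∈ (Q : Subgroup G) := ht
  rw [hb] at ht'
  exact hti.1 (Subgroup.mem_bot.mp ht')

theorem normalizer_Q_ne_top : Subgroup.normalizer ((Q : Subgroup G) : Set G) ≠ ⊤ := by
  intro htop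
  exact h.Q_ne_bot (h.O2 _ (Subgroup.normalizer_eq_top_iff.mp htop) Q_isPGroup)

/-- `O_p(G) = 1`. -/
theorem Op (N : Subgroup G) (hN : N.Normal) (hNp : IsPGroup p N) : N = ⊥ := by
  haveI : Fact p.Prime := ⟨h.hp⟩
  haveI := hN
  obtain ⟨r, hr, hrG, hr2, hrp⟩ := h.third
  -- the centralizer of `N` contains `α` and `Q`
  set C : Subgroup G := Subgroup.centralizer (N : Set G) with hC
  haveI hCn : C.Normal := Subgroup.normal_centralizer
  have hαC : α ∈ C := by
    rw [hC, Subgroup.mem_centralizer_iff]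
    intro f hf
    exact h.commute_of_normal_pgroup' N hNp α h.hαp f hf
  have hQC : (Q : Subgroup G) ≤ C := by
    obtain ⟨t, ht, hti⟩ := h.exists_inv_mem_Q
    set c : G := t * α * t⁻¹ * α⁻¹ with hc
    have hcC : c ∈ C := C.mul_mem (hCn.conj_mem α hαC t) (C.inv_mem hαC)
    have hcQ : c ∈ Q := by
      have : c = t * (α * t * α⁻¹)⁻¹ := by rw [hc]; group
      rw [this]
      exact (Q : Subgroup G).mul_mem ht ((Q : Subgroup G).inv_mem (h.hαN t ht))
    have hc1 : c ≠ 1 := by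
      intro h1
      apply h.α_moves ht hti.1
      have : α * t * α⁻¹ = c⁻¹ * t := by rw [hc]; group
      rw [this, h1]; group
    intro y hy
    by_cases hy1 : y = 1
    · rw [hy1]; exact C.one_mem
    · obtain ⟨k, hk⟩ := h.htr c hcQ hc1 y hy hy1
      rw [← hk]
      exact hCn.conj_mem c hcC _
  have hCtop : C = ⊤ := by
    by_contra hne
    have h2C := h.two_dvd_of_Q_le hQC
    have h2N := h.two_dvd_of_Q_le (Subgroup.le_normalizer (H := (Q : Subgroup G)))
    have hfrat : Subgroup.normalizer ((Q : Subgroup G) : Set G) ⊔ C = ⊤ :=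
      Sylow.normalizer_sup_eq_top' Q hQC
    have hd := card_sup_dvd_of_normal (Subgroup.normalizer ((Q : Subgroup G) : Set G)) C
    rw [hfrat, Subgroup.card_top] at hd
    rcases (Nat.Prime.dvd_mul hr).mp (dvd_trans hrG hd) with h' | h'
    · rcases h.star _ h.normalizer_Q_ne_top h2N r hr h' with e | e
      · exact hr2 e
      · exact hrp e
    · rcases h.star _ hne h2C r hr h' with e | e
      · exact hr2 e
      · exact hrp e
  by_contra hNne
  obtain ⟨⟨x, hxN⟩, hx1'⟩ := (Subgroup.ne_bot_iff_exists_ne_one (H := N)).mp hNne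
  have hx1 : x ≠ 1 := fun e => hx1' (Subtype.ext e)
  have hxcen : ∀ g : G, x * g = g * x := by
    intro g
    have : g ∈ C := hCtop ▸ Subgroup.mem_top g
    exact Subgroup.mem_centralizer_iff.mp this x hxN
  have hxp : PEl p x := PEl.of_mem hNp hxN
  obtain ⟨P, hP⟩ := hxp.zpowers.exists_le_sylow
  letI : CommGroup (P : Subgroup G) :=
    { (inferInstance : Group (P : Subgroup G)) with
      mul_comm := fun a b => Subtype.ext (h.ab _ P.isPGroup' a a.2 b b.2) }
  set ϕ : G →* (P : Subgroup G) := MonoidHom.transfer (MonoidHom.id (P : Subgroup G)) with hϕ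
  have key : ∀ (k : ℕ) (g₀ : G), g₀⁻¹ * x ^ k * g₀ ∈ (P : Subgroup G) →
      g₀⁻¹ * x ^ k * g₀ = x ^ k := by
    intro k g₀ _
    have hc : Commute x g₀ := hxcen g₀
    have := (hc.pow_left k).eq
    rw [mul_assoc, this]; group
  have htr := MonoidHom.transfer_eq_pow (MonoidHom.id (P : Subgroup G)) x key
  have hxK : ϕ x ≠ 1 := by
    rw [hϕ, htr]
    intro h1
    have h2 : x ^ (P : Subgroup G).index = 1 := by
      have := congrArg Subtype.val h1
      simpa using this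
    obtain ⟨j, hj⟩ := hxp.exists_orderOf h.hp
    have hj0 : j ≠ 0 := by
      rintro rfl
      rw [pow_zero, orderOf_eq_one_iff] at hj
      exact hx1 hj
    have : p ∣ (P : Subgroup G).index := by
      have h3 := orderOf_dvd_of_pow_eq_one h2
      rw [hj] at h3
      exact dvd_trans (dvd_pow_self p hj0) h3
    exact P.not_dvd_index this
  have hker : ∀ g : G, Nat.Coprime (orderOf g) p → g ∈ ϕ.ker := by
    intro g hg
    rw [MonoidHom.mem_ker, ← orderOf_eq_one_iff]
    have h1 : orderOf (ϕ g) ∣ orderOf g := orderOf_map_dvd ϕ g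
    obtain ⟨k, hk⟩ := P.isPGroup' (ϕ g)
    have h2 : orderOf (ϕ g) ∣ p ^ k := orderOf_dvd_of_pow_eq_one hk
    exact Nat.eq_one_of_dvd_coprimes (Nat.Coprime.pow_right k hg) h1 h2
  have hKtop : ϕ.ker ≠ ⊤ := by
    intro htop
    apply hxK
    have : x ∈ ϕ.ker := htop ▸ Subgroup.mem_top x
    exact MonoidHom.mem_ker.mp this
  obtain ⟨t, ht, hti⟩ := h.exists_inv_mem_Q
  have htK : t ∈ ϕ.ker := by
    apply hker
    rw [hti.orderOf]
    exact (Nat.coprime_primes Nat.prime_two h.hp).mpr (Ne.symm h.p_ne_two)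
  haveI : Fact r.Prime := ⟨hr⟩
  obtain ⟨y, hy⟩ := exists_prime_orderOf_dvd_card' r hrG
  have hyK : y ∈ ϕ.ker := by
    apply hker
    rw [hy]
    exact (Nat.coprime_primes hr h.hp).mpr hrp
  have hrK : r ∣ Nat.card ϕ.ker := by
    rw [← hy]; exact Subgroup.orderOf_dvd_natCard _ hyK
  rcases h.star _ hKtop (hti.two_dvd htK) r hr hrK with e | e
  · exact hr2 e
  · exact hrp e

end Cfg

end Cfsg.Agent.Lib.Helper2.S4017
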