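import Cfsg.Agent.Lib.Helper2.S4017C

/-! S4017, equality case: utilities (conjugate configurations, dichotomy, cores). -/

namespace Cfsg.Agent.Lib.Helper2.S4017

open Subgroup Pointwise

universe u

variable {G : Type u} [Group G] [Finite G] {p a : ℕ} {Q : Sylow 2 G} {α : G}

section general

omit [Finite G] in
theorem conj_mem_smul_sylow_iff {q : ℕ} (P : Sylow q G) (g x : G) :
    g * x * g⁻¹ ∈ (g • P : Sylow q G) ↔ x ∈ P := by
  rw [mem_smul_sylow_iff]
  have : g⁻¹ * (g * x * g⁻¹) * g = x := by group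
  rw [this]

omit [Finite G] in
theorem conj_pow_mem {H : Subgroup G} {x : G} (hx : ∀ y ∈ H, x * y * x⁻¹ ∈ H) (n : ℕ) :
    ∀ y ∈ H, x ^ n * y * (x ^ n)⁻¹ ∈ H := by
  induction n with
  | zero => intro y hy; simpa using hy
  | succ n ih =>
    intro y hy
    have e : x ^ (n + 1) * y * (x ^ (n + 1))⁻¹ = x * (x ^ n * y * (x ^ n)⁻¹) * x⁻¹ := by
      rw [pow_succ']; group
    rw [e]
    exact hx _ (ih y hy)

theorem conj_inv_mem {H : Subgroup G} {x : G} (hx : ∀ y ∈ H, x * y * x⁻¹ ∈ H) :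
    ∀ y ∈ H, x⁻¹ * y * x ∈ H := by
  intro y hy
  have hpow : x ^ (orderOf x - 1) = x⁻¹ := by
    rw [eq_inv_iff_mul_eq_one, ← pow_succ, Nat.sub_add_cancel (orderOf_pos x), pow_orderOf_eq_one]
  have := conj_pow_mem hx (orderOf x - 1) y hy
  rw [hpow, inv_inv] at this
  exact this

theorem mem_normalizer_of_conj_mem {H : Subgroup G} {x : G} (hx : ∀ y ∈ H, x * y * x⁻¹ ∈ H) :
    x ∈ Subgroup.normalizer (H : Set G) := by
  rw [Subgroup.mem_normalizer_iff]
  intro y
  refine ⟨hx y, fun hy => ?_⟩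
  have := conj_inv_mem hx _ hy
  have e : x⁻¹ * (x * y * x⁻¹) * x = y := by group
  rwa [e] at this

omit [Finite G] in
theorem conj_mem_of_mem_normalizer {H : Subgroup G} {x : G}
    (hx : x ∈ Subgroup.normalizer (H : Set G)) : ∀ y ∈ H, x * y * x⁻¹ ∈ H :=
  fun y hy => (Subgroup.mem_normalizer_iff.mp hx y).mp hy

omit [Finite G] in
theorem mem_cent_iff {t g : G} : g ∈ Subgroup.centralizer ({t} : Set G) ↔ g * t = t * g := by
  rw [Subgroup.mem_centralizer_iff]
  constructor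
  · intro h; exact (h t rfl).symm
  · intro h s hs
    rw [Set.mem_singleton_iff.mp hs]; exact h.symm

omit [Finite G] in
theorem conj_eq_of_comm {g x : G} (h : g * x = x * g) : g * x * g⁻¹ = x := by
  rw [h]; group

omit [Finite G] in
theorem comm_of_conj_eq {g x : G} (h : g * x * g⁻¹ = x) : g * x = x * g := by
  calc g * x = (g * x * g⁻¹) * g := by group
    _ = x * g := by rw [h]

theorem mem_normalizer_zpowers {g c : G} (h1 : g * c * g⁻¹ ∈ Subgroup.zpowers c) :
    g ∈ Subgroup.normalizer ((Subgroup.zpowers c : Subgroup G) : Set G) := by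
  apply mem_normalizer_of_conj_mem
  intro y hy
  obtain ⟨n, rfl⟩ := Subgroup.mem_zpowers_iff.mp hy
  rw [← conj_zpow]
  exact Subgroup.zpow_mem _ h1 n

theorem mem_normalizer_zpowers_of_comm {g c : G} (h1 : g * c = c * g) :
    g ∈ Subgroup.normalizer ((Subgroup.zpowers c : Subgroup G) : Set G) := by
  apply mem_normalizer_zpowers
  rw [conj_eq_of_comm h1]
  exact Subgroup.mem_zpowers c

theorem mem_normalizer_zpowers_of_inv {g c : G} (h1 : g * c * g⁻¹ = c⁻¹) :
    g ∈ Subgroup.normalizer ((Subgroup.zpowers c : Subgroup G) : Set G) := by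
  apply mem_normalizer_zpowers
  rw [h1]
  exact Subgroup.inv_mem _ (Subgroup.mem_zpowers c)

omit [Finite G] in
/-- two subgroups with trivial intersection normalizing each other commute. -/
theorem commute_of_mutual {H K : Subgroup G} (hd : Disjoint H K)
    (h1 : ∀ x ∈ H, ∀ y ∈ K, x * y * x⁻¹ ∈ K) (h2 : ∀ y ∈ K, ∀ x ∈ H, y * x * y⁻¹ ∈ H) :
    ∀ x ∈ H, ∀ y ∈ K, x * y = y * x := by
  intro x hx y hy
  have hcK : x * y * x⁻¹ * y⁻¹ ∈ K := K.mul_mem (h1 x hx y hy) (K.inv_mem hy)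
  have hcH : x * y * x⁻¹ * y⁻¹ ∈ H := by
    have : x * y * x⁻¹ * y⁻¹ = x * (y * x⁻¹ * y⁻¹) := by group
    rw [this]
    exact H.mul_mem hx (h2 y hy _ (H.inv_mem hx))
  have := Subgroup.disjoint_def.mp hd hcH hcK
  calc x * y = (x * y * x⁻¹ * y⁻¹) * (y * x) := by group
    _ = y * x := by rw [this, one_mul]

theorem pel_mem_sylow {q : ℕ} [Fact q.Prime] (P : Sylow q G) {x : G} (hx : PEl q x)
    (hN : ∀ y ∈ P, x * y * x⁻¹ ∈ P) : x ∈ P := by
  have key := hx.zpowers.inf_normalizer_sylow P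
  have hmem : x ∈ Subgroup.zpowers x ⊓ (P : Subgroup G) := by
    rw [← key]
    exact ⟨Subgroup.mem_zpowers x, mem_normalizer_of_conj_mem hN⟩
  exact hmem.2

omit [Finite G] in
theorem pel_two_of_sq {x : G} (h : x * x = 1) : PEl 2 x :=
  ⟨1, by rw [pow_one, pow_two]; exact h⟩

/-- An element with `x ^ 2 = 1` which is also a `p`-element, `p` odd, is trivial. -/
theorem eq_one_of_sq_of_pel {q : ℕ} (hq : q.Prime) (hq2 : q ≠ 2) {x : G} (hx : PEl q x)
    (h : x * x = 1) : x = 1 :=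
  PEl.eq_one hq Nat.prime_two hq2 hx (pel_two_of_sq h)

/-- an inverted and centralized `p`-element is trivial -/
theorem eq_one_of_inv_of_comm {q : ℕ} (hq : q.Prime) (hq2 : q ≠ 2) {x u : G} (hx : PEl q x)
    (h1 : u * x * u⁻¹ = x⁻¹) (h2 : u * x = x * u) : x = 1 := by
  apply eq_one_of_sq_of_pel hq hq2 hx
  have : x = x⁻¹ := by rw [← h1, conj_eq_of_comm h2]
  exact mul_eq_one_iff_eq_inv.mpr this

omit [Finite G] in
theorem conj_comm {g u : G} (c : G) (h : g * u = u * g) :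
    c * g * c⁻¹ * (c * u * c⁻¹) = c * u * c⁻¹ * (c * g * c⁻¹) := by
  calc c * g * c⁻¹ * (c * u * c⁻¹) = c * (g * u) * c⁻¹ := by group
    _ = c * (u * g) * c⁻¹ := by rw [h]
    _ = c * u * c⁻¹ * (c * g * c⁻¹) := by group

omit [Finite G] in
theorem inv_conj_of_inverts {u x : G} (hux : u * x * u⁻¹ = x⁻¹) : u * x⁻¹ * u⁻¹ = x := by
  have := congrArg Inv.inv hux
  simpa [mul_assoc] using this

omit [Finite G] in
theorem conj_comm_of_inverts {u x z : G} (hux : u * x * u⁻¹ = x⁻¹) (hz : z * x = x * z) :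
    (u * z * u⁻¹) * x = x * (u * z * u⁻¹) := by
  have hx' := inv_conj_of_inverts hux
  have hzx' : z * x⁻¹ = x⁻¹ * z := by
    have hc : Commute z x := hz
    exact hc.inv_right.eq
  calc (u * z * u⁻¹) * x = (u * z * u⁻¹) * (u * x⁻¹ * u⁻¹) := by rw [hx']
    _ = u * (z * x⁻¹) * u⁻¹ := by group
    _ = u * (x⁻¹ * z) * u⁻¹ := by rw [hzx']
    _ = (u * x⁻¹ * u⁻¹) * (u * z * u⁻¹) := by group
    _ = x * (u * z * u⁻¹) := by rw [hx']

theorem exists_inv_of_two_dvd {H : Subgroup G} (h2 : 2 ∣ Nat.card H) : ∃ v ∈ H, Inv v := by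
  haveI : Fact (Nat.Prime 2) := ⟨Nat.prime_two⟩
  obtain ⟨v, hv⟩ := exists_prime_orderOf_dvd_card' 2 h2
  refine ⟨v, v.2, ?_, ?_⟩
  · intro h1
    have : v = 1 := Subtype.ext h1
    rw [this, orderOf_one] at hv
    omega
  · have := pow_orderOf_eq_one v
    rw [hv, pow_two] at this
    exact congrArg Subtype.val this

end general

namespace Cfg

variable (h : Cfg G p a Q α)

include h

/-- conjugate configuration. -/
theorem conj (g : G) : Cfg G p a (g • Q) (g * α * g⁻¹) where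
  hp := h.hp
  hpa := h.hpa
  ha := h.ha
  hQc := (g • Q).card_eq_multiplicity.trans (Q.card_eq_multiplicity.symm.trans h.hQc)
  hQe := by
    intro x hx
    rw [mem_smul_sylow_iff] at hx
    have := h.hQe _ hx
    have e : x * x = g * ((g⁻¹ * x * g) * (g⁻¹ * x * g)) * g⁻¹ := by group
    rw [e, this]; group
  hαp := h.hαp.conj g
  hαN := by
    intro x hx
    rw [mem_smul_sylow_iff] at hx ⊢
    have := h.hαN _ hx
    have e : g⁻¹ * (g * α * g⁻¹ * x * (g * α * g⁻¹)⁻¹) * g = α * (g⁻¹ * x * g) * α⁻¹ := by group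
    rw [e]; exact this
  htr := by
    intro x hx hx1 y hy hy1
    rw [mem_smul_sylow_iff] at hx hy
    have hx1' : g⁻¹ * x * g ≠ 1 := by
      intro h1; apply hx1
      have : x = g * (g⁻¹ * x * g) * g⁻¹ := by group
      rw [this, h1]; group
    have hy1' : g⁻¹ * y * g ≠ 1 := by
      intro h1; apply hy1
      have : y = g * (g⁻¹ * y * g) * g⁻¹ := by group
      rw [this, h1]; group
    obtain ⟨k, hk⟩ := h.htr _ hx hx1' _ hy hy1'
    refine ⟨k, ?_⟩
    rw [conj_pow]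
    have e : g * α ^ k * g⁻¹ * x * (g * α ^ k * g⁻¹)⁻¹ =
        g * (α ^ k * (g⁻¹ * x * g) * (α ^ k)⁻¹) * g⁻¹ := by group
    rw [e, hk]; group
  star := h.star
  ab := h.ab
  O2 := h.O2
  third := h.third

/-- every involution lies in a configuration conjugate to the given one. -/
theorem exists_cfg_of_inv {v : G} (hv : Inv v) :
    ∃ (Q' : Sylow 2 G) (α' : G), Cfg G p a Q' α' ∧ v ∈ Q' := by
  obtain ⟨g, hg⟩ := exists_conj_mem_Q (Q := Q) hv.pel
  refine ⟨g⁻¹ • Q, g⁻¹ * α * g⁻¹⁻¹, h.conj g⁻¹, ?_⟩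
  rw [mem_smul_sylow_iff, inv_inv]
  exact hg

theorem Q_comm : ∀ x ∈ Q, ∀ y ∈ Q, x * y = y * x := by
  intro x hx y hy
  have h1 := h.hQe x hx
  have h2 := h.hQe y hy
  have h3 := h.hQe (x * y) ((Q : Subgroup G).mul_mem hx hy)
  calc x * y = x * (x * y * (x * y)) * y := by rw [h3, mul_one]
    _ = (x * x) * (y * x) * (y * y) := by group
    _ = y * x := by rw [h1, h2, one_mul, mul_one]

theorem inv_of_pel_two {x : G} (hx : PEl 2 x) (hx1 : x ≠ 1) : Inv x := ⟨hx1, h.two_el_sq hx⟩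

/-- `α⁻¹` normalizes `Q`. -/
theorem αinv_N : ∀ x ∈ Q, α⁻¹ * x * α ∈ Q := conj_inv_mem (H := (Q : Subgroup G)) h.hαN

omit h in
/-- a `2`-element normalizing `Q` lies in `Q`. -/
theorem two_el_mem {x : G} (hx : PEl 2 x) (hN : ∀ y ∈ Q, x * y * x⁻¹ ∈ Q) : x ∈ Q := by
  haveI : Fact (Nat.Prime 2) := ⟨Nat.prime_two⟩
  exact pel_mem_sylow Q hx hN

/-- a `2`-element centralizing `Q` lies in `Q`. -/
theorem two_el_mem_of_comm {x : G} (hx : PEl 2 x) (hC : ∀ y ∈ Q, x * y = y * x) : x ∈ Q := by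
  apply two_el_mem hx
  intro y hy
  rw [conj_eq_of_comm (hC y hy)]; exact hy

/-- a `p`-element normalizing a `p`-subgroup centralizes it. -/
theorem commute_of_normalizes (Y : Subgroup G) (hY : IsPGroup p Y) {β : G} (hβ : PEl p β)
    (hN : ∀ y ∈ Y, β * y * β⁻¹ ∈ Y) : ∀ y ∈ Y, y * β = β * y := by
  intro y hy
  set M : Subgroup G := Subgroup.normalizer (Y : Set G) with hM
  have hβM : β ∈ M := mem_normalizer_of_conj_mem hN
  haveI : (Y.subgroupOf M).Normal := Subgroup.normal_in_normalizer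
  have hF : IsPGroup p (Y.subgroupOf M) := hY.comap_subtype
  have := h.commute_of_normal_pgroup (Y.subgroupOf M) hF ⟨β, hβM⟩ hβ
    ⟨y, Subgroup.le_normalizer hy⟩ (Subgroup.mem_subgroupOf.mpr hy)
  exact congrArg Subtype.val this

/-- the dichotomy for proper subgroups containing `Q`. -/
theorem dichotomy {M : Subgroup G} (hM : M ≠ ⊤) (hQM : (Q : Subgroup G) ≤ M) :
    (∀ g ∈ M, ∀ x ∈ Q, g * x * g⁻¹ ∈ Q) ∨
    ∃ Y : Subgroup G, Y ≤ M ∧ IsPGroup p Y ∧ (∀ g ∈ M, ∀ y ∈ Y, g * y * g⁻¹ ∈ Y) ∧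
      (∀ x ∈ M, PEl p x → x ∈ Y) ∧ Nat.card M = Nat.card Y * 2 ^ a := by
  by_cases hcen : ∀ g ∈ M, PEl p g → (∀ x ∈ Q, g * x * g⁻¹ ∈ Q) → ∀ x ∈ Q, g * x * g⁻¹ = x
  · exact Or.inr (h.exists_normal_complement hM hQM hcen)
  · push Not at hcen
    obtain ⟨g, hgM, hgp, hgN, x₀, hx₀, hmv⟩ := hcen
    exact Or.inl (h.le_normalizer_of_moves hM hQM hgM hgp hgN hx₀ hmv)

/-- the core of the centralizer of an involution of `Q`. -/
theorem core {t : G} (ht : t ∈ Q) (ht1 : t ≠ 1) :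
    ∃ Y : Subgroup G, (∀ y ∈ Y, y * t = t * y) ∧ IsPGroup p Y ∧
      (∀ g, g * t = t * g → ∀ y ∈ Y, g * y * g⁻¹ ∈ Y) ∧
      (∀ x, x * t = t * x → PEl p x → x ∈ Y) ∧
      Nat.card (Subgroup.centralizer ({t} : Set G)) = Nat.card Y * 2 ^ a := by
  have hM := h.centralizer_inv_ne_top (h.inv_of_mem_Q ht ht1)
  have hQM : (Q : Subgroup G) ≤ Subgroup.centralizer ({t} : Set G) := by
    intro x hx
    rw [mem_cent_iff]
    exact h.Q_comm x hx t ht
  obtain ⟨Y, hYM, hYp, hYN, hYall, hYc⟩ := h.exists_normal_complement hM hQM (by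
    intro g hg hgp hgN
    rw [mem_cent_iff] at hg
    exact h.fix_of_fix_one hgp hgN ht ht1 (conj_eq_of_comm hg))
  refine ⟨Y, fun y hy => mem_cent_iff.mp (hYM hy), hYp, ?_, ?_, hYc⟩
  · intro g hg y hy
    exact hYN g (mem_cent_iff.mpr hg) y hy
  · intro x hx hxp
    exact hYall x (mem_cent_iff.mpr hx) hxp

/-- product decomposition of a subgroup with a normal `p`-complement. -/
theorem exists_mul_of_card {M Y : Subgroup G} (hYM : Y ≤ M) (hQM : (Q : Subgroup G) ≤ M)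
    (hYp : IsPGroup p Y) (hcard : Nat.card M = Nat.card Y * 2 ^ a) :
    ∀ g ∈ M, ∃ y ∈ Y, ∃ x ∈ Q, g = y * x := by
  haveI : Fact p.Prime := ⟨h.hp⟩
  haveI : Fact (Nat.Prime 2) := ⟨Nat.prime_two⟩
  have hdisj : Disjoint Y (Q : Subgroup G) :=
    IsPGroup.disjoint_of_ne p 2 h.p_ne_two Y Q hYp Q_isPGroup
  have hinj := Subgroup.mul_injective_of_disjoint hdisj
  set f : Y × (Q : Subgroup G) → M := fun yx =>
    ⟨(yx.1 : G) * yx.2, M.mul_mem (hYM yx.1.2) (hQM yx.2.2)⟩ with hf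
  have hfinj : Function.Injective f := by
    intro a b hab
    apply hinj
    exact congrArg Subtype.val hab
  have hbij : Function.Bijective f := by
    apply hfinj.bijective_of_nat_card_le
    rw [Nat.card_prod, hcard]
    have : Nat.card (Q : Subgroup G) = 2 ^ a := h.hQc
    rw [this]
  intro g hg
  obtain ⟨⟨y, x⟩, hyx⟩ := hbij.2 ⟨g, hg⟩
  refine ⟨y, y.2, x, x.2, ?_⟩
  have := congrArg Subtype.val hyx
  exact this.symm

/-- the normalizer of a nontrivial `p`-subgroup is proper. -/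
theorem normalizer_ne_top {R : Subgroup G} (hR : IsPGroup p R) (hne : R ≠ ⊥) :
    Subgroup.normalizer (R : Set G) ≠ ⊤ := by
  intro htop
  exact hne (h.Op R (Subgroup.normalizer_eq_top_iff.mp htop) hR)

theorem normalizer_zpowers_ne_top {x : G} (hx : PEl p x) (hx1 : x ≠ 1) :
    Subgroup.normalizer ((Subgroup.zpowers x : Subgroup G) : Set G) ≠ ⊤ := by
  apply h.normalizer_ne_top hx.zpowers
  intro hb
  apply hx1
  have : x ∈ Subgroup.zpowers x := Subgroup.mem_zpowers x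
  rw [hb] at this
  exact Subgroup.mem_bot.mp this

/-- a `p`-element and a `2`-element which are equal are trivial -/
theorem eq_one_of_pel_of_pel2 {x : G} (h1 : PEl p x) (h2 : PEl 2 x) : x = 1 :=
  PEl.eq_one h.hp Nat.prime_two h.p_ne_two h1 h2

/-- there are two non-commuting involutions. -/
theorem exists_noncomm : ∃ u s : G, Inv u ∧ Inv s ∧ u * s ≠ s * u := by
  by_contra hno
  push Not at hno
  -- all involutions lie in `Q`
  have hall : ∀ v : G, Inv v → v ∈ Q := by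
    intro v hv
    apply h.two_el_mem_of_comm hv.pel
    intro y hy
    by_cases hy1 : y = 1
    · rw [hy1]; simp
    · exact hno v y hv (h.inv_of_mem_Q hy hy1)
  have hnormal : (Q : Subgroup G).Normal := by
    constructor
    intro x hx g
    by_cases hx1 : x = 1
    · rw [hx1]; simp
    · exact hall _ ((h.inv_of_mem_Q hx hx1).conj g)
  exact h.Q_ne_bot (h.O2 _ hnormal Q_isPGroup)

/-- a `p`-element of odd order: products of two involutions of odd order are `p`-elements. -/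
theorem pel_mul_of_odd {u s : G} (hu : Inv u) (hs : Inv s) (hodd : Odd (orderOf (u * s))) :
    PEl p (u * s) := by
  have h0 : orderOf (u * s) ≠ 0 := (orderOf_pos _).ne'
  have := Nat.eq_prime_pow_of_unique_prime_dvd h0 (p := p) (by
    intro d hd hdo
    rcases h.orderOf_mul_inv hu hs d hd hdo with h' | h'
    · exfalso
      rw [h'] at hdo
      exact (Nat.not_even_iff_odd.mpr hodd) (even_iff_two_dvd.mpr hdo)
    · exact h')
  exact PEl.of_orderOf this

end Cfg

end Cfsg.Agent.Lib.Helper2.S4017
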