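import Cfsg.Agent.Lib.Helper2.S4017G
import Cfsg.Agent.Lib.Helper2.Friendship

/-! S4017, equality case, case C, part 2: trivial intersections and the friendship graph. -/

namespace Cfsg.Agent.Lib.Helper2.S4017

open Subgroup Pointwise Cfg

universe u

variable {G : Type u} [Group G] [Finite G] {p a : ℕ} {Q : Sylow 2 G} {α : G}

omit [Finite G] in
theorem Good.mem_iff {v : G} {P : Sylow p G} (g : Good G p v P) (x : G) :
    x ∈ P ↔ PEl p x ∧ x * v = v * x :=
  ⟨fun hx => ⟨PEl.of_mem P.isPGroup' hx, (g.cent x hx).symm⟩, fun ⟨h1, h2⟩ => g.all x h2 h1⟩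

/-- Sylow `p`-subgroups have trivial intersections. -/
theorem Good.ti (h : Cfg G p a Q α) {v v' : G} (hv : Inv v) {P P' : Sylow p G}
    (g : Good G p v P) (_g' : Good G p v' P') {x : G} (hx : x ∈ P) (hx' : x ∈ P')
    (hx1 : x ≠ 1) : (P' : Subgroup G) = P := by
  haveI : Fact p.Prime := ⟨h.hp⟩
  haveI : Fact (Nat.Prime 2) := ⟨Nat.prime_two⟩
  classical
  obtain ⟨Q', α', h', hvQ⟩ := h.exists_cfg_of_inv hv
  have hxp : PEl p x := PEl.of_mem P.isPGroup' hx
  have hN := h.normalizer_zpowers_ne_top hxp hx1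
  have hQact : ∀ w ∈ Q', w ≠ 1 → w ≠ v → ∀ z ∈ P, w * z * w⁻¹ = z⁻¹ := fun w hw hw1 hwv =>
    g.inv w (h'.inv_of_mem_Q hw hw1) hwv (h'.Q_comm w hw v hvQ)
  have hQN : ∀ w ∈ (Q' : Subgroup G), ∀ z ∈ (P : Subgroup G), w * z * w⁻¹ ∈ (P : Subgroup G) := by
    intro w hw z hz
    by_cases hw1 : w = 1
    · rw [hw1]; simpa using hz
    · by_cases hwv : w = v
      · rw [hwv, conj_eq_of_comm (g.cent z hz)]; exact hz
      · rw [hQact w hw hw1 hwv z hz]; exact (P : Subgroup G).inv_mem hz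
  have hQle : (Q' : Subgroup G) ≤
      Subgroup.normalizer ((Subgroup.zpowers x : Subgroup G) : Set G) := by
    intro w hw
    by_cases hw1 : w = 1
    · rw [hw1]; exact Subgroup.one_mem _
    · by_cases hwv : w = v
      · rw [hwv]; exact mem_normalizer_zpowers_of_comm (g.cent x hx)
      · exact mem_normalizer_zpowers_of_inv (hQact w hw hw1 hwv x hx)
  have hPle : (P : Subgroup G) ≤
      Subgroup.normalizer ((Subgroup.zpowers x : Subgroup G) : Set G) :=
    fun z hz => mem_normalizer_zpowers_of_comm (h.ab P P.isPGroup' z hz x hx)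
  have hP'le : (P' : Subgroup G) ≤
      Subgroup.normalizer ((Subgroup.zpowers x : Subgroup G) : Set G) :=
    fun z hz => mem_normalizer_zpowers_of_comm (h.ab P' P'.isPGroup' z hz x hx')
  rcases h'.dichotomy hN hQle with hn | ⟨P_N, -, hP_Np, -, hP_Nall, -⟩
  · exfalso
    have hdisj : Disjoint (P : Subgroup G) (Q' : Subgroup G) :=
      IsPGroup.disjoint_of_ne p 2 h.p_ne_two _ _ P.isPGroup' Q_isPGroup
    have hcomm := commute_of_mutual hdisj (fun z hz w hw => hn z (hPle hz) w hw) hQN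
    have hcard := h'.card_QS
    obtain ⟨w, hwS, hwv⟩ := Finset.exists_mem_notMem_of_card_lt_card (s := {v}) (t := QS Q')
      (by rw [Finset.card_singleton, hcard]; have := h.three_le; omega)
    rw [mem_QS] at hwS
    simp only [Finset.mem_singleton] at hwv
    have i1 := hQact w hwS.2 hwS.1 hwv x hx
    have i2 : w * x = x * w := (hcomm x hx w hwS.2).symm
    exact hx1 (eq_one_of_inv_of_comm h.hp h.p_ne_two hxp i1 i2)
  · have h1 : (P : Subgroup G) ≤ P_N :=
      fun z hz => hP_Nall z (hPle hz) (PEl.of_mem P.isPGroup' hz)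
    have h2 : (P' : Subgroup G) ≤ P_N :=
      fun z hz => hP_Nall z (hP'le hz) (PEl.of_mem P'.isPGroup' hz)
    have e1 : P_N = P := P.is_maximal' hP_Np h1
    have e2 : P_N = P' := P'.is_maximal' hP_Np h2
    rw [← e2, e1]

/-- the commuting graph on involutions. -/
def invGraph (G : Type*) [Group G] : SimpleGraph {s : G // Inv s} where
  Adj u w := u ≠ w ∧ (u : G) * w = w * u
  symm := ⟨fun _ _ h => ⟨h.1.symm, h.2.symm⟩⟩
  loopless := ⟨fun _ h => h.1 rfl⟩

section friendship

variable (h : Cfg G p a Q α) (hgood : ∀ v : G, Inv v → ∃ P : Sylow p G, Good G p v P)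

include h hgood

theorem exists_common {u w : G} (hu : Inv u) (hw : Inv w) (hne : u ≠ w) :
    ∃ c, Inv c ∧ c ≠ u ∧ c ≠ w ∧ c * u = u * c ∧ c * w = w * c := by
  haveI : Fact p.Prime := ⟨h.hp⟩
  by_cases hc : u * w = w * u
  · refine ⟨u * w, ⟨?_, ?_⟩, ?_, ?_, ?_, ?_⟩
    · intro h1; apply hne; rw [eq_inv_of_mul_eq_one_right h1, hu.inv_eq]
    · calc u * w * (u * w) = u * (w * u) * w := by group
        _ = u * (u * w) * w := by rw [← hc]
        _ = (u * u) * (w * w) := by group
        _ = 1 := by rw [hu.2, hw.2, one_mul]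
    · intro h1; apply hw.1
      have := congrArg (u⁻¹ * ·) h1
      simpa using this
    · intro h1; apply hu.1
      have := congrArg (· * w⁻¹) h1
      simpa using this
    · rw [mul_assoc, ← hc]
    · rw [← mul_assoc w u w, ← hc]
  · by_cases hev : Even (orderOf (u * w))
    · obtain ⟨hz2, hzu, hzw⟩ := TwoInv.central_involution hu.2 hw.2 (orderOf_pos _) hev
      refine ⟨_, ⟨TwoInv.ne_one_of_orderOf hz2, TwoInv.sq_of_orderOf hz2⟩, ?_, ?_, hzu.eq, hzw.eq⟩
      · intro h1; rw [h1] at hzw; exact hc hzw.eq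
      · intro h1; rw [h1] at hzu; exact hc hzu.eq.symm
    · rw [Nat.not_even_iff_odd] at hev
      have hxp := h.pel_mul_of_odd hu hw hev
      have hx1 : u * w ≠ 1 := by
        intro h1; apply hne; rw [eq_inv_of_mul_eq_one_right h1, hu.inv_eq]
      obtain ⟨P', hP'⟩ := hxp.zpowers.exists_le_sylow
      have hxP' : u * w ∈ P' := hP' (Subgroup.mem_zpowers _)
      obtain ⟨P_u, gu⟩ := hgood u hu
      obtain ⟨g, hg⟩ := MulAction.exists_smul_eq G P_u P'
      have hvi : Inv (g * u * g⁻¹) := hu.conj g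
      obtain ⟨P_v, gv⟩ := hgood _ hvi
      have hxPv : u * w ∈ P_v := by
        rw [← hg, mem_smul_sylow_iff, gu.mem_iff] at hxP'
        rw [gv.mem_iff]
        refine ⟨hxp, ?_⟩
        have := hxP'.2
        calc u * w * (g * u * g⁻¹) = g * ((g⁻¹ * (u * w) * g) * u) * g⁻¹ := by group
          _ = g * (u * (g⁻¹ * (u * w) * g)) * g⁻¹ := by rw [this]
          _ = g * u * g⁻¹ * (u * w) := by group
      have key : ∀ s, Inv s → s * (u * w) * s⁻¹ = (u * w)⁻¹ →
          s * (g * u * g⁻¹) = (g * u * g⁻¹) * s := by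
        intro s hs hsx
        have hv2 : Inv (s * (g * u * g⁻¹) * s⁻¹) := hvi.conj s
        obtain ⟨P₂, g₂⟩ := hgood _ hv2
        have hx2 : (u * w)⁻¹ ∈ P₂ := by
          rw [g₂.mem_iff, ← hsx]
          exact ⟨hxp.conj s, conj_comm s ((gv.mem_iff _).mp hxPv).2⟩
        have hx2' : (u * w)⁻¹ ∈ P_v := (P_v : Subgroup G).inv_mem hxPv
        have heq := Good.ti h hvi gv g₂ hx2' hx2 (inv_ne_one.mpr hx1)
        apply gv.norm
        intro z hz
        have hmem : s * z * s⁻¹ ∈ P₂ := by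
          rw [g₂.mem_iff]
          exact ⟨(PEl.of_mem P_v.isPGroup' hz).conj s, conj_comm s ((gv.mem_iff z).mp hz).2⟩
        have hmem' : s * z * s⁻¹ ∈ (P₂ : Subgroup G) := hmem
        rw [heq] at hmem'
        exact hmem'
      have hcu := key u hu (TwoInv.conj_left hu.2 hw.2)
      have hcw := key w hw (TwoInv.conj_right hu.2 hw.2)
      refine ⟨g * u * g⁻¹, hvi, ?_, ?_, hcu.symm, hcw.symm⟩
      · intro h1; rw [h1] at hcw; exact hc hcw.symm
      · intro h1; rw [h1] at hcu; exact hc hcu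

theorem unique_common {u w c c' : G} (hu : Inv u) (hw : Inv w) (hne : u ≠ w)
    (hc : Inv c) (hcu : c ≠ u) (hcw : c ≠ w) (hcu' : c * u = u * c) (hcw' : c * w = w * c)
    (hc2 : Inv c') (hc2u : c' ≠ u) (hc2w : c' ≠ w) (hc2u' : c' * u = u * c')
    (hc2w' : c' * w = w * c') : c = c' := by
  by_cases hcomm : u * w = w * u
  · have key : ∀ c, Inv c → c ≠ u → c ≠ w → c * u = u * c → c * w = w * c → c = u * w := by
      intro c hc hcu hcw hcu' hcw'
      obtain ⟨P_u, gu⟩ := hgood u hu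
      have ic := gu.inv c hc hcu hcu'
      have iw := gu.inv w hw (Ne.symm hne) hcomm.symm
      by_contra hcne
      have hz1 : c * w ≠ 1 := by
        intro h1; apply hcw; rw [eq_inv_of_mul_eq_one_left h1, hw.inv_eq]
      have hzi : Inv (c * w) := by
        refine ⟨hz1, ?_⟩
        calc c * w * (c * w) = c * (w * c) * w := by group
          _ = c * (c * w) * w := by rw [← hcw']
          _ = (c * c) * (w * w) := by group
          _ = 1 := by rw [hc.2, hw.2, one_mul]
      have hzu : c * w ≠ u := by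
        intro h1; apply hcne
        have : c = u * w⁻¹ := by rw [← h1]; group
        rw [this, hw.inv_eq]
      have hzcomm : c * w * u = u * (c * w) := by
        calc c * w * u = c * (w * u) := by group
          _ = c * (u * w) := by rw [hcomm]
          _ = (c * u) * w := by group
          _ = (u * c) * w := by rw [hcu']
          _ = u * (c * w) := by group
      have iz := gu.inv (c * w) hzi hzu hzcomm
      obtain ⟨x, hx, hx1⟩ := gu.ne
      have e1 := iz x hx
      have e2 : c * w * x * (c * w)⁻¹ = x := by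
        have e : c * w * x * (c * w)⁻¹ = c * (w * x * w⁻¹) * c⁻¹ := by group
        rw [e, iw x hx, inv_conj_of_inverts (ic x hx)]
      have hxx : x = x⁻¹ := by rw [← e1, e2]
      exact hx1 (eq_one_of_eq_inv_of_odd
        (PEl.odd_orderOf h.hp h.p_ne_two (PEl.of_mem P_u.isPGroup' hx)) hxx)
    rw [key c hc hcu hcw hcu' hcw', key c' hc2 hc2u hc2w hc2u' hc2w']
  · by_contra hcc
    obtain ⟨i, j, hij⟩ := exists_two_prime_pow p (orderOf (u * w)) (orderOf_pos _).ne'
      (h.orderOf_mul_inv hu hw)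
    have hx2 : PEl 2 ((u * w) ^ (p ^ j)) :=
      ⟨i, by rw [← pow_mul, mul_comm, ← hij, pow_orderOf_eq_one]⟩
    have hsq := h.two_el_sq hx2
    have hxxp : PEl p ((u * w) * (u * w)) :=
      ⟨j, by rw [(Commute.refl (u * w)).mul_pow]; exact hsq⟩
    have hxx1 : (u * w) * (u * w) ≠ 1 := by
      intro h1; apply hcomm
      have : u * w = (u * w)⁻¹ := eq_inv_of_mul_eq_one_left h1
      rw [this, mul_inv_rev, hu.inv_eq, hw.inv_eq]
    have hcx : ∀ c, c * u = u * c → c * w = w * c →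
        (u * w) * (u * w) * c = c * ((u * w) * (u * w)) := by
      intro c h1 h2
      have h1' : Commute c u := h1
      have h2' : Commute c w := h2
      exact (((h1'.mul_right h2').mul_right (h1'.mul_right h2')).eq).symm
    obtain ⟨P_c, gc⟩ := hgood c hc
    obtain ⟨P_c', gc'⟩ := hgood c' hc2
    have m1 : (u * w) * (u * w) ∈ P_c := gc.all _ (hcx c hcu' hcw') hxxp
    have m2 : (u * w) * (u * w) ∈ P_c' := gc'.all _ (hcx c' hc2u' hc2w') hxxp
    have heq := Good.ti h hc gc gc' m1 m2 hxx1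
    have hcen : ∀ z ∈ P_c, c' * z = z * c' := by
      intro z hz
      have hz' : z ∈ (P_c : Subgroup G) := hz
      rw [← heq] at hz'
      exact gc'.cent z hz'
    have hcc' : c' * c = c * c' :=
      gc.norm c' (fun z hz => by rw [conj_eq_of_comm (hcen z hz)]; exact hz)
    have i' := gc.inv c' hc2 (Ne.symm hcc) hcc'
    obtain ⟨z, hz, hz1⟩ := gc.ne
    have e1 := i' z hz
    have e2 : c' * z * c'⁻¹ = z := conj_eq_of_comm (hcen z hz)
    have hzz : z = z⁻¹ := by rw [← e1, e2]
    exact hz1 (eq_one_of_eq_inv_of_odd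
      (PEl.odd_orderOf h.hp h.p_ne_two (PEl.of_mem P_c.isPGroup' hz)) hzz)

/-- **Case C is impossible.** -/
theorem caseC_false : False := by
  classical
  haveI : Fintype {s : G // Inv s} := Fintype.ofFinite _
  haveI : Nonempty {s : G // Inv s} := by
    obtain ⟨t, -, ht⟩ := h.exists_inv_mem_Q
    exact ⟨⟨t, ht⟩⟩
  have hF : FriendshipThm.Friendship (invGraph G) := by
    intro u w hne
    rw [Fintype.card_eq_one_iff]
    have hne' : (u : G) ≠ w := fun e => hne (Subtype.ext e)
    obtain ⟨c, hc, hcu, hcw, hcu', hcw'⟩ := exists_common h hgood u.2 w.2 hne'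
    refine ⟨⟨⟨c, hc⟩, ?_⟩, ?_⟩
    · rw [SimpleGraph.mem_commonNeighbors]
      exact ⟨⟨fun e => hcu (congrArg Subtype.val e).symm, hcu'.symm⟩,
        ⟨fun e => hcw (congrArg Subtype.val e).symm, hcw'.symm⟩⟩
    · rintro ⟨⟨c', hc'⟩, hmem⟩
      rw [SimpleGraph.mem_commonNeighbors] at hmem
      obtain ⟨⟨h1, h2⟩, ⟨h3, h4⟩⟩ := hmem
      apply Subtype.ext; apply Subtype.ext
      show c' = c
      exact unique_common h hgood u.2 w.2 hne' hc' (fun e => h1 (Subtype.ext e.symm))
        (fun e => h3 (Subtype.ext e.symm)) h2.symm h4.symm hc hcu hcw hcu' hcw'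
  obtain ⟨v₀, hv₀⟩ := FriendshipThm.friendship_theorem hF
  obtain ⟨u, s, hu, hs, hne⟩ := h.exists_noncomm
  obtain ⟨g, hg⟩ := h.inv_conj v₀.2 hu
  apply hne
  have hs' : Inv (g⁻¹ * s * g) := by
    have := hs.conj g⁻¹
    rwa [inv_inv] at this
  have hcomm : (v₀ : G) * (g⁻¹ * s * g) = (g⁻¹ * s * g) * v₀ := by
    by_cases e : v₀ = ⟨g⁻¹ * s * g, hs'⟩
    · rw [e]
    · exact (hv₀ ⟨_, hs'⟩ e).2
  rw [← hg]
  calc g * v₀ * g⁻¹ * s = g * (v₀ * (g⁻¹ * s * g)) * g⁻¹ := by group
    _ = g * ((g⁻¹ * s * g) * v₀) * g⁻¹ := by rw [hcomm]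
    _ = s * (g * v₀ * g⁻¹) := by group

end friendship

end Cfsg.Agent.Lib.Helper2.S4017
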