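import Cfsg.Agent.Lib.Helper2.S4017AB
import Cfsg.Agent.Lib.Helper2.S4017H

/-! S4017: the equality case `p = 2 ^ a - 1` is impossible. -/

namespace Cfsg.Agent.Lib.Helper2.S4017

open Cfg

theorem eq_case_false {G : Type*} [Group G] [Finite G] (p a : ℕ) (hp : p.Prime)
    (hpa : p + 1 = 2 ^ a) (ha : 2 ≤ a)
    (Q : Sylow 2 G) (hQc : Nat.card Q = 2 ^ a) (hQe : ∀ x ∈ Q, x * x = 1)
    (α : G) (hαp : PEl p α) (hαN : ∀ x ∈ Q, α * x * α⁻¹ ∈ Q)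
    (htr : ∀ x ∈ Q, x ≠ 1 → ∀ y ∈ Q, y ≠ 1 → ∃ k : ℕ, α ^ k * x * (α ^ k)⁻¹ = y)
    (star : ∀ H : Subgroup G, H ≠ ⊤ → 2 ∣ Nat.card H →
      ∀ r : ℕ, r.Prime → r ∣ Nat.card H → r = 2 ∨ r = p)
    (ab : ∀ P : Subgroup G, IsPGroup p P → ∀ x ∈ P, ∀ y ∈ P, x * y = y * x)
    (O2 : ∀ N : Subgroup G, N.Normal → IsPGroup 2 N → N = ⊥)
    (r : ℕ) (hr : r.Prime) (hrG : r ∣ Nat.card G) (hr2 : r ≠ 2) (hrp : r ≠ p) : False := by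
  have h : Cfg G p a Q α :=
    ⟨hp, hpa, ha, hQc, hQe, hαp, hαN, htr, star, ab, O2, ⟨r, hr, hrG, hr2, hrp⟩⟩
  by_cases hAB : ∀ t ∈ Q, t ≠ 1 → ∀ y, PEl p y → y * t = t * y → ∀ x ∈ Q, x * y = y * x
  · exact h.caseAB_false (h.ca_of_ab hAB)
  · push Not at hAB
    obtain ⟨t, ht, ht1, y₀, hy₀, hy₀t, x₁, hx₁, hne⟩ := hAB
    apply caseC_false h
    intro v hv
    obtain ⟨g, hg⟩ := h.inv_conj (h.inv_of_mem_Q ht ht1) hv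
    have h' := h.conj g
    have hne' : g * x₁ * g⁻¹ * (g * y₀ * g⁻¹) ≠ g * y₀ * g⁻¹ * (g * x₁ * g⁻¹) := by
      intro e; apply hne
      have e' : g * (x₁ * y₀) * g⁻¹ = g * (y₀ * x₁) * g⁻¹ := by
        calc g * (x₁ * y₀) * g⁻¹ = g * x₁ * g⁻¹ * (g * y₀ * g⁻¹) := by group
          _ = g * y₀ * g⁻¹ * (g * x₁ * g⁻¹) := e
          _ = g * (y₀ * x₁) * g⁻¹ := by group
      exact mul_left_cancel (mul_right_cancel e')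
    have := (caseC_good h' (t := g * t * g⁻¹) ((conj_mem_smul_sylow_iff Q g t).mpr ht)
      ((h.inv_of_mem_Q ht ht1).conj g).1 (hy₀.conj g) (conj_comm g hy₀t)
      ((conj_mem_smul_sylow_iff Q g x₁).mpr hx₁) hne').2
    rw [hg] at this
    exact this

end Cfsg.Agent.Lib.Helper2.S4017
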