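import Cfsg.Agent.Lib.Helper2.S4017D

/-! S4017, equality case, case AB: centralizers of involutions are abelian. -/

namespace Cfsg.Agent.Lib.Helper2.S4017

open Subgroup Pointwise

universe u

variable {G : Type u} [Group G] [Finite G] {p a : ℕ} {Q : Sylow 2 G} {α : G}

/-- centralizers of involutions are abelian. -/
def CA (G : Type*) [Group G] : Prop :=
  ∀ u : G, Inv u → ∀ g k : G, g * u = u * g → k * u = u * k → g * k = k * g

namespace Cfg

variable (h : Cfg G p a Q α)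

include h

theorem ca_of_ab
    (hAB : ∀ t ∈ Q, t ≠ 1 → ∀ y, PEl p y → y * t = t * y → ∀ x ∈ Q, x * y = y * x) : CA G := by
  have key : ∀ t ∈ Q, t ≠ 1 → ∀ g k : G, g * t = t * g → k * t = t * k → g * k = k * g := by
    intro t ht ht1 g k hg hk
    obtain ⟨Y, hYc, hYp, hYN, hYall, hYcard⟩ := h.core ht ht1
    have hYM : Y ≤ Subgroup.centralizer ({t} : Set G) := fun y hy => mem_cent_iff.mpr (hYc y hy)
    have hQM : (Q : Subgroup G) ≤ Subgroup.centralizer ({t} : Set G) :=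
      fun x hx => mem_cent_iff.mpr (h.Q_comm x hx t ht)
    obtain ⟨y₁, hy₁, x₁, hx₁, rfl⟩ :=
      h.exists_mul_of_card hYM hQM hYp hYcard g (mem_cent_iff.mpr hg)
    obtain ⟨y₂, hy₂, x₂, hx₂, rfl⟩ :=
      h.exists_mul_of_card hYM hQM hYp hYcard k (mem_cent_iff.mpr hk)
    have e1 : y₁ * y₂ = y₂ * y₁ := h.ab Y hYp y₁ hy₁ y₂ hy₂
    have e2 : x₁ * x₂ = x₂ * x₁ := h.Q_comm x₁ hx₁ x₂ hx₂
    have e3 : x₁ * y₂ = y₂ * x₁ := hAB t ht ht1 y₂ (PEl.of_mem hYp hy₂) (hYc y₂ hy₂) x₁ hx₁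
    have e4 : x₂ * y₁ = y₁ * x₂ := hAB t ht ht1 y₁ (PEl.of_mem hYp hy₁) (hYc y₁ hy₁) x₂ hx₂
    calc y₁ * x₁ * (y₂ * x₂) = y₁ * (x₁ * y₂) * x₂ := by group
      _ = y₁ * (y₂ * x₁) * x₂ := by rw [e3]
      _ = (y₁ * y₂) * (x₁ * x₂) := by group
      _ = (y₂ * y₁) * (x₂ * x₁) := by rw [e1, e2]
      _ = y₂ * (y₁ * x₂) * x₁ := by group
      _ = y₂ * (x₂ * y₁) * x₁ := by rw [e4]
      _ = y₂ * x₂ * (y₁ * x₁) := by group
  intro u hu g k hg hk
  obtain ⟨c, hc⟩ := exists_conj_mem_Q (Q := Q) hu.pel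
  have := key (c * u * c⁻¹) hc (hu.conj c).1 (c * g * c⁻¹) (c * k * c⁻¹) (conj_comm c hg)
    (conj_comm c hk)
  have e : c * (g * k) * c⁻¹ = c * (k * g) * c⁻¹ := by
    calc c * (g * k) * c⁻¹ = c * g * c⁻¹ * (c * k * c⁻¹) := by group
      _ = c * k * c⁻¹ * (c * g * c⁻¹) := this
      _ = c * (k * g) * c⁻¹ := by group
  exact mul_left_cancel (mul_right_cancel e)

variable (hCA : CA G)

include hCA

/-- a `p`-element commuting with `t ∈ Q` commutes with `α`. -/
theorem pel_comm_alpha {t : G} (ht : t ∈ Q) (ht1 : t ≠ 1)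
    {c : G} (hc : PEl p c) (hct : c * t = t * c) : c * α = α * c := by
  obtain ⟨Y, hYc, hYp, hYN, hYall, -⟩ := h.core ht ht1
  have hti := h.inv_of_mem_Q ht ht1
  refine h.commute_of_normalizes Y hYp h.hαp ?_ c (hYall c hct hc)
  intro y hy
  apply hYall
  · have ht' : α⁻¹ * t * α ∈ Q := h.αinv_N t ht
    have hyq : y * (α⁻¹ * t * α) = (α⁻¹ * t * α) * y :=
      hCA t hti y (α⁻¹ * t * α) (hYc y hy) (h.Q_comm _ ht' t ht)
    calc α * y * α⁻¹ * t = α * (y * (α⁻¹ * t * α)) * α⁻¹ := by group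
      _ = α * ((α⁻¹ * t * α) * y) * α⁻¹ := by rw [hyq]
      _ = t * (α * y * α⁻¹) := by group
  · exact (PEl.of_mem hYp hy).conj α

/-- the normalizer of `⟨c⟩`, `c` a nontrivial `p`-element centralizing `t ∈ Q`, normalizes `Q`. -/
theorem normalizes_of_mem_normalizer {t : G} (ht : t ∈ Q) (ht1 : t ≠ 1)
    {c : G} (hc : PEl p c) (hc1 : c ≠ 1) (hct : c * t = t * c) :
    ∀ g ∈ Subgroup.normalizer ((Subgroup.zpowers c : Subgroup G) : Set G),
      ∀ x ∈ Q, g * x * g⁻¹ ∈ Q := by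
  have hti := h.inv_of_mem_Q ht ht1
  apply h.le_normalizer_of_moves (h.normalizer_zpowers_ne_top hc hc1) ?_ ?_ h.hαp h.hαN ht
    (h.α_moves ht ht1)
  · intro x hx
    apply mem_normalizer_zpowers_of_comm
    exact hCA t hti x c (h.Q_comm x hx t ht) hct
  · apply mem_normalizer_zpowers_of_comm
    exact (h.pel_comm_alpha hCA ht ht1 hc hct).symm

/-- a nontrivial `p`-element inverted by an involution is centralized by no involution. -/
theorem no_inv_cent {x u v : G} (hx : PEl p x) (hx1 : x ≠ 1) (hu : Inv u)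
    (hux : u * x * u⁻¹ = x⁻¹) (hv : Inv v) (hvx : v * x = x * v) : False := by
  obtain ⟨Q', α', h', hvQ⟩ := h.exists_cfg_of_inv hv
  have hN := h'.normalizes_of_mem_normalizer hCA hvQ hv.1 hx hx1 hvx.symm u
    (mem_normalizer_zpowers_of_inv hux)
  have huQ : u ∈ Q' := two_el_mem hu.pel hN
  have huv : u * v = v * u := h'.Q_comm u huQ v hvQ
  have hux' : u * x = x * u := hCA v hv u x huv hvx.symm
  exact hx1 (eq_one_of_inv_of_comm h.hp h.p_ne_two hx hux hux')

/-- the centralizer of a nontrivial `p`-element inverted by an involution is a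
Sylow `p`-subgroup. -/
theorem cent_sylow {x u : G} (hx : PEl p x) (hx1 : x ≠ 1) (hu : Inv u)
    (hux : u * x * u⁻¹ = x⁻¹) : ∃ P : Sylow p G, ∀ g, g ∈ P ↔ g * x = x * g := by
  haveI : Fact p.Prime := ⟨h.hp⟩
  set M : Subgroup G := Subgroup.normalizer ((Subgroup.zpowers x : Subgroup G) : Set G) with hMdef
  have hM : M ≠ ⊤ := h.normalizer_zpowers_ne_top hx hx1
  have huM : u ∈ M := mem_normalizer_zpowers_of_inv hux
  have h2M : 2 ∣ Nat.card M := hu.two_dvd huM
  set C : Subgroup G := Subgroup.centralizer ({x} : Set G) with hCdef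
  have hCM : C ≤ M := fun g hg => mem_normalizer_zpowers_of_comm (mem_cent_iff.mp hg)
  have hodd : ¬ 2 ∣ Nat.card C := by
    intro h2
    obtain ⟨v, hvC, hvi⟩ := exists_inv_of_two_dvd h2
    exact h.no_inv_cent hCA hx hx1 hu hux hvi (mem_cent_iff.mp hvC)
  have hCp : IsPGroup p C := by
    have h0 : Nat.card C ≠ 0 := Nat.card_pos.ne'
    have := Nat.eq_prime_pow_of_unique_prime_dvd h0 (p := p) (by
      intro d hd hdC
      rcases h.star M hM h2M d hd (dvd_trans hdC (Subgroup.card_dvd_of_le hCM)) with h' | h'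
      · exact absurd (h' ▸ hdC) hodd
      · exact h')
    exact IsPGroup.of_card this
  obtain ⟨P, hP⟩ := hCp.exists_le_sylow
  refine ⟨P, fun g => ⟨fun hg => ?_, fun hg => hP (mem_cent_iff.mpr hg)⟩⟩
  have hxP : x ∈ P := hP (mem_cent_iff.mpr rfl)
  exact h.ab P P.isPGroup' g hg x hxP

/-- an involution normalizing a Sylow `p`-subgroup cannot both centralize and invert
nontrivial elements. -/
theorem inv_or_cent (P : Sylow p G) {s c x : G} (hs : Inv s) (hcP : c ∈ P) (hc1 : c ≠ 1)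
    (hsc : s * c = c * s) (hxP : x ∈ P) (hsx : s * x * s⁻¹ = x⁻¹) : x = 1 := by
  obtain ⟨Q', α', h', hsQ⟩ := h.exists_cfg_of_inv hs
  have hcp : PEl p c := PEl.of_mem P.isPGroup' hcP
  have hxp : PEl p x := PEl.of_mem P.isPGroup' hxP
  have hxc : x * c = c * x := h.ab P P.isPGroup' x hxP c hcP
  have hN := h'.normalizes_of_mem_normalizer hCA hsQ hs.1 hcp hc1 hsc.symm x
    (mem_normalizer_zpowers_of_comm hxc)
  have h1 : x * s * x⁻¹ ∈ Q' := hN s hsQ
  have h2 : x * s * x⁻¹ * s⁻¹ ∈ Q' := (Q' : Subgroup G).mul_mem h1 ((Q' : Subgroup G).inv_mem hsQ)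
  have e : x * s * x⁻¹ * s⁻¹ = x * x := by
    have hx' := inv_conj_of_inverts hsx
    calc x * s * x⁻¹ * s⁻¹ = x * (s * x⁻¹ * s⁻¹) := by group
      _ = x * x := by rw [hx']
  rw [e] at h2
  have hxx2 : PEl 2 (x * x) := PEl.of_mem Q_isPGroup h2
  have hxxp : PEl p (x * x) := by
    have := hxp.pow 2
    rwa [pow_two] at this
  have := h.eq_one_of_pel_of_pel2 hxxp hxx2
  exact eq_one_of_sq_of_pel h.hp h.p_ne_two hxp this

/-- no involution centralizes a Sylow `p`-subgroup. -/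
theorem not_cent_sylow (P : Sylow p G) {s : G} (hs : Inv s) (hC : ∀ z ∈ P, s * z = z * s) :
    False := by
  haveI : Fact p.Prime := ⟨h.hp⟩
  obtain ⟨Q', α', h', hsQ⟩ := h.exists_cfg_of_inv hs
  have hα : ∀ z ∈ P, z * α' = α' * z := fun z hz =>
    h'.pel_comm_alpha hCA hsQ hs.1 (PEl.of_mem P.isPGroup' hz) (hC z hz).symm
  have hαP : α' ∈ P := by
    apply pel_mem_sylow P h'.hαp
    intro z hz
    rw [conj_eq_of_comm (hα z hz).symm]; exact hz
  exact h'.α_moves hsQ hs.1 (conj_eq_of_comm (hC α' hαP).symm)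

/-- an involution normalizing a Sylow `p`-subgroup inverts it. -/
theorem inverts_sylow (P : Sylow p G) {s : G} (hs : Inv s) (hN : ∀ z ∈ P, s * z * s⁻¹ ∈ P) :
    ∀ z ∈ P, s * z * s⁻¹ = z⁻¹ := by
  have hab : ∀ x ∈ (P : Subgroup G), ∀ y ∈ (P : Subgroup G), x * y = y * x :=
    h.ab P P.isPGroup'
  have hsN : ∀ x ∈ (P : Subgroup G), s * x * s ∈ (P : Subgroup G) := by
    intro x hx
    have := hN x hx
    rwa [hs.inv_eq] at this
  by_cases hfix : ∀ x ∈ (P : Subgroup G), s * x * s = x → x = 1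
  · intro z hz
    have := inverts_of_fixed_trivial hab s hs.2 hsN hfix z hz
    rw [hs.inv_eq]; exact this
  · exfalso
    push Not at hfix
    obtain ⟨c, hcP, hsc, hc1⟩ := hfix
    have hsc' : s * c = c * s := by
      calc s * c = (s * c * s) * s⁻¹ := by group
        _ = c * s := by rw [hsc, hs.inv_eq]
    have hinv : ∀ x ∈ (P : Subgroup G), s * x * s = x⁻¹ → x = 1 := by
      intro x hx hsx
      exact h.inv_or_cent hCA P hs hcP hc1 hsc' hx (by rw [hs.inv_eq]; exact hsx)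
    have hfixall := fixes_of_inverted_trivial s hs.2 hsN hinv
    apply h.not_cent_sylow hCA P hs
    intro z hz
    have := hfixall z hz
    calc s * z = (s * z * s) * s⁻¹ := by group
      _ = z * s := by rw [this, hs.inv_eq]

/-- the product of two non-commuting involutions is a nontrivial `p`-element. -/
theorem prod_pel {u s : G} (hu : Inv u) (hs : Inv s) (hne : u * s ≠ s * u) :
    PEl p (u * s) ∧ u * s ≠ 1 := by
  have hodd : Odd (orderOf (u * s)) := by
    by_contra hnot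
    rw [Nat.not_odd_iff_even] at hnot
    obtain ⟨hz2, hzu, hzs⟩ := TwoInv.central_involution hu.2 hs.2 (orderOf_pos _) hnot
    have hzi : Inv ((u * s) ^ (orderOf (u * s) / 2)) :=
      ⟨TwoInv.ne_one_of_orderOf hz2, TwoInv.sq_of_orderOf hz2⟩
    exact hne (hCA _ hzi u s hzu.eq.symm hzs.eq.symm)
  refine ⟨h.pel_mul_of_odd hu hs hodd, ?_⟩
  intro h1
  apply hne
  have : s = u := by
    rw [eq_inv_of_mul_eq_one_right h1, hu.inv_eq]
  rw [this]

/-- no nontrivial `p`-element commutes with an involution. -/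
theorem pel_comm_inv_eq_one {c v : G} (hc : PEl p c) (hv : Inv v) (hcv : c * v = v * c) :
    c = 1 := by
  haveI : Fact p.Prime := ⟨h.hp⟩
  by_contra hc1
  obtain ⟨u, s, hu, hs, hne⟩ := h.exists_noncomm
  obtain ⟨hxp, hx1⟩ := h.prod_pel hCA hu hs hne
  have hux : u * (u * s) * u⁻¹ = (u * s)⁻¹ := TwoInv.conj_left hu.2 hs.2
  obtain ⟨P, hP⟩ := h.cent_sylow hCA hxp hx1 hu hux
  have hN : ∀ z ∈ P, u * z * u⁻¹ ∈ P := fun z hz =>
    (hP _).mpr (conj_comm_of_inverts hux ((hP z).mp hz))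
  have hinv := h.inverts_sylow hCA P hu hN
  obtain ⟨P₀, hP₀⟩ := hc.zpowers.exists_le_sylow
  obtain ⟨g, hg⟩ := MulAction.exists_smul_eq G P₀ P
  have hcP : g * c * g⁻¹ ∈ P := by
    rw [← hg, conj_mem_smul_sylow_iff]; exact hP₀ (Subgroup.mem_zpowers c)
  refine h.no_inv_cent hCA (hc.conj g) ?_ hu (hinv _ hcP) (hv.conj g) ?_
  · intro h1
    apply hc1
    have : c = g⁻¹ * (g * c * g⁻¹) * g := by group
    rw [this, h1]; group
  · exact (conj_comm g hcv).symm

/-- the centralizer of `t ∈ Q` is `Q`. -/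
theorem mem_of_comm {t : G} (ht : t ∈ Q) (ht1 : t ≠ 1) {g : G} (hg : g * t = t * g) : g ∈ Q := by
  obtain ⟨Y, hYc, hYp, hYN, hYall, hYcard⟩ := h.core ht ht1
  have hYM : Y ≤ Subgroup.centralizer ({t} : Set G) := fun y hy => mem_cent_iff.mpr (hYc y hy)
  have hQM : (Q : Subgroup G) ≤ Subgroup.centralizer ({t} : Set G) :=
    fun x hx => mem_cent_iff.mpr (h.Q_comm x hx t ht)
  obtain ⟨y, hy, x, hx, rfl⟩ :=
    h.exists_mul_of_card hYM hQM hYp hYcard g (mem_cent_iff.mpr hg)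
  have : y = 1 :=
    h.pel_comm_inv_eq_one hCA (PEl.of_mem hYp hy) (h.inv_of_mem_Q ht ht1) (hYc y hy)
  rw [this, one_mul]; exact hx

/-- two commuting involutions normalizing the same Sylow `p`-subgroup are equal. -/
theorem inv_eq_of_comm_of_normalize (P : Sylow p G) {s s' : G} (hs : Inv s) (hs' : Inv s')
    (hN : ∀ z ∈ P, s * z * s⁻¹ ∈ P) (hN' : ∀ z ∈ P, s' * z * s'⁻¹ ∈ P)
    (hc : s * s' = s' * s) : s = s' := by
  by_contra hne
  have hi := h.inverts_sylow hCA P hs hN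
  have hi' := h.inverts_sylow hCA P hs' hN'
  have hz : Inv (s * s') := by
    refine ⟨fun h1 => hne ?_, ?_⟩
    · rw [eq_inv_of_mul_eq_one_right h1, hs.inv_eq]
    · calc s * s' * (s * s') = s * (s' * s) * s' := by group
        _ = s * (s * s') * s' := by rw [hc]
        _ = (s * s) * (s' * s') := by group
        _ = 1 := by rw [hs.2, hs'.2, one_mul]
  apply h.not_cent_sylow hCA P hz
  intro z hz'
  apply comm_of_conj_eq
  have e : s * s' * z * (s * s')⁻¹ = s * (s' * z * s'⁻¹) * s⁻¹ := by group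
  rw [e, hi' z hz', hi _ ((P : Subgroup G).inv_mem hz'), inv_inv]

end Cfg

end Cfsg.Agent.Lib.Helper2.S4017
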