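import Cfsg.Agent.Lib.Helper2.S4017D

/-! S4017, equality case, case C, part 1: the structure of the centralizer of an involution. -/

namespace Cfsg.Agent.Lib.Helper2.S4017

open Subgroup Pointwise Cfg

universe u

variable {G : Type u} [Group G] [Finite G] {p a : ℕ} {Q : Sylow 2 G} {α : G}

/-- the structure of the centralizer of the involution `v` in case C. -/
structure Good (G : Type*) [Group G] (p : ℕ) (v : G) (P : Sylow p G) : Prop where
  cent : ∀ x ∈ P, v * x = x * v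
  all : ∀ g, g * v = v * g → PEl p g → g ∈ P
  inv : ∀ w, Inv w → w ≠ v → w * v = v * w → ∀ x ∈ P, w * x * w⁻¹ = x⁻¹
  norm : ∀ g, (∀ x ∈ P, g * x * g⁻¹ ∈ P) → g * v = v * g
  ne : ∃ x ∈ P, x ≠ 1

/-- intermediate data in case C. -/
structure CData (G : Type*) [Group G] (p : ℕ) (Q : Sylow 2 G) (t : G) (P : Sylow p G) : Prop where
  ht : t ∈ Q
  ht1 : t ≠ 1
  all : ∀ y, PEl p y → y * t = t * y → y ∈ P
  QN : ∀ x ∈ Q, ∀ z ∈ P, x * z * x⁻¹ ∈ P
  contra : (∀ z ∈ P, ∀ x ∈ Q, z * x * z⁻¹ ∈ Q) → False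

theorem exists_cdata (h : Cfg G p a Q α) {t : G} (ht : t ∈ Q) (ht1 : t ≠ 1) {y₀ : G}
    (hy₀ : PEl p y₀) (hy₀t : y₀ * t = t * y₀) {x₁ : G} (hx₁ : x₁ ∈ Q)
    (hne : x₁ * y₀ ≠ y₀ * x₁) : ∃ P : Sylow p G, CData G p Q t P := by
  haveI : Fact p.Prime := ⟨h.hp⟩
  haveI : Fact (Nat.Prime 2) := ⟨Nat.prime_two⟩
  obtain ⟨Y, hYc, hYp, hYN, hYall, hYcard⟩ := h.core ht ht1
  have hy₀Y : y₀ ∈ Y := hYall y₀ hy₀t hy₀
  have hYne : Y ≠ ⊥ := by
    intro hb
    rw [hb] at hy₀Y
    have : y₀ = 1 := Subgroup.mem_bot.mp hy₀Y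
    apply hne; rw [this]; simp
  have hM := h.normalizer_ne_top hYp hYne
  have hQM : (Q : Subgroup G) ≤ Subgroup.normalizer (Y : Set G) := by
    intro x hx
    apply mem_normalizer_of_conj_mem
    exact hYN x (h.Q_comm x hx t ht)
  have hdisjY : Disjoint Y (Q : Subgroup G) :=
    IsPGroup.disjoint_of_ne p 2 h.p_ne_two Y Q hYp Q_isPGroup
  rcases h.dichotomy hM hQM with hn | ⟨P₀, hP₀M, hP₀p, hP₀N, hP₀all, -⟩
  · exfalso
    apply hne
    have := commute_of_mutual hdisjY (fun y hy x hx => hn y (Subgroup.le_normalizer hy) x hx)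
      (fun x hx y hy => hYN x (h.Q_comm x hx t ht) y hy) y₀ hy₀Y x₁ hx₁
    exact this.symm
  · obtain ⟨P, hP⟩ := hP₀p.exists_le_sylow
    have hYP₀ : Y ≤ P₀ := fun y hy => hP₀all y (Subgroup.le_normalizer hy) (PEl.of_mem hYp hy)
    have hPP₀ : (P : Subgroup G) ≤ P₀ := by
      intro x hx
      apply hP₀all x ?_ (PEl.of_mem P.isPGroup' hx)
      apply mem_normalizer_of_conj_mem
      intro y hy
      have : x * y = y * x := h.ab P P.isPGroup' x hx y (hP (hYP₀ hy))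
      rw [conj_eq_of_comm this]; exact hy
    have hQN : ∀ x ∈ Q, ∀ z ∈ P, x * z * x⁻¹ ∈ P := by
      intro x hx z hz
      exact hP (hP₀N x (hQM hx) z (hPP₀ hz))
    refine ⟨P, ⟨ht, ht1, fun y hy hyt => hP (hYP₀ (hYall y hyt hy)), hQN, ?_⟩⟩
    intro hPQ
    have hdisj : Disjoint (P : Subgroup G) (Q : Subgroup G) :=
      IsPGroup.disjoint_of_ne p 2 h.p_ne_two _ _ P.isPGroup' Q_isPGroup
    have := commute_of_mutual hdisj hPQ hQN y₀ (hP (hYP₀ hy₀Y)) x₁ hx₁
    exact hne this.symm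

namespace CData

variable {t : G} {P : Sylow p G} (d : CData G p Q t P) (h : Cfg G p a Q α)

include d

omit [Finite G] in
theorem exists_ne_one : ∃ x ∈ P, x ≠ 1 := by
  by_contra hall
  push Not at hall
  apply d.contra
  intro z hz x hx
  rw [hall z hz]; simpa using hx

include h

theorem no_cent {k : G} (hk : PEl p k) (hkQ : ∀ x ∈ Q, x * k = k * x) : k = 1 := by
  haveI : Fact p.Prime := ⟨h.hp⟩
  by_contra hk1
  have hkt : k * t = t * k := (hkQ t d.ht).symm
  have hkP : k ∈ P := d.all k hk hkt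
  set Z : Subgroup G := (P : Subgroup G) ⊓ Subgroup.centralizer ((Q : Subgroup G) : Set G) with hZ
  have hZp : IsPGroup p Z := P.isPGroup'.to_le inf_le_left
  have hkZ : k ∈ Z :=
    Subgroup.mem_inf.mpr ⟨hkP, Subgroup.mem_centralizer_iff.mpr (fun x hx => hkQ x hx)⟩
  have hαZ : ∀ z ∈ Z, α * z * α⁻¹ ∈ Z := by
    intro z hz
    obtain ⟨hzP, hzC⟩ := Subgroup.mem_inf.mp hz
    rw [Subgroup.mem_centralizer_iff] at hzC
    have hcen : ∀ x ∈ Q, x * (α * z * α⁻¹) = (α * z * α⁻¹) * x := by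
      intro x hx
      have hx' : α⁻¹ * x * α ∈ Q := h.αinv_N x hx
      have := hzC _ hx'
      calc x * (α * z * α⁻¹) = α * ((α⁻¹ * x * α) * z) * α⁻¹ := by group
        _ = α * (z * (α⁻¹ * x * α)) * α⁻¹ := by rw [this]
        _ = (α * z * α⁻¹) * x := by group
    exact Subgroup.mem_inf.mpr ⟨d.all _ ((PEl.of_mem P.isPGroup' hzP).conj α) (hcen t d.ht).symm,
      Subgroup.mem_centralizer_iff.mpr hcen⟩
  have hkα : k * α = α * k := h.commute_of_normalizes Z hZp h.hαp hαZ k hkZ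
  have hN := h.le_normalizer_of_moves (h.normalizer_zpowers_ne_top hk hk1)
    (fun x hx => mem_normalizer_zpowers_of_comm (hkQ x hx))
    (mem_normalizer_zpowers_of_comm hkα.symm) h.hαp h.hαN d.ht (h.α_moves d.ht d.ht1)
  apply d.contra
  intro z hz x hx
  exact hN z (mem_normalizer_zpowers_of_comm (h.ab P P.isPGroup' z hz k hkP)) x hx

theorem ti (j : ℕ) (hne : α ^ j * t * (α ^ j)⁻¹ ≠ t) {c : G} (hcP : c ∈ P)
    (hc' : (α ^ j)⁻¹ * c * α ^ j ∈ P) : c = 1 := by
  haveI : Fact p.Prime := ⟨h.hp⟩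
  haveI : Fact (Nat.Prime 2) := ⟨Nat.prime_two⟩
  by_contra hc1
  have hβp : PEl p (α ^ j) := h.hαp.pow j
  have hβN : ∀ x ∈ Q, α ^ j * x * (α ^ j)⁻¹ ∈ Q := conj_pow_mem (H := (Q : Subgroup G)) h.hαN j
  have hβN' : ∀ x ∈ Q, (α ^ j)⁻¹ * x * α ^ j ∈ Q := conj_inv_mem (H := (Q : Subgroup G)) hβN
  generalize α ^ j = β at hne hc' hβp hβN hβN'
  set P' : Sylow p G := β • P with hP'
  have hmemP' : ∀ z, z ∈ P' ↔ β⁻¹ * z * β ∈ P := fun z => mem_smul_sylow_iff P β z
  set R : Subgroup G := (P : Subgroup G) ⊓ (P' : Subgroup G) with hR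
  have hcR : c ∈ R := ⟨hcP, (hmemP' c).mpr hc'⟩
  have hRp : IsPGroup p R := P.isPGroup'.to_le inf_le_left
  have hRne : R ≠ ⊥ := by
    intro hb; rw [hb] at hcR; exact hc1 (Subgroup.mem_bot.mp hcR)
  have hN := h.normalizer_ne_top hRp hRne
  have hQN' : ∀ x ∈ Q, ∀ z ∈ P', x * z * x⁻¹ ∈ P' := by
    intro x hx z hz
    rw [hmemP'] at hz ⊢
    have := d.QN _ (hβN' x hx) _ hz
    have e : β⁻¹ * (x * z * x⁻¹) * β = (β⁻¹ * x * β) * (β⁻¹ * z * β) * (β⁻¹ * x * β)⁻¹ := by group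
    rw [e]; exact this
  have hQle : (Q : Subgroup G) ≤ Subgroup.normalizer (R : Set G) := by
    intro x hx
    apply mem_normalizer_of_conj_mem
    rintro r ⟨hr1, hr2⟩
    exact ⟨d.QN x hx r hr1, hQN' x hx r hr2⟩
  have hPle : (P : Subgroup G) ≤ Subgroup.normalizer (R : Set G) := by
    intro z hz
    apply mem_normalizer_of_conj_mem
    rintro r ⟨hr1, hr2⟩
    have : z * r = r * z := h.ab P P.isPGroup' z hz r hr1
    rw [conj_eq_of_comm this]; exact ⟨hr1, hr2⟩
  have hP'le : (P' : Subgroup G) ≤ Subgroup.normalizer (R : Set G) := by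
    intro z hz
    apply mem_normalizer_of_conj_mem
    rintro r ⟨hr1, hr2⟩
    have : z * r = r * z := h.ab P' P'.isPGroup' z hz r hr2
    rw [conj_eq_of_comm this]; exact ⟨hr1, hr2⟩
  rcases h.dichotomy hN hQle with hn | ⟨P_N, -, hP_Np, -, hP_Nall, -⟩
  · exact d.contra (fun z hz x hx => hn z (hPle hz) x hx)
  · have h1 : (P : Subgroup G) ≤ P_N :=
      fun z hz => hP_Nall z (hPle hz) (PEl.of_mem P.isPGroup' hz)
    have h2 : (P' : Subgroup G) ≤ P_N :=
      fun z hz => hP_Nall z (hP'le hz) (PEl.of_mem P'.isPGroup' hz)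
    have e1 : P_N = P := P.is_maximal' hP_Np h1
    have e2 : P_N = P' := P'.is_maximal' hP_Np h2
    have heq : (P' : Subgroup G) = P := by rw [← e2, e1]
    have hβP : β ∈ P := by
      apply pel_mem_sylow P hβp
      intro z hz
      have : β * z * β⁻¹ ∈ (P' : Subgroup G) := (conj_mem_smul_sylow_iff P β z).mpr hz
      rwa [heq] at this
    apply hne
    have hcQ : β * t * β⁻¹ * t⁻¹ ∈ (Q : Subgroup G) :=
      (Q : Subgroup G).mul_mem (hβN t d.ht) ((Q : Subgroup G).inv_mem d.ht)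
    have hcP : β * t * β⁻¹ * t⁻¹ ∈ (P : Subgroup G) := by
      have : β * t * β⁻¹ * t⁻¹ = β * (t * β⁻¹ * t⁻¹) := by group
      rw [this]
      exact (P : Subgroup G).mul_mem hβP (d.QN t d.ht _ ((P : Subgroup G).inv_mem hβP))
    have hdisj : Disjoint (P : Subgroup G) (Q : Subgroup G) :=
      IsPGroup.disjoint_of_ne p 2 h.p_ne_two _ _ P.isPGroup' Q_isPGroup
    have := Subgroup.disjoint_def.mp hdisj hcP hcQ
    calc β * t * β⁻¹ = (β * t * β⁻¹ * t⁻¹) * t := by group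
      _ = t := by rw [this, one_mul]

theorem inverts {z : G} (hz : z ∈ Q) (hz1 : z ≠ 1) (hzt : z ≠ t) :
    ∀ x ∈ P, z * x * z⁻¹ = x⁻¹ := by
  obtain ⟨j, hj⟩ := h.htr t d.ht d.ht1 z hz hz1
  have hne : α ^ j * t * (α ^ j)⁻¹ ≠ t := by rw [hj]; exact hzt
  have hzi := h.inv_of_mem_Q hz hz1
  have hab : ∀ x ∈ (P : Subgroup G), ∀ y ∈ (P : Subgroup G), x * y = y * x :=
    h.ab P P.isPGroup'
  have hsN : ∀ x ∈ (P : Subgroup G), z * x * z ∈ (P : Subgroup G) := by
    intro x hx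
    have := d.QN z hz x hx
    rwa [hzi.inv_eq] at this
  have hfix : ∀ c ∈ (P : Subgroup G), z * c * z = c → c = 1 := by
    intro c hc hzc
    have hzc' : z * c = c * z := by
      calc z * c = (z * c * z) * z⁻¹ := by group
        _ = c * z := by rw [hzc, hzi.inv_eq]
    apply d.ti h j hne hc
    have hpel : PEl p ((α ^ j)⁻¹ * c * α ^ j) := by
      have := (PEl.of_mem P.isPGroup' hc).conj (α ^ j)⁻¹
      rwa [inv_inv] at this
    apply d.all _ hpel
    have ht' : t = (α ^ j)⁻¹ * z * α ^ j := by rw [← hj]; group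
    calc (α ^ j)⁻¹ * c * α ^ j * t = (α ^ j)⁻¹ * c * α ^ j * ((α ^ j)⁻¹ * z * α ^ j) := by
          rw [← ht']
      _ = (α ^ j)⁻¹ * (c * z) * α ^ j := by group
      _ = (α ^ j)⁻¹ * (z * c) * α ^ j := by rw [hzc']
      _ = ((α ^ j)⁻¹ * z * α ^ j) * ((α ^ j)⁻¹ * c * α ^ j) := by group
      _ = t * ((α ^ j)⁻¹ * c * α ^ j) := by rw [← ht']
  intro x hx
  have := inverts_of_fixed_trivial hab z hzi.2 hsN hfix x hx
  rw [hzi.inv_eq]; exact this

theorem a_eq_two : a = 2 := by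
  classical
  by_contra ha2
  have ha3 : 3 ≤ a := by have := h.ha; omega
  have hp7 : 7 ≤ p := by
    have h8 : 2 ^ 3 ≤ 2 ^ a := Nat.pow_le_pow_right (by norm_num) ha3
    have := h.hpa; omega
  obtain ⟨y, hyP, hy1⟩ := d.exists_ne_one
  have hcard := h.card_QS (Q := Q)
  obtain ⟨z, hzS, hzt⟩ := Finset.exists_mem_notMem_of_card_lt_card (s := {t}) (t := QS Q)
    (by rw [Finset.card_singleton, hcard]; omega)
  obtain ⟨z', hz'S, hz'⟩ := Finset.exists_mem_notMem_of_card_lt_card (s := {t, z, t * z})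
    (t := QS Q) (by
      have := Finset.card_le_three (a := t) (b := z) (c := t * z)
      rw [hcard]; omega)
  rw [mem_QS] at hzS hz'S
  simp only [Finset.mem_singleton] at hzt
  simp only [Finset.mem_insert, Finset.mem_singleton, not_or] at hz'
  obtain ⟨hz't, hz'z, hz'tz⟩ := hz'
  have hzi := h.inv_of_mem_Q hzS.2 hzS.1
  have hzz'Q : z * z' ∈ Q := (Q : Subgroup G).mul_mem hzS.2 hz'S.2
  have hzz'1 : z * z' ≠ 1 := by
    intro h1
    apply hz'z
    rw [eq_inv_of_mul_eq_one_right h1, hzi.inv_eq]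
  have hzz't : z * z' ≠ t := by
    intro h1
    apply hz'tz
    have : z' = z⁻¹ * t := by rw [← h1]; group
    rw [this, hzi.inv_eq]
    exact h.Q_comm z hzS.2 t d.ht
  have i1 := d.inverts h hzS.2 hzS.1 hzt y hyP
  have i2 := d.inverts h hz'S.2 hz'S.1 hz't y hyP
  have i3 := d.inverts h hzz'Q hzz'1 hzz't y hyP
  have i4 : z * z' * y * (z * z')⁻¹ = y := by
    have e : z * z' * y * (z * z')⁻¹ = z * (z' * y * z'⁻¹) * z⁻¹ := by group
    rw [e, i2, inv_conj_of_inverts i1]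
  have hyy : y = y⁻¹ := by rw [← i3, i4]
  exact hy1 (eq_one_of_eq_inv_of_odd
    (PEl.odd_orderOf h.hp h.p_ne_two (PEl.of_mem P.isPGroup' hyP)) hyy)

theorem cent (ha2 : a = 2) : ∀ x ∈ P, t * x = x * t := by
  classical
  have hp3 : p = 3 := by
    have := h.hpa; rw [ha2] at this; omega
  have hcard := h.card_QS (Q := Q)
  obtain ⟨z, hzS, hzt⟩ := Finset.exists_mem_notMem_of_card_lt_card (s := {t}) (t := QS Q)
    (by rw [Finset.card_singleton, hcard, hp3]; norm_num)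
  rw [mem_QS] at hzS
  simp only [Finset.mem_singleton] at hzt
  have hzi := h.inv_of_mem_Q hzS.2 hzS.1
  have hti := h.inv_of_mem_Q d.ht d.ht1
  have htzQ : t * z ∈ Q := (Q : Subgroup G).mul_mem d.ht hzS.2
  have htz1 : t * z ≠ 1 := by
    intro h1; apply hzt; rw [eq_inv_of_mul_eq_one_right h1, hti.inv_eq]
  have htzt : t * z ≠ t := by
    intro h1; apply hzS.1
    have := congrArg (t⁻¹ * ·) h1
    simpa using this
  intro x hx
  have i1 := d.inverts h hzS.2 hzS.1 hzt x hx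
  have i2 := d.inverts h htzQ htz1 htzt _ ((P : Subgroup G).inv_mem hx)
  apply comm_of_conj_eq
  have e : t * x * t⁻¹ = (t * z) * (z * x * z⁻¹) * (t * z)⁻¹ := by
    have : (t * z) * (z * x * z⁻¹) * (t * z)⁻¹ = t * (z * z) * x * (z * z)⁻¹ * t⁻¹ := by group
    rw [this, hzi.2]; group
  rw [e, i1, i2, inv_inv]

theorem good (ha2 : a = 2) : Good G p t P := by
  haveI : Fact p.Prime := ⟨h.hp⟩
  haveI : Fact (Nat.Prime 2) := ⟨Nat.prime_two⟩
  have hcent := d.cent h ha2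
  have hti := h.inv_of_mem_Q d.ht d.ht1
  obtain ⟨Y, hYc, hYp, hYN, hYall, hYcard⟩ := h.core d.ht d.ht1
  have hYP : ∀ y, y ∈ Y ↔ y ∈ (P : Subgroup G) := fun y =>
    ⟨fun hy => d.all y (PEl.of_mem hYp hy) (hYc y hy),
      fun hy => hYall y (hcent y hy).symm (PEl.of_mem P.isPGroup' hy)⟩
  have hYeq : Y = (P : Subgroup G) := Subgroup.ext hYP
  have hYM : Y ≤ Subgroup.centralizer ({t} : Set G) := fun y hy => mem_cent_iff.mpr (hYc y hy)
  have hQM : (Q : Subgroup G) ≤ Subgroup.centralizer ({t} : Set G) :=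
    fun x hx => mem_cent_iff.mpr (h.Q_comm x hx t d.ht)
  refine ⟨hcent, fun g hg hgp => d.all g hgp hg, ?_, ?_, d.exists_ne_one⟩
  · intro w hw hwt hwc x hx
    obtain ⟨y, hy, q, hq, rfl⟩ :=
      h.exists_mul_of_card hYM hQM hYp hYcard w (mem_cent_iff.mpr hwc)
    have hyP : y ∈ P := (hYP y).mp hy
    have hq1 : q ≠ 1 := by
      rintro rfl
      rw [mul_one] at hw
      exact hw.1 (h.eq_one_of_pel_of_pel2 (PEl.of_mem hYp hy) hw.pel)
    have hqt : q ≠ t := by
      rintro rfl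
      have hyq : y * q = q * y := hYc y hy
      have hyy : y * y = 1 := by
        have h2 := hw.2
        calc y * y = y * y * (q * q) := by rw [hti.2, mul_one]
          _ = y * (y * q) * q := by group
          _ = y * (q * y) * q := by rw [hyq]
          _ = (y * q) * (y * q) := by group
          _ = 1 := h2
      have hy1 := eq_one_of_sq_of_pel h.hp h.p_ne_two (PEl.of_mem hYp hy) hyy
      apply hwt; rw [hy1, one_mul]
    have i1 := d.inverts h hq hq1 hqt x hx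
    have e : y * q * x * (y * q)⁻¹ = y * (q * x * q⁻¹) * y⁻¹ := by group
    rw [e, i1]
    have : y * x⁻¹ = x⁻¹ * y := h.ab P P.isPGroup' y hyP _ ((P : Subgroup G).inv_mem hx)
    rw [this]; group
  · intro g hg
    have hPne : (P : Subgroup G) ≠ ⊥ := by
      obtain ⟨x, hx, hx1⟩ := d.exists_ne_one
      intro hb
      have hx' : x ∈ (P : Subgroup G) := hx
      rw [hb] at hx'
      exact hx1 (Subgroup.mem_bot.mp hx')
    have hN := h.normalizer_ne_top P.isPGroup' hPne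
    have hQle : (Q : Subgroup G) ≤ Subgroup.normalizer ((P : Subgroup G) : Set G) :=
      fun x hx => mem_normalizer_of_conj_mem (d.QN x hx)
    have hPle : (P : Subgroup G) ≤ Subgroup.normalizer ((P : Subgroup G) : Set G) :=
      Subgroup.le_normalizer
    rcases h.dichotomy hN hQle with hn | ⟨P', hP'N, hP'p, -, hP'all, hP'card⟩
    · exact (d.contra (fun z hz x hx => hn z (hPle hz) x hx)).elim
    · have h1 : (P : Subgroup G) ≤ P' :=
        fun z hz => hP'all z (hPle hz) (PEl.of_mem P.isPGroup' hz)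
      have e1 : P' = P := P.is_maximal' hP'p h1
      have hle : Subgroup.centralizer ({t} : Set G) ≤
          Subgroup.normalizer ((P : Subgroup G) : Set G) := by
        intro k hk
        apply mem_normalizer_of_conj_mem
        intro z hz
        have := hYN k (mem_cent_iff.mp hk) z ((hYP z).mpr hz)
        exact (hYP _).mp this
      have hcard : Nat.card (Subgroup.normalizer ((P : Subgroup G) : Set G)) ≤
          Nat.card (Subgroup.centralizer ({t} : Set G)) := by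
        rw [hP'card, hYcard, e1, hYeq]
      have heq := Subgroup.eq_of_le_of_card_ge hle hcard
      have hgN : g ∈ Subgroup.normalizer ((P : Subgroup G) : Set G) :=
        mem_normalizer_of_conj_mem hg
      rw [← heq] at hgN
      exact mem_cent_iff.mp hgN

end CData

/-- Case C: the structure of the centralizer of `t`. -/
theorem caseC_good (h : Cfg G p a Q α) {t : G} (ht : t ∈ Q) (ht1 : t ≠ 1) {y₀ : G}
    (hy₀ : PEl p y₀) (hy₀t : y₀ * t = t * y₀) {x₁ : G} (hx₁ : x₁ ∈ Q)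
    (hne : x₁ * y₀ ≠ y₀ * x₁) : a = 2 ∧ ∃ P : Sylow p G, Good G p t P := by
  obtain ⟨P, d⟩ := exists_cdata h ht ht1 hy₀ hy₀t hx₁ hne
  have ha2 := d.a_eq_two h
  exact ⟨ha2, P, d.good h ha2⟩

end Cfsg.Agent.Lib.Helper2.S4017
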