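import Cfsg.Agent.Lib.Helper2.S4017E
import Cfsg.Agent.S0071
import Cfsg.Agent.Lib.Helper1.Cores

namespace Cfsg.Agent.Lib.Helper2.S4017

universe u

open Cfsg.Agent.Lib.Helper1 in
/-- a normal `q`-subgroup is trivial in a counterexample. -/
theorem normal_q_trivial {G : Type u} [Group G] [Finite G] {p q r : ℕ} (hp : p.Prime) (hq : q.Prime)
    (hr : r.Prime) (hrp : r ≠ p) (hrq : r ≠ q) (hpq : p ≠ q)
    (hpG : p ∣ Nat.card G) (hrG : r ∣ Nat.card G)
    (hmix : ∀ H : Subgroup G, H ≠ ⊤ → ¬ IsPGroup q H → q ∣ Nat.card H → p ∣ Nat.card H)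
    (N : Subgroup G) (hN : N.Normal) (hNq : IsPGroup q N) : N = ⊥ := by
  haveI : Fact q.Prime := ⟨hq⟩
  haveI : Fact r.Prime := ⟨hr⟩
  by_contra hne
  obtain ⟨x, hx⟩ := exists_prime_orderOf_dvd_card' r hrG
  obtain ⟨k, hk⟩ := IsPGroup.iff_card.mp hNq
  have hk0 : k ≠ 0 := by
    rintro rfl
    rw [pow_zero] at hk
    exact hne (Subgroup.card_eq_one.mp hk)
  set H : Subgroup G := Subgroup.zpowers x ⊔ N with hH
  have hdvd : Nat.card H ∣ r * q ^ k := by
    have := card_sup_dvd_of_normal (Subgroup.zpowers x) N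
    rwa [Nat.card_zpowers, hx, hk] at this
  have hqH : q ∣ Nat.card H := by
    have h1 : Nat.card N ∣ Nat.card H := Subgroup.card_dvd_of_le le_sup_right
    rw [hk] at h1
    exact dvd_trans (dvd_pow_self q hk0) h1
  have hxH : x ∈ H := Subgroup.mem_sup_left (Subgroup.mem_zpowers x)
  have hnotq : ¬ IsPGroup q H := by
    intro hHq
    obtain ⟨j, hj⟩ := (PEl.of_mem hHq hxH).exists_orderOf hq
    rw [hx] at hj
    have : r ∣ q ^ j := hj ▸ dvd_rfl
    exact hrq ((Nat.prime_dvd_prime_iff_eq hr hq).mp (hr.dvd_of_dvd_pow this))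
  have hnodvd : ¬ p ∣ r * q ^ k := by
    intro h
    rcases (Nat.Prime.dvd_mul hp).mp h with h | h
    · exact hrp ((Nat.prime_dvd_prime_iff_eq hp hr).mp h).symm
    · exact hpq ((Nat.prime_dvd_prime_iff_eq hp hq).mp (hp.dvd_of_dvd_pow h))
  have hHtop : H ≠ ⊤ := by
    intro h
    rw [h, Subgroup.card_top] at hdvd
    exact hnodvd (dvd_trans hpG hdvd)
  exact hnodvd (dvd_trans (hmix H hHtop hnotq hqH) hdvd)


open Cfsg.Agent.Lib.Helper1 in
/-- a counterexample has no normal `q`-complement. -/
theorem no_normal_complement {G : Type u} [Group G] [Finite G] {p q r : ℕ} (hp : p.Prime)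
    (hq : q.Prime) (hr : r.Prime) (hrp : r ≠ p) (hrq : r ≠ q) (hpq : p ≠ q)
    (hpG : p ∣ Nat.card G) (hrG : r ∣ Nat.card G) (hqG : q ∣ Nat.card G)
    (hmix : ∀ H : Subgroup G, H ≠ ⊤ → ¬ IsPGroup q H → q ∣ Nat.card H → p ∣ Nat.card H)
    [Fact q.Prime] (Qs : Sylow q G) (N : Subgroup G) (hN : N.Normal)
    (hNQ : N.IsComplement' (Qs : Subgroup G)) : False := by
  haveI : Fact r.Prime := ⟨hr⟩
  have hcard := hNQ.card_mul_card
  have hQs := Qs.card_eq_multiplicity
  have hG0 : Nat.card G ≠ 0 := Nat.card_pos.ne'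
  have hqN : ¬ q ∣ Nat.card N := by
    intro h
    have : q ^ ((Nat.card G).factorization q + 1) ∣ Nat.card G := by
      have h1 : q * q ^ ((Nat.card G).factorization q) ∣ Nat.card N * Nat.card Qs := by
        rw [hQs]; exact Nat.mul_dvd_mul h dvd_rfl
      rw [hcard] at h1
      rwa [pow_succ, mul_comm]
    exact Nat.pow_succ_factorization_not_dvd hG0 hq this
  have hrN : r ∣ Nat.card N := by
    rw [← hcard, hQs] at hrG
    rcases (Nat.Prime.dvd_mul hr).mp hrG with h | h
    · exact h
    · exact absurd ((Nat.prime_dvd_prime_iff_eq hr hq).mp (hr.dvd_of_dvd_pow h)) hrq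
  obtain ⟨R⟩ : Nonempty (Sylow r N) := inferInstance
  set R' : Subgroup G := (R : Subgroup N).map N.subtype with hR'
  have hfrat : Subgroup.normalizer (R' : Set G) ⊔ N = ⊤ := Sylow.normalizer_sup_eq_top R
  set NR : Subgroup G := Subgroup.normalizer (R' : Set G) with hNR
  have hqNR : q ∣ Nat.card NR := by
    have h1 := card_sup_dvd_of_normal NR N
    rw [hfrat, Subgroup.card_top] at h1
    have h2 : q ∣ Nat.card NR * Nat.card N := dvd_trans hqG h1
    rcases (Nat.Prime.dvd_mul hq).mp h2 with h | h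
    · exact h
    · exact absurd h hqN
  obtain ⟨y, hy⟩ := exists_prime_orderOf_dvd_card' q hqNR
  set R'' : Subgroup NR := R'.subgroupOf NR with hR''
  haveI : R''.Normal := Subgroup.normal_in_normalizer
  have hR'le : R' ≤ NR := Subgroup.le_normalizer
  have hcR'' : Nat.card R'' = Nat.card R := by
    rw [hR'', Nat.card_congr (Subgroup.subgroupOfEquivOfLe hR'le).toEquiv, hR',
      Subgroup.card_map_of_injective N.subtype_injective]
  obtain ⟨j, hj⟩ := IsPGroup.iff_card.mp R.isPGroup'
  have hj0 : j ≠ 0 := by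
    rintro rfl
    rw [pow_zero] at hj
    have := R.dvd_card_of_dvd_card hrN
    rw [hj] at this
    exact hr.one_lt.ne' (Nat.dvd_one.mp this)
  set H₀ : Subgroup NR := Subgroup.zpowers y ⊔ R'' with hH₀
  have hdvd₀ : Nat.card H₀ ∣ q * r ^ j := by
    have := card_sup_dvd_of_normal (Subgroup.zpowers y) R''
    rwa [Nat.card_zpowers, hy, hcR'', hj] at this
  set H : Subgroup G := H₀.map NR.subtype with hH
  have hcH : Nat.card H = Nat.card H₀ := Subgroup.card_map_of_injective NR.subtype_injective
  have hdvd : Nat.card H ∣ q * r ^ j := hcH ▸ hdvd₀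
  have hqH : q ∣ Nat.card H := by
    rw [hcH]
    have h1 : Nat.card (Subgroup.zpowers y) ∣ Nat.card H₀ := Subgroup.card_dvd_of_le le_sup_left
    rwa [Nat.card_zpowers, hy] at h1
  have hrH : r ∣ Nat.card H := by
    rw [hcH]
    have h1 : Nat.card R'' ∣ Nat.card H₀ := Subgroup.card_dvd_of_le le_sup_right
    rw [hcR'', hj] at h1
    exact dvd_trans (dvd_pow_self r hj0) h1
  have hnotq : ¬ IsPGroup q H := by
    intro hHq
    obtain ⟨k, hk⟩ := IsPGroup.iff_card.mp hHq
    rw [hk] at hrH
    exact hrq ((Nat.prime_dvd_prime_iff_eq hr hq).mp (hr.dvd_of_dvd_pow hrH))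
  have hnodvd : ¬ p ∣ q * r ^ j := by
    intro h
    rcases (Nat.Prime.dvd_mul hp).mp h with h | h
    · exact hpq ((Nat.prime_dvd_prime_iff_eq hp hq).mp h)
    · exact hrp ((Nat.prime_dvd_prime_iff_eq hp hr).mp (hp.dvd_of_dvd_pow h)).symm
  have hHtop : H ≠ ⊤ := by
    intro h
    rw [h, Subgroup.card_top] at hdvd
    exact hnodvd (dvd_trans hpG hdvd)
  exact hnodvd (dvd_trans (hmix H hHtop hnotq hqH) hdvd)


theorem main_aux (p q : ℕ) (hp : p.Prime) (hq : q.Prime) (hpq : p ≠ q) (hp2 : p ≠ 2) :
    ∀ (n : ℕ) (G : Type u) [Group G] [Finite G], Nat.card G = n → p ∣ n → q ∣ n →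
      (∀ H : Subgroup G, H ≠ ⊤ → ¬ IsPGroup q H → q ∣ Nat.card H → p ∣ Nat.card H) →
      (q ^ n.factorization q - 1 < p ∨ (p = q ^ n.factorization q - 1 ∧
        ∀ P : Subgroup G, IsPGroup p P → ∀ x ∈ P, ∀ y ∈ P, x * y = y * x)) →
      ∀ r : ℕ, r.Prime → r ∣ n → r = p ∨ r = q := by
  intro n
  induction n using Nat.strong_induction_on with
  | _ n ih =>
  intro G _ _ hn hpn hqn hmix hlarge r hr hrn
  by_contra hcon
  push Not at hcon
  obtain ⟨hrp, hrq⟩ := hcon
  haveI : Fact q.Prime := ⟨hq⟩
  have hn0 : n ≠ 0 := by rw [← hn]; exact Nat.card_pos.ne'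
  -- (*)
  have star : ∀ H : Subgroup G, H ≠ ⊤ → q ∣ Nat.card H →
      ∀ r' : ℕ, r'.Prime → r' ∣ Nat.card H → r' = q ∨ r' = p := by
    intro H hH hqH r' hr' hr'H
    by_cases hHq : IsPGroup q H
    · left
      obtain ⟨k, hk⟩ := IsPGroup.iff_card.mp hHq
      rw [hk] at hr'H
      exact (Nat.prime_dvd_prime_iff_eq hr' hq).mp (hr'.dvd_of_dvd_pow hr'H)
    · have hpH := hmix H hH hHq hqH
      have hdvdn : Nat.card H ∣ n := hn ▸ Subgroup.card_subgroup_dvd_card H
      have hlt : Nat.card H < n := by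
        rcases Nat.lt_or_ge (Nat.card H) n with h | h
        · exact h
        · exfalso
          apply hH
          apply Subgroup.eq_top_of_card_eq
          rw [hn]
          exact le_antisymm (Nat.le_of_dvd (Nat.pos_of_ne_zero hn0) hdvdn) h
      have hH0 : Nat.card H ≠ 0 := Nat.card_pos.ne'
      have hfac : (Nat.card H).factorization q ≤ n.factorization q :=
        (Nat.factorization_le_iff_dvd hH0 hn0).mpr hdvdn q
      have hpow : q ^ (Nat.card H).factorization q ≤ q ^ n.factorization q :=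
        Nat.pow_le_pow_right hq.pos hfac
      have hmixH : ∀ L : Subgroup H, L ≠ ⊤ → ¬ IsPGroup q L → q ∣ Nat.card L → p ∣ Nat.card L := by
        intro L hL hLq hqL
        have hc : Nat.card (L.map H.subtype) = Nat.card L :=
          Subgroup.card_map_of_injective H.subtype_injective
        rw [← hc]
        apply hmix (L.map H.subtype)
        · intro htop
          apply hH
          rw [eq_top_iff, ← htop]
          exact Subgroup.map_subtype_le L
        · intro hq'
          apply hLq
          exact hq'.of_equiv (L.equivMapOfInjective H.subtype H.subtype_injective).symm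
        · rw [hc]; exact hqL
      have habH : (∀ P : Subgroup G, IsPGroup p P → ∀ x ∈ P, ∀ y ∈ P, x * y = y * x) →
          ∀ P : Subgroup H, IsPGroup p P → ∀ x ∈ P, ∀ y ∈ P, x * y = y * x := by
        intro hab P hP x hx y hy
        have hP' : IsPGroup p (P.map H.subtype) :=
          hP.of_equiv (P.equivMapOfInjective H.subtype H.subtype_injective)
        have := hab _ hP' x (Subgroup.mem_map_of_mem _ hx) y (Subgroup.mem_map_of_mem _ hy)
        exact Subtype.ext this
      have hlargeH : q ^ (Nat.card H).factorization q - 1 < p ∨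
          (p = q ^ (Nat.card H).factorization q - 1 ∧
            ∀ P : Subgroup H, IsPGroup p P → ∀ x ∈ P, ∀ y ∈ P, x * y = y * x) := by
        have hpos : 0 < q ^ (Nat.card H).factorization q := Nat.pow_pos hq.pos
        rcases hlarge with h | ⟨h1, h2⟩
        · left; omega
        · rcases Nat.lt_or_ge (q ^ (Nat.card H).factorization q) (q ^ n.factorization q) with h | h
          · left; omega
          · right
            exact ⟨by omega, habH h2⟩
      have := ih (Nat.card H) hlt H rfl hpH hqH hmixH hlargeH r' hr' hr'H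
      exact this.symm
  have hpG : p ∣ Nat.card G := hn ▸ hpn
  have hqG : q ∣ Nat.card G := hn ▸ hqn
  have hrG : r ∣ Nat.card G := hn ▸ hrn
  have Oq := normal_q_trivial hp hq hr hrp hrq hpq hpG hrG hmix
  obtain ⟨Qs⟩ : Nonempty (Sylow q G) := inferInstance
  have hfrob := Cfsg.Agent.S0071.result Qs
  by_cases hNC : ∃ N : Subgroup G, N.Normal ∧ N.IsComplement' (Qs : Subgroup G)
  · obtain ⟨N, hN, hNQ⟩ := hNC
    exact no_normal_complement hp hq hr hrp hrq hpq hpG hrG hqG hmix Qs N hN hNQ
  · rw [hfrob] at hNC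
    push Not at hNC
    obtain ⟨Q₀, hQ₀, g, hgN, hgcop, hgC⟩ := hNC
    have hQ₀q : IsPGroup q Q₀ := Qs.isPGroup'.to_le hQ₀
    have hQ₀ne : Q₀ ≠ ⊥ := by
      rintro rfl
      apply hgC
      rw [Subgroup.mem_centralizer_iff]
      intro h hh
      have : h = 1 := by simpa using hh
      rw [this]; simp
    have hNtop : Subgroup.normalizer (Q₀ : Set G) ≠ ⊤ := by
      intro h
      exact hQ₀ne (Oq Q₀ (Subgroup.normalizer_eq_top_iff.mp h) hQ₀q)
    have hqQ₀ : q ∣ Nat.card Q₀ := by
      rcases hQ₀q.card_eq_or_dvd with h | h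
      · exact absurd (Subgroup.card_eq_one.mp h) hQ₀ne
      · exact h
    have hqN : q ∣ Nat.card (Subgroup.normalizer (Q₀ : Set G)) :=
      dvd_trans hqQ₀ (Subgroup.card_dvd_of_le Subgroup.le_normalizer)
    have hgp : PEl p g := by
      have hd : orderOf g ∣ Nat.card (Subgroup.normalizer (Q₀ : Set G)) :=
        Subgroup.orderOf_dvd_natCard _ hgN
      have h0 : orderOf g ≠ 0 := (orderOf_pos g).ne'
      have := Nat.eq_prime_pow_of_unique_prime_dvd h0 (p := p) (by
        intro d hd' hdg
        rcases star _ hNtop hqN d hd' (dvd_trans hdg hd) with h | h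
        · exfalso
          rw [h] at hdg
          exact (Nat.Prime.coprime_iff_not_dvd hq).mp hgcop.symm hdg
        · exact h)
      exact PEl.of_orderOf this
    classical
    set S : Finset G := (Set.toFinite (Q₀ : Set G)).toFinset.erase 1 with hS
    have hmemS : ∀ x, x ∈ S ↔ x ≠ 1 ∧ x ∈ Q₀ := by
      intro x; simp [hS]
    have hSinv : ∀ x ∈ S, g * x * g⁻¹ ∈ S := by
      intro x hx
      rw [hmemS] at hx ⊢
      refine ⟨?_, (Subgroup.mem_normalizer_iff.mp hgN x).mp hx.2⟩
      intro h
      apply hx.1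
      have : x = g⁻¹ * (g * x * g⁻¹) * g := by group
      rw [this, h]; group
    have hcS : S.card = Nat.card Q₀ - 1 := by
      rw [hS, Finset.card_erase_of_mem (by simp [Q₀.one_mem]), ← Set.ncard_eq_toFinset_card,
        ← Nat.card_coe_set_eq]
      rfl
    have hcQ₀le : Nat.card Q₀ ≤ q ^ n.factorization q := by
      rw [← hn, ← Qs.card_eq_multiplicity]
      exact Subgroup.card_le_of_le hQ₀
    have hfixall : (∀ x ∈ S, g * x * g⁻¹ = x) → False := by
      intro hfix
      apply hgC
      rw [Subgroup.mem_centralizer_iff]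
      intro h hh
      by_cases h1 : h = 1
      · rw [h1]; simp
      · have := hfix h ((hmemS h).mpr ⟨h1, hh⟩)
        calc h * g = (g * h * g⁻¹) * g := by rw [this]
          _ = g * h := by group
    rcases hlarge with hl | ⟨hl, hab⟩
    · exact hfixall (conj_fix_of_card_lt hp S g hSinv hgp (by omega))
    · rcases Nat.lt_or_ge S.card p with hlt | hge
      · exact hfixall (conj_fix_of_card_lt hp S g hSinv hgp hlt)
      · have hcSp : S.card = p := by omega
        have hpos : 0 < Nat.card Q₀ := Nat.card_pos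
        have hcQ₀ : Nat.card Q₀ = q ^ n.factorization q := by omega
        have hQ₀eq : Q₀ = (Qs : Subgroup G) := by
          apply Subgroup.eq_of_le_of_card_ge hQ₀
          rw [hcQ₀, ← hn, ← Qs.card_eq_multiplicity]
        -- a moved point
        have hmv : ∃ x₀ ∈ S, g * x₀ * g⁻¹ ≠ x₀ := by
          by_contra hno
          push Not at hno
          exact hfixall hno
        obtain ⟨x₀, hx₀, hmv⟩ := hmv
        have htr := conj_trans_of_card_eq hp S g hSinv hgp hcSp x₀ hx₀ hmv
        -- q = 2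
        have hp1 : p + 1 = q ^ n.factorization q := by omega
        have hq2 : q = 2 := by
          have hodd : Odd p := hp.odd_of_ne_two hp2
          have hev : Even (q ^ n.factorization q) := by
            rw [← hp1]; exact hodd.add_one
          have hq_even : Even q := (Nat.even_pow.mp hev).1
          exact (Nat.Prime.even_iff hq).mp hq_even
        subst hq2
        have ha2 : 2 ≤ n.factorization 2 := by
          by_contra hlt
          have : n.factorization 2 ≤ 1 := by omega
          have h2 : 2 ^ n.factorization 2 ≤ 2 ^ 1 := Nat.pow_le_pow_right (by norm_num) this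
          have hp3 : 3 ≤ p := by
            have := hp.two_le
            omega
          omega
        have hQc : Nat.card Qs = 2 ^ n.factorization 2 := by
          rw [← hn]; exact Qs.card_eq_multiplicity
        have hmemS' : ∀ x, x ∈ S ↔ x ≠ 1 ∧ x ∈ Qs := by
          intro x; rw [hmemS, hQ₀eq]; rfl
        have hQe : ∀ x ∈ Qs, x * x = 1 := by
          have h2 : 2 ∣ Nat.card Qs := by rw [hQc]; exact dvd_pow_self 2 (by omega)
          obtain ⟨x₁, hx₁⟩ := exists_prime_orderOf_dvd_card' 2 h2
          have hx₁ne : (x₁ : G) ≠ 1 := by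
            intro h
            have : x₁ = 1 := Subtype.ext h
            rw [this, orderOf_one] at hx₁
            omega
          have hx₁sq : (x₁ : G) * x₁ = 1 := by
            have := pow_orderOf_eq_one x₁
            rw [hx₁, pow_two] at this
            exact congrArg Subtype.val this
          intro y hy
          by_cases hy1 : y = 1
          · rw [hy1]; simp
          · obtain ⟨k, hk⟩ := htr x₁ ((hmemS' _).mpr ⟨hx₁ne, x₁.2⟩) y ((hmemS' _).mpr ⟨hy1, hy⟩)
            rw [← hk]
            calc g ^ k * ↑x₁ * (g ^ k)⁻¹ * (g ^ k * ↑x₁ * (g ^ k)⁻¹)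
                = g ^ k * (↑x₁ * ↑x₁) * (g ^ k)⁻¹ := by group
              _ = 1 := by rw [hx₁sq]; group
        refine eq_case_false p (n.factorization 2) hp hp1 ha2 Qs hQc hQe g hgp ?_ ?_ ?_ ?_ Oq
          r hr hrG hrq hrp
        · intro x hx
          have := (Subgroup.mem_normalizer_iff.mp hgN x).mp (hQ₀eq ▸ hx)
          rw [hQ₀eq] at this
          exact this
        · intro x hx hx1 y hy hy1
          exact htr x ((hmemS' _).mpr ⟨hx1, hx⟩) y ((hmemS' _).mpr ⟨hy1, hy⟩)
        · exact star
        · exact hab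

end Cfsg.Agent.Lib.Helper2.S4017
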