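import Mathlib
import Cfsg.Agent.Lib.Helper12.Generation
import Cfsg.Agent.Lib.Helper27.CoprimeAbelian

/-!
# S4394, part A: the module lemma

An elementary abelian `p`-group `S` acting faithfully on a finite abelian `p`-group `W`
(through `σ : Γ →* MulAut W`), with `[W,S] ≤ W₀ ≤ C_W(S)` and `[w,S] = W₀` for every `w ∉ W₀`,
and acting faithfully on a `p'`-subgroup `K` of `Γ`, has order `p`; moreover `|W₀| = p`.
-/

set_option autoImplicit false

namespace Cfsg.Agent.Lib.Helper2.S4394A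

open Subgroup
open scoped commutatorElement

variable {Γ : Type*} [Group Γ] {W : Type*} [CommGroup W]

/-- `[W,H]` for a subgroup `H ≤ Γ` acting on `W` through `σ`. -/
def comW (σ : Γ →* MulAut W) (H : Subgroup Γ) : Subgroup W :=
  Subgroup.closure {y | ∃ h ∈ H, ∃ w : W, y = σ h w * w⁻¹}

theorem mem_comW (σ : Γ →* MulAut W) {H : Subgroup Γ} {h : Γ} (hh : h ∈ H) (w : W) :
    σ h w * w⁻¹ ∈ comW σ H :=
  Subgroup.subset_closure ⟨h, hh, w, rfl⟩

theorem comW_invariant (σ : Γ →* MulAut W) {H : Subgroup Γ} {g : Γ}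
    (hg : g ∈ normalizer (H : Set Γ)) {u : W} (hu : u ∈ comW σ H) : σ g u ∈ comW σ H := by
  unfold comW at hu ⊢
  induction hu using Subgroup.closure_induction with
  | mem y hy =>
    obtain ⟨h, hh, w, rfl⟩ := hy
    have h1 : σ g (σ h w * w⁻¹) = σ (g * h * g⁻¹) (σ g w) * (σ g w)⁻¹ := by
      rw [map_mul, map_inv]
      congr 1
      rw [← MulAut.mul_apply, ← MulAut.mul_apply, ← map_mul, ← map_mul]
      congr 2
      group
    rw [h1]
    exact Subgroup.subset_closure ⟨g * h * g⁻¹, (mem_normalizer_iff.mp hg h).mp hh, σ g w, rfl⟩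
  | one => rw [map_one]; exact one_mem _
  | mul a b _ _ ha hb => rw [map_mul]; exact mul_mem ha hb
  | inv a _ ha => rw [map_inv]; exact inv_mem ha

theorem comW_le (σ : Γ →* MulAut W) {H : Subgroup Γ} {T : Subgroup W}
    (h : ∀ g ∈ H, ∀ w : W, σ g w * w⁻¹ ∈ T) : comW σ H ≤ T := by
  unfold comW
  rw [Subgroup.closure_le]
  rintro _ ⟨g, hg, w, rfl⟩
  exact h g hg w

/-- an element fixing all its commutators `[w,h]` acts trivially when its order is prime to `p` -/
theorem act_trivial_of_fix_comm {p : ℕ} [hp : Fact p.Prime] (σ : Γ →* MulAut W)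
    (hW : IsPGroup p W) {h : Γ} (hcop : (orderOf h).Coprime p)
    (hfix : ∀ w : W, σ h (σ h w * w⁻¹) = σ h w * w⁻¹) (w : W) : σ h w = w := by
  set u : W := σ h w * w⁻¹ with hu
  have hhu : σ h u = u := hfix w
  have hw : σ h w = w * u := by rw [hu]; simp
  have key : ∀ n : ℕ, σ (h ^ n) w = w * u ^ n := by
    intro n
    induction n with
    | zero => simp
    | succ n ih =>
      rw [pow_succ', map_mul, MulAut.mul_apply, ih, map_mul, map_pow, hhu, hw, pow_succ]
      rw [mul_assoc, mul_comm u]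
  have h1 := key (orderOf h)
  rw [pow_orderOf_eq_one, map_one, MulAut.one_apply] at h1
  have h2 : u ^ orderOf h = 1 := by
    have := congrArg (fun z => w⁻¹ * z) h1
    simpa using this.symm
  obtain ⟨k, hk⟩ := hW u
  have h3 : orderOf u ∣ orderOf h := orderOf_dvd_of_pow_eq_one h2
  have h4 : orderOf u ∣ p ^ k := orderOf_dvd_of_pow_eq_one hk
  have h5 : orderOf u = 1 :=
    Nat.eq_one_of_dvd_coprimes (Nat.Coprime.pow_right k hcop) h3 h4
  have h6 : u = 1 := orderOf_eq_one_iff.mp h5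
  rw [hw, h6, mul_one]

/-- `C_W(H) ∩ [W,H] = 1` for a `p'`-group `H` acting on the finite abelian `p`-group `W`. -/
theorem fixed_inf_comW [Finite Γ] [Finite W] {p : ℕ} [hp : Fact p.Prime] (σ : Γ →* MulAut W)
    (hW : IsPGroup p W) {H : Subgroup Γ} (hH : ¬ p ∣ Nat.card H) {u : W}
    (hu : u ∈ comW σ H) (hfix : ∀ h ∈ H, σ h u = u) : u = 1 := by
  have hcop : Nat.Coprime (Nat.card (H.map σ)) (Nat.card W) := by
    obtain ⟨n, hn⟩ := hW.exists_card_eq
    rw [hn]
    apply Nat.Coprime.pow_right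
    have h1 : Nat.card (H.map σ) ∣ Nat.card H := Subgroup.card_map_dvd H σ
    have h2 : (Nat.card H).Coprime p :=
      ((Nat.Prime.coprime_iff_not_dvd hp.out).mpr hH).symm
    exact Nat.Coprime.coprime_dvd_left h1 h2
  have h := Cfsg.Agent.Lib.Helper27.fixed_inf_comm_eq_bot (H.map σ) hcop
  have hmem : u ∈ Cfsg.Agent.Lib.Helper27.autFixedSubgroup (H.map σ) ⊓
      Cfsg.Agent.Lib.Helper27.autCommSubgroup (H.map σ) := by
    refine ⟨?_, ?_⟩
    · rintro a ⟨g, hg, rfl⟩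
      exact hfix g hg
    · have hle : comW σ H ≤ Cfsg.Agent.Lib.Helper27.autCommSubgroup (H.map σ) := by
        apply comW_le
        intro g hg w
        refine Subgroup.subset_closure ⟨w, σ g, ⟨g, hg, rfl⟩, ?_⟩
        rw [mul_comm]
      exact hle hu
  rw [h] at hmem
  exact Subgroup.mem_bot.mp hmem


/-- the pointwise stabiliser in `Γ` of a subgroup of `W` -/
def fixer (σ : Γ →* MulAut W) (T : Subgroup W) : Subgroup Γ where
  carrier := {g | ∀ t ∈ T, σ g t = t}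
  one_mem' := fun t _ => by rw [map_one, MulAut.one_apply]
  mul_mem' := fun {a b} ha hb t ht => by rw [map_mul, MulAut.mul_apply, hb t ht, ha t ht]
  inv_mem' := fun {a} ha t ht => by
    have h1 : σ a⁻¹ (σ a t) = t := by
      rw [← MulAut.mul_apply, ← map_mul, inv_mul_cancel, map_one, MulAut.one_apply]
    rw [ha t ht] at h1
    exact h1

theorem mem_fixer (σ : Γ →* MulAut W) (T : Subgroup W) (g : Γ) :
    g ∈ fixer σ T ↔ ∀ t ∈ T, σ g t = t := Iff.rfl

/-- if `a` fixes `T` pointwise and `T` is `g⁻¹`-invariant then `⁅g,a⁆` fixes `T` pointwise -/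
theorem commutator_mem_fixer (σ : Γ →* MulAut W) (T : Subgroup W) {g a : Γ}
    (ha : a ∈ fixer σ T) (hg : ∀ t ∈ T, σ g⁻¹ t ∈ T) : ⁅g, a⁆ ∈ fixer σ T := by
  intro t ht
  rw [commutatorElement_def, map_mul, map_mul, map_mul, MulAut.mul_apply, MulAut.mul_apply,
    MulAut.mul_apply]
  have h1 : σ a⁻¹ t = t := (fixer σ T).inv_mem ha t ht
  rw [h1, ha _ (hg t ht), ← MulAut.mul_apply, ← map_mul, mul_inv_cancel, map_one,
    MulAut.one_apply]

theorem moduleLemma [Finite Γ] [Finite W] {p : ℕ} [hp : Fact p.Prime] (σ : Γ →* MulAut W)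
    (hσ : Function.Injective σ) (hW : IsPGroup p W)
    (S K : Subgroup Γ) (W₀ : Subgroup W)
    (hcomm : ∀ a ∈ S, ∀ b ∈ S, a * b = b * a) (hexp : ∀ a ∈ S, a ^ p = 1) (hS1 : S ≠ ⊥)
    (hSK : S ≤ normalizer (K : Set Γ)) (hpK : ¬ p ∣ Nat.card K)
    (hfaith : ∀ s ∈ S, (∀ k ∈ K, s * k = k * s) → s = 1)
    (ha : ∀ s ∈ S, ∀ w : W, σ s w * w⁻¹ ∈ W₀)
    (hb : ∀ s ∈ S, ∀ w ∈ W₀, σ s w = w)
    (hc : ∀ w : W, w ∉ W₀ → ∀ z ∈ W₀, ∃ s ∈ S, σ s w * w⁻¹ = z) :
    Nat.card S = p ∧ Nat.card W₀ = p := by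
  classical
  have hgen := Cfsg.Agent.Lib.Helper12.le_iSup_inf_centralizer_cohyper (p := p) hcomm hexp
    (Nat.card K) K rfl hSK hpK
  -- Step 1: a cohyperplane `D` and `k ∈ C_K(D)` not centralised by `S`
  have hex : ∃ D : Subgroup Γ, Cfsg.Agent.Lib.Helper12.IsCohyper S D ∧
      ∃ k ∈ K ⊓ centralizer (D : Set Γ), k ∉ centralizer (S : Set Γ) := by
    by_contra hcon
    push Not at hcon
    have h1 : K ≤ centralizer (S : Set Γ) := by
      refine hgen.trans (iSup_le fun D => ?_)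
      intro x hx
      exact hcon D.1 D.2 x hx
    apply hS1
    rw [eq_bot_iff]
    intro s hs
    rw [mem_bot]
    apply hfaith s hs
    intro k hk
    exact (mem_centralizer_iff.mp (h1 hk) s hs)
  obtain ⟨D, ⟨hDS, e, he, hsup⟩, k, hk, hkS⟩ := hex
  have hkK : k ∈ K := hk.1
  have hkD : ∀ d ∈ D, d * k = k * d := fun d hd => mem_centralizer_iff.mp hk.2 d hd
  -- `e` does not commute with `k`
  have hek : e * k ≠ k * e := by
    intro hcomm_ek
    apply hkS
    rw [mem_centralizer_iff]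
    intro s hs
    have hle : D ⊔ zpowers e ≤ centralizer ({k} : Set Γ) := by
      apply sup_le
      · intro d hd
        rw [mem_centralizer_iff]
        intro x hx
        rw [Set.mem_singleton_iff.mp hx]
        exact (hkD d hd).symm
      · rw [zpowers_le, mem_centralizer_iff]
        intro x hx
        rw [Set.mem_singleton_iff.mp hx]
        exact hcomm_ek.symm
    have h2 := hle (hsup ▸ hs)
    rw [mem_centralizer_iff] at h2
    exact (h2 k rfl).symm
  -- the subgroups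
  obtain ⟨S', hS'⟩ : ∃ S' : Subgroup Γ, S' = K ⊓ centralizer (D : Set Γ) := ⟨_, rfl⟩
  obtain ⟨A, hA⟩ : ∃ A : Subgroup Γ, A = zpowers e := ⟨_, rfl⟩
  have hAS : A ≤ S := by rw [hA, zpowers_le]; exact he
  have heA : e ∈ A := by rw [hA]; exact mem_zpowers e
  have hkS' : k ∈ S' := by rw [hS']; exact hk
  have hS'K : S' ≤ K := by rw [hS']; exact inf_le_left
  have hS'D : ∀ g ∈ S', ∀ d ∈ D, d * g = g * d := by
    intro g hg d hd
    rw [hS'] at hg
    exact mem_centralizer_iff.mp hg.2 d hd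
  -- `S` normalises `S'`
  have hSS' : S ≤ normalizer (S' : Set Γ) := by
    apply Cfsg.Agent.Lib.Helper1.le_normalizer_of_forall_conj_mem
    intro s hs g hg
    rw [hS'] at hg ⊢
    refine Subgroup.mem_inf.mpr ⟨(mem_normalizer_iff.mp (hSK hs) g).mp hg.1, ?_⟩
    rw [mem_centralizer_iff]
    intro d hd
    have h1 : d * g = g * d := mem_centralizer_iff.mp hg.2 d hd
    have h2 : d * s = s * d := hcomm d (hDS hd) s hs
    have h3 : d * s⁻¹ = s⁻¹ * d := by
      have := congrArg (fun z => s⁻¹ * z * s⁻¹) h2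
      simp only [mul_assoc, mul_inv_cancel, mul_one, inv_mul_cancel_left] at this
      exact this.symm
    calc d * (s * g * s⁻¹) = (d * s) * g * s⁻¹ := by group
      _ = s * (d * g) * s⁻¹ := by rw [h2]; group
      _ = s * g * (d * s⁻¹) := by rw [h1]; group
      _ = s * g * s⁻¹ * d := by rw [h3]; group
  have hAS' : A ≤ normalizer (S' : Set Γ) := hAS.trans hSS'
  obtain ⟨R, hR⟩ : ∃ R : Subgroup Γ, R = ⁅S', A⁆ := ⟨_, rfl⟩
  have hRS' : R ≤ S' := by
    rw [hR]; exact Cfsg.Agent.Lib.Helper1.commutator_le_of_le_normalizer hAS'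
  have hS'R : S' ≤ normalizer (R : Set Γ) := by
    rw [hR]; exact Cfsg.Agent.Lib.Helper1.le_normalizer_commutator_left
  have hAR : A ≤ normalizer (R : Set Γ) := by
    rw [hR]; exact Cfsg.Agent.Lib.Helper1.le_normalizer_commutator_right
  have hRne : R ≠ ⊥ := by
    intro h
    have h1 : ⁅k, e⁆ ∈ R := by rw [hR]; exact Subgroup.commutator_mem_commutator hkS' heA
    rw [h, mem_bot, commutatorElement_eq_one_iff_mul_comm] at h1
    exact hek h1.symm
  have hpR : ¬ p ∣ Nat.card R := fun h =>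
    hpK (h.trans (Subgroup.card_dvd_of_le (hRS'.trans hS'K)))
  have hRcop : ∀ r ∈ R, (orderOf r).Coprime p := by
    intro r hr
    have h1 : orderOf r ∣ Nat.card R := by
      have := orderOf_dvd_natCard (⟨r, hr⟩ : R)
      rwa [Subgroup.orderOf_mk] at this
    have h2 : (Nat.card R).Coprime p := ((Nat.Prime.coprime_iff_not_dvd hp.out).mpr hpR).symm
    exact Nat.Coprime.coprime_dvd_left h1 h2
  -- elements of `S` fix `W₀` pointwise
  have hSfix : S ≤ fixer σ W₀ := fun s hs w hw => hb s hs w hw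
  -- `T = [W,D]`
  obtain ⟨T, hT⟩ : ∃ T : Subgroup W, T = comW σ D := ⟨_, rfl⟩
  have hTW₀ : T ≤ W₀ := by
    rw [hT]; exact comW_le σ (fun d hd w => ha d (hDS hd) w)
  have hTinv : ∀ g ∈ S', ∀ t ∈ T, σ g⁻¹ t ∈ T := by
    intro g hg t ht
    rw [hT] at ht ⊢
    apply comW_invariant σ _ ht
    apply inv_mem
    apply Cfsg.Agent.Lib.Helper1.le_normalizer_of_forall_conj_mem (K := S') (N := D) _ hg
    intro x hx d hd
    have h1 := hS'D x hx d hd
    have : x * d * x⁻¹ = d := by rw [← h1]; group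
    rw [this]; exact hd
  -- `R` fixes `T` pointwise
  have hRT : R ≤ fixer σ T := by
    rw [hR, Subgroup.commutator_le]
    intro g hg a haA
    apply commutator_mem_fixer σ T _ (hTinv g hg)
    intro t ht
    exact hb a (hAS haA) t (hTW₀ ht)
  -- `U = [W,R]`
  obtain ⟨U, hU⟩ : ∃ U : Subgroup W, U = comW σ R := ⟨_, rfl⟩
  have hUinv : ∀ g ∈ normalizer (R : Set Γ), ∀ u ∈ U, σ g u ∈ U := by
    intro g hg u hu
    rw [hU] at hu ⊢
    exact comW_invariant σ hg hu
  -- `D` fixes `U` pointwise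
  have hDU : D ≤ fixer σ U := by
    intro d hd u hu
    rw [hU] at hu
    unfold comW at hu
    induction hu using Subgroup.closure_induction with
    | mem y hy =>
      obtain ⟨r, hr, w, rfl⟩ := hy
      have hdr : d * r = r * d := hS'D r (hRS' hr) d hd
      have ht : σ d w * w⁻¹ ∈ T := by rw [hT]; exact mem_comW σ hd w
      have h1 : σ d w = w * (σ d w * w⁻¹) := by simp
      have h2 : σ r (σ d w * w⁻¹) = σ d w * w⁻¹ := hRT hr _ ht
      have h3 : σ d (σ r w) = σ r (σ d w) := by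
        rw [← MulAut.mul_apply, ← MulAut.mul_apply, ← map_mul, ← map_mul, hdr]
      rw [map_mul, map_inv, h3]
      have h4 : σ r (σ d w) = σ r w * (σ d w * w⁻¹) := by
        conv_lhs => rw [h1]
        rw [map_mul, h2]
      rw [h4]
      have : (σ d w)⁻¹ = w⁻¹ * (σ d w * w⁻¹)⁻¹ := by
        conv_lhs => rw [h1]
        rw [mul_inv]
      rw [this]
      generalize σ d w * w⁻¹ = t
      generalize σ r w = v
      rw [mul_assoc, mul_comm t, mul_assoc, inv_mul_cancel, mul_one]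
    | one => rw [map_one]
    | mul a b _ _ ha' hb' => rw [map_mul, ha', hb']
    | inv a _ ha' => rw [map_inv, ha']
  -- `U` is not inside `W₀`
  have hUW₀ : ¬ U ≤ W₀ := by
    intro hle
    have hRU : R ≤ fixer σ U := by
      rw [hR, Subgroup.commutator_le]
      intro g hg a haA
      apply commutator_mem_fixer σ U
      · intro u hu
        exact hb a (hAS haA) u (hle hu)
      · intro u hu
        exact hUinv g⁻¹ (inv_mem (hS'R hg)) u hu
    apply hRne
    rw [eq_bot_iff]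
    intro r hr
    rw [mem_bot]
    apply hσ
    rw [map_one]
    apply MulEquiv.ext
    intro w
    rw [MulAut.one_apply]
    apply act_trivial_of_fix_comm σ hW (hRcop r hr)
    intro w'
    apply hRU hr
    rw [hU]
    exact mem_comW σ hr w'
  obtain ⟨w, hwU, hwW₀⟩ : ∃ w ∈ U, w ∉ W₀ := by
    by_contra hcon
    push Not at hcon
    exact hUW₀ (fun u hu => hcon u hu)
  -- the homomorphism `s ↦ [w,s]`
  have hmul : ∀ s ∈ S, ∀ s' ∈ S, σ (s * s') w * w⁻¹ = (σ s w * w⁻¹) * (σ s' w * w⁻¹) := by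
    intro s hs s' hs'
    have h1 : σ s' w = w * (σ s' w * w⁻¹) := by simp
    have h2 : σ s (σ s' w * w⁻¹) = σ s' w * w⁻¹ := hb s hs _ (ha s' hs' w)
    rw [map_mul, MulAut.mul_apply]
    conv_lhs => rw [h1]
    rw [map_mul, h2]
    generalize σ s' w * w⁻¹ = c
    generalize σ s w = v
    rw [mul_assoc, mul_comm c, ← mul_assoc]
  let ψ : ↥S →* W :=
    { toFun := fun s => σ (s : Γ) w * w⁻¹
      map_one' := by simp
      map_mul' := fun s s' => hmul s s.2 s' s'.2 }
  have hψ : ∀ s : ↥S, ψ s = σ (s : Γ) w * w⁻¹ := fun s => rfl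
  obtain ⟨u₀, hu₀⟩ : ∃ u₀ : W, u₀ = σ e w * w⁻¹ := ⟨_, rfl⟩
  have hu₀W₀ : u₀ ∈ W₀ := by rw [hu₀]; exact ha e he w
  have hu₀p : u₀ ^ p = 1 := by
    have h1 : ψ ⟨e, he⟩ = u₀ := by rw [hψ, hu₀]
    rw [← h1, ← map_pow]
    have : (⟨e, he⟩ : ↥S) ^ p = 1 := Subtype.ext (by
      rw [Subgroup.coe_pow]; exact hexp e he)
    rw [this, map_one]
  -- every `[w,s]` is a power of `u₀`
  have hSpow : ∀ s ∈ S, σ s w * w⁻¹ ∈ zpowers u₀ := by
    have hB : D ⊔ zpowers e ≤ ((zpowers u₀).comap ψ).map S.subtype := by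
      apply sup_le
      · intro d hd
        refine ⟨⟨d, hDS hd⟩, ?_, rfl⟩
        rw [SetLike.mem_coe, mem_comap, hψ]
        have : σ d w = w := hDU hd w hwU
        rw [this, mul_inv_cancel]
        exact one_mem _
      · rw [zpowers_le]
        refine ⟨⟨e, he⟩, ?_, rfl⟩
        rw [SetLike.mem_coe, mem_comap, hψ, ← hu₀]
        exact mem_zpowers u₀
    intro s hs
    obtain ⟨s', hs', hss'⟩ := hB (by rw [hsup]; exact hs)
    rw [SetLike.mem_coe, mem_comap, hψ] at hs'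
    rw [← hss']
    exact hs'
  have hW₀z : W₀ = zpowers u₀ := by
    apply le_antisymm
    · intro z hz
      obtain ⟨s, hs, hsz⟩ := hc w hwW₀ z hz
      rw [← hsz]
      exact hSpow s hs
    · rw [zpowers_le]; exact hu₀W₀
  have hu₀1 : u₀ ≠ 1 := by
    intro h
    have hbot : W₀ = ⊥ := by rw [hW₀z, h, zpowers_one_eq_bot]
    apply hS1
    rw [eq_bot_iff]
    intro s hs
    rw [mem_bot]
    apply hσ
    rw [map_one]
    apply MulEquiv.ext
    intro w'
    rw [MulAut.one_apply]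
    have h1 := ha s hs w'
    rw [hbot, mem_bot] at h1
    exact mul_inv_eq_one.mp h1
  have hordu₀ : orderOf u₀ = p := by
    have h1 : orderOf u₀ ∣ p := orderOf_dvd_of_pow_eq_one hu₀p
    rcases (Nat.dvd_prime hp.out).mp h1 with h | h
    · exact absurd (orderOf_eq_one_iff.mp h) hu₀1
    · exact h
  have hcardW₀ : Nat.card W₀ = p := by
    rw [hW₀z, Nat.card_zpowers, hordu₀]
  refine ⟨?_, hcardW₀⟩
  -- Step D: `D = ⊥`
  have hDbot : D = ⊥ := by
    by_contra hDne
    obtain ⟨⟨d, hd⟩, hd1'⟩ := Subgroup.ne_bot_iff_exists_ne_one.mp hDne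
    have hd1 : d ≠ 1 := fun h => hd1' (Subtype.ext h)
    have hσd : σ d ≠ 1 := fun h => hd1 (hσ (by rw [h, map_one]))
    obtain ⟨w₁, hw₁⟩ : ∃ w₁ : W, σ d w₁ ≠ w₁ := by
      by_contra hcon
      push Not at hcon
      apply hσd
      apply MulEquiv.ext
      intro x
      rw [MulAut.one_apply]; exact hcon x
    have ht₁T : σ d w₁ * w₁⁻¹ ∈ T := by rw [hT]; exact mem_comW σ hd w₁
    have ht₁1 : σ d w₁ * w₁⁻¹ ≠ 1 := fun h => hw₁ (mul_inv_eq_one.mp h)
    -- `T = W₀`
    have hTeq : T = W₀ := by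
      apply Subgroup.eq_of_le_of_card_ge hTW₀
      rw [hcardW₀]
      have h1 : Nat.card T ∣ p := by
        rw [← hcardW₀]; exact Subgroup.card_dvd_of_le hTW₀
      rcases (Nat.dvd_prime hp.out).mp h1 with h | h
      · exfalso
        have hTbot : T = ⊥ := Subgroup.card_eq_one.mp h
        rw [hTbot, mem_bot] at ht₁T
        exact ht₁1 ht₁T
      · exact h.ge
    have hu₀T : u₀ ∈ T := by rw [hTeq]; exact hu₀W₀
    have hu₀U : u₀ ∈ U := by
      rw [hu₀]
      exact mul_mem (hUinv e (hAR heA) w hwU) (inv_mem hwU)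
    have hfix : ∀ r ∈ R, σ r u₀ = u₀ := fun r hr => hRT hr u₀ hu₀T
    apply hu₀1
    apply fixed_inf_comW σ hW hpR _ hfix
    rw [← hU]; exact hu₀U
  have hSz : S = zpowers e := by rw [← hsup, hDbot, bot_sup_eq]
  rw [hSz, Nat.card_zpowers]
  have h1 : orderOf e ∣ p := orderOf_dvd_of_pow_eq_one (hexp e he)
  rcases (Nat.dvd_prime hp.out).mp h1 with h | h
  · exfalso
    apply hS1
    rw [hSz, orderOf_eq_one_iff.mp h, zpowers_one_eq_bot]
  · exact h


/-- the module lemma, with the order of `W` -/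
theorem moduleLemma2 [Finite Γ] [Finite W] {p : ℕ} [hp : Fact p.Prime] (σ : Γ →* MulAut W)
    (hσ : Function.Injective σ) (hW : IsPGroup p W)
    (S K : Subgroup Γ) (W₀ : Subgroup W)
    (hcomm : ∀ a ∈ S, ∀ b ∈ S, a * b = b * a) (hexp : ∀ a ∈ S, a ^ p = 1) (hS1 : S ≠ ⊥)
    (hSK : S ≤ normalizer (K : Set Γ)) (hpK : ¬ p ∣ Nat.card K)
    (hfaith : ∀ s ∈ S, (∀ k ∈ K, s * k = k * s) → s = 1)
    (ha : ∀ s ∈ S, ∀ w : W, σ s w * w⁻¹ ∈ W₀)
    (hb : ∀ s ∈ S, ∀ w ∈ W₀, σ s w = w)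
    (hc : ∀ w : W, w ∉ W₀ → ∀ z ∈ W₀, ∃ s ∈ S, σ s w * w⁻¹ = z) :
    Nat.card S = p ∧ Nat.card W₀ = p ∧ Nat.card W = p ^ 2 := by
  classical
  obtain ⟨hS, hW₀⟩ := moduleLemma σ hσ hW S K W₀ hcomm hexp hS1 hSK hpK hfaith ha hb hc
  refine ⟨hS, hW₀, ?_⟩
  obtain ⟨s, hsS, hs1⟩ : ∃ s ∈ S, s ≠ 1 := by
    by_contra hcon
    push Not at hcon
    exact hS1 (eq_bot_iff.2 fun x hx => mem_bot.2 (hcon x hx))
  have hgen : ∀ t ∈ S, ∃ i : ℕ, t = s ^ i := by
    intro t ht
    have h0 : (⟨s, hsS⟩ : ↥S) ≠ 1 := fun h => hs1 (congrArg Subtype.val h)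
    have h1 : (⟨t, ht⟩ : ↥S) ∈ Subgroup.zpowers (⟨s, hsS⟩ : ↥S) := by
      rw [zpowers_eq_top_of_prime_card (G := ↥S) hS h0]
      exact mem_top _
    rw [← mem_powers_iff_mem_zpowers] at h1
    obtain ⟨i, hi⟩ := h1
    refine ⟨i, ?_⟩
    have := congrArg Subtype.val hi
    simpa using this.symm
  let c : W →* W := MonoidHom.mk' (fun w => σ s w * w⁻¹) (by
    intro a b
    rw [map_mul, mul_inv, mul_mul_mul_comm])
  have hcdef : ∀ w, c w = σ s w * w⁻¹ := fun w => rfl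
  have hrange : c.range ≤ W₀ := by
    rintro _ ⟨w, rfl⟩
    exact ha s hsS w
  have hW₀1 : 1 < Nat.card W₀ := by rw [hW₀]; exact hp.out.one_lt
  obtain ⟨z, hzW₀, hz1⟩ : ∃ z ∈ W₀, z ≠ 1 := by
    by_contra hcon
    push Not at hcon
    have : W₀ = ⊥ := eq_bot_iff.2 fun x hx => mem_bot.2 (hcon x hx)
    rw [this, Subgroup.card_bot] at hW₀1
    exact lt_irrefl _ hW₀1
  have hker : c.ker ≤ W₀ := by
    intro w hw
    by_contra hwn
    obtain ⟨t, htS, ht⟩ := hc w hwn z hzW₀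
    obtain ⟨i, rfl⟩ := hgen t htS
    have h1 : σ s w = w := by
      have := (MonoidHom.mem_ker).1 hw
      rw [hcdef, mul_inv_eq_one] at this
      exact this
    have h2 : ∀ i : ℕ, σ (s ^ i) w = w := by
      intro i
      induction i with
      | zero => simp
      | succ i ih => rw [pow_succ, map_mul, MulAut.mul_apply, h1, ih]
    rw [h2 i, mul_inv_cancel] at ht
    exact hz1 ht.symm
  have h3 : Nat.card c.ker * Nat.card c.range = Nat.card W := by
    rw [← Subgroup.index_ker]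
    exact Subgroup.card_mul_index _
  have hW₀top : W₀ ≠ ⊤ := by
    intro h
    apply hs1
    apply hσ
    rw [map_one]
    ext w
    rw [MulAut.one_apply]
    exact hb s hsS w (by rw [h]; exact mem_top w)
  have hk : Nat.card c.ker = 1 ∨ Nat.card c.ker = p :=
    (Nat.dvd_prime hp.out).1 (hW₀ ▸ Subgroup.card_dvd_of_le hker)
  have hr : Nat.card c.range = 1 ∨ Nat.card c.range = p :=
    (Nat.dvd_prime hp.out).1 (hW₀ ▸ Subgroup.card_dvd_of_le hrange)
  have hle : Nat.card W₀ ≤ Nat.card W := Subgroup.card_le_card_group W₀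
  have hne : Nat.card W₀ ≠ Nat.card W := fun h => hW₀top ((Subgroup.card_eq_iff_eq_top W₀).1 h)
  have h2le := hp.out.two_le
  rcases hk with hk | hk <;> rcases hr with hr | hr <;> rw [hk, hr] at h3
  · omega
  · omega
  · omega
  · rw [← h3]; ring

/-- the module lemma for a group `W'` known to be commutative -/
theorem moduleLemma3 {Γ' : Type*} [Group Γ'] {W' : Type*} [Group W'] [Finite Γ'] [Finite W']
    {p : ℕ} [hp : Fact p.Prime] (hWc : ∀ a b : W', a * b = b * a) (σ : Γ' →* MulAut W')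
    (hσ : Function.Injective σ) (hW : IsPGroup p W')
    (S K : Subgroup Γ') (W₀ : Subgroup W')
    (hcomm : ∀ a ∈ S, ∀ b ∈ S, a * b = b * a) (hexp : ∀ a ∈ S, a ^ p = 1) (hS1 : S ≠ ⊥)
    (hSK : S ≤ normalizer (K : Set Γ')) (hpK : ¬ p ∣ Nat.card K)
    (hfaith : ∀ s ∈ S, (∀ k ∈ K, s * k = k * s) → s = 1)
    (ha : ∀ s ∈ S, ∀ w : W', σ s w * w⁻¹ ∈ W₀)
    (hb : ∀ s ∈ S, ∀ w ∈ W₀, σ s w = w)
    (hc : ∀ w : W', w ∉ W₀ → ∀ z ∈ W₀, ∃ s ∈ S, σ s w * w⁻¹ = z) :
    Nat.card S = p ∧ Nat.card W₀ = p ∧ Nat.card W' = p ^ 2 := by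
  letI : CommGroup W' := { (inferInstance : Group W') with mul_comm := hWc }
  exact moduleLemma2 σ hσ hW S K W₀ hcomm hexp hS1 hSK hpK hfaith ha hb hc

end Cfsg.Agent.Lib.Helper2.S4394A
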