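import Mathlib
import Cfsg.Prelude.Def_SolvableStructure
import Cfsg.Agent.Lib.Helper1.Cores
import Cfsg.Agent.Lib.Helper1.Coprime
import Cfsg.Agent.Lib.Helper1.CoprimeAbelian
import Cfsg.Agent.Lib.Helper1.Frattini
import Cfsg.Agent.Lib.Helper10.FittingHall

/-!
# S4394, part B: the normal Sylow subgroup of a minimal non-nilpotent group

`X` minimal non-nilpotent, `P` a nontrivial normal Sylow `p`-subgroup.  We produce a `p'`-element
`a` acting on `P` such that `a` centralises every proper `a`-invariant subgroup of `P`.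
-/

set_option autoImplicit false

namespace Cfsg.Agent.Lib.Helper2.S4394B

open Subgroup
open scoped commutatorElement

variable {X : Type*} [Group X]

theorem commute_of_nilpotent_sub (H : Subgroup X) (hH : Group.IsNilpotent H) {x a : X}
    (hx : x ∈ H) (ha : a ∈ H) (hco : (orderOf x).Coprime (orderOf a)) : x * a = a * x := by
  haveI := hH
  have h := Cfsg.Agent.Lib.Helper10.commute_of_coprime_orderOf H ⟨x, hx⟩ ⟨a, ha⟩
    (by rw [Subgroup.orderOf_mk, Subgroup.orderOf_mk]; exact hco)
  exact congrArg Subtype.val h.eq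

theorem isNilpotent_of_sup_eq_top [Finite X] (A B : Subgroup X)
    (hA : A.Normal) (hB : B.Normal) (hAn : Group.IsNilpotent A) (hBn : Group.IsNilpotent B)
    (h : A ⊔ B = ⊤) : Group.IsNilpotent X := by
  have h1 : A ≤ Cfsg.fittingSubgroup X := Cfsg.Agent.Lib.Helper1.le_fittingSubgroup hA hAn
  have h2 : B ≤ Cfsg.fittingSubgroup X := Cfsg.Agent.Lib.Helper1.le_fittingSubgroup hB hBn
  have h3 : Cfsg.fittingSubgroup X = ⊤ := top_le_iff.1 (h ▸ sup_le h1 h2)
  have h4 : Group.IsNilpotent ↥(Cfsg.fittingSubgroup X) :=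
    Cfsg.Agent.Lib.Helper1.fittingSubgroup_isNilpotent
  rw [h3] at h4
  exact (Group.isNilpotent_congr Subgroup.topEquiv).1 h4

variable [Finite X] {p : ℕ} [hp : Fact p.Prime]

/-- an element of a `p`-subgroup whose order is prime to `p` is trivial -/
theorem eq_one_of_mem_pgroup_of_coprime {Q : Subgroup X} (hQ : IsPGroup p Q) {c : X} (hc : c ∈ Q)
    (hco : (orderOf c).Coprime p) : c = 1 := by
  obtain ⟨k, hk⟩ := IsPGroup.iff_orderOf.mp hQ ⟨c, hc⟩
  rw [Subgroup.orderOf_mk] at hk
  rw [hk] at hco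
  rcases Nat.eq_zero_or_pos k with h0 | h0
  · rw [h0, pow_zero] at hk
    exact orderOf_eq_one_iff.mp hk
  · exfalso
    have h1 : p ∣ Nat.gcd (p ^ k) p := Nat.dvd_gcd (dvd_pow_self p h0.ne') dvd_rfl
    rw [hco] at h1
    exact hp.out.one_lt.ne' (Nat.dvd_one.mp h1)

/-- elements of a `p`-subgroup and elements of order prime to `p` have coprime orders -/
theorem coprime_orderOf {Q : Subgroup X} (hQ : IsPGroup p Q) {m a : X} (hm : m ∈ Q)
    (hco : (orderOf a).Coprime p) : (orderOf m).Coprime (orderOf a) := by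
  obtain ⟨k, hk⟩ := IsPGroup.iff_orderOf.mp hQ ⟨m, hm⟩
  rw [Subgroup.orderOf_mk] at hk
  rw [hk]
  exact (Nat.Coprime.pow_right k hco).symm

theorem exists_noncentralizing (hX : Cfsg.IsMinimalNonNilpotent X) (P : Sylow p X)
    (hPn : (P : Subgroup X).Normal) (hP1 : (P : Subgroup X) ≠ ⊥) :
    ∃ a : X, (orderOf a).Coprime p ∧ a ∉ centralizer ((P : Subgroup X) : Set X) := by
  by_contra hcon
  push Not at hcon
  obtain ⟨Q, hQ⟩ := Subgroup.exists_right_complement'_of_coprime (P.card_coprime_index)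
  have hcard := hQ.card_mul
  have hP2 : 1 < Nat.card (P : Subgroup X) := (Subgroup.one_lt_card_iff_ne_bot _).mpr hP1
  have hQtop : Q ≠ ⊤ := by
    intro h
    rw [h, Subgroup.card_top] at hcard
    have := Nat.card_pos (α := X)
    nlinarith
  have hQnil := hX.2 Q hQtop
  have hPnil : Group.IsNilpotent (P : Subgroup X) := P.isPGroup'.isNilpotent
  have hQidx : Nat.card Q = (P : Subgroup X).index := by
    have h1 := (P : Subgroup X).card_mul_index
    have h2 : Nat.card (P : Subgroup X) * Nat.card Q = Nat.card (P : Subgroup X) *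
        (P : Subgroup X).index := by rw [hcard, h1]
    exact Nat.eq_of_mul_eq_mul_left (by omega) h2
  have hQcop : (Nat.card Q).Coprime p := by
    rw [hQidx]
    exact ((Nat.Prime.coprime_iff_not_dvd hp.out).mpr P.not_dvd_index).symm
  have hQC : Q ≤ centralizer ((P : Subgroup X) : Set X) := by
    intro a ha
    apply hcon a
    have h1 : orderOf a ∣ Nat.card Q := by
      have := orderOf_dvd_natCard (⟨a, ha⟩ : Q)
      rwa [Subgroup.orderOf_mk] at this
    exact Nat.Coprime.coprime_dvd_left h1 hQcop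
  have hsup : (P : Subgroup X) ⊔ Q = ⊤ := hQ.sup_eq_top
  have hQn : Q.Normal := by
    rw [← normalizer_eq_top_iff, eq_top_iff, ← hsup]
    apply sup_le
    · intro x hx
      rw [mem_normalizer_iff]
      intro q
      have key : ∀ q' ∈ Q, x * q' * x⁻¹ = q' := by
        intro q' hq'
        have h1 := mem_centralizer_iff.mp (hQC hq') x hx
        rw [h1]; group
      constructor
      · intro hq
        rw [key q hq]; exact hq
      · intro hq
        have h2 : x⁻¹ * (x * q * x⁻¹) * x⁻¹⁻¹ = x * q * x⁻¹ := by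
          have h1 := mem_centralizer_iff.mp (hQC hq) x⁻¹ (inv_mem hx)
          rw [h1]; group
        have h3 : x⁻¹ * (x * q * x⁻¹) * x⁻¹⁻¹ = q := by group
        rw [h3] at h2
        rw [h2]; exact hq
    · exact le_normalizer
  exact hX.1 (isNilpotent_of_sup_eq_top (P : Subgroup X) Q hPn hQn hPnil hQnil hsup)

/-- the key element: minimal order among the `p'`-elements not centralising `P` -/
theorem exists_key (hX : Cfsg.IsMinimalNonNilpotent X) (P : Sylow p X)
    (hPn : (P : Subgroup X).Normal) (hP1 : (P : Subgroup X) ≠ ⊥) :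
    ∃ (a : X) (q : ℕ), q.Prime ∧ q ≠ p ∧ (orderOf a).Coprime p ∧
      a ∉ centralizer ((P : Subgroup X) : Set X) ∧
      a ^ q ∈ centralizer ((P : Subgroup X) : Set X) ∧
      ∀ M : Subgroup X, M ≤ P → M ≠ P → a ∈ normalizer (M : Set X) →
        ∀ m ∈ M, a * m = m * a := by
  obtain ⟨a₀, ha₀⟩ := exists_noncentralizing hX P hPn hP1
  obtain ⟨a, ha, hmin⟩ := WellFounded.has_min (measure (orderOf : X → ℕ)).wf
    {a : X | (orderOf a).Coprime p ∧ a ∉ centralizer ((P : Subgroup X) : Set X)} ⟨a₀, ha₀⟩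
  obtain ⟨hacop, haC⟩ := ha
  have ha1 : orderOf a ≠ 1 := by
    intro h
    apply haC
    rw [orderOf_eq_one_iff.mp h]
    exact one_mem _
  have hapos : 0 < orderOf a := orderOf_pos a
  refine ⟨a, (orderOf a).minFac, Nat.minFac_prime ha1, ?_, hacop, haC, ?_, ?_⟩
  · intro h
    have h1 : p ∣ orderOf a := h ▸ Nat.minFac_dvd (orderOf a)
    have h2 : p ∣ Nat.gcd (orderOf a) p := Nat.dvd_gcd h1 dvd_rfl
    rw [hacop] at h2
    exact hp.out.one_lt.ne' (Nat.dvd_one.mp h2)
  · by_contra hq
    have hq2 : (orderOf a).minFac ≠ 0 := (Nat.minFac_pos _).ne'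
    have hord : orderOf (a ^ (orderOf a).minFac) = orderOf a / (orderOf a).minFac :=
      orderOf_pow_of_dvd hq2 (Nat.minFac_dvd _)
    have hlt : orderOf (a ^ (orderOf a).minFac) < orderOf a := by
      rw [hord]
      exact Nat.div_lt_self hapos (Nat.minFac_prime ha1).one_lt
    have hco : (orderOf (a ^ (orderOf a).minFac)).Coprime p := by
      rw [hord]
      exact Nat.Coprime.coprime_dvd_left (Nat.div_dvd_of_dvd (Nat.minFac_dvd _)) hacop
    exact hmin (a ^ (orderOf a).minFac) ⟨hco, hq⟩ hlt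
  · intro M hMP hMne haM m hm
    by_cases hH : M ⊔ zpowers a = ⊤
    · exfalso
      apply hMne
      have hMn : M.Normal := by
        rw [← normalizer_eq_top_iff, eq_top_iff, ← hH]
        exact sup_le le_normalizer (zpowers_le.mpr haM)
      apply le_antisymm hMP
      intro y hy
      have hy' : y ∈ zpowers a ⊔ M := by rw [sup_comm, hH]; exact mem_top y
      rw [Subgroup.mem_sup_of_normal_right] at hy'
      obtain ⟨c, hc, m', hm', rfl⟩ := hy'
      have hcP : c ∈ (P : Subgroup X) := by
        have : c = (c * m') * m'⁻¹ := by group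
        rw [this]
        exact mul_mem hy (inv_mem (hMP hm'))
      have hcco : (orderOf c).Coprime p := by
        obtain ⟨i, rfl⟩ := mem_zpowers_iff.mp hc
        exact Nat.Coprime.coprime_dvd_left (orderOf_dvd_of_pow_eq_one (by
          rw [← zpow_natCast, ← zpow_mul, mul_comm, zpow_mul, zpow_natCast, pow_orderOf_eq_one,
            one_zpow])) hacop
      rw [eq_one_of_mem_pgroup_of_coprime P.2 hcP hcco, one_mul]
      exact hm'
    · have hnil := hX.2 _ hH
      have h1 := commute_of_nilpotent_sub (M ⊔ zpowers a) hnil (mem_sup_left hm)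
        (mem_sup_right (mem_zpowers a)) (coprime_orderOf P.2 (hMP hm) hacop)
      exact h1.symm

end Cfsg.Agent.Lib.Helper2.S4394B
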