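import Mathlib
import Cfsg.Agent.Lib.Helper1.Frattini

/-!
# S4394, part C: structure of a `p`-group with an "irreducible" `p'`-automorphism

`SemiF p T` : the elementwise class-two facts (commutators and `p`-th powers are central, and
for a non-central `x` every central element is a commutator `[x,y]`).
`SemiA p T` : there is an automorphism of prime order `q ≠ p` fixing the centre pointwise and
leaving invariant no subgroup strictly between the centre and the whole group.
`semi_of_aut` : the structure theorem.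
`final_contra` : for `p ≤ 3` such a group does not have centre of index `p ^ 2` together with a
non-central element of order `p`.
-/

set_option autoImplicit false
set_option linter.unusedVariables false
set_option linter.unusedSectionVars false
set_option linter.style.longLine false
set_option linter.unnecessarySimpa false
set_option linter.style.haveILetI false

namespace Cfsg.Agent.Lib.Helper2.S4394C

open Subgroup

/-- elementwise class-two facts -/
structure SemiF (p : ℕ) (T : Type*) [Group T] : Prop where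
  comm_central : ∀ x y w : T, (x * y * x⁻¹ * y⁻¹) * w = w * (x * y * x⁻¹ * y⁻¹)
  pow_central : ∀ x w : T, x ^ p * w = w * x ^ p
  surj : ∀ x : T, (∃ w, x * w ≠ w * x) → ∀ z : T, (∀ w, z * w = w * z) →
    ∃ y, x * y * x⁻¹ * y⁻¹ = z

theorem SemiF.of_comm {p : ℕ} {T : Type*} [Group T] (h : ∀ x y : T, x * y = y * x) :
    SemiF p T := by
  refine ⟨?_, ?_, ?_⟩
  · intro x y w; exact h _ _
  · intro x w; exact h _ _
  · rintro x ⟨w, hw⟩; exact absurd (h x w) hw

theorem SemiF.of_equiv {p : ℕ} {T T' : Type*} [Group T] [Group T'] (e : T ≃* T')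
    (h : SemiF p T) : SemiF p T' := by
  refine ⟨?_, ?_, ?_⟩
  · intro x y w
    have := congrArg e (h.comm_central (e.symm x) (e.symm y) (e.symm w))
    simpa using this
  · intro x w
    have := congrArg e (h.pow_central (e.symm x) (e.symm w))
    simpa using this
  · rintro x ⟨w, hw⟩ z hz
    have h1 : ∃ w', e.symm x * w' ≠ w' * e.symm x := ⟨e.symm w, fun hc => hw (by
      have := congrArg e hc
      simpa using this)⟩
    have h2 : ∀ w', e.symm z * w' = w' * e.symm z := by
      intro w'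
      have := congrArg e.symm (hz (e w'))
      simpa using this
    obtain ⟨y, hy⟩ := h.surj (e.symm x) h1 (e.symm z) h2
    refine ⟨e y, ?_⟩
    have := congrArg e hy
    simpa using this

/-- the automorphism part -/
def SemiA (p : ℕ) (T : Type*) [Group T] : Prop :=
  ∃ (α : MulAut T) (q : ℕ), q.Prime ∧ q ≠ p ∧ α ^ q = 1 ∧ α ≠ 1 ∧
    (∀ z ∈ center T, α z = z) ∧
    ∀ M : Subgroup T, center T ≤ M → (∀ m ∈ M, α m ∈ M) → M = center T ∨ M = ⊤

/-- the fixed points of an automorphism -/
def fixSub {T : Type*} [Group T] (α : MulAut T) : Subgroup T where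
  carrier := {x | α x = x}
  one_mem' := map_one α
  mul_mem' := fun {a b} ha hb => by
    have ha' : α a = a := ha
    have hb' : α b = b := hb
    show α (a * b) = a * b
    rw [map_mul, ha', hb']
  inv_mem' := fun {a} ha => by
    have ha' : α a = a := ha
    show α a⁻¹ = a⁻¹
    rw [map_inv, ha']

theorem mem_fixSub {T : Type*} [Group T] (α : MulAut T) (x : T) : x ∈ fixSub α ↔ α x = x :=
  Iff.rfl

theorem iter_of_fix {T : Type*} [Group T] (α : MulAut T) (x : T)
    (h : α (x⁻¹ * α x) = x⁻¹ * α x) (k : ℕ) : (α ^ k) x = x * (x⁻¹ * α x) ^ k := by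
  induction k with
  | zero => simp
  | succ k ih =>
    rw [pow_succ', MulAut.mul_apply, ih, map_mul, map_pow, h, pow_succ', mul_assoc x⁻¹,
      mul_inv_cancel_left]

theorem claimA {P : Type*} [Group P] (α : MulAut P)
    (hD : Subgroup.closure (Set.range fun x : P => x⁻¹ * α x) = ⊤) (z : P) :
    ∃ y : P, z⁻¹ * (y⁻¹ * α y) ∈ commutator P := by
  have hsurj : Function.Surjective (Abelianization.of : P →* Abelianization P) :=
    QuotientGroup.mk_surjective
  let δ : Abelianization P →* Abelianization P :=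
    MonoidHom.mk' (fun u => u⁻¹ * α.abelianizationCongr u) (by
      intro a b
      rw [map_mul, mul_inv, mul_mul_mul_comm])
  have hδ : ∀ x : P, δ (Abelianization.of x) = Abelianization.of (x⁻¹ * α x) := by
    intro x
    show (Abelianization.of x)⁻¹ * α.abelianizationCongr (Abelianization.of x) = _
    rw [map_mul, map_inv]
    rfl
  have htop : δ.range = ⊤ := by
    rw [eq_top_iff]
    have h1 : (Subgroup.closure (Set.range fun x : P => x⁻¹ * α x)).map Abelianization.of ≤
        δ.range := by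
      rw [MonoidHom.map_closure, Subgroup.closure_le]
      rintro _ ⟨_, ⟨x, rfl⟩, rfl⟩
      exact ⟨Abelianization.of x, hδ x⟩
    rw [hD] at h1
    intro u _
    obtain ⟨t, rfl⟩ := hsurj u
    exact h1 (Subgroup.mem_map_of_mem _ (Subgroup.mem_top t))
  obtain ⟨u, hu⟩ : Abelianization.of z ∈ δ.range := by rw [htop]; exact mem_top _
  obtain ⟨y, rfl⟩ := hsurj u
  refine ⟨y, ?_⟩
  rw [← Abelianization.ker_of, MonoidHom.mem_ker, map_mul, map_inv, ← hδ, hu, inv_mul_cancel]


theorem char_invariant {P : Type*} [Group P] (H : Subgroup P) [hH : H.Characteristic]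
    (α : MulAut P) : ∀ m ∈ H, α m ∈ H := by
  intro m hm
  have h1 := Subgroup.characteristic_iff_map_eq.mp hH α
  have h2 : α.toMonoidHom m ∈ H.map α.toMonoidHom := Subgroup.mem_map_of_mem _ hm
  rw [h1] at h2
  exact h2

theorem semi_of_aut {P : Type*} [Group P] [Finite P] {p : ℕ} [hp : Fact p.Prime]
    (hP : IsPGroup p P) (α : MulAut P) (q : ℕ) (hq : q.Prime) (hqp : q ≠ p) (hαq : α ^ q = 1)
    (hα1 : α ≠ 1)
    (hirr : ∀ M : Subgroup P, M ≠ ⊤ → (∀ m ∈ M, α m ∈ M) → ∀ m ∈ M, α m = m) :
    SemiF p P ∧ ((∀ x y : P, x * y = y * x) ∨ SemiA p P) := by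
  classical
  -- `p`-elements with trivial `q`-th power are trivial
  have hpq : ∀ t : P, t ^ q = 1 → t = 1 := by
    intro t ht
    obtain ⟨k, hk⟩ := hP t
    have h1 : orderOf t ∣ q := orderOf_dvd_of_pow_eq_one ht
    have h2 : orderOf t ∣ p ^ k := orderOf_dvd_of_pow_eq_one hk
    have hcop : Nat.Coprime q (p ^ k) :=
      Nat.Coprime.pow_right k ((Nat.coprime_primes hq hp.out).2 hqp)
    exact orderOf_eq_one_iff.1 (Nat.eq_one_of_dvd_coprimes hcop h1 h2)
  have hfixd : ∀ x : P, α (x⁻¹ * α x) = x⁻¹ * α x → α x = x := by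
    intro x hx
    have h1 := iter_of_fix α x hx q
    rw [hαq, MulAut.one_apply] at h1
    have h2 : (x⁻¹ * α x) ^ q = 1 := by
      have := congrArg (fun t => x⁻¹ * t) h1
      simpa using this.symm
    have h3 := hpq _ h2
    exact (inv_mul_eq_one.1 h3).symm
  -- the closure of the `x⁻¹ α(x)` is everything
  have hD : Subgroup.closure (Set.range fun x : P => x⁻¹ * α x) = ⊤ := by
    by_contra hne
    have hinv : ∀ m ∈ Subgroup.closure (Set.range fun x : P => x⁻¹ * α x),
        α m ∈ Subgroup.closure (Set.range fun x : P => x⁻¹ * α x) := by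
      intro m hm
      induction hm using Subgroup.closure_induction with
      | mem y hy =>
        obtain ⟨x, rfl⟩ := hy
        apply Subgroup.subset_closure
        refine ⟨α x, ?_⟩
        simp only [map_mul, map_inv]
      | one => rw [map_one]; exact one_mem _
      | mul a b _ _ ha hb => rw [map_mul]; exact mul_mem ha hb
      | inv a _ ha => rw [map_inv]; exact inv_mem ha
    have hfix := hirr _ hne hinv
    apply hα1
    ext x
    rw [MulAut.one_apply]
    apply hfixd
    exact hfix _ (Subgroup.subset_closure ⟨x, rfl⟩)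
  haveI hnt : Nontrivial P := by
    by_contra h
    rw [not_nontrivial_iff_subsingleton] at h
    exact hα1 (by ext x; exact Subsingleton.elim _ _)
  haveI : Group.IsNilpotent P := hP.isNilpotent
  have hC1 : commutator P ≠ ⊤ := (Group.IsSolvable.commutator_lt_top_of_nontrivial P).ne
  have hCfix := hirr _ hC1 (char_invariant (commutator P) α)
  have hcm : ∀ x y : P, x * y * x⁻¹ * y⁻¹ ∈ commutator P := fun x y =>
    Subgroup.commutator_mem_commutator (Subgroup.mem_top x) (Subgroup.mem_top y)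
  -- fixed points are central
  have hFixC : ∀ y : P, α y = y → ∀ t : P, y * t = t * y := by
    intro y hy
    have hd : ∀ x : P, y * (x⁻¹ * α x) = (x⁻¹ * α x) * y := by
      intro x
      have h1 : y * α x * y⁻¹ * (α x)⁻¹ = y * x * y⁻¹ * x⁻¹ := by
        have h2 : α (y * x * y⁻¹ * x⁻¹) = y * x * y⁻¹ * x⁻¹ := hCfix _ (hcm y x)
        rw [map_mul, map_mul, map_mul, map_inv, map_inv, hy] at h2
        exact h2
      calc y * (x⁻¹ * α x)
          = x⁻¹ * (y * x * y⁻¹ * x⁻¹)⁻¹ * (y * α x * y⁻¹ * (α x)⁻¹) * α x * y := by group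
        _ = x⁻¹ * α x * y := by rw [h1]; group
    have hle : Subgroup.closure (Set.range fun x : P => x⁻¹ * α x) ≤
        Subgroup.centralizer {y} := by
      rw [Subgroup.closure_le]
      rintro _ ⟨x, rfl⟩
      rw [SetLike.mem_coe, Subgroup.mem_centralizer_iff]
      intro h hh
      rw [Set.mem_singleton_iff] at hh
      subst hh
      exact hd x
    rw [hD] at hle
    intro t
    have := hle (Subgroup.mem_top t)
    rw [Subgroup.mem_centralizer_iff] at this
    exact this y rfl
  by_cases hab : ∀ x y : P, x * y = y * x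
  · exact ⟨SemiF.of_comm hab, Or.inl hab⟩
  have hZ1 : center P ≠ ⊤ := by
    intro h
    apply hab
    intro x y
    have : x ∈ center P := by rw [h]; exact mem_top x
    exact ((Subgroup.mem_center_iff.1 this) y).symm
  have hZfix := hirr _ hZ1 (char_invariant (center P) α)
  have hfix_iff : ∀ t : P, α t = t ↔ t ∈ center P := by
    intro t
    constructor
    · intro ht
      rw [Subgroup.mem_center_iff]
      intro g
      exact (hFixC t ht g).symm
    · exact hZfix t
  have hΦ1 : frattini P ≠ ⊤ := by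
    obtain h | ⟨K, hK, -⟩ := IsCoatomic.eq_top_or_exists_le_coatom (⊥ : Subgroup P)
    · exact absurd h bot_ne_top
    · intro h
      have := frattini_le_coatom hK
      rw [h, top_le_iff] at this
      exact hK.1 this
  have hΦfix := hirr _ hΦ1 (char_invariant (frattini P) α)
  have hF1a : ∀ x y w : P, (x * y * x⁻¹ * y⁻¹) * w = w * (x * y * x⁻¹ * y⁻¹) :=
    fun x y w => hFixC _ (hCfix _ (hcm x y)) w
  have hF1b : ∀ x w : P, x ^ p * w = w * x ^ p := fun x w =>
    hFixC _ (hΦfix _ (Cfsg.Agent.Lib.Helper1.IsPGroup.pow_mem_frattini hP x)) w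
  -- fixed points lie in the commutator subgroup
  have hF0 : ∀ z : P, α z = z → z ∈ commutator P := by
    intro z hz
    obtain ⟨y, hy⟩ := claimA α hD z
    have hw : α (z⁻¹ * (y⁻¹ * α y)) = z⁻¹ * (y⁻¹ * α y) := hCfix _ hy
    have hdy : α (y⁻¹ * α y) = y⁻¹ * α y := by
      calc α (y⁻¹ * α y) = α (z * (z⁻¹ * (y⁻¹ * α y))) := by rw [mul_inv_cancel_left]
        _ = z * (z⁻¹ * (y⁻¹ * α y)) := by rw [map_mul, hz, hw]
        _ = y⁻¹ * α y := by rw [mul_inv_cancel_left]
    have h1 : α y = y := hfixd y hdy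
    have h2 : z⁻¹ ∈ commutator P := by
      have : z⁻¹ * (y⁻¹ * α y) = z⁻¹ := by rw [h1, inv_mul_cancel, mul_one]
      rw [this] at hy
      exact hy
    exact inv_mem_iff.1 h2
  have hF2 : ∀ x : P, (∃ w, x * w ≠ w * x) → ∀ z : P, (∀ w, z * w = w * z) →
      ∃ y, x * y * x⁻¹ * y⁻¹ = z := by
    rintro x ⟨w0, hw0⟩ z hz
    let R : Subgroup P :=
      { carrier := {c | ∃ y, x * y * x⁻¹ * y⁻¹ = c}
        one_mem' := ⟨1, by group⟩
        mul_mem' := by
          rintro _ _ ⟨y, rfl⟩ ⟨y', rfl⟩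
          refine ⟨y * y', ?_⟩
          have hc := hF1a x y' y
          calc x * (y * y') * x⁻¹ * (y * y')⁻¹
              = x * y * x⁻¹ * y⁻¹ * (y * (x * y' * x⁻¹ * y'⁻¹)) * y⁻¹ := by group
            _ = x * y * x⁻¹ * y⁻¹ * ((x * y' * x⁻¹ * y'⁻¹) * y) * y⁻¹ := by rw [hc]
            _ = x * y * x⁻¹ * y⁻¹ * (x * y' * x⁻¹ * y'⁻¹) := by group
        inv_mem' := by
          rintro _ ⟨y, rfl⟩
          refine ⟨y⁻¹, ?_⟩
          have hc : (x * y * x⁻¹ * y⁻¹)⁻¹ * y = y * (x * y * x⁻¹ * y⁻¹)⁻¹ :=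
            (Commute.inv_left (hF1a x y y)).eq
          calc x * y⁻¹ * x⁻¹ * y⁻¹⁻¹ = y⁻¹ * ((x * y * x⁻¹ * y⁻¹)⁻¹ * y) := by group
            _ = y⁻¹ * (y * (x * y * x⁻¹ * y⁻¹)⁻¹) := by rw [hc]
            _ = (x * y * x⁻¹ * y⁻¹)⁻¹ := by rw [inv_mul_cancel_left] }
    have hRmem : ∀ c : P, c ∈ R ↔ ∃ y, x * y * x⁻¹ * y⁻¹ = c := fun c => Iff.rfl
    let Tt : Subgroup P :=
      { carrier := {t | ∀ y, t * y * t⁻¹ * y⁻¹ ∈ R}
        one_mem' := fun y => by
          have : (1 : P) * y * 1⁻¹ * y⁻¹ = 1 := by group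
          rw [this]
          exact R.one_mem
        mul_mem' := by
          intro a b ha hb y
          have hc := hF1a b y a⁻¹
          have : a * b * y * (a * b)⁻¹ * y⁻¹ =
              (b * y * b⁻¹ * y⁻¹) * (a * y * a⁻¹ * y⁻¹) := by
            calc a * b * y * (a * b)⁻¹ * y⁻¹
                = a * ((b * y * b⁻¹ * y⁻¹) * a⁻¹) * (a * y * a⁻¹ * y⁻¹) := by group
              _ = a * (a⁻¹ * (b * y * b⁻¹ * y⁻¹)) * (a * y * a⁻¹ * y⁻¹) := by rw [hc]
              _ = (b * y * b⁻¹ * y⁻¹) * (a * y * a⁻¹ * y⁻¹) := by group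
          rw [this]
          exact R.mul_mem (hb y) (ha y)
        inv_mem' := by
          intro a ha y
          have hc : (a * y * a⁻¹ * y⁻¹)⁻¹ * a = a * (a * y * a⁻¹ * y⁻¹)⁻¹ :=
            (Commute.inv_left (hF1a a y a)).eq
          have : a⁻¹ * y * a⁻¹⁻¹ * y⁻¹ = (a * y * a⁻¹ * y⁻¹)⁻¹ := by
            calc a⁻¹ * y * a⁻¹⁻¹ * y⁻¹ = a⁻¹ * ((a * y * a⁻¹ * y⁻¹)⁻¹ * a) := by group
              _ = a⁻¹ * (a * (a * y * a⁻¹ * y⁻¹)⁻¹) := by rw [hc]
              _ = (a * y * a⁻¹ * y⁻¹)⁻¹ := by rw [inv_mul_cancel_left]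
          rw [this]
          exact R.inv_mem (ha y) }
    have hTmem : ∀ t : P, t ∈ Tt ↔ ∀ y, t * y * t⁻¹ * y⁻¹ ∈ R := fun t => Iff.rfl
    have hTinv : ∀ m ∈ Tt, α m ∈ Tt := by
      intro t ht
      rw [hTmem] at ht ⊢
      intro y
      have h1 : α t * y * (α t)⁻¹ * y⁻¹ =
          α (t * α.symm y * t⁻¹ * (α.symm y)⁻¹) := by
        rw [map_mul, map_mul, map_mul, map_inv, map_inv, MulEquiv.apply_symm_apply]
      rw [h1, hCfix _ (hcm t (α.symm y))]
      exact ht (α.symm y)
    have hxT : x ∈ Tt := fun y => ⟨y, rfl⟩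
    have hTtop : Tt = ⊤ := by
      by_contra hT
      have h1 := hirr Tt hT hTinv x hxT
      exact hw0 (hFixC x h1 w0)
    have hCR : commutator P ≤ R := by
      rw [commutator_def, Subgroup.commutator_le]
      intro g₁ _ g₂ _
      have h1 : g₁ ∈ Tt := by rw [hTtop]; exact mem_top g₁
      exact h1 g₂
    have hzfix : α z = z := hZfix z (Subgroup.mem_center_iff.2 fun g => (hz g).symm)
    exact hCR (hF0 z hzfix)
  refine ⟨⟨hF1a, hF1b, hF2⟩, Or.inr ⟨α, q, hq, hqp, hαq, hα1, hZfix, ?_⟩⟩
  intro M hZM hMinv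
  by_cases hM : M = ⊤
  · exact Or.inr hM
  · left
    apply le_antisymm _ hZM
    intro m hm
    exact (hfix_iff m).1 (hirr M hM hMinv m hm)

end Cfsg.Agent.Lib.Helper2.S4394C
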