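import Mathlib
import Cfsg.Agent.Lib.Helper2.S4394C

/-!
# S4394, part D: the final contradiction for `p ≤ 3`, and the order of the centre
-/

set_option autoImplicit false
set_option linter.unusedVariables false
set_option linter.unusedSectionVars false
set_option linter.style.longLine false
set_option linter.unnecessarySimpa false
set_option linter.style.haveILetI false

namespace Cfsg.Agent.Lib.Helper2.S4394D

open Subgroup
open Cfsg.Agent.Lib.Helper2.S4394C

theorem index_center_of_equiv {A B : Type*} [Group A] [Group B] (e : A ≃* B) :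
    (center A).index = (center B).index := by
  have h1 : (center B).comap e.toMonoidHom = center A := by
    ext a
    rw [Subgroup.mem_comap, Subgroup.mem_center_iff, Subgroup.mem_center_iff]
    constructor
    · intro h a'
      have := h (e a')
      apply e.injective
      rw [map_mul, map_mul]
      exact this
    · intro h b
      obtain ⟨a', rfl⟩ := e.surjective b
      have := congrArg e (h a')
      rw [map_mul, map_mul] at this
      exact this
  rw [← h1]
  exact Subgroup.index_comap_of_surjective _ e.surjective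

theorem final_contra {T : Type*} [Group T] [Finite T] {p : ℕ} [hp : Fact p.Prime]
    (hT : IsPGroup p T) (hF : SemiF p T) (hA : SemiA p T) (hidx : (center T).index = p ^ 2)
    (hv : ∃ v : T, v ∉ center T ∧ v ^ p = 1) (hp23 : p = 2 ∨ p = 3) : False := by
  classical
  obtain ⟨α, q, hq, hqp, hαq, hα1, hZfix, hirr⟩ := hA
  obtain ⟨v, hvZ, hvp⟩ := hv
  -- fixed points are central
  have hfix : ∀ t : T, α t = t → t ∈ center T := by
    intro t ht
    have h1 := hirr (fixSub α) (fun z hz => hZfix z hz) (fun m hm => by
      have hm' : α m = m := hm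
      exact congrArg α hm')
    rcases h1 with h1 | h1
    · rw [← h1]; exact ht
    · exfalso
      apply hα1
      ext x
      have : x ∈ fixSub α := by rw [h1]; exact mem_top x
      exact this
  -- the cyclic lemma
  have hcyc : ∀ u : T, ∀ k : ℤ, ∀ c ∈ center T, α u = u ^ k * c → u ∈ center T := by
    intro u k c hc hu
    let M : Subgroup T :=
      { carrier := {t | ∃ i : ℤ, ∃ z ∈ center T, t = u ^ i * z}
        one_mem' := ⟨0, 1, one_mem _, by simp⟩
        mul_mem' := by
          rintro _ _ ⟨i, z, hz, rfl⟩ ⟨j, z', hz', rfl⟩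
          refine ⟨i + j, z * z', mul_mem hz hz', ?_⟩
          have hcomm : z * u ^ j = u ^ j * z := (Subgroup.mem_center_iff.1 hz (u ^ j)).symm
          rw [zpow_add]
          calc u ^ i * z * (u ^ j * z') = u ^ i * (z * u ^ j) * z' := by simp only [mul_assoc]
            _ = u ^ i * (u ^ j * z) * z' := by rw [hcomm]
            _ = u ^ i * u ^ j * (z * z') := by simp only [mul_assoc]
        inv_mem' := by
          rintro _ ⟨i, z, hz, rfl⟩
          refine ⟨-i, z⁻¹, inv_mem hz, ?_⟩
          have hcomm : z⁻¹ * u ^ (-i) = u ^ (-i) * z⁻¹ :=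
            (Subgroup.mem_center_iff.1 (inv_mem hz) _).symm
          rw [mul_inv_rev, ← zpow_neg, hcomm] }
    have hMmem : ∀ t : T, t ∈ M ↔ ∃ i : ℤ, ∃ z ∈ center T, t = u ^ i * z := fun t => Iff.rfl
    have hZM : center T ≤ M := fun z hz => ⟨0, z, hz, by simp⟩
    have hMinv : ∀ m ∈ M, α m ∈ M := by
      rintro _ ⟨i, z, hz, rfl⟩
      refine ⟨k * i, c ^ i * z, mul_mem (zpow_mem hc i) hz, ?_⟩
      have hcc : Commute (u ^ k) c := Subgroup.mem_center_iff.1 hc (u ^ k)
      rw [map_mul, map_zpow, hu, hZfix z hz, hcc.mul_zpow, ← zpow_mul, mul_assoc]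
    have hMu : ∀ t ∈ M, t * u = u * t := by
      rintro _ ⟨i, z, hz, rfl⟩
      have h1 : u * z = z * u := Subgroup.mem_center_iff.1 hz u
      have h2 : u ^ i * u = u * u ^ i := (Commute.zpow_self u i).eq
      calc u ^ i * z * u = u ^ i * (z * u) := by rw [mul_assoc]
        _ = u ^ i * (u * z) := by rw [h1]
        _ = u ^ i * u * z := by rw [mul_assoc]
        _ = u * u ^ i * z := by rw [h2]
        _ = u * (u ^ i * z) := by rw [mul_assoc]
    rcases hirr M hZM hMinv with h | h
    · have : u ∈ M := ⟨1, 1, one_mem _, by simp⟩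
      rwa [h] at this
    · rw [Subgroup.mem_center_iff]
      intro g
      exact hMu g (by rw [h]; exact mem_top g)
  -- counting fixed points
  haveI : Fact q.Prime := ⟨hq⟩
  have hzp : IsPGroup q ↥(Subgroup.zpowers α) := by
    intro g
    refine ⟨1, ?_⟩
    obtain ⟨g, hg⟩ := g
    obtain ⟨k, rfl⟩ := Subgroup.mem_zpowers_iff.1 hg
    apply Subtype.ext
    simp only [pow_one, Subgroup.coe_pow, Subgroup.coe_one]
    rw [← zpow_natCast, ← zpow_mul, mul_comm, zpow_mul, zpow_natCast, hαq, one_zpow]
  have hcount := hzp.card_modEq_card_fixedPoints T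
  have hset : MulAction.fixedPoints ↥(Subgroup.zpowers α) T = (center T : Set T) := by
    ext t
    rw [MulAction.mem_fixedPoints]
    constructor
    · intro h
      exact hfix t (h ⟨α, Subgroup.mem_zpowers α⟩)
    · intro ht g
      obtain ⟨g, hg⟩ := g
      have hle : Subgroup.zpowers α ≤ MulAction.stabilizer (MulAut T) t := by
        rw [Subgroup.zpowers_le, MulAction.mem_stabilizer_iff]
        exact hZfix t ht
      exact MulAction.mem_stabilizer_iff.1 (hle hg)
  rw [hset] at hcount
  have hcount' : Nat.card T ≡ Nat.card (center T) [MOD q] := hcount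
  have hcardT : Nat.card (center T) * (center T).index = Nat.card T := Subgroup.card_mul_index _
  obtain ⟨n, hn⟩ := IsPGroup.iff_card.1 (hT.to_subgroup (center T))
  have hmod : Nat.card (center T) * p ^ 2 ≡ Nat.card (center T) [MOD q] := by
    rw [← hidx, hcardT]; exact hcount'
  have hdvd : q ∣ p ^ 2 - 1 := by
    have h1 : q ∣ Nat.card (center T) * p ^ 2 - Nat.card (center T) :=
      (Nat.modEq_iff_dvd' (Nat.le_mul_of_pos_right _ (pow_pos hp.out.pos 2))).1 hmod.symm
    have h2 : Nat.card (center T) * p ^ 2 - Nat.card (center T) =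
        Nat.card (center T) * (p ^ 2 - 1) := by rw [Nat.mul_sub, mul_one]
    rw [h2, hn] at h1
    exact Nat.Coprime.dvd_of_dvd_mul_left
      (Nat.Coprime.pow_right n ((Nat.coprime_primes hq hp.out).2 hqp)) h1
  have hvw : ∃ w, v * w ≠ w * v := by
    by_contra hcon
    push Not at hcon
    exact hvZ (Subgroup.mem_center_iff.2 fun g => (hcon g).symm)
  rcases hp23 with rfl | rfl
  · -- `p = 2`, so `q = 3`
    have hq3 : q = 3 := by
      have h3 : q ∣ 3 := by simpa using hdvd
      exact (Nat.prime_dvd_prime_iff_eq hq Nat.prime_three).1 h3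
    subst hq3
    have hα3 : ∀ t : T, α (α (α t)) = t := by
      intro t
      have := congrArg (fun f : MulAut T => f t) hαq
      simpa [pow_succ, MulAut.mul_apply] using this
    have hvinv : v⁻¹ = v := inv_eq_of_mul_eq_one_left (by rw [← pow_two]; exact hvp)
    -- central elements are involutions
    have hz2 : ∀ z ∈ center T, z ^ 2 = 1 := by
      intro z hz
      obtain ⟨y, hy⟩ := hF.surj v hvw z (fun w => (Subgroup.mem_center_iff.1 hz w).symm)
      have h1 : v⁻¹ * z = y * v⁻¹ * y⁻¹ := by rw [← hy]; group
      have h2 : (v⁻¹ * z) ^ 2 = 1 := by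
        rw [h1, conj_pow, inv_pow, hvp, inv_one, mul_one, mul_inv_cancel]
      have hcz : Commute v⁻¹ z := Subgroup.mem_center_iff.1 hz v⁻¹
      rw [hcz.mul_pow, inv_pow, hvp, inv_one, one_mul] at h2
      exact h2
    have hav2 : (α v) ^ 2 = 1 := by rw [← map_pow, hvp, map_one]
    have haav2 : (α (α v)) ^ 2 = 1 := by rw [← map_pow, hav2, map_one]
    -- `u = v α(v) α²(v)` is central
    have hu : v * α v * α (α v) ∈ center T := by
      apply hcyc _ 1 ((v * α v * α (α v))⁻¹ * v⁻¹ * ((v * α v * α (α v))⁻¹)⁻¹ * v⁻¹⁻¹)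
      · rw [Subgroup.mem_center_iff]
        intro g
        exact (hF.comm_central _ _ g).symm
      · rw [map_mul, map_mul, hα3, zpow_one]
        group
    have hu2 := hz2 _ hu
    -- `(v α(v))² = 1`
    have hw2 : (v * α v) ^ 2 = 1 := by
      have h1 : v * α v = (v * α v * α (α v)) * (α (α v))⁻¹ := by group
      have hcu : Commute (v * α v * α (α v)) (α (α v))⁻¹ :=
        (Subgroup.mem_center_iff.1 hu _).symm
      rw [h1, hcu.mul_pow, hu2, inv_pow, haav2, inv_one, one_mul]
    have havinv : (α v)⁻¹ = α v := inv_eq_of_mul_eq_one_left (by rw [← pow_two]; exact hav2)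
    have hc1 : v * α v = α v * v := by
      have h1 : (v * α v)⁻¹ = v * α v := inv_eq_of_mul_eq_one_left (by rw [← pow_two]; exact hw2)
      rw [mul_inv_rev, havinv, hvinv] at h1
      exact h1.symm
    have hc2 : α v * α (α v) = α (α v) * α v := by
      have := congrArg α hc1
      rwa [map_mul, map_mul] at this
    have hc3 : α (α v) * v = v * α (α v) := by
      have := congrArg α hc2
      rwa [map_mul, map_mul, hα3] at this
    have hCinv : ∀ m ∈ Subgroup.centralizer ({v, α v, α (α v)} : Set T),
        α m ∈ Subgroup.centralizer ({v, α v, α (α v)} : Set T) := by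
      intro m hm
      rw [Subgroup.mem_centralizer_iff] at hm ⊢
      intro g hg
      simp only [Set.mem_insert_iff, Set.mem_singleton_iff] at hg
      rcases hg with rfl | rfl | rfl
      · have := congrArg α (hm (α (α g)) (by simp))
        rwa [map_mul, map_mul, hα3] at this
      · have := congrArg α (hm v (by simp))
        rwa [map_mul, map_mul] at this
      · have := congrArg α (hm (α v) (by simp))
        rwa [map_mul, map_mul] at this
    have hZC : center T ≤ Subgroup.centralizer ({v, α v, α (α v)} : Set T) := by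
      intro z hz
      rw [Subgroup.mem_centralizer_iff]
      intro g _
      exact Subgroup.mem_center_iff.1 hz g
    have hvC : v ∈ Subgroup.centralizer ({v, α v, α (α v)} : Set T) := by
      rw [Subgroup.mem_centralizer_iff]
      intro g hg
      simp only [Set.mem_insert_iff, Set.mem_singleton_iff] at hg
      rcases hg with rfl | rfl | rfl
      · rfl
      · exact hc1.symm
      · exact hc3
    rcases hirr _ hZC hCinv with h | h
    · rw [h] at hvC; exact hvZ hvC
    · apply hvZ
      rw [Subgroup.mem_center_iff]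
      intro g
      have hg : g ∈ Subgroup.centralizer ({v, α v, α (α v)} : Set T) := by rw [h]; exact mem_top g
      rw [Subgroup.mem_centralizer_iff] at hg
      exact (hg v (by simp)).symm
  · -- `p = 3`, so `q = 2`
    have hq2 : q = 2 := by
      have h8 : q ∣ 2 ^ 3 := by
        have : (3 : ℕ) ^ 2 - 1 = 2 ^ 3 := by norm_num
        rw [this] at hdvd
        exact hdvd
      exact (Nat.prime_dvd_prime_iff_eq hq Nat.prime_two).1 (hq.dvd_of_dvd_pow h8)
    subst hq2
    have hα2 : ∀ t : T, α (α t) = t := by
      intro t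
      have := congrArg (fun f : MulAut T => f t) hαq
      simpa [pow_succ, MulAut.mul_apply] using this
    have hall : ∀ x : T, x ∈ center T := by
      intro x
      have hy : x * α x ∈ center T := by
        apply hcyc _ 1 ((α x)⁻¹ * x⁻¹ * (α x)⁻¹⁻¹ * x⁻¹⁻¹)
        · rw [Subgroup.mem_center_iff]
          intro g
          exact (hF.comm_central _ _ g).symm
        · rw [map_mul, hα2, zpow_one]
          group
      apply hcyc x (-1) (x * α x) hy
      rw [zpow_neg, zpow_one, inv_mul_cancel_left]
    exact hvZ (hall v)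


/-- with centre of index `p ^ 2`, the centre has order at most `p` -/
theorem card_center_le {T : Type*} [Group T] [Finite T] {p : ℕ} [hp : Fact p.Prime]
    (hF : SemiF p T) (hidx : (center T).index = p ^ 2) : Nat.card (center T) ≤ p := by
  classical
  have hp2 : 1 < p ^ 2 := Nat.one_lt_pow (by norm_num) hp.out.one_lt
  have hne : center T ≠ ⊤ := by
    intro h
    rw [h, Subgroup.index_top] at hidx
    omega
  obtain ⟨x, hx⟩ : ∃ x : T, x ∉ center T := by
    by_contra hcon
    push Not at hcon
    exact hne (eq_top_iff.2 fun t _ => hcon t)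
  have hxw : ∃ w, x * w ≠ w * x := by
    by_contra hcon
    push Not at hcon
    exact hx (Subgroup.mem_center_iff.2 fun g => (hcon g).symm)
  let φ : T →* T := MonoidHom.mk' (fun y => x * y * x⁻¹ * y⁻¹) (by
    intro y y'
    have hc := hF.comm_central x y' y
    calc x * (y * y') * x⁻¹ * (y * y')⁻¹
        = x * y * x⁻¹ * y⁻¹ * (y * (x * y' * x⁻¹ * y'⁻¹)) * y⁻¹ := by group
      _ = x * y * x⁻¹ * y⁻¹ * ((x * y' * x⁻¹ * y'⁻¹) * y) * y⁻¹ := by rw [hc]
      _ = x * y * x⁻¹ * y⁻¹ * (x * y' * x⁻¹ * y'⁻¹) := by group)
  have hφ : ∀ y, φ y = x * y * x⁻¹ * y⁻¹ := fun y => rfl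
  have hrange : φ.range = center T := by
    ext z
    constructor
    · rintro ⟨y, rfl⟩
      rw [hφ, Subgroup.mem_center_iff]
      intro g
      exact (hF.comm_central x y g).symm
    · intro hz
      obtain ⟨y, hy⟩ := hF.surj x hxw z (fun w => (Subgroup.mem_center_iff.1 hz w).symm)
      exact ⟨y, hy⟩
  have hker_le : center T ≤ φ.ker := by
    intro z hz
    rw [MonoidHom.mem_ker, hφ]
    have := Subgroup.mem_center_iff.1 hz x
    rw [this]
    group
  have hxker : x ∈ φ.ker := by rw [MonoidHom.mem_ker, hφ]; group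
  have h1 : φ.ker.index = Nat.card (center T) := by rw [Subgroup.index_ker, hrange]
  have h2 : φ.ker.index ∣ p ^ 2 := hidx ▸ Subgroup.index_dvd_of_le hker_le
  obtain ⟨k, hk, hk'⟩ := (Nat.dvd_prime_pow hp.out).1 h2
  have hk2 : k ≠ 2 := by
    rintro rfl
    have h3 : φ.ker.index = (center T).index := by rw [hk', hidx]
    have h5 := Subgroup.relIndex_mul_index hker_le
    rw [h3] at h5
    have h6 : (center T).relIndex φ.ker = 1 := by
      have hpos : 0 < (center T).index := by rw [hidx]; omega
      exact Nat.eq_of_mul_eq_mul_right hpos (by rw [h5, one_mul])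
    exact hx (Subgroup.relIndex_eq_one.1 h6 hxker)
  have hk1 : k ≤ 1 := by omega
  rw [← h1, hk']
  calc p ^ k ≤ p ^ 1 := Nat.pow_le_pow_right hp.out.pos hk1
    _ = p := pow_one p

end Cfsg.Agent.Lib.Helper2.S4394D
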