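import Mathlib
import Cfsg.Prelude.Def_PLocal
import Cfsg.Agent.H5.ActionPStable
import Cfsg.Agent.H5.SL2pStable
import Cfsg.Agent.Lib.Helper1.Frattini
import Cfsg.Agent.Lib.Helper17.Frattini
import Cfsg.Agent.Lib.Helper20.PLen
import Cfsg.Agent.Lib.Helper2.S4394A
import Cfsg.Agent.Lib.Helper2.S4394C
import Cfsg.Agent.Lib.Helper2.S4394D

/-!
# S4394, part E: the group-level argument

`core_abstract`: `V` a normal self-centralising `p`-subgroup of `G` containing every normal
`p`-subgroup, `K'` a normal self-centralising `p'`-subgroup of `G ⧸ V`, `S` a Sylow `p`-subgroup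
with the class-two facts `SemiF`.  If `S ≠ V` then `Z(S)` has index `p ^ 2` in `S` and there is a
non-central element of order `p`.
-/

set_option autoImplicit false
set_option linter.unusedVariables false
set_option linter.unusedSectionVars false
set_option linter.style.longLine false
set_option linter.unnecessarySimpa false
set_option linter.style.haveILetI false
set_option maxHeartbeats 1000000

namespace Cfsg.Agent.Lib.Helper2.S4394E

open Subgroup
open Cfsg.Agent.Lib.Helper2.S4394C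
open scoped commutatorElement

variable {G : Type*} [Group G]

/-- the centre of a subgroup, as a subgroup of `G` -/
def Zs (S : Subgroup G) : Subgroup G := (Subgroup.center ↥S).map S.subtype

theorem mem_Zs (S : Subgroup G) (g : G) : g ∈ Zs S ↔ g ∈ S ∧ ∀ w ∈ S, w * g = g * w := by
  unfold Zs
  constructor
  · rintro ⟨c, hc, rfl⟩
    refine ⟨c.2, fun w hw => ?_⟩
    have := Subgroup.mem_center_iff.1 hc ⟨w, hw⟩
    exact congrArg Subtype.val this
  · rintro ⟨hg, h⟩
    refine ⟨⟨g, hg⟩, ?_, rfl⟩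
    rw [SetLike.mem_coe, Subgroup.mem_center_iff]
    intro w
    exact Subtype.ext (h w w.2)

theorem core_abstract [Finite G] {p : ℕ} [hp : Fact p.Prime] (S : Sylow p G) (V : Subgroup G)
    [hVn : V.Normal] (hVp : IsPGroup p V) (hVS : V ≤ (S : Subgroup G))
    (hcen : centralizer (V : Set G) ≤ V)
    (hOp : ∀ D : Subgroup G, D.Normal → IsPGroup p D → D ≤ V)
    (K' : Subgroup (G ⧸ V)) [hK'n : K'.Normal] (hK'cop : (Nat.card K').Coprime p)
    (hK'cen : centralizer (K' : Set (G ⧸ V)) ≤ K')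
    (hF : SemiF p ↥(S : Subgroup G)) (hSV : ¬ (S : Subgroup G) ≤ V) :
    (center ↥(S : Subgroup G)).index = p ^ 2 ∧
      ∃ v : ↥(S : Subgroup G), v ∉ center ↥(S : Subgroup G) ∧ v ^ p = 1 := by
  classical
  -- elementwise facts
  have hE1 : ∀ x ∈ (S : Subgroup G), ∀ y ∈ (S : Subgroup G),
      x * y * x⁻¹ * y⁻¹ ∈ Zs (S : Subgroup G) := by
    intro x hx y hy
    rw [mem_Zs]
    refine ⟨mul_mem (mul_mem (mul_mem hx hy) (inv_mem hx)) (inv_mem hy), fun w hw => ?_⟩
    have := congrArg Subtype.val (hF.comm_central ⟨x, hx⟩ ⟨y, hy⟩ ⟨w, hw⟩)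
    simp only [Subgroup.coe_mul, Subgroup.coe_inv] at this
    exact this.symm
  have hE2 : ∀ x ∈ (S : Subgroup G), x ^ p ∈ Zs (S : Subgroup G) := by
    intro x hx
    rw [mem_Zs]
    refine ⟨pow_mem hx p, fun w hw => ?_⟩
    have := congrArg Subtype.val (hF.pow_central ⟨x, hx⟩ ⟨w, hw⟩)
    simp only [Subgroup.coe_mul, Subgroup.coe_pow] at this
    exact this.symm
  have hE3 : ∀ x ∈ (S : Subgroup G), x ∉ Zs (S : Subgroup G) → ∀ z ∈ Zs (S : Subgroup G),
      ∃ y ∈ (S : Subgroup G), y * x * y⁻¹ * x⁻¹ = z := by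
    intro x hx hxZ z hz
    rw [mem_Zs] at hz
    have h1 : ∃ w : ↥(S : Subgroup G), (⟨x, hx⟩ : ↥(S : Subgroup G)) * w ≠ w * ⟨x, hx⟩ := by
      by_contra hcon
      push Not at hcon
      apply hxZ
      rw [mem_Zs]
      refine ⟨hx, fun w hw => ?_⟩
      have := congrArg Subtype.val (hcon ⟨w, hw⟩)
      simp only [Subgroup.coe_mul] at this
      exact this.symm
    have h2 : ∀ w : ↥(S : Subgroup G),
        (⟨z⁻¹, inv_mem hz.1⟩ : ↥(S : Subgroup G)) * w = w * ⟨z⁻¹, inv_mem hz.1⟩ := by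
      intro w
      apply Subtype.ext
      simp only [Subgroup.coe_mul]
      have hc : Commute (w : G) z := hz.2 w w.2
      exact (hc.inv_right).symm.eq
    obtain ⟨y, hy⟩ := hF.surj ⟨x, hx⟩ h1 ⟨z⁻¹, inv_mem hz.1⟩ h2
    refine ⟨y, y.2, ?_⟩
    have h3 := congrArg Subtype.val hy
    simp only [Subgroup.coe_mul, Subgroup.coe_inv] at h3
    calc (y : G) * x * (y : G)⁻¹ * x⁻¹ = (x * (y : G) * x⁻¹ * (y : G)⁻¹)⁻¹ := by group
      _ = z := by rw [h3, inv_inv]
  have hZV : Zs (S : Subgroup G) ≤ V := by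
    intro z hz
    rw [mem_Zs] at hz
    apply hcen
    rw [Subgroup.mem_centralizer_iff]
    intro v hv
    exact hz.2 v (hVS hv)
  -- the module
  have hWc : ∀ a b : ↥V ⧸ frattini ↥V, a * b = b * a := by
    intro a b
    obtain ⟨x, rfl⟩ := QuotientGroup.mk_surjective a
    obtain ⟨y, rfl⟩ := QuotientGroup.mk_surjective b
    rw [← QuotientGroup.mk_mul, ← QuotientGroup.mk_mul, QuotientGroup.eq]
    apply Cfsg.Agent.Lib.Helper1.IsPGroup.commutator_le_frattini hVp
    have : (x * y)⁻¹ * (y * x) = ⁅y⁻¹, x⁻¹⁆ := by rw [commutatorElement_def]; group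
    rw [this]
    exact Subgroup.commutator_mem_commutator (mem_top _) (mem_top _)
  let σ₀ : G →* MulAut (↥V ⧸ frattini ↥V) :=
    (Cfsg.H5.APS.frattiniAut ↥V).comp (MulAut.conjNormal (H := V))
  have hσ₀ : ∀ (g : G) (v : ↥V),
      σ₀ g (QuotientGroup.mk v) = QuotientGroup.mk (MulAut.conjNormal g v) := fun g v => rfl
  have hconj : ∀ (g : G) (v : ↥V), ((MulAut.conjNormal g v : ↥V) : G) = g * v * g⁻¹ :=
    fun g v => MulAut.conjNormal_apply g v
  have hσ₀ker : ∀ g : G, σ₀ g = 1 → g ∈ V := by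
    have hKn : σ₀.ker.Normal := inferInstance
    have hKp : IsPGroup p σ₀.ker := by
      rintro ⟨l, hl⟩
      have hl1 : σ₀ l = 1 := hl
      have hsec : l ∈ Cfsg.sectionKernel V ((frattini ↥V).map V.subtype) := by
        rw [Cfsg.H5.APS.mem_sectionKernel_iff]
        intro v hv
        have h1 : σ₀ l (QuotientGroup.mk ((⟨v, hv⟩ : ↥V)⁻¹)) =
            QuotientGroup.mk ((⟨v, hv⟩ : ↥V)⁻¹) := by rw [hl1]; rfl
        rw [hσ₀] at h1
        have h1' := QuotientGroup.eq.1 h1.symm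
        refine ⟨_, h1', ?_⟩
        rw [commutatorElement_def]
        simp only [Subgroup.coe_subtype, Subgroup.coe_mul, Subgroup.coe_inv, inv_inv, hconj]
        group
      obtain ⟨k, hk⟩ := Cfsg.H5.SL2p.pow_mem_centralizer_of_mem_sectionKernel V hVp hsec
      obtain ⟨j, hj⟩ := hVp ⟨l ^ p ^ k, hcen hk⟩
      refine ⟨k + j, ?_⟩
      apply Subtype.ext
      have := congrArg Subtype.val hj
      simp only [Subgroup.coe_pow, Subgroup.coe_one] at this ⊢
      rw [pow_add, pow_mul]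
      exact this
    intro g hg
    exact hOp _ hKn hKp hg
  have hVle : V ≤ σ₀.ker := by
    intro g hg
    rw [MonoidHom.mem_ker]
    ext w
    obtain ⟨v, rfl⟩ := QuotientGroup.mk_surjective w
    rw [hσ₀, MulAut.one_apply, QuotientGroup.eq]
    apply Cfsg.Agent.Lib.Helper1.IsPGroup.commutator_le_frattini hVp
    have h2 : (MulAut.conjNormal g v)⁻¹ * v = ⁅(⟨g, hg⟩ : ↥V), v⁻¹⁆ := by
      apply Subtype.ext
      rw [commutatorElement_def]
      simp only [Subgroup.coe_mul, Subgroup.coe_inv, hconj, inv_inv]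
      group
    rw [h2]
    exact Subgroup.commutator_mem_commutator (mem_top _) (mem_top _)
  let σ : G ⧸ V →* MulAut (↥V ⧸ frattini ↥V) := QuotientGroup.lift V σ₀ hVle
  have hσmk : ∀ g : G, σ (QuotientGroup.mk g) = σ₀ g := fun g => rfl
  have hσinj : Function.Injective σ := by
    rw [injective_iff_map_eq_one]
    intro a ha
    obtain ⟨g, rfl⟩ := QuotientGroup.mk_surjective a
    rw [hσmk] at ha
    exact (QuotientGroup.eq_one_iff g).2 (hσ₀ker g ha)
  have hVSne : ((S : Subgroup G).map (QuotientGroup.mk' V)) ≠ ⊥ := by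
    intro h
    apply hSV
    intro x hx
    have : QuotientGroup.mk' V x ∈ (S : Subgroup G).map (QuotientGroup.mk' V) :=
      Subgroup.mem_map_of_mem _ hx
    rw [h, Subgroup.mem_bot] at this
    exact (QuotientGroup.eq_one_iff x).1 this
  have hW : IsPGroup p (↥V ⧸ frattini ↥V) := hVp.to_quotient (frattini ↥V)
  have hcomm' : ∀ a ∈ (S : Subgroup G).map (QuotientGroup.mk' V),
      ∀ b ∈ (S : Subgroup G).map (QuotientGroup.mk' V), a * b = b * a := by
    rintro _ ⟨x, hx, rfl⟩ _ ⟨y, hy, rfl⟩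
    rw [← map_mul, ← map_mul, QuotientGroup.mk'_apply, QuotientGroup.mk'_apply, QuotientGroup.eq]
    apply hZV
    have := hE1 y⁻¹ (inv_mem hy) x⁻¹ (inv_mem hx)
    have h2 : (x * y)⁻¹ * (y * x) = y⁻¹ * x⁻¹ * y⁻¹⁻¹ * x⁻¹⁻¹ := by group
    rw [h2]
    exact this
  have hexp' : ∀ a ∈ (S : Subgroup G).map (QuotientGroup.mk' V), a ^ p = 1 := by
    rintro _ ⟨x, hx, rfl⟩
    rw [← map_pow, QuotientGroup.mk'_apply, QuotientGroup.eq_one_iff]
    exact hZV (hE2 x hx)
  have hSK' : (S : Subgroup G).map (QuotientGroup.mk' V) ≤ normalizer (K' : Set (G ⧸ V)) := by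
    rw [Subgroup.normalizer_eq_top]
    exact le_top
  have hpK' : ¬ p ∣ Nat.card K' := (Nat.Prime.coprime_iff_not_dvd hp.out).1 hK'cop.symm
  have hfaith' : ∀ s ∈ (S : Subgroup G).map (QuotientGroup.mk' V),
      (∀ k ∈ K', s * k = k * s) → s = 1 := by
    intro s hs hk
    have h1 : s ∈ K' := hK'cen (Subgroup.mem_centralizer_iff.2 fun k hk' => (hk k hk').symm)
    have h2 : orderOf s ∣ Nat.card K' := Subgroup.orderOf_dvd_natCard K' h1
    have h3 : orderOf s ∣ p := orderOf_dvd_of_pow_eq_one (hexp' s hs)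
    exact orderOf_eq_one_iff.1 (Nat.eq_one_of_dvd_coprimes hK'cop h2 h3)
  have ha' : ∀ s ∈ (S : Subgroup G).map (QuotientGroup.mk' V), ∀ w : ↥V ⧸ frattini ↥V,
      σ s w * w⁻¹ ∈ ((Zs (S : Subgroup G)).subgroupOf V).map (QuotientGroup.mk' (frattini ↥V)) := by
    rintro _ ⟨x, hx, rfl⟩ w
    obtain ⟨v, rfl⟩ := QuotientGroup.mk_surjective w
    rw [QuotientGroup.mk'_apply, hσmk, hσ₀, ← QuotientGroup.mk_inv, ← QuotientGroup.mk_mul]
    have h1 : MulAut.conjNormal x v * v⁻¹ ∈ (Zs (S : Subgroup G)).subgroupOf V := by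
      rw [Subgroup.mem_subgroupOf]
      simp only [Subgroup.coe_mul, Subgroup.coe_inv, hconj]
      exact hE1 x hx v (hVS v.2)
    exact Subgroup.mem_map_of_mem (QuotientGroup.mk' (frattini ↥V)) h1
  have hb' : ∀ s ∈ (S : Subgroup G).map (QuotientGroup.mk' V),
      ∀ w ∈ ((Zs (S : Subgroup G)).subgroupOf V).map (QuotientGroup.mk' (frattini ↥V)),
      σ s w = w := by
    rintro _ ⟨x, hx, rfl⟩ _ ⟨z, hz, rfl⟩
    rw [QuotientGroup.mk'_apply, QuotientGroup.mk'_apply, hσmk, hσ₀]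
    congr 1
    apply Subtype.ext
    rw [hconj]
    rw [SetLike.mem_coe, Subgroup.mem_subgroupOf, mem_Zs] at hz
    have := hz.2 x hx
    rw [this, mul_inv_cancel_right]
  have hc' : ∀ w : ↥V ⧸ frattini ↥V,
      w ∉ ((Zs (S : Subgroup G)).subgroupOf V).map (QuotientGroup.mk' (frattini ↥V)) →
      ∀ z ∈ ((Zs (S : Subgroup G)).subgroupOf V).map (QuotientGroup.mk' (frattini ↥V)),
      ∃ s ∈ (S : Subgroup G).map (QuotientGroup.mk' V), σ s w * w⁻¹ = z := by
    intro w hw z hz
    obtain ⟨v, rfl⟩ := QuotientGroup.mk_surjective w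
    obtain ⟨z₀, hz₀, rfl⟩ := hz
    have hvZ : (v : G) ∉ Zs (S : Subgroup G) := by
      intro h
      apply hw
      exact Subgroup.mem_map_of_mem (QuotientGroup.mk' (frattini ↥V)) (Subgroup.mem_subgroupOf.2 h)
    rw [SetLike.mem_coe, Subgroup.mem_subgroupOf] at hz₀
    obtain ⟨y, hy, hyz⟩ := hE3 v (hVS v.2) hvZ z₀ hz₀
    refine ⟨QuotientGroup.mk' V y, Subgroup.mem_map_of_mem _ hy, ?_⟩
    rw [QuotientGroup.mk'_apply, QuotientGroup.mk'_apply, hσmk, hσ₀, ← QuotientGroup.mk_inv,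
      ← QuotientGroup.mk_mul]
    congr 1
    apply Subtype.ext
    simp only [Subgroup.coe_mul, Subgroup.coe_inv, hconj]
    exact hyz
  obtain ⟨hcS, hcW₀, hcW⟩ := Cfsg.Agent.Lib.Helper2.S4394A.moduleLemma3 hWc σ hσinj hW
    ((S : Subgroup G).map (QuotientGroup.mk' V)) K'
    (((Zs (S : Subgroup G)).subgroupOf V).map (QuotientGroup.mk' (frattini ↥V)))
    hcomm' hexp' hVSne hSK' hpK' hfaith' ha' hb' hc'
  -- indices
  have hΦZ : frattini ↥V ≤ (Zs (S : Subgroup G)).subgroupOf V := by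
    apply Cfsg.Agent.Lib.Helper17.frattini_le_of_pow_comm (p := p)
    · intro x
      rw [Subgroup.mem_subgroupOf, Subgroup.coe_pow]
      exact hE2 _ (hVS x.2)
    · intro x y
      rw [Subgroup.mem_subgroupOf, commutatorElement_def]
      simp only [Subgroup.coe_mul, Subgroup.coe_inv]
      exact hE1 _ (hVS x.2) _ (hVS y.2)
  have h5a : V.relIndex (S : Subgroup G) = p := by
    rw [Cfsg.Agent.Lib.Helper20.PLen.relIndex_eq_card_map]
    exact hcS
  have h5b : ((Zs (S : Subgroup G)).subgroupOf V).index = p := by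
    have h1 : (((Zs (S : Subgroup G)).subgroupOf V).map
        (QuotientGroup.mk' (frattini ↥V))).comap (QuotientGroup.mk' (frattini ↥V)) =
        (Zs (S : Subgroup G)).subgroupOf V := by
      apply Subgroup.comap_map_eq_self
      rw [QuotientGroup.ker_mk']
      exact hΦZ
    rw [← h1, Subgroup.index_comap_of_surjective _ (QuotientGroup.mk'_surjective _)]
    have h2 := Subgroup.card_mul_index (((Zs (S : Subgroup G)).subgroupOf V).map
      (QuotientGroup.mk' (frattini ↥V)))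
    rw [hcW₀, hcW, pow_two] at h2
    exact Nat.eq_of_mul_eq_mul_left hp.out.pos h2
  have h5d : (Zs (S : Subgroup G)).relIndex (S : Subgroup G) = p ^ 2 := by
    have := Subgroup.relIndex_mul_relIndex (Zs (S : Subgroup G)) V (S : Subgroup G) hZV hVS
    rw [h5a] at this
    rw [← this, pow_two]
    congr 1
  have hidx : (center ↥(S : Subgroup G)).index = p ^ 2 := by
    rw [← h5d]
    unfold Subgroup.relIndex Zs
    congr 1
    exact (Subgroup.comap_map_eq_self_of_injective (Subgroup.subtype_injective _) _).symm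
  have hcZ : Nat.card (center ↥(S : Subgroup G)) ≤ p :=
    Cfsg.Agent.Lib.Helper2.S4394D.card_center_le hF hidx
  have hcZV : Nat.card ((Zs (S : Subgroup G)).subgroupOf V) ≤ p := by
    have h1 : Nat.card ((Zs (S : Subgroup G)).subgroupOf V) = Nat.card (Zs (S : Subgroup G)) :=
      Nat.card_congr (Subgroup.subgroupOfEquivOfLe hZV).toEquiv
    have h2 : Nat.card (Zs (S : Subgroup G)) = Nat.card (center ↥(S : Subgroup G)) := by
      unfold Zs
      exact Subgroup.card_map_of_injective (Subgroup.subtype_injective _)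
    rw [h1, h2]
    exact hcZ
  have hΦbot : frattini ↥V = ⊥ := by
    have h1 := Subgroup.relIndex_mul_relIndex (⊥ : Subgroup ↥V) (frattini ↥V)
      ((Zs (S : Subgroup G)).subgroupOf V) bot_le hΦZ
    rw [Subgroup.relIndex_bot_left, Subgroup.relIndex_bot_left] at h1
    have h2 : (frattini ↥V).relIndex ((Zs (S : Subgroup G)).subgroupOf V) = p := by
      rw [Cfsg.Agent.Lib.Helper20.PLen.relIndex_eq_card_map]
      exact hcW₀
    rw [h2] at h1
    have h3 : Nat.card (frattini ↥V) ≤ 1 := by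
      apply Nat.le_of_mul_le_mul_right _ hp.out.pos
      rw [h1, one_mul]
      exact hcZV
    have h4 : Nat.card (frattini ↥V) = 1 := le_antisymm h3 Nat.card_pos
    exact Subgroup.card_eq_one.1 h4
  have hZVtop : (Zs (S : Subgroup G)).subgroupOf V ≠ ⊤ := by
    intro h
    rw [h, Subgroup.index_top] at h5b
    exact hp.out.one_lt.ne h5b
  obtain ⟨v, hv⟩ : ∃ v : ↥V, v ∉ (Zs (S : Subgroup G)).subgroupOf V := by
    by_contra hcon
    push Not at hcon
    exact hZVtop (eq_top_iff.2 fun x _ => hcon x)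
  refine ⟨hidx, ⟨(v : G), hVS v.2⟩, ?_, ?_⟩
  · intro hc
    apply hv
    rw [Subgroup.mem_subgroupOf]
    exact ⟨⟨(v : G), hVS v.2⟩, hc, rfl⟩
  · apply Subtype.ext
    rw [Subgroup.coe_pow, Subgroup.coe_one]
    have h1 : v ^ p ∈ frattini ↥V := Cfsg.Agent.Lib.Helper1.IsPGroup.pow_mem_frattini hVp v
    rw [hΦbot, Subgroup.mem_bot] at h1
    have := congrArg Subtype.val h1
    simpa using this

end Cfsg.Agent.Lib.Helper2.S4394E
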