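import Mathlib
import Cfsg.Prelude.Def_PLocal
import Cfsg.Prelude.Def_SolvableStructure
import Cfsg.Agent.H5.PSolvable
import Cfsg.Agent.H5.PSolvable2
import Cfsg.Agent.H5.Cores
import Cfsg.Agent.H5.ActionPStable
import Cfsg.Agent.H5.SL2pStable
import Cfsg.Agent.H5.SL2PSolv
import Cfsg.Agent.Lib.Helper13.AutTransOrderP
import Cfsg.Agent.Lib.Helper20.PLen
import Cfsg.Agent.Lib.Helper2.S4394B
import Cfsg.Agent.Lib.Helper2.S4394C
import Cfsg.Agent.Lib.Helper2.S4394D
import Cfsg.Agent.Lib.Helper2.S4394E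

/-!
# S4394, part F: glue

`schmidt_sylow`: the structure of a normal Sylow subgroup of a minimal non-nilpotent group.
`main_core`: a `p`-solvable group with `O_{p'}(G) = 1` whose Sylow `p`-subgroup is of that shape has
`p`-length at most `1`.
-/

set_option autoImplicit false
set_option linter.unusedVariables false
set_option linter.unusedSectionVars false
set_option linter.style.longLine false
set_option linter.unnecessarySimpa false
set_option linter.style.haveILetI false
set_option maxHeartbeats 1000000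

namespace Cfsg.Agent.Lib.Helper2.S4394F

open Subgroup
open Cfsg.Agent.Lib.Helper2.S4394C Cfsg.Agent.Lib.Helper2.S4394D Cfsg.Agent.Lib.Helper2.S4394E
open Cfsg.Agent.Lib.Helper20.PLen
open scoped commutatorElement

theorem mem_normalizer_of_conj_mem {X : Type*} [Group X] [Finite X] (M : Subgroup X) (a : X)
    (h : ∀ m ∈ M, a * m * a⁻¹ ∈ M) : a ∈ normalizer (M : Set X) := by
  rw [mem_normalizer_iff]
  intro n
  refine ⟨h n, fun hn => ?_⟩
  have hpow : ∀ j : ℕ, ∀ m ∈ M, a ^ j * m * (a ^ j)⁻¹ ∈ M := by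
    intro j
    induction j with
    | zero => intro m hm; simpa using hm
    | succ j ih =>
      intro m hm
      have := h _ (ih m hm)
      have h2 : a ^ (j + 1) * m * (a ^ (j + 1))⁻¹ = a * (a ^ j * m * (a ^ j)⁻¹) * a⁻¹ := by
        rw [pow_succ']; group
      rw [h2]
      exact this
  have hk : a ^ (orderOf a - 1) = a⁻¹ := by
    rw [eq_inv_iff_mul_eq_one, ← pow_succ, Nat.sub_add_cancel (orderOf_pos a), pow_orderOf_eq_one]
  have := hpow (orderOf a - 1) _ hn
  rw [hk] at this
  have h3 : a⁻¹ * (a * n * a⁻¹) * a⁻¹⁻¹ = n := by group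
  rw [h3] at this
  exact this

theorem schmidt_sylow {X : Type*} [Group X] [Finite X] {p : ℕ} [hp : Fact p.Prime]
    (hX : Cfsg.IsMinimalNonNilpotent X) (P : Sylow p X) (hPn : (P : Subgroup X).Normal)
    (hP1 : (P : Subgroup X) ≠ ⊥) :
    SemiF p ↥(P : Subgroup X) ∧
      ((∀ x y : ↥(P : Subgroup X), x * y = y * x) ∨ SemiA p ↥(P : Subgroup X)) := by
  obtain ⟨a, q, hq, hqp, hacop, haC, haq, hmin⟩ :=
    Cfsg.Agent.Lib.Helper2.S4394B.exists_key hX P hPn hP1
  haveI := hPn
  have hconj : ∀ (g : X) (v : ↥(P : Subgroup X)),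
      ((MulAut.conjNormal g v : ↥(P : Subgroup X)) : X) = g * v * g⁻¹ :=
    fun g v => MulAut.conjNormal_apply g v
  apply semi_of_aut P.isPGroup' (MulAut.conjNormal a) q hq hqp
  · rw [← map_pow]
    ext v
    rw [hconj, MulAut.one_apply]
    have := Subgroup.mem_centralizer_iff.1 haq v v.2
    rw [← this, mul_inv_cancel_right]
  · intro h
    apply haC
    rw [Subgroup.mem_centralizer_iff]
    intro v hv
    have h1 := congrArg (fun f : MulAut ↥(P : Subgroup X) =>
      ((f ⟨v, hv⟩ : ↥(P : Subgroup X)) : X)) h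
    simp only [hconj, MulAut.one_apply] at h1
    calc v * a = a * v * a⁻¹ * a := by rw [h1]
      _ = a * v := by rw [inv_mul_cancel_right]
  · intro M hM hMinv m hm
    have hMP : M.map (P : Subgroup X).subtype ≤ P := by
      rintro _ ⟨x, _, rfl⟩
      exact x.2
    have hMne : M.map (P : Subgroup X).subtype ≠ P := by
      intro h
      apply hM
      rw [eq_top_iff]
      intro x _
      have : (x : X) ∈ M.map (P : Subgroup X).subtype := by rw [h]; exact x.2
      obtain ⟨y, hy, hyx⟩ := this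
      have : y = x := Subtype.ext hyx
      rwa [← this]
    have hnorm : a ∈ normalizer ((M.map (P : Subgroup X).subtype : Subgroup X) : Set X) := by
      apply mem_normalizer_of_conj_mem
      rintro _ ⟨m', hm', rfl⟩
      exact ⟨MulAut.conjNormal a m', hMinv m' hm', hconj a m'⟩
    have := hmin _ hMP hMne hnorm (m : X) ⟨m, hm, rfl⟩
    apply Subtype.ext
    rw [hconj, this, mul_inv_cancel_right]

variable {G : Type*} [Group G] [Finite G] {p : ℕ} [hp : Fact p.Prime]

theorem core_ge5 (hp2 : p ≠ 2) (hp3 : p ≠ 3) (hsol : Cfsg.IsPSolvable p G)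
    (hK : Cfsg.pPrimeCore p G = ⊥) (S : Sylow p G) (hF : SemiF p ↥(S : Subgroup G)) :
    (S : Subgroup G) ≤ Cfsg.pCore p G := by
  intro a haS
  haveI hVn : (Cfsg.pCore p G).Normal := Cfsg.H5.pCore_normal p G
  have hAS := Cfsg.H5.SL2P.autStable_of_isPSolvable hp2 hp3 hsol
  have hVp := Cfsg.H5.pCore_isPGroup p G
  have hsec := Cfsg.H5.APS.isPStableOnSection_of_autStable hAS (Cfsg.pCore p G) hVp
  have hVS : Cfsg.pCore p G ≤ S := hVp.le_sylow_of_normal S
  have hcen := Cfsg.H5.centralizer_pCore_le_of_isPSolvable hsol hK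
  have hzS : Subgroup.zpowers a ≤ (S : Subgroup G) := Subgroup.zpowers_le.2 haS
  have h1 : ∀ v ∈ Cfsg.pCore p G, ∀ b ∈ Subgroup.zpowers a, ∀ w ∈ (S : Subgroup G),
      ⁅v, b⁆ * w = w * ⁅v, b⁆ := by
    intro v hv b hb w hw
    have := congrArg Subtype.val (hF.comm_central ⟨v, hVS hv⟩ ⟨b, hzS hb⟩ ⟨w, hw⟩)
    simp only [Subgroup.coe_mul, Subgroup.coe_inv] at this
    rw [commutatorElement_def]
    exact this
  have h2 : ⁅⁅Cfsg.pCore p G, Subgroup.zpowers a⁆, Subgroup.zpowers a⁆ ≤
      (frattini ↥(Cfsg.pCore p G)).map (Cfsg.pCore p G).subtype := by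
    have h3 : ⁅Cfsg.pCore p G, Subgroup.zpowers a⁆ ≤
        Subgroup.centralizer ((S : Subgroup G) : Set G) := by
      rw [Subgroup.commutator_le]
      intro v hv b hb
      rw [Subgroup.mem_centralizer_iff]
      intro w hw
      exact (h1 v hv b hb w hw).symm
    have h4 : ⁅⁅Cfsg.pCore p G, Subgroup.zpowers a⁆, Subgroup.zpowers a⁆ ≤ ⊥ := by
      rw [Subgroup.commutator_le]
      intro c hc b hb
      rw [Subgroup.mem_bot, commutatorElement_eq_one_iff_mul_comm]
      exact (Subgroup.mem_centralizer_iff.1 (h3 hc) b (hzS hb)).symm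
    exact h4.trans bot_le
  obtain ⟨D, hDn, hKD, ⟨k, hk⟩, haD⟩ := hsec a h2
  haveI := hDn
  haveI hKn : (Cfsg.sectionKernel (Cfsg.pCore p G)
      ((frattini ↥(Cfsg.pCore p G)).map (Cfsg.pCore p G).subtype)).Normal :=
    Cfsg.H5.APS.sectionKernel_normal _ _
  have hDp : IsPGroup p D := by
    rintro ⟨l, hl⟩
    have h5 : l ^ (p ^ k) ∈ Cfsg.sectionKernel (Cfsg.pCore p G)
        ((frattini ↥(Cfsg.pCore p G)).map (Cfsg.pCore p G).subtype) := by
      rw [← hk]
      exact Subgroup.pow_relIndex_mem _ hl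
    obtain ⟨e, he⟩ := Cfsg.H5.SL2p.pow_mem_centralizer_of_mem_sectionKernel
      (Cfsg.pCore p G) hVp h5
    obtain ⟨j, hj⟩ := hVp ⟨(l ^ p ^ k) ^ p ^ e, hcen he⟩
    refine ⟨k + e + j, ?_⟩
    apply Subtype.ext
    have := congrArg Subtype.val hj
    simp only [Subgroup.coe_pow, Subgroup.coe_one] at this ⊢
    rw [pow_add, pow_add, pow_mul, pow_mul]
    exact this
  exact Cfsg.H5.le_pCore hDn hDp haD

theorem core_small (hsol : Cfsg.IsPSolvable p G) (hK : Cfsg.pPrimeCore p G = ⊥) (S : Sylow p G)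
    (hF : SemiF p ↥(S : Subgroup G)) (hSV : ¬ (S : Subgroup G) ≤ Cfsg.pCore p G) :
    (center ↥(S : Subgroup G)).index = p ^ 2 ∧
      ∃ v : ↥(S : Subgroup G), v ∉ center ↥(S : Subgroup G) ∧ v ^ p = 1 := by
  haveI hVn : (Cfsg.pCore p G).Normal := Cfsg.H5.pCore_normal p G
  have hVp := Cfsg.H5.pCore_isPGroup p G
  have hVS : Cfsg.pCore p G ≤ S := hVp.le_sylow_of_normal S
  have hcen := Cfsg.H5.centralizer_pCore_le_of_isPSolvable hsol hK
  have hOp : ∀ D : Subgroup G, D.Normal → IsPGroup p D → D ≤ Cfsg.pCore p G :=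
    fun D hDn hDp => Cfsg.H5.le_pCore hDn hDp
  have hsolq := Cfsg.H5.isPSolvable_quotient (Cfsg.pCore p G) hsol
  have hOpq : Cfsg.pCore p (G ⧸ Cfsg.pCore p G) = ⊥ :=
    Cfsg.Agent.Lib.Helper13.AutTrans.pCore_quotient_pCore_eq_bot p
  have hK'cen := Cfsg.H5.centralizer_pPrimeCore_le_of_isPSolvable hsolq hOpq
  haveI := Cfsg.H5.pPrimeCore_normal p (G ⧸ Cfsg.pCore p G)
  exact core_abstract S (Cfsg.pCore p G) hVp hVS hcen hOp
    (Cfsg.pPrimeCore p (G ⧸ Cfsg.pCore p G)) (Cfsg.H5.coprime_card_pPrimeCore p _) hK'cen hF hSV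

theorem main_core (hsol : Cfsg.IsPSolvable p G) (hK : Cfsg.pPrimeCore p G = ⊥) (S : Sylow p G)
    {T : Type*} [Group T] (e : ↥(S : Subgroup G) ≃* T) (hFT : SemiF p T)
    (hAT : (∀ x y : T, x * y = y * x) ∨ SemiA p T) : Cfsg.PLengthLE p 1 G := by
  have hF : SemiF p ↥(S : Subgroup G) := hFT.of_equiv e.symm
  have hp1 : 1 < p ^ 2 := Nat.one_lt_pow (by norm_num) hp.out.one_lt
  have hSV : (S : Subgroup G) ≤ Cfsg.pCore p G := by
    by_contra hSV
    by_cases h23 : p = 2 ∨ p = 3
    · obtain ⟨hidx, v, hvZ, hvp⟩ := core_small hsol hK S hF hSV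
      have hidxT : (center T).index = p ^ 2 := by
        rw [← index_center_of_equiv e]
        exact hidx
      rcases hAT with hab | hA
      · have : center T = ⊤ :=
          eq_top_iff.2 fun t _ => Subgroup.mem_center_iff.2 fun g => hab g t
        rw [this, Subgroup.index_top] at hidxT
        omega
      · haveI : Finite T := Finite.of_equiv _ e.toEquiv
        have hTp : IsPGroup p T := S.isPGroup'.of_equiv e
        apply final_contra hTp hFT hA hidxT ⟨e v, ?_, ?_⟩ h23
        · intro hc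
          apply hvZ
          rw [Subgroup.mem_center_iff]
          intro g
          apply e.injective
          rw [map_mul, map_mul]
          exact Subgroup.mem_center_iff.1 hc (e g)
        · rw [← map_pow, hvp, map_one]
    · push Not at h23
      exact hSV (core_ge5 h23.1 h23.2 hsol hK S hF)
  haveI hVn : (Cfsg.pCore p G).Normal := Cfsg.H5.pCore_normal p G
  have h0 : Cfsg.PLengthLE p 1 ↥(Cfsg.pCore p G) :=
    pLengthLE_one_of_isPGroup (Cfsg.H5.pCore_isPGroup p G)
  have h1 : Cfsg.PLengthLE p 0 (G ⧸ Cfsg.pCore p G) := by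
    rw [pLengthLE_zero_iff, ← Subgroup.index_eq_card]
    have h2 : (Cfsg.pCore p G).index ∣ (S : Subgroup G).index := Subgroup.index_dvd_of_le hSV
    have h3 : ¬ p ∣ (S : Subgroup G).index := S.not_dvd_index
    have h4 : ¬ p ∣ (Cfsg.pCore p G).index := fun h => h3 (h.trans h2)
    exact ((Nat.Prime.coprime_iff_not_dvd hp.out).2 h4).symm
  have := pLengthLE_of_extension (Cfsg.pCore p G) h0 h1
  rwa [add_zero] at this

theorem sylow_quot_equiv (N : Subgroup G) [N.Normal] (hN : (Nat.card N).Coprime p)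
    (Q : Sylow p G) :
    Nonempty (↥((Q : Subgroup G).map (QuotientGroup.mk' N)) ≃* ↥(Q : Subgroup G)) := by
  have hsurj : Function.Surjective ((QuotientGroup.mk' N).subgroupMap (Q : Subgroup G)) :=
    MonoidHom.subgroupMap_surjective _ _
  have hinj : Function.Injective ((QuotientGroup.mk' N).subgroupMap (Q : Subgroup G)) := by
    rw [injective_iff_map_eq_one]
    intro x hx
    have h1 : (QuotientGroup.mk' N) (x : G) = 1 := by
      have := congrArg Subtype.val hx
      rw [MonoidHom.subgroupMap_apply_coe] at this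
      exact this
    have h2 : (x : G) ∈ N := (QuotientGroup.eq_one_iff _).1 h1
    obtain ⟨k, hk⟩ := Q.isPGroup' x
    have h3 : orderOf (x : G) ∣ p ^ k := orderOf_dvd_of_pow_eq_one (by
      have := congrArg Subtype.val hk
      simpa using this)
    have h4 : orderOf (x : G) ∣ Nat.card N := Subgroup.orderOf_dvd_natCard N h2
    have h5 : orderOf (x : G) = 1 :=
      Nat.eq_one_of_dvd_coprimes (Nat.Coprime.pow_right k hN) h4 h3
    exact Subtype.ext (orderOf_eq_one_iff.1 h5)
  exact ⟨(MulEquiv.ofBijective _ ⟨hinj, hsurj⟩).symm⟩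

end Cfsg.Agent.Lib.Helper2.S4394F
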