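import Mathlib
import Cfsg.Prelude.Def_GeometricClasses
import Cfsg.Agent.Lib.Helper7.AschDefs
import Cfsg.Agent.Lib.Helper7.AschWrap

/-!
# S5630, block I3 and CORE-FFb (helper2)

* `exists_prime_index_subfield` : every proper subfield of a finite field lies in a subfield of prime index;
* `inClass_of_realModScal`      : a group realisable modulo scalars over a proper subfield lies in a member of class 5.
-/

set_option autoImplicit false

namespace Cfsg.Agent.Lib.Helper2.S5630I3

open Matrix Cfsg.Geo Cfsg.Agent.Lib.Helper7.Asch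

variable {F : Type*} [Field F] {n : ℕ}

theorem eq_top_of_finrank_eq_one (F₀ : Subfield F) (h1 : Module.finrank F₀ F = 1) : F₀ = ⊤ := by
  have hbt : (⊥ : Subalgebra F₀ F) = ⊤ := Subalgebra.bot_eq_top_of_finrank_eq_one h1
  rw [eq_top_iff]
  intro x _
  have hx : x ∈ (⊤ : Subalgebra F₀ F) := Algebra.mem_top
  rw [← hbt, Algebra.mem_bot] at hx
  obtain ⟨y, rfl⟩ := hx
  exact y.2

/-- **CORE-FFb** every proper subfield of a finite field lies in a subfield of prime index -/
theorem exists_prime_index_subfield [Fintype F] (F₀ : Subfield F) (h0 : F₀ ≠ ⊤) :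
    ∃ (F₁ : Subfield F) (r : ℕ), F₀ ≤ F₁ ∧ r.Prime ∧ Fintype.card F = Nat.card F₁ ^ r := by
  classical
  haveI : Finite F := Finite.of_fintype F
  -- the Galois group has order `[F : F₀] > 1`
  have hcard : Nat.card (F ≃ₐ[F₀] F) = Module.finrank F₀ F := IsGalois.card_aut_eq_finrank F₀ F
  have hne : Module.finrank F₀ F ≠ 1 := fun h1 => h0 (eq_top_of_finrank_eq_one F₀ h1)
  set r := (Module.finrank F₀ F).minFac with hr
  have hrp : r.Prime := Nat.minFac_prime hne
  haveI : Fact r.Prime := ⟨hrp⟩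
  haveI : Fintype (F ≃ₐ[F₀] F) := Fintype.ofFinite _
  have hdvd : r ∣ Fintype.card (F ≃ₐ[F₀] F) := by
    rw [← Nat.card_eq_fintype_card, hcard]
    exact Nat.minFac_dvd _
  obtain ⟨σ, hσ⟩ := exists_prime_orderOf_dvd_card r hdvd
  let K : IntermediateField F₀ F := IntermediateField.fixedField (Subgroup.zpowers σ)
  have hfr : Module.finrank K F = r := by
    rw [IntermediateField.finrank_fixedField_eq_card, Nat.card_zpowers, hσ]
  refine ⟨K.toSubfield, r, ?_, hrp, ?_⟩
  · intro x hx
    have : algebraMap F₀ F ⟨x, hx⟩ ∈ K := K.algebraMap_mem ⟨x, hx⟩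
    exact this
  · haveI : Fintype K := Fintype.ofFinite _
    have h1 : Fintype.card F = Fintype.card K ^ Module.finrank K F := Module.card_eq_pow_finrank
    rw [hfr] at h1
    rw [h1, ← Nat.card_eq_fintype_card]
    rfl

/-- an invertible matrix with entries in the subfield `F₁` comes from `GL_n(F₁)` -/
theorem mem_range_map_of_entries (F₁ : Subfield F) (g : GL (Fin n) F)
    (hg : ∀ i j, (g : Matrix (Fin n) (Fin n) F) i j ∈ F₁) :
    g ∈ (Matrix.GeneralLinearGroup.map (F₁.subtype : F₁ →+* F)).range := by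
  classical
  let M' : Matrix (Fin n) (Fin n) F₁ := fun i j => ⟨(g : Matrix (Fin n) (Fin n) F) i j, hg i j⟩
  have hmap : M'.map (F₁.subtype : F₁ →+* F) = (g : Matrix (Fin n) (Fin n) F) := by
    ext i j
    rfl
  have hdet : M'.det ≠ 0 := by
    intro h0
    have h1 : (F₁.subtype : F₁ →+* F) M'.det = (g : Matrix (Fin n) (Fin n) F).det := by
      rw [RingHom.map_det, RingHom.mapMatrix_apply, hmap]
    rw [h0, map_zero] at h1
    have h2 : IsUnit (g : Matrix (Fin n) (Fin n) F).det := by
      rw [← Matrix.isUnit_iff_isUnit_det]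
      exact g.isUnit
    rw [← h1] at h2
    exact not_isUnit_zero h2
  refine ⟨Matrix.GeneralLinearGroup.mkOfDetNeZero M' hdet, ?_⟩
  apply Units.ext
  exact hmap

/-- **I3** realisable modulo scalars over a proper subfield: class 5 -/
theorem inClass_of_realModScal [Fintype F] (H : Subgroup (GL (Fin n) F)) (F₀ : Subfield F) (h0 : F₀ ≠ ⊤)
    (h : RealModScal F₀ H) : InClass H := by
  classical
  obtain ⟨F₁, r, hle, hrp, hc⟩ := exists_prime_index_subfield F₀ h0
  obtain ⟨B, hB⟩ := h
  refine InClass.of_subfield H F₁ r B⁻¹ hrp hc ?_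
  intro x hx
  obtain ⟨c, hcx⟩ := hB x hx
  unfold subfieldSubgroup
  rw [Subgroup.mem_map]
  refine ⟨B * x * B⁻¹, ?_, ?_⟩
  swap
  · show B⁻¹ * (B * x * B⁻¹) * B⁻¹⁻¹ = x
    group
  -- the scalar `c`
  let s : GL (Fin n) F := Units.map (Matrix.scalar (Fin n) : F →+* Matrix (Fin n) (Fin n) F).toMonoidHom c
  have hs : s ∈ scalars (Fin n) F := ⟨c, rfl⟩
  have hsval : (s : Matrix (Fin n) (Fin n) F) = (c : F) • (1 : Matrix (Fin n) (Fin n) F) := by
    show Matrix.scalar (Fin n) (c : F) = _
    simp [Matrix.smul_one_eq_diagonal]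
  have hg : s * (B * x * B⁻¹) ∈ (Matrix.GeneralLinearGroup.map (F₁.subtype : F₁ →+* F)).range := by
    apply mem_range_map_of_entries
    intro i j
    have e : ((s * (B * x * B⁻¹) : GL (Fin n) F) : Matrix (Fin n) (Fin n) F) =
        (c : F) • ((B : Matrix (Fin n) (Fin n) F) * (x : Matrix (Fin n) (Fin n) F) *
          ((B⁻¹ : GL (Fin n) F) : Matrix (Fin n) (Fin n) F)) := by
      rw [Units.val_mul, hsval, Units.val_mul, Units.val_mul, Matrix.smul_mul, Matrix.one_mul]
    rw [e]
    exact hle (hcx i j)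
  have e2 : B * x * B⁻¹ = (s * (B * x * B⁻¹)) * s⁻¹ := by
    have hcomm : s * (B * x * B⁻¹) = (B * x * B⁻¹) * s := by
      apply Units.ext
      rw [Units.val_mul (a := s), Units.val_mul (b := s), hsval, Matrix.smul_mul, Matrix.one_mul, Matrix.mul_smul,
        Matrix.mul_one]
    rw [hcomm, mul_inv_cancel_right]
  rw [e2]
  exact Subgroup.mul_mem_sup hg ((scalars (Fin n) F).inv_mem hs)

end Cfsg.Agent.Lib.Helper2.S5630I3
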