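import Mathlib
import Cfsg.Prelude.Def_GeometricClasses
import Cfsg.Agent.Lib.Helper7.AschDefs

/-!
# S5630, block I5: the group-theoretic dichotomy (helper2)

Abstract form: `G` a finite group, `S` a central subgroup, `H ≰ S`.  A minimal `H`-normalised non-`S` subgroup `N` of `H`
is either of class two modulo `S` with `x ^ r ∈ S` for a prime `r`, or the product of the `H`-conjugates of a perfect
subgroup `L`, simple modulo `S`, whose distinct conjugates commute elementwise.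
-/

set_option autoImplicit false

namespace Cfsg.Agent.Lib.Helper2.S5630I5

open scoped commutatorElement

section abstract

variable {G : Type*} [Group G]

/-- `N` is normalised by `H` -/
def NB (H N : Subgroup G) : Prop := ∀ h ∈ H, ∀ x ∈ N, h * x * h⁻¹ ∈ N

theorem NB.self (H : Subgroup G) : NB H H := fun h hh x hx => H.mul_mem (H.mul_mem hh hx) (H.inv_mem hh)

/-- minimal elements for a predicate on subgroups of a finite group -/
theorem exists_min [Finite G] (P : Subgroup G → Prop) (H : Subgroup G) (hP : P H) :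
    ∃ N, P N ∧ N ≤ H ∧ ∀ K, P K → K ≤ N → K = N := by
  obtain ⟨N, ⟨hN, hNH⟩, hmin⟩ := Set.exists_min_image {N : Subgroup G | P N ∧ N ≤ H}
    (fun N => Nat.card N) (Set.toFinite _) ⟨H, hP, le_rfl⟩
  refine ⟨N, hN, hNH, fun K hK hKN => ?_⟩
  have h1 := hmin K ⟨hK, hKN.trans hNH⟩
  exact Subgroup.eq_of_le_of_card_ge hKN h1

/-- a central subgroup is normal -/
theorem normal_of_central (S : Subgroup G) (hS : ∀ s ∈ S, ∀ g : G, s * g = g * s) : S.Normal :=
  ⟨fun s hs g => by rw [← hS s hs g, mul_inv_cancel_right]; exact hs⟩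

/-- the conjugate subgroup -/
def cj (h : G) (L : Subgroup G) : Subgroup G := L.map (MulAut.conj h).toMonoidHom

theorem mem_cj {h : G} {L : Subgroup G} {y : G} : y ∈ cj h L ↔ ∃ x ∈ L, h * x * h⁻¹ = y := by
  unfold cj
  rw [Subgroup.mem_map]
  rfl

theorem conj_mem_cj {h : G} {L : Subgroup G} {x : G} (hx : x ∈ L) : h * x * h⁻¹ ∈ cj h L :=
  mem_cj.2 ⟨x, hx, rfl⟩

theorem card_cj [Finite G] (h : G) (L : Subgroup G) : Nat.card (cj h L) = Nat.card L := by
  unfold cj
  exact Subgroup.card_map_of_injective (MulAut.conj h).injective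

theorem cj_one (L : Subgroup G) : cj 1 L = L := by
  ext y
  rw [mem_cj]
  constructor
  · rintro ⟨x, hx, rfl⟩
    simpa using hx
  · intro hy
    exact ⟨y, hy, by simp⟩

/-- commutators in `S` give commuting images in the quotient -/
theorem commute_mk {S : Subgroup G} [S.Normal] {x y : G} (h : ⁅x, y⁆ ∈ S) :
    Commute (QuotientGroup.mk' S x) (QuotientGroup.mk' S y) := by
  have h1 : QuotientGroup.mk' S ⁅x, y⁆ = 1 := (QuotientGroup.eq_one_iff _).2 h
  rw [commutatorElement_def, map_mul, map_mul, map_mul, map_inv, map_inv] at h1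
  unfold Commute SemiconjBy
  have h2 := congrArg (fun z => z * (QuotientGroup.mk' S y) * (QuotientGroup.mk' S x)) h1
  simpa [mul_assoc] using h2

/-- **Case (a)**: class two modulo `S` -/
theorem caseA [Finite G] (S : Subgroup G) (hS : ∀ s ∈ S, ∀ g : G, s * g = g * s) (H N : Subgroup G)
    (hnorm : NB H N) (hNs : ¬ N ≤ S)
    (hmin : ∀ K : Subgroup G, (NB H K ∧ ¬ K ≤ S) → K ≤ N → K = N)
    (hcomm : ∀ x ∈ N, ∀ y ∈ N, ⁅x, y⁆ ∈ S) :
    ∃ r : ℕ, r.Prime ∧ ∀ x ∈ N, x ^ r ∈ S := by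
  classical
  haveI : S.Normal := normal_of_central S hS
  obtain ⟨x0, hx0N, hx0S⟩ := SetLike.not_le_iff_exists.1 hNs
  have hex : ∃ m : ℕ, 0 < m ∧ x0 ^ m ∈ S :=
    ⟨orderOf x0, orderOf_pos x0, by rw [pow_orderOf_eq_one]; exact S.one_mem⟩
  set m := Nat.find hex with hm
  obtain ⟨hm0, hmS⟩ := Nat.find_spec hex
  have hm1 : m ≠ 1 := by
    intro h1
    rw [← hm, h1, pow_one] at hmS
    exact hx0S hmS
  set r := m.minFac with hr
  have hrp : r.Prime := Nat.minFac_prime hm1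
  have hrm : r ∣ m := Nat.minFac_dvd m
  obtain ⟨k, hk⟩ := hrm
  have hk0 : 0 < k := by
    rcases Nat.eq_zero_or_pos k with h0 | h0
    · rw [h0, mul_zero] at hk
      omega
    · exact h0
  have hkm : k < m := by
    have := hrp.two_le
    nlinarith
  have hyS : x0 ^ k ∉ S := by
    intro h
    exact Nat.find_min hex hkm ⟨hk0, h⟩
  have hyr : (x0 ^ k) ^ r ∈ S := by
    rw [← pow_mul, mul_comm, ← hk]
    exact hmS
  -- the subgroup `K_r`
  let K : Subgroup G :=
    { carrier := {x | x ∈ N ∧ x ^ r ∈ S}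
      one_mem' := ⟨N.one_mem, by rw [one_pow]; exact S.one_mem⟩
      mul_mem' := by
        rintro x y ⟨hx, hxr⟩ ⟨hy, hyr'⟩
        refine ⟨N.mul_mem hx hy, ?_⟩
        rw [← QuotientGroup.eq_one_iff, ← QuotientGroup.mk'_apply, map_pow, map_mul,
          (commute_mk (hcomm x hx y hy)).mul_pow, ← map_pow, ← map_pow,
          QuotientGroup.mk'_apply, QuotientGroup.mk'_apply, (QuotientGroup.eq_one_iff _).2 hxr,
          (QuotientGroup.eq_one_iff _).2 hyr', one_mul]
      inv_mem' := by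
        rintro x ⟨hx, hxr⟩
        exact ⟨N.inv_mem hx, by rw [inv_pow]; exact S.inv_mem hxr⟩ }
  have hKN : K ≤ N := fun x hx => hx.1
  have hKnorm : NB H K := by
    intro h hh x hx
    refine ⟨hnorm h hh x hx.1, ?_⟩
    rw [conj_pow]
    exact ‹S.Normal›.conj_mem _ hx.2 h
  have hKs : ¬ K ≤ S := fun hle => hyS (hle ⟨N.pow_mem hx0N k, hyr⟩)
  have hKeq : K = N := hmin K ⟨hKnorm, hKs⟩ hKN
  refine ⟨r, hrp, fun x hx => ?_⟩
  have : x ∈ K := by rw [hKeq]; exact hx
  exact this.2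

theorem comm_mem_iff {S : Subgroup G} [S.Normal] {x y : G} :
    ⁅x, y⁆ ∈ S ↔ Commute (QuotientGroup.mk' S x) (QuotientGroup.mk' S y) := by
  rw [← QuotientGroup.eq_one_iff, ← QuotientGroup.mk'_apply, map_commutatorElement,
    commutatorElement_eq_one_iff_commute]

/-- for fixed `b`, the elements `a` with `⁅a, b⁆ ∈ S` form a subgroup (`S` normal) -/
def commSub (S : Subgroup G) [S.Normal] (b : G) : Subgroup G :=
  Subgroup.comap (QuotientGroup.mk' S) (Subgroup.centralizer {QuotientGroup.mk' S b})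

theorem mem_commSub {S : Subgroup G} [S.Normal] {a b : G} : a ∈ commSub S b ↔ ⁅a, b⁆ ∈ S := by
  unfold commSub
  rw [Subgroup.mem_comap, Subgroup.mem_centralizer_iff, comm_mem_iff]
  constructor
  · intro h
    exact (h _ rfl).symm
  · intro h z hz
    rw [Set.mem_singleton_iff] at hz
    rw [hz]
    exact h.symm.eq

theorem comm_symm_mem {S : Subgroup G} {a b : G} (h : ⁅a, b⁆ ∈ S) : ⁅b, a⁆ ∈ S := by
  rw [← commutatorElement_inv]
  exact S.inv_mem h

section caseB

variable (S : Subgroup G) (hS : ∀ s ∈ S, ∀ g : G, s * g = g * s) (H N L : Subgroup G)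

include hS in
theorem cj_not_le {h : G} (hL : ¬ L ≤ S) : ¬ cj h L ≤ S := by
  haveI : S.Normal := normal_of_central S hS
  intro hle
  apply hL
  intro x hx
  have h1 : h * x * h⁻¹ ∈ S := hle (conj_mem_cj hx)
  have h2 := ‹S.Normal›.conj_mem _ h1 h⁻¹
  simpa [mul_assoc] using h2

theorem cj_le_of_NB {h : G} (hh : h ∈ H) (hnorm : NB H N) (hLN : L ≤ N) : cj h L ≤ N := by
  intro y hy
  obtain ⟨x, hx, rfl⟩ := mem_cj.1 hy
  exact hnorm h hh x (hLN hx)

theorem cj_NB {h : G} (hh : h ∈ H) (hnorm : NB H N) (hLnorm : NB N L) : NB N (cj h L) := by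
  intro n hn y hy
  obtain ⟨x, hx, rfl⟩ := mem_cj.1 hy
  have h1 : h⁻¹ * n * h ∈ N := by
    have := hnorm h⁻¹ (H.inv_mem hh) n hn
    simpa using this
  have h2 := hLnorm _ h1 x hx
  have h3 := conj_mem_cj (h := h) h2
  have e : h * (h⁻¹ * n * h * x * (h⁻¹ * n * h)⁻¹) * h⁻¹ = n * (h * x * h⁻¹) * n⁻¹ := by group
  rw [e] at h3
  exact h3

/-- distinct conjugates of a minimal `L` commute modulo `S` -/
theorem comm_mem_of_cj_ne [Finite G] {h : G} (hh : h ∈ H) (hnorm : NB H N) (hLN : L ≤ N) (hLnorm : NB N L)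
    (hLmin : ∀ K : Subgroup G, (NB N K ∧ ¬ K ≤ S) → K ≤ L → K = L) (hne : cj h L ≠ L)
    {x y : G} (hx : x ∈ L) (hy : y ∈ cj h L) : ⁅x, y⁆ ∈ S := by
  have hcN : cj h L ≤ N := cj_le_of_NB H N L hh hnorm hLN
  have hcnorm : NB N (cj h L) := cj_NB H N L hh hnorm hLnorm
  have hI : L ⊓ cj h L ≤ S := by
    by_contra hI
    have hInorm : NB N (L ⊓ cj h L) := fun n hn z hz =>
      ⟨hLnorm n hn z hz.1, hcnorm n hn z hz.2⟩
    have e := hLmin _ ⟨hInorm, hI⟩ (inf_le_left : L ⊓ cj h L ≤ L)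
    have hle : L ≤ cj h L := le_of_eq_of_le e.symm (inf_le_right : L ⊓ cj h L ≤ cj h L)
    exact hne (Subgroup.eq_of_le_of_card_ge hle (le_of_eq (card_cj h L))).symm
  apply hI
  constructor
  · have h1 : y * x⁻¹ * y⁻¹ ∈ L := hLnorm y (hcN hy) x⁻¹ (L.inv_mem hx)
    have e : ⁅x, y⁆ = x * (y * x⁻¹ * y⁻¹) := by rw [commutatorElement_def]; group
    rw [e]
    exact L.mul_mem hx h1
  · have h1 : x * y * x⁻¹ ∈ cj h L := hcnorm x (hLN hx) y hy
    have e : ⁅x, y⁆ = (x * y * x⁻¹) * y⁻¹ := by rw [commutatorElement_def]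
    rw [e]
    exact (cj h L).mul_mem h1 ((cj h L).inv_mem hy)

/-- the product of the `H`-conjugates of `L` -/
def prodConj : Subgroup G := ⨆ h : H, cj (h : G) L

theorem prodConj_le (hnorm : NB H N) (hLN : L ≤ N) : prodConj H L ≤ N :=
  iSup_le fun h => cj_le_of_NB H N L h.2 hnorm hLN

theorem le_prodConj : L ≤ prodConj H L := by
  have h1 : cj ((1 : H) : G) L ≤ prodConj H L := le_iSup (fun h : H => cj (h : G) L) (1 : H)
  have h2 : cj ((1 : H) : G) L = L := by
    rw [Subgroup.coe_one, cj_one]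
  rw [h2] at h1
  exact h1

theorem cj_le_prodConj {h : G} (hh : h ∈ H) : cj h L ≤ prodConj H L :=
  le_iSup (fun h : H => cj (h : G) L) ⟨h, hh⟩

theorem prodConj_NB : NB H (prodConj H L) := by
  intro h hh x hx
  unfold prodConj at hx
  refine Subgroup.iSup_induction (fun k : H => cj (k : G) L) (C := fun x => h * x * h⁻¹ ∈ prodConj H L)
    hx ?_ ?_ ?_
  · intro k y hy
    obtain ⟨z, hz, rfl⟩ := mem_cj.1 hy
    apply cj_le_prodConj H L (H.mul_mem hh k.2)
    rw [mem_cj]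
    exact ⟨z, hz, by group⟩
  · simp
  · intro a b ha hb
    have e : h * (a * b) * h⁻¹ = (h * a * h⁻¹) * (h * b * h⁻¹) := by group
    rw [e]
    exact (prodConj H L).mul_mem ha hb

include hS in
/-- if `⁅L, L⁆ ≤ S` then the product of the conjugates is of class two modulo `S` -/
theorem prodConj_comm [Finite G] (hnorm : NB H N) (hLN : L ≤ N) (hLnorm : NB N L)
    (hLmin : ∀ K : Subgroup G, (NB N K ∧ ¬ K ≤ S) → K ≤ L → K = L)
    (hLL : ∀ x ∈ L, ∀ y ∈ L, ⁅x, y⁆ ∈ S) :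
    ∀ a ∈ prodConj H L, ∀ b ∈ prodConj H L, ⁅a, b⁆ ∈ S := by
  haveI : S.Normal := normal_of_central S hS
  -- generators
  have gen : ∀ h ∈ H, ∀ h' ∈ H, ∀ a ∈ cj h L, ∀ b ∈ cj h' L, ⁅a, b⁆ ∈ S := by
    intro h hh h' hh' a ha b hb
    obtain ⟨a0, ha0, rfl⟩ := mem_cj.1 ha
    obtain ⟨b0, hb0, rfl⟩ := mem_cj.1 hb
    have e : ⁅h * a0 * h⁻¹, h' * b0 * h'⁻¹⁆ = h * ⁅a0, (h⁻¹ * h') * b0 * (h⁻¹ * h')⁻¹⁆ * h⁻¹ := by
      simp only [commutatorElement_def]
      group
    rw [e]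
    apply ‹S.Normal›.conj_mem
    have hk : h⁻¹ * h' ∈ H := H.mul_mem (H.inv_mem hh) hh'
    by_cases hc : cj (h⁻¹ * h') L = L
    · apply hLL a0 ha0
      rw [← hc]
      exact conj_mem_cj hb0
    · exact comm_mem_of_cj_ne S H N L hk hnorm hLN hLnorm hLmin hc ha0 (conj_mem_cj hb0)
  -- first variable
  have step1 : ∀ h' ∈ H, ∀ b ∈ cj h' L, ∀ a ∈ prodConj H L, ⁅a, b⁆ ∈ S := by
    intro h' hh' b hb a ha
    rw [← mem_commSub]
    have hle : prodConj H L ≤ commSub S b := by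
      apply iSup_le
      intro k a' ha'
      rw [mem_commSub]
      exact gen k k.2 h' hh' a' ha' b hb
    exact hle ha
  intro a ha b hb
  apply comm_symm_mem
  rw [← mem_commSub]
  have hle : prodConj H L ≤ commSub S a := by
    apply iSup_le
    intro k b' hb'
    rw [mem_commSub]
    exact comm_symm_mem (step1 k k.2 b' hb' a ha)
  exact hle hb

end caseB

end abstract

end Cfsg.Agent.Lib.Helper2.S5630I5
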