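import Mathlib
import Cfsg.Agent.Lib.Helper9.USubDefs
import Cfsg.Agent.Lib.Helper9.USubF

/-!
# S5658 side B, FO-B2a: three distinct rational elements of norm `-1`
-/

set_option autoImplicit false
set_option linter.unusedSectionVars false
set_option linter.unusedVariables false

namespace Cfsg.Agent.Lib.Helper2.S5658B2a

open Matrix Cfsg.Agent.Lib.Helper6 Cfsg.Agent.S0779 Cfsg.Agent.S0781
open Cfsg.Agent.Lib.Helper6.SUG Cfsg.Agent.Lib.Helper13 Cfsg.Agent.Lib.Helper9.SUGen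
open Cfsg.Agent.Lib.Helper9.USub

variable {F : Type*} [Field F] [Fintype F] {q q₀ n : ℕ}

/-- **FO-B2a**: `a₀`, `a₀ l / l^q`, `a₀ (1 + l) / (1 + l)^q` with `N a₀ = -1`, `l^q ≠ l`. -/
theorem exists_three_norm {K : Subfield F} [Fintype K] (D : SubD q q₀ K) :
    ∃ a b c : F, a ∈ K ∧ b ∈ K ∧ c ∈ K ∧ a ≠ b ∧ a ≠ c ∧ b ≠ c ∧
      a * a ^ q = -1 ∧ b * b ^ q = -1 ∧ c * c ^ q = -1 := by
  have hF := D.hF
  have hq0 : q ≠ 0 := (q_pos hF).ne'
  obtain ⟨a₀, ha₀K, ha₀⟩ := SubD_exists_norm D (-1) (K.neg_mem K.one_mem)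
    (neg_ne_zero.mpr one_ne_zero) (by rw [neg_pow_q hF, one_pow])
  obtain ⟨l, hlK, hl⟩ := SubD_exists_ne D
  have ha₀0 : a₀ ≠ 0 := by
    rintro rfl
    rw [zero_mul] at ha₀
    exact (neg_ne_zero.mpr one_ne_zero) ha₀.symm
  have hl0 : l ≠ 0 := by
    rintro rfl
    apply hl
    rw [zero_pow hq0]
  have hlq0 : l ^ q ≠ 0 := pow_ne_zero _ hl0
  have h1l : 1 + l ≠ 0 := by
    intro h0
    apply hl
    have : l = -1 := eq_neg_of_add_eq_zero_right h0
    rw [this, neg_pow_q hF, one_pow]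
  have h1lq : (1 + l) ^ q = 1 + l ^ q := by rw [add_pow_q hF, one_pow]
  have h1lq0 : 1 + l ^ q ≠ 0 := by
    rw [← h1lq]
    exact pow_ne_zero _ h1l
  refine ⟨a₀, a₀ * (l / l ^ q), a₀ * ((1 + l) / (1 + l ^ q)), ha₀K,
    K.mul_mem ha₀K (K.div_mem hlK (K.pow_mem hlK q)),
    K.mul_mem ha₀K (K.div_mem (K.add_mem K.one_mem hlK) (K.add_mem K.one_mem (K.pow_mem hlK q))),
    ?_, ?_, ?_, ha₀, ?_, ?_⟩
  · intro h
    apply hl
    have h2 : a₀ * (l / l ^ q) = a₀ * 1 := by rw [mul_one]; exact h.symm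
    have h3 := mul_left_cancel₀ ha₀0 h2
    rw [div_eq_one_iff_eq hlq0] at h3
    exact h3.symm
  · intro h
    apply hl
    have h2 : a₀ * ((1 + l) / (1 + l ^ q)) = a₀ * 1 := by rw [mul_one]; exact h.symm
    have h3 := mul_left_cancel₀ ha₀0 h2
    rw [div_eq_one_iff_eq h1lq0] at h3
    exact (add_left_cancel h3).symm
  · intro h
    apply hl
    have h3 := mul_left_cancel₀ ha₀0 h
    rw [div_eq_div_iff hlq0 h1lq0] at h3
    linear_combination -h3
  · rw [mul_pow, div_pow, pow_q_q hF]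
    field_simp
    linear_combination ha₀
  · rw [mul_pow, div_pow, h1lq, add_pow_q hF, one_pow, pow_q_q hF]
    field_simp
    linear_combination ha₀

end Cfsg.Agent.Lib.Helper2.S5658B2a
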