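import Mathlib
import Cfsg.Agent.Lib.Helper9.USubDefs
import Cfsg.Agent.Lib.Helper9.USubF
import Cfsg.Agent.Lib.Helper9.SUGenF
import Cfsg.Agent.Lib.Helper13.SubfSU
import Cfsg.Agent.Lib.Helper7.S5658B5

/-!
# S5658 side B, FO-B6: the three Heisenberg commutators
-/

set_option autoImplicit false
set_option linter.unusedSectionVars false
set_option linter.unusedVariables false

namespace Cfsg.Agent.Lib.Helper2.S5658B6

open Matrix Cfsg.Agent.Lib.Helper6 Cfsg.Agent.S0779 Cfsg.Agent.S0781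
open Cfsg.Agent.Lib.Helper6.SUG Cfsg.Agent.Lib.Helper13 Cfsg.Agent.Lib.Helper9.SUGen
open Cfsg.Agent.Lib.Helper9.USub
open Cfsg.Agent.Lib.Helper7.S5658B

variable {F : Type*} [Field F] [Fintype F] {q q₀ n : ℕ}

local notation "hh" => Cfsg.hermForm n F q

theorem herm_neg_l (x y : Fin n → F) : hh (-x) y = -hh x y := by
  have : (-x) = (-1 : F) • x := by simp
  rw [this, herm_smul_left]
  ring

theorem herm_neg_r (hF : Fintype.card F = q ^ 2) (x y : Fin n → F) : hh x (-y) = -hh x y := by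
  have : (-y) = (-1 : F) • y := by simp
  rw [this, herm_smul_right, neg_pow_q hF, one_pow]
  ring

/-- the commutator of `g` with an Eichler element whose centre is fixed by `g` -/
theorem comm_eich (hF : Fintype.card F = q ^ 2) (g : ↥(Cfsg.SU n F q)) (u v : Fin n → F) (c : F)
    (huu : hh u u = 0) (huv : hh u v = 0) (hc : c + c ^ q = hh v v) (hgu : av g u = u)
    (w : Fin n → F) (hw : w = av g v - v) (C : F) (hC : C = hh v v - hh v (av g v))
    (huw : hh u w = 0) (hCw : C + C ^ q = hh w w) :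
    g * eich hF u v c huu huv hc * g⁻¹ * (eich hF u v c huu huv hc)⁻¹ =
      eich hF u w C huu huw hCw := by
  have huu' : hh (av g u) (av g u) = 0 := by rw [hgu]; exact huu
  have huv' : hh (av g u) (av g v) = 0 := by rw [herm_av]; exact huv
  have hc' : c + c ^ q = hh (av g v) (av g v) := by rw [herm_av]; exact hc
  have huv'' : hh u (av g v) = 0 := by rw [hgu] at huv'; exact huv'
  have hnv : hh u (-v) = 0 := by rw [herm_neg_r hF, huv, neg_zero]
  have hcn : c ^ q + (c ^ q) ^ q = hh (-v) (-v) := by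
    rw [herm_neg_l, herm_neg_r hF, neg_neg, pow_q_q hF, ← hc]
    ring
  have e1 : av g v + -v = w := by rw [hw]; abel
  have e2 : c + c ^ q + hh (-v) (av g v) = C := by
    rw [hC, hc, herm_neg_l]
    ring
  have huvv : hh u (av g v + -v) = 0 := by rw [e1]; exact huw
  have hcc : (c + c ^ q + hh (-v) (av g v)) + (c + c ^ q + hh (-v) (av g v)) ^ q =
      hh (av g v + -v) (av g v + -v) := by rw [e1, e2]; exact hCw
  rw [conj_eich hF g u v c huu huv hc huu' huv' hc', eich_inv' hF u v c huu huv hc hnv hcn,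
    eich_congr hF hgu rfl rfl huu' huv' hc' huu huv'' hc',
    eich_mul hF u (av g v) (-v) c (c ^ q) huu huv'' hnv hc' hcn huvv hcc]
  exact eich_congr hF rfl e1 e2 _ _ _ _ _ _

/-- **FO-B6** -/
theorem good_of_heis {K : Subfield F} [Fintype K] (D : SubD q q₀ K)
    (L : Subgroup ↥(Cfsg.SU n F q)) (hL : ∀ g : ↥(Cfsg.SU n F q), RatSU K g → g ∈ L)
    (x : Fin n → F) (hx : XK K L x) (p v' y z : Fin n → K) (hp : p ≠ 0)
    (hpp : hh (rvec K p) (rvec K p) = 0) (hpx : hh (rvec K p) x = 0)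
    (hpv : hh (rvec K p) (rvec K v') = 0) (hpy : hh (rvec K p) (rvec K y) = 0)
    (hpz : hh (rvec K p) (rvec K z) = 0) (hyy : hh (rvec K y) (rvec K y) = 0)
    (hyz : hh (rvec K y) (rvec K z) = 1)
    (hν : hh (rvec K v') x * hh x (rvec K y) ∉ K) : Good K L := by
  have hF := D.hF
  have hxx := hx.1
  obtain ⟨ζ, hζK, hζ0, hζ⟩ := SubD_exists_zeta D
  obtain ⟨d, hdK, hd⟩ := SubD_exists_trace D (hh (rvec K v') (rvec K v'))
    (herm_rvec_mem D v' v') (herm_conj hF _ _)
  -- the elements `E`, `T`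
  have hE : eich hF (rvec K p) (rvec K v') d hpp hpv hd ∈ L :=
    hL _ (ratSU_eich hF K p v' d hdK hpp hpv hd)
  have hT : tv hF x ζ hxx hζ ∈ L := hx.tv_mem hF ζ hζK hζ
  obtain ⟨b, hb⟩ : ∃ b, b = hh (rvec K v') x := ⟨_, rfl⟩
  obtain ⟨e, he⟩ : ∃ e, e = hh x (rvec K y) := ⟨_, rfl⟩
  rw [← hb, ← he] at hν
  -- first commutator
  have hTP : av (tv hF x ζ hxx hζ) (rvec K p) = rvec K p := by
    rw [av_tv, hpx, mul_zero, zero_smul, add_zero]
  have hTV : (ζ * b) • x = av (tv hF x ζ hxx hζ) (rvec K v') - rvec K v' := by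
    rw [av_tv, ← hb, add_sub_cancel_left]
  have hPx' : hh (rvec K p) ((ζ * b) • x) = 0 := by rw [herm_smul_right, hpx, mul_zero]
  have hC1c : (ζ * b * b ^ q) + (ζ * b * b ^ q) ^ q = hh ((ζ * b) • x) ((ζ * b) • x) := by
    rw [herm_smul_left, herm_smul_right, hxx, mul_zero, mul_zero, mul_pow, mul_pow, pow_q_q hF,
      hζ]
    ring
  have hC1 := comm_eich hF (tv hF x ζ hxx hζ) (rvec K p) (rvec K v') d hpp hpv hd hTP
    ((ζ * b) • x) hTV (ζ * b * b ^ q) (by
      rw [av_tv, herm_add_right hF, herm_smul_right, ← hb, mul_pow, hζ]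
      ring) hPx' hC1c
  have hC1L : eich hF (rvec K p) ((ζ * b) • x) (ζ * b * b ^ q) hpp hPx' hC1c ∈ L := by
    rw [← hC1]
    exact L.mul_mem (L.mul_mem (L.mul_mem hT hE) (L.inv_mem hT)) (L.inv_mem hE)
  -- second commutator
  have hS : tv hF (rvec K y) ζ hyy hζ ∈ L := hL _ (ratSU_tv hF K y ζ hζK hyy hζ)
  have hSP : av (tv hF (rvec K y) ζ hyy hζ) (rvec K p) = rvec K p := by
    rw [av_tv, hpy, mul_zero, zero_smul, add_zero]
  obtain ⟨ν, hνdef⟩ : ∃ ν, ν = ζ * ζ * b * e := ⟨_, rfl⟩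
  have hSv : ν • rvec K y =
      av (tv hF (rvec K y) ζ hyy hζ) ((ζ * b) • x) - (ζ * b) • x := by
    rw [av_tv, herm_smul_left, ← he, add_sub_cancel_left, hνdef]
    congr 1
    ring
  have hPy' : hh (rvec K p) (ν • rvec K y) = 0 := by rw [herm_smul_right, hpy, mul_zero]
  have hC2c : (-(ζ * b * e * ν ^ q)) + (-(ζ * b * e * ν ^ q)) ^ q =
      hh (ν • rvec K y) (ν • rvec K y) := by
    rw [herm_smul_left, herm_smul_right, hyy, mul_zero, mul_zero, neg_pow_q hF, mul_pow,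
      mul_pow, mul_pow, pow_q_q hF, hζ, hνdef, mul_pow, mul_pow, mul_pow, hζ]
    ring
  have hC2 := comm_eich hF (tv hF (rvec K y) ζ hyy hζ) (rvec K p) ((ζ * b) • x) (ζ * b * b ^ q)
    hpp hPx' hC1c hSP (ν • rvec K y) hSv (-(ζ * b * e * ν ^ q)) (by
      have h1 : av (tv hF (rvec K y) ζ hyy hζ) ((ζ * b) • x) =
          (ζ * b) • x + ν • rvec K y := by
        rw [hSv]
        abel
      rw [h1, herm_add_right hF, herm_smul_right ν, herm_smul_left (ζ * b) x (rvec K y), ← he]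
      ring) hPy' hC2c
  have hC2L : eich hF (rvec K p) (ν • rvec K y) (-(ζ * b * e * ν ^ q)) hpp hPy' hC2c ∈ L := by
    rw [← hC2]
    exact L.mul_mem (L.mul_mem (L.mul_mem hS hC1L) (L.inv_mem hS)) (L.inv_mem hC1L)
  -- `ν ∉ K`
  have hνK : ν ∉ K := by
    intro hmem
    apply hν
    have h1 : b * e = ν * (ζ * ζ)⁻¹ := by
      rw [hνdef]
      field_simp
    rw [h1]
    exact K.mul_mem hmem (K.inv_mem (K.mul_mem hζK hζK))
  obtain ⟨l', hl'K, hl'⟩ := SubD_exists_lam D ν hνK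
  obtain ⟨l, hldef⟩ : ∃ l, l = l' ^ q := ⟨_, rfl⟩
  have hlK : l ∈ K := by rw [hldef]; exact K.pow_mem hl'K q
  have hlq : l ^ q = l' := by rw [hldef, pow_q_q hF]
  -- the rational vector `l • z`
  obtain ⟨lz, hlz⟩ : ∃ lz : Fin n → K, lz = (⟨l, hlK⟩ : K) • z := ⟨_, rfl⟩
  have hlz' : rvec K lz = l • rvec K z := by rw [hlz, rvec_smul]
  have hplz : hh (rvec K p) (rvec K lz) = 0 := by rw [hlz', herm_smul_right, hpz, mul_zero]
  obtain ⟨d', hd'K, hd'⟩ := SubD_exists_trace D (hh (rvec K lz) (rvec K lz))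
    (herm_rvec_mem D lz lz) (herm_conj hF _ _)
  have hE3 : eich hF (rvec K p) (rvec K lz) d' hpp hplz hd' ∈ L :=
    hL _ (ratSU_eich hF K p lz d' hd'K hpp hplz hd')
  -- third commutator
  have hzp : hh (rvec K z) (rvec K p) = 0 := herm_swap_zero hF hpz
  have hzy : hh (rvec K z) (rvec K y) = 1 := by rw [← herm_conj hF, hyz, one_pow]
  have hC2P : av (eich hF (rvec K p) (ν • rvec K y) (-(ζ * b * e * ν ^ q)) hpp hPy' hC2c)
      (rvec K p) = rvec K p := by
    rw [av_eich, hpp, hPy', zero_smul, zero_smul, add_zero, sub_zero]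
  have hw3 : (-(l * ν ^ q)) • rvec K p =
      av (eich hF (rvec K p) (ν • rvec K y) (-(ζ * b * e * ν ^ q)) hpp hPy' hC2c) (rvec K lz) -
        rvec K lz := by
    rw [av_eich, hlz', herm_smul_left, herm_smul_left, herm_smul_right, hzp, hzy, mul_zero,
      zero_smul, add_zero, mul_one, neg_smul]
    abel
  have hP3 : hh (rvec K p) ((-(l * ν ^ q)) • rvec K p) = 0 := by
    rw [herm_smul_right, hpp, mul_zero]
  have hC3c : (0 : F) + 0 ^ q =
      hh ((-(l * ν ^ q)) • rvec K p) ((-(l * ν ^ q)) • rvec K p) := by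
    rw [herm_smul_left, herm_smul_right, hpp, mul_zero, mul_zero, zero_pow (q_pos hF).ne',
      add_zero]
  have hC3 := comm_eich hF
    (eich hF (rvec K p) (ν • rvec K y) (-(ζ * b * e * ν ^ q)) hpp hPy' hC2c)
    (rvec K p) (rvec K lz) d' hpp hplz hd' hC2P ((-(l * ν ^ q)) • rvec K p) hw3 0 (by
      have h1 : av (eich hF (rvec K p) (ν • rvec K y) (-(ζ * b * e * ν ^ q)) hpp hPy' hC2c)
          (rvec K lz) = rvec K lz + (-(l * ν ^ q)) • rvec K p := by
        rw [hw3]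
        abel
      have h2 : hh (rvec K lz) (rvec K p) = 0 := by
        rw [hlz', herm_smul_left, hzp, mul_zero]
      rw [h1, herm_add_right hF, herm_smul_right, h2]
      ring) hP3 hC3c
  have hC3L : eich hF (rvec K p) ((-(l * ν ^ q)) • rvec K p) 0 hpp hP3 hC3c ∈ L := by
    rw [← hC3]
    exact L.mul_mem (L.mul_mem (L.mul_mem hC2L hE3) (L.inv_mem hC2L)) (L.inv_mem hE3)
  -- it is a transvection
  have ha : (ν * l' - (ν * l') ^ q) ^ q = -(ν * l' - (ν * l') ^ q) := by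
    rw [sub_pow_q hF, pow_q_q hF]
    ring
  have heq : eich hF (rvec K p) ((-(l * ν ^ q)) • rvec K p) 0 hpp hP3 hC3c =
      tv hF (rvec K p) (ν * l' - (ν * l') ^ q) hpp ha := by
    apply ext_av
    intro t
    rw [av_eich, av_tv, herm_smul_right, neg_pow_q hF, mul_pow, pow_q_q hF, hlq, mul_pow, hldef]
    module
  rw [heq] at hC3L
  exact Good.intro hF p _ hp hpp ha hl' hC3L

end Cfsg.Agent.Lib.Helper2.S5658B6
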