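import Mathlib
import Cfsg.Agent.Lib.Helper13.TensSODefs
import Cfsg.Agent.Lib.Helper13.S5666FOAPI
import Cfsg.Agent.Lib.Helper23.S5670FOST
import Cfsg.Agent.Lib.Helper23.S5670FOCL
import Cfsg.Agent.Lib.Helper23.S5670FOLEFT
import Cfsg.Agent.Lib.Helper20.S5670FOLX

/-!
# S5666 (helper13's skeleton): A-F1, A-X, A-D (helper2) - the M-theory chain, port of `Helper20.S5670FOMX`
-/

set_option autoImplicit false
set_option linter.unusedSectionVars false
set_option linter.unusedVariables false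

namespace Cfsg.Agent.Lib.Helper2.S5666FOMX

open Matrix Module
open Cfsg.Agent.Lib.Helper16.Tens Cfsg.Agent.Lib.Helper10.TensFund Cfsg.Agent.Lib.Helper13.TensSO
open Cfsg.Agent.Lib.Helper28.TensU (ctrL ctrL_apply ctrL_pur hypL mem_hypL_iff ptL mem_ptL_iff pur_mem_ptL rootGLL
  rootGLL_val act_rootGLL rootGLL_mem_SL rootGLL_mem_kron)
open Cfsg.Agent.Lib.Helper3.SpT (bf SympG)
open Cfsg.Agent.Lib.Helper13.S5666API (rU_mem_iso rU_pow_char act_rU_eq_self_iff act_rU_sub_mem mem_hypL_iff_perp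
  mem_img_hypL_iff_perp ptL_le_hypL supL_inf_hypL_le exists_perp_indep)
open Cfsg.Agent.Lib.Helper23.S5670ST (sylow_trick)
open Cfsg.Agent.Lib.Helper23.S5670CL (closure_fix closure_sub_mem commute_of_sub_mem)
open Cfsg.Agent.Lib.Helper23.S5670LEFT (img_ptL_of_mem_kron finrank_ptL ptL_inf_ptL ptL_smul)
open Cfsg.Agent.Lib.Helper20.S5670LX (act_conj act_conj_sub_mem act_conj_eq_self)
open scoped Kronecker

variable {F : Type*} [Field F] [Fintype F] {a b : ℕ}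
variable {J1 : Matrix (Fin a) (Fin a) F} {J2 : Matrix (Fin b) (Fin b) F}
variable {M : Subgroup (GL (Fin a × Fin b) F)}

local notation "K" => Cfsg.Geo.kroneckerSubgroup a b F
local notation "V" => (Fin a × Fin b → F)

theorem rU_mem (hS : SetupSO J1 J2) (hM : OverS J1 J2 M) (u : Fin a → F) (c : F) :
    rU (b := b) J1 hS.h1 u c ∈ M :=
  hM.kron_mem _ (rU_mem_kron J1 hS.h1 u c) (rU_mem_iso hS.h1 u c)

/-- `HypE1` in the form "`g⁻¹ x g ∈ K ⇒ g ∈ K`" -/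
theorem hypE1_inv (hS : SetupSO J1 J2) (hE : HypE1 J1 hS.h1 M) (g : GL (Fin a × Fin b) F) (hg : g ∈ M)
    (u : Fin a → F) (c : F) (hu : u ≠ 0) (hc : c ≠ 0) (h : g⁻¹ * rU J1 hS.h1 u c * g ∈ K) : g ∈ K := by
  have h1 : g⁻¹ ∈ K := by
    apply hE g⁻¹ (M.inv_mem hg) u c hu hc
    rw [inv_inv]
    exact h
  have := (K).inv_mem h1
  rwa [inv_inv] at this

/-- A-F1 -/
theorem not_img_ptL_le_hypL (hS : SetupSO J1 J2) (hb : 1 ≤ b) (hM : OverS J1 J2 M) (hE : HypE1 J1 hS.h1 M)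
    (g : GL (Fin a × Fin b) F) (hg : g ∈ M) (hgK : g ∉ K) (u u' : Fin a → F) (hu : u ≠ 0) (hu' : u' ≠ 0) :
    ¬ img g (ptL (b := b) u') ≤ hypL (J1 *ᵥ u) := by
  intro hle
  have hc : (1 : F) ≠ 0 := one_ne_zero
  have hgI : g ∈ IsoG (J1 ⊗ₖ J2) := hM.le_iso hg
  have hx : rU (b := b) J1 hS.h1 u 1 ∈ M := rU_mem hS hM u 1
  have hx0 : rU (b := b) J1 hS.h1 u' 1 ∈ M := rU_mem hS hM u' 1
  have hx' : g * rU (b := b) J1 hS.h1 u' 1 * g⁻¹ ∈ M := M.mul_mem (M.mul_mem hg hx0) (M.inv_mem hg)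
  have hcomm : rU (b := b) J1 hS.h1 u 1 * (g * rU (b := b) J1 hS.h1 u' 1 * g⁻¹) =
      (g * rU (b := b) J1 hS.h1 u' 1 * g⁻¹) * rU (b := b) J1 hS.h1 u 1 := by
    apply commute_of_sub_mem _ _ (ptL (b := b) u) (img g (ptL (b := b) u')) (hypL (J1 *ᵥ u))
      (img g (hypL (J1 *ᵥ u')))
    · exact fun v => act_rU_sub_mem hS.h1 u 1 v
    · exact fun v => act_conj_sub_mem g _ _ (fun v => act_rU_sub_mem hS.h1 u' 1 v) v
    · exact fun v hv => (act_rU_eq_self_iff hS.h1 u 1 hu hc v).2 hv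
    · exact fun v hv => act_conj_eq_self g _ _ (fun v hv => (act_rU_eq_self_iff hS.h1 u' 1 hu' hc v).2 hv) v hv
    · intro v hv
      rw [mem_img_hypL_iff_perp hS g hgI]
      intro x hx
      have h1 := (mem_hypL_iff_perp (b := b) hS u x).1 (hle hx) v hv
      rw [Cfsg.Agent.Lib.Helper13.S5666T4.bf_kron_skew hS, h1, neg_zero]
    · exact hle
  have h2 : (g * rU (b := b) J1 hS.h1 u' 1 * g⁻¹) ∈ K := by
    apply hypE1_inv hS hE _ hx' u 1 hu hc
    rw [mul_assoc, hcomm, ← mul_assoc, inv_mul_cancel, one_mul]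
    exact rU_mem_kron J1 hS.h1 u 1
  exact hgK (hE g hg u' 1 hu' hc h2)

theorem finrank_sup_ptL (u u'' : Fin a → F) (hu : u ≠ 0) (hu'' : u'' ≠ 0) (h : ∀ c : F, u'' ≠ c • u) :
    finrank F ↥(ptL (F := F) (b := b) u ⊔ ptL u'') = b + b := by
  have h1 := Submodule.finrank_sup_add_finrank_inf_eq (ptL (F := F) (b := b) u) (ptL u'')
  rw [ptL_inf_ptL u u'' h, finrank_bot, finrank_ptL u hu, finrank_ptL u'' hu''] at h1
  omega

/-- A-X : LEMMA X -/
theorem img_ptL_inf_hypL_le (hS : SetupSO J1 J2) (hb : 1 ≤ b) (hM : OverS J1 J2 M) (hE : HypE1 J1 hS.h1 M)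
    (g : GL (Fin a × Fin b) F) (hg : g ∈ M) (hgK : g ∉ K) (u u' : Fin a → F) (hu : u ≠ 0) (hu' : u' ≠ 0) :
    img g (ptL (b := b) u') ⊓ hypL (J1 *ᵥ u) ≤ ptL u := by
  have hc : (1 : F) ≠ 0 := one_ne_zero
  have hgI : g ∈ IsoG (J1 ⊗ₖ J2) := hM.le_iso hg
  have hx₁ : rU (b := b) J1 hS.h1 u 1 ∈ M := rU_mem hS hM u 1
  have hx0 : rU (b := b) J1 hS.h1 u' 1 ∈ M := rU_mem hS hM u' 1
  have hx₂ : g * rU (b := b) J1 hS.h1 u' 1 * g⁻¹ ∈ M := M.mul_mem (M.mul_mem hg hx0) (M.inv_mem hg)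
  have hchar : CharP F (ringChar F) := ringChar.charP F
  have hp : Fact (ringChar F).Prime := ⟨CharP.char_is_prime F (ringChar F)⟩
  have hfin : Finite M := inferInstance
  obtain ⟨δ, hδ, hδg⟩ := sylow_trick (ringChar F) M (K)
    (rU (b := b) J1 hS.h1 u 1) (g * rU (b := b) J1 hS.h1 u' 1 * g⁻¹) g hx₁ hx₂ hg
    (rU_pow_char (ringChar F) hS.h1 u 1)
    (by rw [conj_pow, rU_pow_char (ringChar F) hS.h1 u' 1, mul_one, mul_inv_cancel])
    (rU_mem_kron J1 hS.h1 u 1)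
    (fun g' hg' h => hypE1_inv hS hE g' hg' u 1 hu hc h)
    (by
      intro g' hg' h
      have h1 : g'⁻¹ * g ∈ K := by
        apply hE (g'⁻¹ * g) (M.mul_mem (M.inv_mem hg') hg) u' 1 hu' hc
        have : g'⁻¹ * g * rU (b := b) J1 hS.h1 u' 1 * (g'⁻¹ * g)⁻¹ =
            g'⁻¹ * (g * rU (b := b) J1 hS.h1 u' 1 * g⁻¹) * g' := by group
        rw [this]
        exact h
      have := (K).inv_mem h1
      rwa [_root_.mul_inv_rev, inv_inv] at this)
  have hδM : δ ∈ M := by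
    have hle : Subgroup.closure ({rU (b := b) J1 hS.h1 u 1, g * rU (b := b) J1 hS.h1 u' 1 * g⁻¹} :
        Set (GL (Fin a × Fin b) F)) ≤ M := by
      rw [Subgroup.closure_le]
      intro y hy
      rcases hy with rfl | rfl
      · exact hx₁
      · exact hx₂
    exact hle hδ
  obtain ⟨u'', hu''0, himg⟩ := img_ptL_of_mem_kron (δ * g) hδg u'
  have hu''0 := hu''0 hu'
  rw [img_mul] at himg
  -- `δ` fixes `J` pointwise
  have hJfix : ∀ v ∈ img g (ptL (b := b) u') ⊓ hypL (J1 *ᵥ u), act δ v = v := by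
    intro v hv
    apply closure_fix _ _ δ hδ v
    · exact (act_rU_eq_self_iff hS.h1 u 1 hu hc v).2 hv.2
    · apply act_conj_eq_self g _ (hypL (J1 *ᵥ u'))
        (fun v hv => (act_rU_eq_self_iff hS.h1 u' 1 hu' hc v).2 hv)
      exact img_mono g (ptL_le_hypL u' u' (hS.h1.alt u')) hv.1
  have hJle : img g (ptL (b := b) u') ⊓ hypL (J1 *ᵥ u) ≤ ptL u'' := by
    intro v hv
    rw [← himg]
    exact ⟨v, hv.1, hJfix v hv⟩
  by_cases hpar : ∃ c' : F, u'' = c' • u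
  · obtain ⟨c', rfl⟩ := hpar
    have hc' : c' ≠ 0 := by
      rintro rfl
      exact hu''0 (zero_smul _ _)
    rw [ptL_smul u c' hc'] at hJle
    exact fun v hv => hJle ⟨hv.1, hv.2⟩
  · push Not at hpar
    have hsub : ptL (b := b) u'' ≤ ptL u ⊔ img g (ptL (b := b) u') := by
      rw [← himg]
      rintro _ ⟨z, hz, rfl⟩
      change act δ z ∈ _
      have h1 : act δ z - z ∈ ptL (b := b) u ⊔ img g (ptL (b := b) u') := by
        apply closure_sub_mem _ _ δ hδ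
        · exact fun v => Submodule.mem_sup_left (act_rU_sub_mem hS.h1 u 1 v)
        · exact fun v => Submodule.mem_sup_right
            (act_conj_sub_mem g _ _ (fun v => act_rU_sub_mem hS.h1 u' 1 v) v)
      have h2 : act δ z = (act δ z - z) + z := by abel
      rw [h2]
      exact Submodule.add_mem _ h1 (Submodule.mem_sup_right hz)
    have hle : ptL (b := b) u ⊔ ptL u'' ≤ ptL u ⊔ img g (ptL (b := b) u') :=
      sup_le le_sup_left hsub
    have heq : ptL (b := b) u ⊔ ptL u'' = ptL u ⊔ img g (ptL (b := b) u') := by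
      apply Submodule.eq_of_le_of_finrank_le hle
      rw [finrank_sup_ptL u u'' hu hu''0 hpar]
      have h1 := Submodule.finrank_add_le_finrank_add_finrank (ptL (F := F) (b := b) u)
        (img g (ptL (b := b) u'))
      rw [finrank_img, finrank_ptL u hu, finrank_ptL u' hu'] at h1
      exact h1
    by_cases hperp : bf J1 u'' u = 0
    · exfalso
      apply not_img_ptL_le_hypL hS hb hM hE g hg hgK u u' hu hu'
      calc img g (ptL (b := b) u') ≤ ptL u ⊔ img g (ptL (b := b) u') := le_sup_right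
        _ = ptL u ⊔ ptL u'' := heq.symm
        _ ≤ hypL (J1 *ᵥ u) := sup_le (ptL_le_hypL u u (hS.h1.alt u)) (ptL_le_hypL u'' u hperp)
    · intro v hv
      apply supL_inf_hypL_le hS u u'' hperp
      refine ⟨?_, hv.2⟩
      rw [heq]
      exact Submodule.mem_sup_right hv.1

/-- A-D : DISJOINT -/
theorem img_ptL_inf_hypL_eq_bot (hS : SetupSO J1 J2) (ha : 3 ≤ a) (hb : 1 ≤ b) (hM : OverS J1 J2 M)
    (hE : HypE1 J1 hS.h1 M)
    (g : GL (Fin a × Fin b) F) (hg : g ∈ M) (hgK : g ∉ K) (u u' : Fin a → F) (hu : u ≠ 0) (hu' : u' ≠ 0) :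
    img g (ptL (b := b) u') ⊓ hypL (J1 *ᵥ u) = ⊥ := by
  rw [eq_bot_iff]
  intro v hv
  have h1 : v ∈ ptL (b := b) u := img_ptL_inf_hypL_le hS hb hM hE g hg hgK u u' hu hu' hv
  obtain ⟨u₂, hu₂0, huu₂, hne⟩ := exists_perp_indep hS.h1 ha u hu
  have h2 : v ∈ hypL (b := b) (J1 *ᵥ u₂) := ptL_le_hypL u u₂ huu₂ h1
  have h3 : v ∈ ptL (b := b) u₂ :=
    img_ptL_inf_hypL_le hS hb hM hE g hg hgK u₂ u' hu₂0 hu' ⟨hv.1, h2⟩
  have h4 : v ∈ ptL (F := F) (b := b) u ⊓ ptL u₂ := ⟨h1, h3⟩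
  rw [ptL_inf_ptL u u₂ hne] at h4
  exact h4

end Cfsg.Agent.Lib.Helper2.S5666FOMX
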