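import Mathlib
import Cfsg.Agent.Lib.Helper1.OrthSubfDefs
import Cfsg.Agent.Lib.Helper28.S5639FOALG
import Cfsg.Agent.Lib.Helper2.S5683FOC1

/-!
# S5683 FO-C2 and FO-IMP
-/

set_option autoImplicit false
set_option linter.unusedSectionVars false
set_option linter.unusedVariables false

namespace Cfsg.Agent.Lib.Helper2.S5683C

open Matrix QuadraticMap Cfsg.Agent.Lib.Helper6 Cfsg.Agent.Lib.Helper13 Cfsg.Agent.Lib.Helper1.SubfSL
open Cfsg.Agent.Lib.Helper1.OrthSubf

universe u
variable {F : Type u} [Field F] {n : ℕ}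
variable {Q : QuadraticForm F (Fin n → F)} {K : Subfield F}
  {B₀ : (Fin n → K) →ₗ[K] (Fin n → K) →ₗ[K] K}

/-- **FO-C2**: in degree two every vector is confined -/
theorem conf_of_two [Finite F] (hcard : Nat.card F = Nat.card K ^ 2) (w : Fin n → F) :
    Conf K w := by
  have hfr := Cfsg.Agent.Lib.Helper28.S5639.finrank_eq_of_card K 2 hcard
  haveI : FiniteDimensional K F := Module.Finite.of_finite
  obtain ⟨b⟩ : Nonempty (Module.Basis (Fin 2) K F) := ⟨Module.finBasisOfFinrankEq K F hfr⟩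
  refine ⟨![fun i => b.repr (w i) 0, fun i => b.repr (w i) 1, 0, 0], ![b 0, b 1, 0, 0], ?_⟩
  rw [Fin.sum_univ_four]
  simp only [Matrix.cons_val_zero, Matrix.cons_val_one, Matrix.cons_val_two,
    Matrix.cons_val_three, Matrix.head_cons, Matrix.tail_cons, zero_smul, add_zero]
  funext i
  have h1 := b.sum_repr (w i)
  rw [Fin.sum_univ_two, Subfield.smul_def, Subfield.smul_def, smul_eq_mul, smul_eq_mul] at h1
  simp only [Pi.add_apply, Pi.smul_apply, rvec, smul_eq_mul]
  conv_lhs => rw [← h1]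
  ring

/-- a vector all of whose products with rational vectors are rational is rational -/
theorem exists_rat_of_forall_mem (hB : RatForm K Q B₀) (hQ : (polarBilin Q).Nondegenerate)
    (p : Fin n → F) (hK : ∀ x : Fin n → K, polar (⇑Q) (rvec K x) p ∈ K) :
    ∃ v : Fin n → K, p = rvec K v := by
  classical
  have hS := hB.isS
  obtain ⟨v, hv⟩ := hS.exists_riesz
    (fun i => (⟨polK Q K p (fun j => if i = j then 1 else 0), hK _⟩ : K))
  refine ⟨v, ?_⟩
  rw [← sub_eq_zero]
  apply eq_zero_of_rat_perp hQ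
  intro x
  rw [polar_sub_right, ← hB.eq x v, hv x, ← polK_apply p x,
    LinearMap.pi_apply_eq_sum_univ (polK Q K p) x, dotProduct]
  push_cast
  rw [sub_eq_zero]
  apply Finset.sum_congr rfl
  intro i _
  rw [Subfield.smul_def, smul_eq_mul, mul_comm]

/-- **FO-IMP**: an impure vector has two `K`-independent products with rational vectors -/
theorem exists_indep_of_impure (hB : RatForm K Q B₀) (hQ : (polarBilin Q).Nondegenerate)
    (w : Fin n → F) (hw : Impure K w) :
    ∃ x₁ x₂ : Fin n → K, ∀ k₁ k₂ : K, (k₁ : F) * polar (⇑Q) (rvec K x₁) w +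
      (k₂ : F) * polar (⇑Q) (rvec K x₂) w = 0 → k₁ = 0 ∧ k₂ = 0 := by
  by_contra hcon
  push Not at hcon
  have hw0 : w ≠ 0 := by
    intro h0
    apply hw 0 0
    rw [h0, zero_smul]
  obtain ⟨x₀, hx₀⟩ : ∃ x₀ : Fin n → K, polar (⇑Q) (rvec K x₀) w ≠ 0 := by
    by_contra hne
    push Not at hne
    exact hw0 (eq_zero_of_rat_perp hQ w hne)
  obtain ⟨a, ha⟩ : ∃ a, a = polar (⇑Q) (rvec K x₀) w := ⟨_, rfl⟩
  rw [← ha] at hx₀
  have hK : ∀ x : Fin n → K, polar (⇑Q) (rvec K x) (a⁻¹ • w) ∈ K := by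
    intro x
    obtain ⟨k₁, k₂, hrel, hne⟩ := hcon x₀ x
    rw [← ha] at hrel
    have hk₂ : k₂ ≠ 0 := by
      intro h0
      rw [h0] at hrel
      simp only [ZeroMemClass.coe_zero, zero_mul, add_zero] at hrel
      have hk₁ : (k₁ : F) = 0 := (mul_eq_zero.mp hrel).resolve_right hx₀
      exact hne (by exact_mod_cast hk₁) h0
    have hk₂' : (k₂ : F) ≠ 0 := by
      intro h0
      apply hk₂
      exact_mod_cast h0
    have e : polar (⇑Q) (rvec K x) (a⁻¹ • w) = ((-(k₁ / k₂) : K) : F) := by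
      rw [polar_smul_right, smul_eq_mul]
      push_cast
      field_simp
      linear_combination hrel
    rw [e]
    exact Subtype.property _
  obtain ⟨v, hv⟩ := exists_rat_of_forall_mem hB hQ _ hK
  apply hw a v
  rw [← hv, smul_smul, mul_inv_cancel₀ hx₀, one_smul]

end Cfsg.Agent.Lib.Helper2.S5683C
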