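import Mathlib
import Cfsg.Prelude.Def_GeometricClasses
import Cfsg.Prelude.Def_LieClassical
import Cfsg.Agent.Lib.Helper18.FormField
import Cfsg.Agent.Lib.Helper18.S5663U2

/-!
# S5778 (SU_3), piece NF4 (helper2, for helper15): an adjoint-closed cubic field subalgebra of `M_3(F)`,
`|F| = q²`, `q ∈ {3, 5}`, is `GU`-conjugate to the standard one

`K` contains an element `ζ` of order 7 with `ζ* = ζ⁻¹`; `7 ∥ |GL_3(F)|`, so `⟨ζ⟩` is a Sylow 7-subgroup of `GU_3(q)` and
is conjugate in `GU_3(q)` to `⟨z₀⟩` for any given `z₀ ∈ GU_3(q)` of order 7.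
-/

set_option autoImplicit false
set_option linter.style.haveILetI false

namespace Cfsg.Agent.Lib.Helper2.S5778NF4

open Matrix Cfsg Cfsg.Geo

/-! ### abstract field theory -/

section field
variable {F L : Type*} [Field F] [Fintype F] [Field L] [Algebra F L] [Finite L] {q : ℕ}

theorem charP_of_card (hq : q.Prime) (hF : Fintype.card F = q ^ 2) : CharP F q := by
  obtain ⟨p, hp⟩ := CharP.exists F
  haveI := hp
  obtain ⟨n, hpp, hn⟩ := FiniteField.card F p
  have hpq : p ∣ q ^ 2 := by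
    rw [← hF, hn]
    exact dvd_pow_self p n.ne_zero
  have : p = q := (Nat.prime_dvd_prime_iff_eq hpp hq).1 (hpp.dvd_of_dvd_pow hpq)
  rw [← this]
  exact hp

/-- an involution of a cubic extension `L` of `F = GF(q²)` acting as `c ↦ c ^ q` on `F` is `y ↦ y ^ q³` -/
theorem tau_eq_pow (hq : q.Prime) (hF : Fintype.card F = q ^ 2) (hfin : Module.finrank F L = 3)
    (τ : L →+* L) (hττ : ∀ y, τ (τ y) = y)
    (hτc : ∀ c : F, τ (algebraMap F L c) = algebraMap F L (c ^ q)) (z : L) : τ z = z ^ q ^ 3 := by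
  haveI : Fact q.Prime := ⟨hq⟩
  haveI : CharP F q := charP_of_card hq hF
  haveI : CharP L q := charP_of_injective_algebraMap (algebraMap F L).injective q
  letI : Fintype L := Fintype.ofFinite L
  have hcq : ∀ c : F, (c ^ q) ^ q = c := by
    intro c
    rw [← pow_mul, ← sq, ← hF, FiniteField.pow_card]
  set fr : L →+* L := frobenius L q with hfr
  have hfrx : ∀ x : L, fr x = x ^ q := fun x => by rw [hfr, frobenius_def]
  let ρ : L →ₐ[F] L :=
    { (τ.comp fr) with
      commutes' := by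
        intro c
        change τ (fr (algebraMap F L c)) = algebraMap F L c
        rw [hfrx, ← map_pow, hτc, hcq] }
  have hρx : ∀ x : L, ρ x = τ (x ^ q) := by
    intro x
    change τ (fr x) = _
    rw [hfrx]
  set φ := FiniteField.frobeniusAlgEquivOfAlgebraic F L with hφ
  have hφx : ∀ x : L, φ x = x ^ (Fintype.card F) := by
    intro x
    rw [hφ, FiniteField.coe_frobeniusAlgEquivOfAlgebraic]
  let ρ' : L ≃ₐ[F] L := AlgEquiv.ofBijective ρ (Algebra.IsAlgebraic.algHom_bijective ρ)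
  have hρ'x : ∀ x : L, ρ' x = τ (x ^ q) := fun x => hρx x
  obtain ⟨j, hj⟩ := (FiniteField.bijective_frobeniusAlgEquivOfAlgebraic_pow F L).2 ρ'
  have hj' : φ ^ j.1 = ρ' := hj
  have hsq : ρ' * ρ' = φ := by
    apply AlgEquiv.ext
    intro x
    rw [AlgEquiv.mul_apply, hρ'x, hρ'x, map_pow, hττ, hφx, hF, sq, pow_mul]
  have hord : orderOf φ = 3 := by
    rw [hφ, FiniteField.orderOf_frobeniusAlgEquivOfAlgebraic]
    exact hfin
  have hj3 : j.1 < 3 := lt_of_lt_of_eq j.2 hfin
  have hj2 : j.1 = 2 := by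
    have h1 : φ ^ (j.1 + j.1) = φ ^ 1 := by rw [pow_add, hj', hsq, pow_one]
    have hmod : j.1 + j.1 ≡ 1 [MOD 3] := by
      rw [← hord]
      exact (pow_eq_pow_iff_modEq).1 h1
    have : (j.1 + j.1) % 3 = 1 % 3 := hmod
    omega
  have hρ4 : ∀ x : L, τ (x ^ q) = x ^ q ^ 4 := by
    intro x
    rw [← hρ'x, ← hj', hj2, pow_two, AlgEquiv.mul_apply, hφx, hφx, hF, ← pow_mul]
    congr 1
    ring
  have hcardL : Fintype.card L = q ^ 6 := by
    have h1 := Module.natCard_eq_pow_finrank (K := F) (V := L)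
    rw [hfin, Nat.card_eq_fintype_card, Nat.card_eq_fintype_card, hF] at h1
    rw [h1]
    ring
  have hz6 : z ^ q ^ 6 = z := by rw [← hcardL, FiniteField.pow_card]
  calc τ z = τ ((z ^ q ^ 5) ^ q) := by
        rw [← pow_mul, ← pow_succ, hz6]
    _ = (z ^ q ^ 5) ^ q ^ 4 := hρ4 _
    _ = (z ^ q ^ 6) ^ q ^ 3 := by
        rw [← pow_mul, ← pow_mul]
        congr 1
        ring
    _ = z ^ q ^ 3 := by rw [hz6]

theorem natCard_eq (hF : Fintype.card F = q ^ 2) (hfin : Module.finrank F L = 3) : Nat.card L = q ^ 6 := by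
  have h1 := Module.natCard_eq_pow_finrank (K := F) (V := L)
  rw [hfin, Nat.card_eq_fintype_card (α := F), hF] at h1
  rw [h1]
  ring

theorem exists_order_seven (hq : q = 3 ∨ q = 5) (hF : Fintype.card F = q ^ 2)
    (hfin : Module.finrank F L = 3) : ∃ x : L, orderOf x = 7 := by
  have hcardU : Nat.card Lˣ = q ^ 6 - 1 := by rw [Nat.card_units, natCard_eq hF hfin]
  haveI : Fact (Nat.Prime 7) := ⟨by norm_num⟩
  have hdvd : 7 ∣ Nat.card Lˣ := by
    rw [hcardU]
    rcases hq with rfl | rfl <;> norm_num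
  obtain ⟨u, hu⟩ := exists_prime_orderOf_dvd_card' (G := Lˣ) 7 hdvd
  exact ⟨(u : L), by rw [orderOf_units, hu]⟩

omit [Fintype F] [Algebra F L] [Finite L] in
theorem pow_reduce {x : L} (h7 : x ^ 7 = 1) (r : ℕ) : x ^ r = x ^ (r % 7) := by
  conv_lhs => rw [← Nat.div_add_mod r 7, pow_add, pow_mul, h7, one_pow, one_mul]

omit [Fintype F] [Algebra F L] [Finite L] in
theorem pow_eq_pow_mod {x : L} (hord : orderOf x = 7) {m n : ℕ} (h : x ^ m = x ^ n) : m % 7 = n % 7 := by
  have h7 : x ^ 7 = 1 := by rw [← hord]; exact pow_orderOf_eq_one x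
  have hprim : IsPrimitiveRoot x 7 := hord ▸ IsPrimitiveRoot.orderOf x
  rw [pow_reduce h7 m, pow_reduce h7 n] at h
  exact hprim.pow_inj (Nat.mod_lt _ (by norm_num)) (Nat.mod_lt _ (by norm_num)) h

/-- the involution inverts the elements of order 7 -/
theorem tau_seven (hq : q = 3 ∨ q = 5) (hF : Fintype.card F = q ^ 2) (hfin : Module.finrank F L = 3)
    (τ : L →+* L) (hττ : ∀ y, τ (τ y) = y)
    (hτc : ∀ c : F, τ (algebraMap F L c) = algebraMap F L (c ^ q)) {x : L} (hord : orderOf x = 7) :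
    τ x = x ^ 6 := by
  have h7 : x ^ 7 = 1 := by rw [← hord]; exact pow_orderOf_eq_one x
  have hqp : q.Prime := by rcases hq with rfl | rfl <;> norm_num
  rw [tau_eq_pow hqp hF hfin τ hττ hτc x, pow_reduce h7]
  rcases hq with rfl | rfl <;> norm_num

theorem frob_pow_apply (i : ℕ) (x : L) :
    ((FiniteField.frobeniusAlgEquivOfAlgebraic F L) ^ i) x = x ^ (Fintype.card F) ^ i := by
  induction i with
  | zero => simp
  | succ i ih =>
    rw [pow_succ', AlgEquiv.mul_apply, ih, FiniteField.coe_frobeniusAlgEquivOfAlgebraic]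
    change (x ^ Fintype.card F ^ i) ^ Fintype.card F = _
    rw [← pow_mul, ← pow_succ]

/-- an `F`-automorphism of `L` maps an element of order 7 to its 1st, 2nd or 4th power -/
theorem aut_seven (hq : q = 3 ∨ q = 5) (hF : Fintype.card F = q ^ 2) (hfin : Module.finrank F L = 3)
    (σ : L ≃ₐ[F] L) {x : L} (hord : orderOf x = 7) : ∃ j ∈ ({1, 2, 4} : Finset ℕ), σ x = x ^ j := by
  have h7 : x ^ 7 = 1 := by rw [← hord]; exact pow_orderOf_eq_one x
  obtain ⟨i, hi⟩ := (FiniteField.bijective_frobeniusAlgEquivOfAlgebraic_pow F L).2 σ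
  have hi' : (FiniteField.frobeniusAlgEquivOfAlgebraic F L) ^ i.1 = σ := hi
  have hi3 : i.1 < 3 := lt_of_lt_of_eq i.2 hfin
  rw [← hi', frob_pow_apply, hF, pow_reduce h7]
  rcases hq with rfl | rfl <;> interval_cases i.1 <;> norm_num

omit [Fintype F] [Field F] in
theorem sq_pow_inj_three : ∀ i j : Fin 3, (3 ^ 2) ^ (i : ℕ) % 7 = (3 ^ 2) ^ (j : ℕ) % 7 → i = j := by decide

omit [Fintype F] [Field F] in
theorem sq_pow_inj_five : ∀ i j : Fin 3, (5 ^ 2) ^ (i : ℕ) % 7 = (5 ^ 2) ^ (j : ℕ) % 7 → i = j := by decide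

omit [Finite L] in
/-- `1, x, x²` are linearly independent over `F` -/
theorem indep_pow (hq : q = 3 ∨ q = 5) (hF : Fintype.card F = q ^ 2) {x : L} (hord : orderOf x = 7)
    (c : Fin 3 → F) (h : ∑ i : Fin 3, c i • x ^ (i : ℕ) = 0) : c = 0 := by
  have hqp : q.Prime := by rcases hq with rfl | rfl <;> norm_num
  haveI : Fact q.Prime := ⟨hqp⟩
  haveI : CharP F q := charP_of_card hqp hF
  haveI : CharP L q := charP_of_injective_algebraMap (algebraMap F L).injective q
  have hfrob : ∀ z : L, ∑ i : Fin 3, c i • z ^ (i : ℕ) = 0 →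
      ∑ i : Fin 3, c i • (z ^ q ^ 2) ^ (i : ℕ) = 0 := by
    intro z hz
    have h4 : (∑ i : Fin 3, c i • z ^ (i : ℕ)) ^ q ^ 2 = 0 := by
      rw [hz]
      exact zero_pow (pow_ne_zero _ hqp.ne_zero)
    rw [sum_pow_char_pow] at h4
    rw [← h4]
    refine Finset.sum_congr rfl (fun i _ => ?_)
    have hc : (c i) ^ q ^ 2 = c i := by rw [← hF, FiniteField.pow_card]
    rw [smul_pow, hc]
    congr 1
    ring
  have hroots : ∀ j : ℕ, ∑ i : Fin 3, c i • (x ^ (q ^ 2) ^ j) ^ (i : ℕ) = 0 := by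
    intro j
    induction j with
    | zero => simpa using h
    | succ j ih =>
      have := hfrob _ ih
      rwa [← pow_mul, ← pow_succ] at this
  have hinj : Function.Injective (fun j : Fin 3 => x ^ (q ^ 2) ^ (j : ℕ)) := by
    intro i j hij
    have h1 : (q ^ 2) ^ (i : ℕ) % 7 = (q ^ 2) ^ (j : ℕ) % 7 := pow_eq_pow_mod hord hij
    rcases hq with rfl | rfl
    · exact sq_pow_inj_three i j h1
    · exact sq_pow_inj_five i j h1
  have hv : (fun i : Fin 3 => algebraMap F L (c i)) = 0 := by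
    apply Matrix.eq_zero_of_forall_index_sum_mul_pow_eq_zero hinj
    intro j
    have := hroots j
    simpa [Algebra.smul_def] using this
  funext i
  have := congrFun hv i
  simpa using this

/-- `1, x, x²` span `L` over `F` -/
theorem span_pow (hq : q = 3 ∨ q = 5) (hF : Fintype.card F = q ^ 2) (hfin : Module.finrank F L = 3)
    {x : L} (hord : orderOf x = 7) (y : L) : ∃ c : Fin 3 → F, y = ∑ i : Fin 3, c i • x ^ (i : ℕ) := by
  let f : (Fin 3 → F) →ₗ[F] L :=
    { toFun := fun c => ∑ i : Fin 3, c i • x ^ (i : ℕ)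
      map_add' := by
        intro c d
        simp only [Pi.add_apply, add_smul, Finset.sum_add_distrib]
      map_smul' := by
        intro a c
        simp only [Pi.smul_apply, smul_eq_mul, mul_smul, RingHom.id_apply, Finset.smul_sum] }
  haveI : Module.Finite F L := Module.finite_of_finrank_pos (by rw [hfin]; norm_num)
  have hinj : Function.Injective f := by
    rw [← LinearMap.ker_eq_bot, LinearMap.ker_eq_bot']
    intro c hc
    exact indep_pow hq hF hord c hc
  have hsurj : Function.Surjective f :=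
    (LinearMap.injective_iff_surjective_of_finrank_eq_finrank (by
      rw [Module.finrank_fin_fun, hfin])).1 hinj
  obtain ⟨c, hc⟩ := hsurj y
  exact ⟨c, hc.symm⟩

/-- the field theory, packaged -/
theorem package (hq : q = 3 ∨ q = 5) (hF : Fintype.card F = q ^ 2) (hfin : Module.finrank F L = 3)
    (τ : L →+* L) (hττ : ∀ y, τ (τ y) = y)
    (hτc : ∀ c : F, τ (algebraMap F L c) = algebraMap F L (c ^ q)) :
    (∃ x : L, orderOf x = 7 ∧ τ x = x ^ 6) ∧
    (∀ y : L, orderOf y = 7 →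
      (∀ σ : L →ₐ[F] L, ∃ j ∈ ({1, 2, 4} : Finset ℕ), σ y = y ^ j) ∧
      (∀ w : L, ∃ c : Fin 3 → F, w = ∑ i : Fin 3, c i • y ^ (i : ℕ))) := by
  refine ⟨?_, ?_⟩
  · obtain ⟨x, hx⟩ := exists_order_seven (L := L) hq hF hfin
    exact ⟨x, hx, tau_seven hq hF hfin τ hττ hτc hx⟩
  · intro y hy
    refine ⟨fun σ => ?_, fun w => span_pow hq hF hfin hy w⟩
    exact aut_seven hq hF hfin (AlgEquiv.ofBijective σ (Algebra.IsAlgebraic.algHom_bijective σ)) hy

end field

/-! ### Sylow conjugacy -/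

section sylow
open scoped Pointwise

/-- two elements of prime order `p` in a finite group whose order is not divisible by `p²` generate conjugate
subgroups -/
theorem exists_conj_mem_zpowers {G : Type*} [Group G] [Finite G] {p : ℕ} [hp : Fact p.Prime]
    (hp2 : ¬ p ^ 2 ∣ Nat.card G) (a b : G) (ha : orderOf a = p) (hb : orderOf b = p) :
    ∃ g : G, g * b * g⁻¹ ∈ Subgroup.zpowers a := by
  have key : ∀ c : G, orderOf c = p → ∃ Q : Sylow p G, Subgroup.zpowers c = (Q : Subgroup G) := by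
    intro c hc
    have hcard : Nat.card (Subgroup.zpowers c) = p := by rw [Nat.card_zpowers, hc]
    have hP : IsPGroup p (Subgroup.zpowers c) := IsPGroup.of_card (n := 1) (by rw [hcard, pow_one])
    obtain ⟨Q, hQ⟩ := hP.exists_le_sylow
    obtain ⟨k, hk⟩ := (IsPGroup.iff_card (p := p) (G := ↥(Q : Subgroup G))).1 Q.2
    have hdvd : p ∣ Nat.card (Q : Subgroup G) := by
      have := Subgroup.card_dvd_of_le hQ
      rwa [hcard] at this
    have hk1 : k = 1 := by
      rcases Nat.lt_or_ge k 1 with h | h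
      · exfalso
        have : k = 0 := by omega
        rw [hk, this, pow_zero] at hdvd
        exact hp.out.one_lt.ne' (Nat.dvd_one.1 hdvd)
      · rcases Nat.lt_or_ge 1 k with h' | h'
        · exfalso
          apply hp2
          have h1 : p ^ 2 ∣ p ^ k := pow_dvd_pow p h'
          rw [← hk] at h1
          exact h1.trans (Subgroup.card_subgroup_dvd_card _)
        · omega
    refine ⟨Q, Subgroup.eq_of_le_of_card_ge hQ ?_⟩
    rw [hcard, hk, hk1, pow_one]
  obtain ⟨Q, hQ⟩ := key a ha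
  obtain ⟨Q₀, hQ₀⟩ := key b hb
  obtain ⟨g, hg⟩ := MulAction.exists_smul_eq G Q₀ Q
  refine ⟨g, ?_⟩
  have hb' : b ∈ (Q₀ : Subgroup G) := by
    rw [← hQ₀]
    exact Subgroup.mem_zpowers b
  have h1 := Subgroup.smul_mem_pointwise_smul b (MulAut.conj g) (Q₀ : Subgroup G) hb'
  rw [MulAut.smul_def, MulAut.conj_apply] at h1
  have h2 : ((g • Q₀ : Sylow p G) : Subgroup G) = MulAut.conj g • (Q₀ : Subgroup G) := rfl
  rw [hQ, ← hg, h2]
  exact h1

theorem not_sq_seven_dvd_card_GL {F : Type*} [Field F] [Fintype F] {q : ℕ} (hq : q = 3 ∨ q = 5)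
    (hF : Fintype.card F = q ^ 2) : ¬ 7 ^ 2 ∣ Nat.card (GL (Fin 3) F) := by
  rw [Matrix.card_GL_field, Fin.prod_univ_three, hF]
  rcases hq with rfl | rfl <;> norm_num

end sylow

/-! ### the subalgebra -/

section main
open Cfsg.Agent.Lib.Helper18.AschC3 Cfsg.Agent.Lib.Helper18.FormField Cfsg.Agent.Lib.Helper18.S5663U2

variable {F : Type*} [Field F] [Fintype F] {q : ℕ}

/-- **NF4**: an adjoint-closed cubic field subalgebra of `M_3(F)`, `|F| = q²`, `q ∈ {3, 5}`, contains a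
`GU`-conjugate of any given element of order 7 of `GU_3(q)`; the normaliser acts on it by the powers `1, 2, 4`,
and `K` is spanned by its powers `0, 1, 2`. -/
theorem exists_conj_zeta (hF : Fintype.card F = q ^ 2) (hq : q = 3 ∨ q = 5)
    (K : Subalgebra F (Matrix (Fin 3) (Fin 3) F)) (hK : IsFieldSubalgebra 3 K)
    (hadj : IsAdjointClosedFor (hermForm 3 F q) K) (z₀ : GL (Fin 3) F) (hz₀ : z₀ ∈ GU 3 F q)
    (h7 : orderOf z₀ = 7) :
    ∃ g : GL (Fin 3) F, g ∈ GU 3 F q ∧
      ((g * z₀ * g⁻¹ : GL (Fin 3) F) : Matrix (Fin 3) (Fin 3) F) ∈ K ∧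
      (∀ x : GL (Fin 3) F, x ∈ subalgebraNormalizer K →
        ∃ j ∈ ({1, 2, 4} : Finset ℕ), x * (g * z₀ * g⁻¹) * x⁻¹ = (g * z₀ * g⁻¹) ^ j) ∧
      (∀ k : Matrix (Fin 3) (Fin 3) F, k ∈ K ↔ ∃ c : Fin 3 → F,
        k = ∑ i : Fin 3, c i • ((g * z₀ * g⁻¹ : GL (Fin 3) F) : Matrix (Fin 3) (Fin 3) F) ^ (i : ℕ)) := by
  classical
  have hf : AdjForm (hermForm 3 F q) := adjForm_hermForm hF
  have hpack : (∃ x : ↥K, orderOf x = 7 ∧ adjFun K hadj x = x ^ 6) ∧
      (∀ y : ↥K, orderOf y = 7 →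
        (∀ σ : ↥K →ₐ[F] ↥K, ∃ j ∈ ({1, 2, 4} : Finset ℕ), σ y = y ^ j) ∧
        (∀ w : ↥K, ∃ c : Fin 3 → F, w = ∑ i : Fin 3, c i • y ^ (i : ℕ))) := by
    letI := fieldOf K hK
    have hττ : ∀ y, (adjK hf K hK.comm hadj) ((adjK hf K hK.comm hadj) y) = y :=
      fun y => adjFun_adjFun hf K hadj y
    have hcq : ∀ c : F, (c ^ q) ^ q = c := by
      intro c
      rw [← pow_mul, ← sq, ← hF, FiniteField.pow_card]
    have hτc : ∀ c : F, (adjK hf K hK.comm hadj) (algebraMap F ↥K c) = algebraMap F ↥K (c ^ q) := by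
      intro c
      apply Subtype.ext
      apply adjFun_eq hf K hadj
      intro u v
      change hermForm 3 F q ((algebraMap F (Matrix (Fin 3) (Fin 3) F) c) *ᵥ u) v =
        hermForm 3 F q u ((algebraMap F (Matrix (Fin 3) (Fin 3) F) (c ^ q)) *ᵥ v)
      rw [Algebra.algebraMap_eq_smul_one, Algebra.algebraMap_eq_smul_one, Matrix.smul_mulVec, Matrix.smul_mulVec,
        Matrix.one_mulVec, Matrix.one_mulVec, hf.smul_left, hermForm_smul_right, hcq]
    exact package hq hF hK.finrank_eq (adjK hf K hK.comm hadj) hττ hτc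
  obtain ⟨⟨x, hxord, hτx⟩, hall⟩ := hpack
  have hx7 : x ^ 7 = 1 := by rw [← hxord]; exact pow_orderOf_eq_one x
  have hX7 : (x : Matrix (Fin 3) (Fin 3) F) ^ 7 = 1 := by
    rw [← Subalgebra.coe_pow, hx7, Subalgebra.coe_one]
  -- `x` as an element of `GL`, unitary
  let ζ : GL (Fin 3) F :=
    ⟨(x : Matrix (Fin 3) (Fin 3) F), (x : Matrix (Fin 3) (Fin 3) F) ^ 6, by rw [← pow_succ', hX7],
      by rw [← pow_succ, hX7]⟩
  have hζval : (ζ : Matrix (Fin 3) (Fin 3) F) = (x : Matrix (Fin 3) (Fin 3) F) := rfl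
  have hζU : ζ ∈ GU 3 F q := by
    intro u v
    change hermForm 3 F q ((x : Matrix (Fin 3) (Fin 3) F) *ᵥ u) ((x : Matrix (Fin 3) (Fin 3) F) *ᵥ v) = _
    have := adjFun_spec K hadj x u ((x : Matrix (Fin 3) (Fin 3) F) *ᵥ v)
    rw [hτx, Subalgebra.coe_pow, Matrix.mulVec_mulVec, ← pow_succ, hX7, Matrix.one_mulVec] at this
    exact this
  have hζord : orderOf ζ = 7 := by
    rw [← orderOf_units, hζval]
    have := orderOf_injective (K.val : ↥K →ₐ[F] Matrix (Fin 3) (Fin 3) F).toRingHom.toMonoidHom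
      Subtype.val_injective x
    rw [← hxord, ← this]
    rfl
  -- Sylow conjugacy in `GU`
  haveI : Fact (Nat.Prime 7) := ⟨by norm_num⟩
  have hG49 : ¬ 7 ^ 2 ∣ Nat.card ↥(GU 3 F q) := fun h =>
    not_sq_seven_dvd_card_GL hq hF (h.trans (Subgroup.card_subgroup_dvd_card _))
  obtain ⟨g, hg⟩ := exists_conj_mem_zpowers hG49 (⟨ζ, hζU⟩ : ↥(GU 3 F q)) ⟨z₀, hz₀⟩
    (by rw [Subgroup.orderOf_mk, hζord]) (by rw [Subgroup.orderOf_mk, h7])
  rw [← (IsOfFinOrder.mem_powers_iff_mem_zpowers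
    (isOfFinOrder_of_finite _)), Submonoid.mem_powers_iff] at hg
  obtain ⟨m, hm⟩ := hg
  have hm' : ζ ^ m = (g : GL (Fin 3) F) * z₀ * (g : GL (Fin 3) F)⁻¹ := by
    have := congrArg Subtype.val hm
    simpa using this
  set Y : GL (Fin 3) F := (g : GL (Fin 3) F) * z₀ * (g : GL (Fin 3) F)⁻¹ with hY
  -- the element of `K`
  have hYval : (Y : Matrix (Fin 3) (Fin 3) F) = ((x ^ m : ↥K) : Matrix (Fin 3) (Fin 3) F) := by
    rw [← hm', Units.val_pow_eq_pow_val, hζval, Subalgebra.coe_pow]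
  have hYord : orderOf Y = 7 := by
    rw [hY, ← h7]
    exact (MulAut.conj (g : GL (Fin 3) F)).orderOf_eq z₀
  have hyord : orderOf (x ^ m : ↥K) = 7 := by
    have := orderOf_injective (K.val : ↥K →ₐ[F] Matrix (Fin 3) (Fin 3) F).toRingHom.toMonoidHom
      Subtype.val_injective (x ^ m)
    rw [← this, ← hYord, ← orderOf_units, hYval]
    rfl
  obtain ⟨haut, hspan⟩ := hall (x ^ m) hyord
  refine ⟨(g : GL (Fin 3) F), g.2, ?_, ?_, ?_⟩
  · rw [hYval]
    exact (x ^ m).2
  · intro a ha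
    -- conjugation by `a` as an `F`-algebra endomorphism of `K`
    let σ : ↥K →ₐ[F] ↥K :=
      { toFun := fun k => ⟨(a : Matrix (Fin 3) (Fin 3) F) * k * ((a⁻¹ : GL (Fin 3) F) : Matrix (Fin 3) (Fin 3) F),
          (ha k).1 k.2⟩
        map_one' := by
          apply Subtype.ext
          simp
        map_mul' := by
          intro k k'
          apply Subtype.ext
          simp only [Subalgebra.coe_mul, mul_assoc]
          rw [Units.inv_mul_cancel_left]
        map_zero' := by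
          apply Subtype.ext
          simp
        map_add' := by
          intro k k'
          apply Subtype.ext
          simp [mul_add, add_mul]
        commutes' := by
          intro c
          apply Subtype.ext
          change (a : Matrix (Fin 3) (Fin 3) F) * (algebraMap F (Matrix (Fin 3) (Fin 3) F) c) *
            ((a⁻¹ : GL (Fin 3) F) : Matrix (Fin 3) (Fin 3) F) = algebraMap F (Matrix (Fin 3) (Fin 3) F) c
          rw [Algebra.algebraMap_eq_smul_one, mul_smul_comm, mul_one, smul_mul_assoc, Units.mul_inv] }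
    obtain ⟨j, hj, hσ⟩ := haut σ
    refine ⟨j, hj, ?_⟩
    apply Units.ext
    have := congrArg Subtype.val hσ
    rw [Subalgebra.coe_pow, ← hYval] at this
    rw [Units.val_mul, Units.val_mul, Units.val_pow_eq_pow_val, ← this]
    change _ = (a : Matrix (Fin 3) (Fin 3) F) * ((x ^ m : ↥K) : Matrix (Fin 3) (Fin 3) F) * _
    rw [← hYval]
  · intro k
    constructor
    · intro hk
      obtain ⟨c, hc⟩ := hspan ⟨k, hk⟩
      refine ⟨c, ?_⟩
      have h1 : k = ((∑ i : Fin 3, c i • (x ^ m) ^ (i : ℕ) : ↥K) : Matrix (Fin 3) (Fin 3) F) :=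
        congrArg Subtype.val hc
      rw [h1]
      change _ = ∑ i : Fin 3, c i • (Y : Matrix (Fin 3) (Fin 3) F) ^ (i : ℕ)
      rw [hYval]
      simp only [AddSubmonoidClass.coe_finsetSum, Subalgebra.coe_smul, Subalgebra.coe_pow]
    · rintro ⟨c, rfl⟩
      refine Subalgebra.sum_mem _ (fun i _ => Subalgebra.smul_mem _ (Subalgebra.pow_mem _ ?_ _) _)
      rw [hYval]
      exact (x ^ m).2

end main

end Cfsg.Agent.Lib.Helper2.S5778NF4

/-! ### addendum: a field subalgebra of full degree is its own centraliser -/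

namespace Cfsg.Agent.Lib.Helper2.S5778NF4

open Matrix Cfsg Cfsg.Geo

section centraliser
variable {F : Type*} [Field F] {n : ℕ}

/-- a matrix commuting with a field subalgebra of degree `n` of `M_n(F)` lies in it -/
theorem mem_of_commute_all (hn : 0 < n) (K : Subalgebra F (Matrix (Fin n) (Fin n) F))
    (hK : IsFieldSubalgebra n K) (x : Matrix (Fin n) (Fin n) F) (hx : ∀ k ∈ K, x * k = k * x) : x ∈ K := by
  classical
  set v : Fin n → F := Pi.single ⟨0, hn⟩ 1 with hv
  have hv0 : v ≠ 0 := by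
    intro h
    have := congrFun h ⟨0, hn⟩
    simp [hv] at this
  let f : ↥K →ₗ[F] (Fin n → F) :=
    { toFun := fun k => (k : Matrix (Fin n) (Fin n) F) *ᵥ v
      map_add' := by
        intro a b
        simp only [Subalgebra.coe_add, Matrix.add_mulVec]
      map_smul' := by
        intro c a
        simp only [Subalgebra.coe_smul, Matrix.smul_mulVec, RingHom.id_apply] }
  haveI : Module.Finite F ↥K := Module.finite_of_finrank_pos (by rw [hK.finrank_eq]; exact hn)
  have hinj : Function.Injective f := by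
    rw [← LinearMap.ker_eq_bot, LinearMap.ker_eq_bot']
    intro k hk
    by_contra hk0
    have hk0' : (k : Matrix (Fin n) (Fin n) F) ≠ 0 := fun h => hk0 (Subtype.ext h)
    obtain ⟨y, hyK, hy⟩ := hK.inv k k.2 hk0'
    have hy' := (hK.comm _ k.2 y hyK).symm.trans hy
    apply hv0
    have hkv : (k : Matrix (Fin n) (Fin n) F) *ᵥ v = 0 := hk
    calc v = (1 : Matrix (Fin n) (Fin n) F) *ᵥ v := (Matrix.one_mulVec v).symm
      _ = (y * (k : Matrix (Fin n) (Fin n) F)) *ᵥ v := by rw [hy']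
      _ = 0 := by rw [← Matrix.mulVec_mulVec, hkv, Matrix.mulVec_zero]
  have hsurj : Function.Surjective f :=
    (LinearMap.injective_iff_surjective_of_finrank_eq_finrank (by
      rw [Module.finrank_fin_fun, hK.finrank_eq])).1 hinj
  obtain ⟨k, hk⟩ := hsurj (x *ᵥ v)
  have hkv : (k : Matrix (Fin n) (Fin n) F) *ᵥ v = x *ᵥ v := hk
  have hxk : x = (k : Matrix (Fin n) (Fin n) F) := by
    apply Matrix.mulVec_injective
    funext w
    obtain ⟨k', hk'⟩ := hsurj w
    have hk'v : (k' : Matrix (Fin n) (Fin n) F) *ᵥ v = w := hk'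
    rw [← hk'v, Matrix.mulVec_mulVec, Matrix.mulVec_mulVec, hx k' k'.2, ← Matrix.mulVec_mulVec, ← hkv,
      Matrix.mulVec_mulVec, hK.comm _ k'.2 _ k.2]
  rw [hxk]
  exact k.2

/-- if `K` is spanned by the powers `0, 1, 2` of `ζ`, a matrix commuting with `ζ` commutes with `K` -/
theorem commute_all_of_span (K : Subalgebra F (Matrix (Fin 3) (Fin 3) F)) (ζ : Matrix (Fin 3) (Fin 3) F)
    (hspan : ∀ k : Matrix (Fin 3) (Fin 3) F, k ∈ K → ∃ c : Fin 3 → F, k = ∑ i : Fin 3, c i • ζ ^ (i : ℕ))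
    (x : Matrix (Fin 3) (Fin 3) F) (hx : x * ζ = ζ * x) : ∀ k ∈ K, x * k = k * x := by
  intro k hk
  obtain ⟨c, rfl⟩ := hspan k hk
  have hpow : ∀ i : ℕ, x * ζ ^ i = ζ ^ i * x := by
    intro i
    induction i with
    | zero => simp
    | succ i ih => rw [pow_succ, ← mul_assoc, ih, mul_assoc, hx, ← mul_assoc]
  rw [Finset.mul_sum, Finset.sum_mul]
  refine Finset.sum_congr rfl (fun i _ => ?_)
  rw [mul_smul_comm, smul_mul_assoc, hpow]

end centraliser

section main2
variable {F : Type*} [Field F] [Fintype F] {q : ℕ}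

/-- **NF4, full form**: `exists_conj_zeta` with the centraliser clause: a matrix commuting with `g z₀ g⁻¹` lies in `K`. -/
theorem exists_conj_zeta_full (hF : Fintype.card F = q ^ 2) (hq : q = 3 ∨ q = 5)
    (K : Subalgebra F (Matrix (Fin 3) (Fin 3) F)) (hK : IsFieldSubalgebra 3 K)
    (hadj : IsAdjointClosedFor (hermForm 3 F q) K) (z₀ : GL (Fin 3) F) (hz₀ : z₀ ∈ GU 3 F q)
    (h7 : orderOf z₀ = 7) :
    ∃ g : GL (Fin 3) F, g ∈ GU 3 F q ∧
      ((g * z₀ * g⁻¹ : GL (Fin 3) F) : Matrix (Fin 3) (Fin 3) F) ∈ K ∧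
      (∀ x : GL (Fin 3) F, x ∈ subalgebraNormalizer K →
        ∃ j ∈ ({1, 2, 4} : Finset ℕ), x * (g * z₀ * g⁻¹) * x⁻¹ = (g * z₀ * g⁻¹) ^ j) ∧
      (∀ k : Matrix (Fin 3) (Fin 3) F, k ∈ K ↔ ∃ c : Fin 3 → F,
        k = ∑ i : Fin 3, c i • ((g * z₀ * g⁻¹ : GL (Fin 3) F) : Matrix (Fin 3) (Fin 3) F) ^ (i : ℕ)) ∧
      (∀ x : Matrix (Fin 3) (Fin 3) F,
        x * ((g * z₀ * g⁻¹ : GL (Fin 3) F) : Matrix (Fin 3) (Fin 3) F) =
          ((g * z₀ * g⁻¹ : GL (Fin 3) F) : Matrix (Fin 3) (Fin 3) F) * x → x ∈ K) := by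
  obtain ⟨g, hg, h1, h2, h3⟩ := exists_conj_zeta hF hq K hK hadj z₀ hz₀ h7
  refine ⟨g, hg, h1, h2, h3, fun x hx => ?_⟩
  exact mem_of_commute_all (by norm_num) K hK x
    (commute_all_of_span K _ (fun k hk => (h3 k).1 hk) x hx)

end main2

end Cfsg.Agent.Lib.Helper2.S5778NF4
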