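import Mathlib
import Cfsg.Prelude.Def_GeometricClasses
import Cfsg.Prelude.Def_LieClassical
import Cfsg.Agent.Lib.Helper18.FormField
import Cfsg.Agent.Lib.Helper18.S5663U2
import Cfsg.Agent.Lib.Helper22.S5802HB
import Cfsg.Agent.Lib.Helper2.S5778NF4

/-!
# S5778 (SU_3), pieces E5 / E6: the elements of `SU_3(q)` in an adjoint-closed cubic field (helper2)

For `q ∈ {3, 5}`, `K` an adjoint-closed cubic field subalgebra of `M_3(F)`, `|F| = q²`: an element `c ∈ K` of
`SU_3(q)` satisfies `c ^ (q³ + 1) = 1` (unitary) and `c ^ (q⁴ + q² + 1) = 1` (determinant = norm), hence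
`c ^ 7 = 1` for `q = 3` and `c ^ 21 = 1` for `q = 5`.
-/

set_option autoImplicit false
set_option linter.style.haveILetI false
set_option linter.unusedSectionVars false

namespace Cfsg.Agent.Lib.Helper2.S5778SU

open Matrix Cfsg Cfsg.Geo Cfsg.Agent.Lib.Helper2.S5778NF4

section field
variable {F L : Type*} [Field F] [Fintype F] [Field L] [Algebra F L] [Finite L] {q : ℕ}

/-- the field theory: a norm-one element killed by `1 + τ` has order dividing `7` resp. `21` -/
theorem pow_eq_one_field (hq : q = 3 ∨ q = 5) (hF : Fintype.card F = q ^ 2) (hfin : Module.finrank F L = 3)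
    (τ : L →+* L) (hττ : ∀ y, τ (τ y) = y)
    (hτc : ∀ c : F, τ (algebraMap F L c) = algebraMap F L (c ^ q)) (x : L) (hU : τ x * x = 1)
    (hN : Algebra.norm F x = 1) : (q = 3 → x ^ 7 = 1) ∧ (q = 5 → x ^ 21 = 1) := by
  have hqp : q.Prime := by rcases hq with rfl | rfl <;> norm_num
  have h1 : x ^ (q ^ 3 + 1) = 1 := by
    rw [pow_succ, ← tau_eq_pow hqp hF hfin τ hττ hτc x]
    exact hU
  have hcL : Nat.card L = q ^ 6 := natCard_eq hF hfin
  have h2 := FiniteField.algebraMap_norm_eq_pow (K := F) (K' := L) (x := x)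
  rw [hN, map_one, hcL, Nat.card_eq_fintype_card, hF] at h2
  constructor
  · rintro rfl
    norm_num at h1 h2
    -- x ^ 28 = 1, x ^ 91 = 1
    have : x ^ 91 = (x ^ 28) ^ 3 * x ^ 7 := by ring
    rw [← h2, h1, one_pow, one_mul] at this
    exact this.symm
  · rintro rfl
    norm_num at h1 h2
    -- x ^ 126 = 1, x ^ 651 = 1
    have : x ^ 651 = (x ^ 126) ^ 5 * x ^ 21 := by ring
    rw [← h2, h1, one_pow, one_mul] at this
    exact this.symm

end field

section main
open Cfsg.Agent.Lib.Helper18.AschC3 Cfsg.Agent.Lib.Helper18.FormField Cfsg.Agent.Lib.Helper18.S5663U2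
open Cfsg.Agent.Lib.Helper22.S5802HB

variable {F : Type*} [Field F] [Fintype F] {q : ℕ}

/-- an element of `SU_3(q)` lying in an adjoint-closed cubic field has order dividing `7` (`q = 3`) resp. `21`
(`q = 5`) -/
theorem pow_eq_one_of_mem_SU (hF : Fintype.card F = q ^ 2) (hq : q = 3 ∨ q = 5)
    (K : Subalgebra F (Matrix (Fin 3) (Fin 3) F)) (hK : IsFieldSubalgebra 3 K)
    (hadj : IsAdjointClosedFor (hermForm 3 F q) K) (c : GL (Fin 3) F)
    (hcK : (c : Matrix (Fin 3) (Fin 3) F) ∈ K) (hcU : c ∈ GU 3 F q)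
    (hdet : (c : Matrix (Fin 3) (Fin 3) F).det = 1) :
    (q = 3 → c ^ 7 = 1) ∧ (q = 5 → c ^ 21 = 1) := by
  classical
  have hf : AdjForm (hermForm 3 F q) := adjForm_hermForm hF
  have key : (q = 3 → (⟨_, hcK⟩ : ↥K) ^ 7 = 1) ∧ (q = 5 → (⟨_, hcK⟩ : ↥K) ^ 21 = 1) := by
    letI := fieldOf K hK
    have hττ : ∀ y, (adjK hf K hK.comm hadj) ((adjK hf K hK.comm hadj) y) = y :=
      fun y => adjFun_adjFun hf K hadj y
    have hcq : ∀ c : F, (c ^ q) ^ q = c := by
      intro c
      rw [← pow_mul, ← sq, ← hF, FiniteField.pow_card]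
    have hτc : ∀ c : F, (adjK hf K hK.comm hadj) (algebraMap F ↥K c) = algebraMap F ↥K (c ^ q) := by
      intro c
      apply Subtype.ext
      apply adjFun_eq hf K hadj
      intro u v
      change hermForm 3 F q ((algebraMap F (Matrix (Fin 3) (Fin 3) F) c) *ᵥ u) v =
        hermForm 3 F q u ((algebraMap F (Matrix (Fin 3) (Fin 3) F) (c ^ q)) *ᵥ v)
      rw [Algebra.algebraMap_eq_smul_one, Algebra.algebraMap_eq_smul_one, Matrix.smul_mulVec, Matrix.smul_mulVec,
        Matrix.one_mulVec, Matrix.one_mulVec, hf.smul_left, hermForm_smul_right, hcq]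
    haveI : Finite ↥K := by
      haveI : FiniteDimensional F ↥K := FiniteDimensional.of_finrank_pos (by rw [hK.finrank_eq]; norm_num)
      exact Module.finite_of_finite F
    -- unitary
    have hU : (adjK hf K hK.comm hadj) ⟨_, hcK⟩ * (⟨_, hcK⟩ : ↥K) = 1 := by
      apply Subtype.ext
      rw [Subalgebra.coe_mul, Subalgebra.coe_one]
      apply hf.adj_unique
      intro u v
      rw [Matrix.one_mulVec, ← Matrix.mulVec_mulVec]
      have h1 := adjFun_spec K hadj ⟨_, hcK⟩ u ((c : Matrix (Fin 3) (Fin 3) F) *ᵥ v)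
      change hermForm 3 F q u ((adjFun K hadj ⟨_, hcK⟩ : Matrix (Fin 3) (Fin 3) F) *ᵥ
        ((c : Matrix (Fin 3) (Fin 3) F) *ᵥ v)) = _
      rw [← h1]
      exact hcU u v
    -- determinant
    have hN : Algebra.norm F (⟨_, hcK⟩ : ↥K) = 1 := by
      have h1 := det_eq_norm_pow K hK ⟨_, hcK⟩
      simp only [Fintype.card_fin] at h1
      change (c : Matrix (Fin 3) (Fin 3) F).det = _ at h1
      rw [hdet, show (3 / 3 : ℕ) = 1 by norm_num, pow_one] at h1
      exact h1.symm
    exact pow_eq_one_field hq hF hK.finrank_eq (adjK hf K hK.comm hadj) hττ hτc _ hU hN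
  constructor
  · intro h3
    apply Units.ext
    rw [Units.val_pow_eq_pow_val, Units.val_one]
    have := congrArg Subtype.val (key.1 h3)
    rwa [Subalgebra.coe_pow, Subalgebra.coe_one] at this
  · intro h5
    apply Units.ext
    rw [Units.val_pow_eq_pow_val, Units.val_one]
    have := congrArg Subtype.val (key.2 h5)
    rwa [Subalgebra.coe_pow, Subalgebra.coe_one] at this

/-- the seventh roots of unity of a cubic field subalgebra are the powers of any element of order 7 -/
theorem eq_pow_of_pow_eq_one (K : Subalgebra F (Matrix (Fin 3) (Fin 3) F)) (hK : IsFieldSubalgebra 3 K)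
    (ζ c : GL (Fin 3) F) (hζK : (ζ : Matrix (Fin 3) (Fin 3) F) ∈ K) (hcK : (c : Matrix (Fin 3) (Fin 3) F) ∈ K)
    (hζ : orderOf ζ = 7) (hc : c ^ 7 = 1) : ∃ k < 7, c = ζ ^ k := by
  classical
  have key : ∃ k < 7, (⟨_, hζK⟩ : ↥K) ^ k = ⟨_, hcK⟩ := by
    letI := fieldOf K hK
    have hord : orderOf (⟨_, hζK⟩ : ↥K) = 7 := by
      have := orderOf_injective (K.val : ↥K →ₐ[F] Matrix (Fin 3) (Fin 3) F).toRingHom.toMonoidHom
        Subtype.val_injective (⟨_, hζK⟩ : ↥K)
      rw [← this, ← hζ, ← orderOf_units]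
      rfl
    have hprim : IsPrimitiveRoot (⟨_, hζK⟩ : ↥K) 7 := hord ▸ IsPrimitiveRoot.orderOf _
    have hc7 : (⟨_, hcK⟩ : ↥K) ^ 7 = 1 := by
      apply Subtype.ext
      rw [Subalgebra.coe_pow, Subalgebra.coe_one]
      have := congrArg (fun u : GL (Fin 3) F => (u : Matrix (Fin 3) (Fin 3) F)) hc
      simpa using this
    exact hprim.eq_pow_of_pow_eq_one hc7
  obtain ⟨k, hk, hkk⟩ := key
  refine ⟨k, hk, ?_⟩
  apply Units.ext
  rw [Units.val_pow_eq_pow_val]
  have := congrArg Subtype.val hkk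
  rw [Subalgebra.coe_pow] at this
  exact this.symm

end main

end Cfsg.Agent.Lib.Helper2.S5778SU
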