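import Mathlib
import Cfsg.Prelude.Def_GeometricClasses
import Cfsg.Prelude.Def_LieClassical
import Cfsg.Agent.Lib.Helper15.S5778Final
import Cfsg.Agent.Lib.Helper15.S5778Data3
import Cfsg.Agent.Lib.Helper2.S5778NF4
import Cfsg.Agent.Lib.Helper2.S5778SU

/-!
# S5778 (SU_3), piece E5: the normaliser of an adjoint-closed cubic field is not maximal in `SU_3(3)` (helper2)

`N(K) ∩ SU_3(3) = 7:3 < L_2(7) = ` the stabiliser of helper15's 21-point set `S21`.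
-/

set_option autoImplicit false
set_option linter.style.haveILetI false
set_option linter.unusedSectionVars false

namespace Cfsg.Agent.Lib.Helper2.S5778E5

open Matrix Cfsg Cfsg.Geo Cfsg.Agent.Lib.Helper2.S5778NF4 Cfsg.Agent.Lib.Helper2.S5778SU
open Cfsg.Agent.Lib.Helper15.S5778Final Cfsg.Agent.Lib.Helper15.S5778Core Cfsg.Agent.Lib.Helper15.S5778Tools
open Cfsg.Agent.Lib.Helper15.FQuad

section generic
variable {F : Type*} [Field F] [Fintype F] {q : ℕ}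

/-- **normal form of the normaliser**: after conjugation by some `g ∈ GU`, every element of `N(K)` normalises
`⟨z₀⟩` via the powers `1, 2, 4`, and every element of `SU` centralising `z₀` has order dividing 7 resp. 21 and, for
`q = 3`, is a power of `z₀`. -/
theorem exists_normal_form (hF : Fintype.card F = q ^ 2) (hq : q = 3 ∨ q = 5)
    (K : Subalgebra F (Matrix (Fin 3) (Fin 3) F)) (hK : IsFieldSubalgebra 3 K)
    (hadj : IsAdjointClosedFor (hermForm 3 F q) K) (z₀ : GL (Fin 3) F) (hz₀ : z₀ ∈ GU 3 F q)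
    (h7 : orderOf z₀ = 7) :
    ∃ (g : GL (Fin 3) F) (A : Subgroup (GL (Fin 3) F)), g ∈ GU 3 F q ∧
      subalgebraNormalizer K = A.map (MulAut.conj g).toMonoidHom ∧
      (∀ y ∈ A, ∃ j ∈ ({1, 2, 4} : Finset ℕ), y * z₀ * y⁻¹ = z₀ ^ j) ∧
      (∀ c : GL (Fin 3) F, c * z₀ = z₀ * c → c ∈ SUn 3 F q →
        (q = 3 → ∃ k < 7, c = z₀ ^ k) ∧ (q = 5 → c ^ 21 = 1)) := by
  classical
  obtain ⟨g, hg, hζK, hnorm, hspan, hcent⟩ := exists_conj_zeta_full hF hq K hK hadj z₀ hz₀ h7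
  refine ⟨g, (subalgebraNormalizer K).map (MulAut.conj g⁻¹).toMonoidHom, hg, ?_, ?_, ?_⟩
  · rw [Subgroup.map_map]
    have : (MulAut.conj g).toMonoidHom.comp (MulAut.conj g⁻¹).toMonoidHom = MonoidHom.id _ := by
      apply MonoidHom.ext
      intro x
      simp only [MonoidHom.coe_comp, MulEquiv.coe_toMonoidHom, Function.comp_apply, MulAut.conj_apply,
        MonoidHom.id_apply, inv_inv]
      group
    rw [this, Subgroup.map_id]
  · rintro y ⟨x, hx, rfl⟩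
    obtain ⟨j, hj, hxj⟩ := hnorm x hx
    refine ⟨j, hj, ?_⟩
    simp only [MulEquiv.coe_toMonoidHom, MulAut.conj_apply, inv_inv]
    have e1 : g⁻¹ * x * g * z₀ * (g⁻¹ * x * g)⁻¹ = g⁻¹ * (x * (g * z₀ * g⁻¹) * x⁻¹) * g := by group
    rw [e1, hxj]
    have e2 : ∀ n : ℕ, g⁻¹ * (g * z₀ * g⁻¹) ^ n * g = z₀ ^ n := by
      intro n
      rw [conj_pow]
      group
    exact e2 j
  · intro c hcz hcSU
    -- `c' = g c g⁻¹` centralises `ζ = g z₀ g⁻¹`, so it lies in `K`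
    set c' : GL (Fin 3) F := g * c * g⁻¹ with hc'
    have hc'comm : c' * (g * z₀ * g⁻¹) = (g * z₀ * g⁻¹) * c' := by
      rw [hc']
      have e1 : g * c * g⁻¹ * (g * z₀ * g⁻¹) = g * (c * z₀) * g⁻¹ := by group
      have e2 : g * z₀ * g⁻¹ * (g * c * g⁻¹) = g * (z₀ * c) * g⁻¹ := by group
      rw [e1, e2, hcz]
    have hc'K : (c' : Matrix (Fin 3) (Fin 3) F) ∈ K := by
      apply hcent
      have := congrArg (fun u : GL (Fin 3) F => (u : Matrix (Fin 3) (Fin 3) F)) hc'comm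
      simpa only [Units.val_mul] using this
    have hc'U : c' ∈ GU 3 F q :=
      (GU 3 F q).mul_mem ((GU 3 F q).mul_mem hg hcSU.1) ((GU 3 F q).inv_mem hg)
    have hcdet : Matrix.GeneralLinearGroup.det c = 1 := hcSU.2
    have hc'det : (c' : Matrix (Fin 3) (Fin 3) F).det = 1 := by
      have h1 : Matrix.GeneralLinearGroup.det c' = 1 := by
        rw [hc', map_mul, map_mul, hcdet, mul_one, ← map_mul, mul_inv_cancel, map_one]
      have := congrArg (fun u : Fˣ => (u : F)) h1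
      simpa using this
    obtain ⟨h3, h5⟩ := pow_eq_one_of_mem_SU hF hq K hK hadj c' hc'K hc'U hc'det
    have hback : ∀ n : ℕ, c' ^ n = 1 → c ^ n = 1 := by
      intro n hn
      rw [hc', conj_pow] at hn
      have : c ^ n = g⁻¹ * (g * c ^ n * g⁻¹) * g := by group
      rw [this, hn]
      group
    refine ⟨fun hq3 => ?_, fun hq5 => hback 21 (h5 hq5)⟩
    have hζord : orderOf (g * z₀ * g⁻¹) = 7 := by
      rw [← h7]
      exact (MulAut.conj g).orderOf_eq z₀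
    obtain ⟨k, hk, hck⟩ := eq_pow_of_pow_eq_one K hK (g * z₀ * g⁻¹) c' hζK hc'K hζord (h3 hq3)
    refine ⟨k, hk, ?_⟩
    have : c = g⁻¹ * c' * g := by rw [hc']; group
    rw [this, hck, conj_pow]
    group

end generic

section three
open Cfsg.Agent.Lib.Helper15.S5778Data3

variable {F : Type*} [Field F] [Fintype F]

theorem mapGL_val {K : Type*} [Field K] (φ : K →+* F) (A : Matrix (Fin 3) (Fin 3) K) (hdet : A.det = 1) :
    ((mapGL φ A hdet : GL (Fin 3) F) : Matrix (Fin 3) (Fin 3) F) = φ.mapMatrix A := rfl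

/-- **E5** -/
theorem e5 (hF : Fintype.card F = 3 ^ 2) : E5 F := by
  classical
  intro K hK hadj
  obtain ⟨_, φ, hφ⟩ := exists_equiv9 hF
  have hMinj : Function.Injective (φ.mapMatrix : Matrix (Fin 3) (Fin 3) K9 → Matrix (Fin 3) (Fin 3) F) := by
    intro A B hAB
    exact Matrix.map_injective hφ.1 hAB
  set z₀ : GL (Fin 3) F := mapGL φ ζ₀ det_ζ₀ with hz₀def
  set Φ : GL (Fin 3) F := mapGL φ Φ₀ det_Φ₀ with hΦdef
  set w : GL (Fin 3) F := mapGL φ w₃ det_w₃ with hwdef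
  set s : GL (Fin 3) F := mapGL φ s₃ det_s₃ with hsdef
  have hz₀SU : z₀ ∈ SUn 3 F 3 := mem_SU_of φ hF ζ₀ det_ζ₀ unit_ζ₀
  have hΦSU : Φ ∈ SUn 3 F 3 := mem_SU_of φ hF Φ₀ det_Φ₀ unit_Φ₀
  have hwSU : w ∈ SUn 3 F 3 := mem_SU_of φ hF w₃ det_w₃ unit_w₃
  have hsSU : s ∈ SUn 3 F 3 := mem_SU_of φ hF s₃ det_s₃ unit_s₃
  have hz₀st : z₀ ∈ stabSet (S21 φ) := mem_stab21_of φ hφ.2 ζ₀ det_ζ₀ ζ₀_pres
  have hΦst : Φ ∈ stabSet (S21 φ) := mem_stab21_of φ hφ.2 Φ₀ det_Φ₀ Φ₀_pres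
  have hwst : w ∈ stabSet (S21 φ) := mem_stab21_of φ hφ.2 w₃ det_w₃ w₃_pres
  have hsst : s ∉ stabSet (S21 φ) := s₃_not_mem_stab21 φ
  have hz₀7 : z₀ ^ 7 = 1 := by
    apply Units.ext
    rw [Units.val_pow_eq_pow_val, Units.val_one, hz₀def, mapGL_val, ← map_pow, ζ₀_pow, map_one]
  have hz₀1 : z₀ ≠ 1 := by
    intro h
    have := congrArg (fun u : GL (Fin 3) F => (u : Matrix (Fin 3) (Fin 3) F)) h
    simp only [Units.val_one, hz₀def, mapGL_val] at this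
    rw [← map_one φ.mapMatrix] at this
    exact ζ₀_ne_one (hMinj this)
  have hord : orderOf z₀ = 7 := by
    haveI : Fact (Nat.Prime 7) := ⟨by norm_num⟩
    exact orderOf_eq_prime hz₀7 hz₀1
  have hΦz : Φ * z₀ = z₀ ^ 2 * Φ := by
    apply Units.ext
    rw [Units.val_mul, Units.val_mul, Units.val_pow_eq_pow_val, hz₀def, hΦdef, mapGL_val, mapGL_val,
      ← map_mul, ← map_pow, ← map_mul, Φ₀_conj]
  have hww : w * w = 1 := by
    apply Units.ext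
    rw [Units.val_mul, Units.val_one, hwdef, mapGL_val, ← map_mul, w₃_sq, map_one]
  have hwinv : w⁻¹ = w := inv_eq_of_mul_eq_one_right hww
  have hwz : (w * z₀ * w) * z₀ ≠ z₀ * (w * z₀ * w) := by
    intro h
    have := congrArg (fun u : GL (Fin 3) F => (u : Matrix (Fin 3) (Fin 3) F)) h
    simp only [Units.val_mul, hz₀def, hwdef, mapGL_val, ← map_mul] at this
    exact w₃_not_norm (hMinj this)
  -- the normal form
  obtain ⟨g, A, hg, hNA, hAj, hcent⟩ := exists_normal_form hF (Or.inl rfl) K hK hadj z₀ hz₀SU.1 hord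
  rw [hNA]
  apply not_maximal_conj g hg A
  -- group identities
  have h1 : Φ⁻¹ * z₀ ^ 2 = z₀ * Φ⁻¹ := by
    calc Φ⁻¹ * z₀ ^ 2 = Φ⁻¹ * (z₀ ^ 2 * Φ) * Φ⁻¹ := by group
      _ = Φ⁻¹ * (Φ * z₀) * Φ⁻¹ := by rw [hΦz]
      _ = z₀ * Φ⁻¹ := by group
  have h2 : Φ⁻¹ * z₀ ^ 4 = z₀ ^ 2 * Φ⁻¹ := by
    have e : z₀ ^ 4 = z₀ ^ 2 * z₀ ^ 2 := by rw [← pow_add]
    rw [e, ← mul_assoc, h1, mul_assoc, h1, ← mul_assoc, ← sq]
  have hpowst : ∀ k : ℕ, z₀ ^ k ∈ stabSet (S21 φ) := fun k => (stabSet (S21 φ)).pow_mem hz₀st k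
  have hST : A ⊓ SUn 3 F 3 ≤ stabSet (S21 φ) := by
    intro y hy
    obtain ⟨hyA, hySU⟩ := Subgroup.mem_inf.1 hy
    obtain ⟨j, hj, hyj⟩ := hAj y hyA
    have hyz : y * z₀ = z₀ ^ j * y := by rw [← hyj]; group
    simp only [Finset.mem_insert, Finset.mem_singleton] at hj
    rcases hj with rfl | rfl | rfl
    · rw [pow_one] at hyz
      obtain ⟨k, -, hk⟩ := (hcent y hyz hySU).1 rfl
      rw [hk]
      exact hpowst k
    · have hc : (Φ⁻¹ * y) * z₀ = z₀ * (Φ⁻¹ * y) := by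
        rw [mul_assoc, hyz, ← mul_assoc, h1, mul_assoc]
      have hcSU : Φ⁻¹ * y ∈ SUn 3 F 3 := (SUn 3 F 3).mul_mem ((SUn 3 F 3).inv_mem hΦSU) hySU
      obtain ⟨k, -, hk⟩ := (hcent _ hc hcSU).1 rfl
      have : y = Φ * z₀ ^ k := by rw [← hk]; group
      rw [this]
      exact (stabSet (S21 φ)).mul_mem hΦst (hpowst k)
    · have hc : (Φ⁻¹ * Φ⁻¹ * y) * z₀ = z₀ * (Φ⁻¹ * Φ⁻¹ * y) := by
        calc (Φ⁻¹ * Φ⁻¹ * y) * z₀ = Φ⁻¹ * Φ⁻¹ * (y * z₀) := by simp only [mul_assoc]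
          _ = Φ⁻¹ * (Φ⁻¹ * z₀ ^ 4) * y := by rw [hyz]; simp only [mul_assoc]
          _ = (Φ⁻¹ * z₀ ^ 2) * Φ⁻¹ * y := by rw [h2]; simp only [mul_assoc]
          _ = z₀ * (Φ⁻¹ * Φ⁻¹ * y) := by rw [h1]; simp only [mul_assoc]
      have hcSU : Φ⁻¹ * Φ⁻¹ * y ∈ SUn 3 F 3 :=
        (SUn 3 F 3).mul_mem ((SUn 3 F 3).mul_mem ((SUn 3 F 3).inv_mem hΦSU) ((SUn 3 F 3).inv_mem hΦSU)) hySU
      obtain ⟨k, -, hk⟩ := (hcent _ hc hcSU).1 rfl
      have : y = Φ * Φ * z₀ ^ k := by rw [← hk]; group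
      rw [this]
      exact (stabSet (S21 φ)).mul_mem ((stabSet (S21 φ)).mul_mem hΦst hΦst) (hpowst k)
  have hwA : w ∉ A ⊓ SUn 3 F 3 := by
    intro hw
    obtain ⟨j, -, hwj⟩ := hAj w (Subgroup.mem_inf.1 hw).1
    rw [hwinv] at hwj
    apply hwz
    rw [hwj, ← pow_succ, ← pow_succ']
  exact not_maximal_of_stabSet (S21 φ) hST hwSU hwst hwA hsSU hsst

end three

end Cfsg.Agent.Lib.Helper2.S5778E5
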