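import Mathlib
import Cfsg.Prelude.Def_GeometricClasses
import Cfsg.Prelude.Def_LieClassical
import Cfsg.Agent.Lib.Helper15.S5778Core
import Cfsg.Agent.Lib.Helper2.S5778NF4
import Cfsg.Agent.Lib.Helper2.S5778SU

/-!
# S5778 (SU_3), piece E6 (`q = 5`): the centraliser of `z₀` in `SU_3(5)` is `⟨z₀⟩ × μ₃` (helper2, for helper13)
-/

set_option autoImplicit false
set_option linter.style.haveILetI false
set_option linter.unusedSectionVars false

namespace Cfsg.Agent.Lib.Helper2.S5778SU5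

open Matrix Cfsg Cfsg.Geo Cfsg.Agent.Lib.Helper2.S5778NF4 Cfsg.Agent.Lib.Helper2.S5778SU
open Cfsg.Agent.Lib.Helper15.S5778Core
open Cfsg.Agent.Lib.Helper18.AschC3

variable {F : Type*} [Field F] [Fintype F]

/-- a field with 25 elements has a primitive cube root of unity -/
theorem exists_cube_root (hF : Fintype.card F = 5 ^ 2) : ∃ ω : F, orderOf ω = 3 := by
  classical
  haveI : Fact (Nat.Prime 3) := ⟨by norm_num⟩
  have hcard : Nat.card Fˣ = 24 := by
    rw [Nat.card_units, Nat.card_eq_fintype_card, hF]; norm_num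
  obtain ⟨u, hu⟩ := exists_prime_orderOf_dvd_card' (G := Fˣ) 3 (by rw [hcard]; norm_num)
  exact ⟨(u : F), by rw [orderOf_units, hu]⟩

/-- an element of order dividing 21 of a cubic field subalgebra over a field with 25 elements is a scalar cube root of
unity times a power of any given element of order 7 -/
theorem split_of_pow (hF : Fintype.card F = 5 ^ 2) (K : Subalgebra F (Matrix (Fin 3) (Fin 3) F))
    (hK : IsFieldSubalgebra 3 K) (ζ c : GL (Fin 3) F) (hζK : (ζ : Matrix (Fin 3) (Fin 3) F) ∈ K)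
    (hcK : (c : Matrix (Fin 3) (Fin 3) F) ∈ K) (hζ : orderOf ζ = 7) (hc : c ^ 21 = 1) :
    ∃ k < 7, ∃ ω : F, ω ^ 3 = 1 ∧
      (c : Matrix (Fin 3) (Fin 3) F) = ω • ((ζ ^ k : GL (Fin 3) F) : Matrix (Fin 3) (Fin 3) F) := by
  classical
  obtain ⟨ω₀, hω₀⟩ := exists_cube_root hF
  have key : ∃ k < 7, ∃ m < 3, (⟨_, hcK⟩ : ↥K) = algebraMap F ↥K (ω₀ ^ m) * (⟨_, hζK⟩ : ↥K) ^ k := by
    letI := fieldOf K hK
    have hord : orderOf (⟨_, hζK⟩ : ↥K) = 7 := by
      have := orderOf_injective (K.val : ↥K →ₐ[F] Matrix (Fin 3) (Fin 3) F).toRingHom.toMonoidHom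
        Subtype.val_injective (⟨_, hζK⟩ : ↥K)
      rw [← this, ← hζ, ← orderOf_units]
      rfl
    have hprim : IsPrimitiveRoot (⟨_, hζK⟩ : ↥K) 7 := hord ▸ IsPrimitiveRoot.orderOf _
    have hord3 : orderOf (algebraMap F ↥K ω₀) = 3 :=
      (orderOf_injective (algebraMap F ↥K).toMonoidHom (algebraMap F ↥K).injective ω₀).trans hω₀
    have hprim3 : IsPrimitiveRoot (algebraMap F ↥K ω₀) 3 := by
      have := IsPrimitiveRoot.orderOf (algebraMap F ↥K ω₀)
      rwa [hord3] at this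
    have hc21 : (⟨_, hcK⟩ : ↥K) ^ 21 = 1 := by
      apply Subtype.ext
      rw [Subalgebra.coe_pow, Subalgebra.coe_one]
      have := congrArg (fun u : GL (Fin 3) F => (u : Matrix (Fin 3) (Fin 3) F)) hc
      simpa using this
    have ha7 : ((⟨_, hcK⟩ : ↥K) ^ 15) ^ 7 = 1 := by
      rw [← pow_mul, show 15 * 7 = 21 * 5 by norm_num, pow_mul, hc21, one_pow]
    have hb3 : ((⟨_, hcK⟩ : ↥K) ^ 7) ^ 3 = 1 := by
      rw [← pow_mul]; exact hc21
    obtain ⟨k, hk, hka⟩ := hprim.eq_pow_of_pow_eq_one ha7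
    obtain ⟨m, hm, hmb⟩ := hprim3.eq_pow_of_pow_eq_one hb3
    refine ⟨k, hk, m, hm, ?_⟩
    rw [map_pow, hmb, hka, ← pow_add, show 7 + 15 = 21 + 1 by norm_num, pow_add, hc21, one_mul, pow_one]
  obtain ⟨k, hk, m, -, hkm⟩ := key
  refine ⟨k, hk, ω₀ ^ m, ?_, ?_⟩
  · have h3 : ω₀ ^ 3 = 1 := by rw [← hω₀]; exact pow_orderOf_eq_one ω₀
    rw [← pow_mul, mul_comm, pow_mul, h3, one_pow]
  · have := congrArg Subtype.val hkm
    rw [Subalgebra.coe_mul, Subalgebra.coe_pow, Subalgebra.coe_algebraMap, Algebra.algebraMap_eq_smul_one,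
      smul_mul_assoc, one_mul] at this
    rw [Units.val_pow_eq_pow_val]
    exact this

/-- **normal form of the normaliser, `q = 5`**: as `S5778E5.exists_normal_form`, with the centraliser of `z₀` in `SU`
described as `⟨z₀⟩ × μ₃`. -/
theorem exists_normal_form_five (hF : Fintype.card F = 5 ^ 2)
    (K : Subalgebra F (Matrix (Fin 3) (Fin 3) F)) (hK : IsFieldSubalgebra 3 K)
    (hadj : IsAdjointClosedFor (hermForm 3 F 5) K) (z₀ : GL (Fin 3) F) (hz₀ : z₀ ∈ GU 3 F 5)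
    (h7 : orderOf z₀ = 7) :
    ∃ (g : GL (Fin 3) F) (A : Subgroup (GL (Fin 3) F)), g ∈ GU 3 F 5 ∧
      subalgebraNormalizer K = A.map (MulAut.conj g).toMonoidHom ∧
      (∀ y ∈ A, ∃ j ∈ ({1, 2, 4} : Finset ℕ), y * z₀ * y⁻¹ = z₀ ^ j) ∧
      (∀ c : GL (Fin 3) F, c * z₀ = z₀ * c → c ∈ SUn 3 F 5 →
        ∃ k < 7, ∃ ω : F, ω ^ 3 = 1 ∧
          (c : Matrix (Fin 3) (Fin 3) F) = ω • ((z₀ ^ k : GL (Fin 3) F) : Matrix (Fin 3) (Fin 3) F)) := by
  classical
  obtain ⟨g, hg, hζK, hnorm, hspan, hcent⟩ := exists_conj_zeta_full hF (Or.inr rfl) K hK hadj z₀ hz₀ h7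
  refine ⟨g, (subalgebraNormalizer K).map (MulAut.conj g⁻¹).toMonoidHom, hg, ?_, ?_, ?_⟩
  · rw [Subgroup.map_map]
    have : (MulAut.conj g).toMonoidHom.comp (MulAut.conj g⁻¹).toMonoidHom = MonoidHom.id _ := by
      apply MonoidHom.ext
      intro x
      simp only [MonoidHom.coe_comp, MulEquiv.coe_toMonoidHom, Function.comp_apply, MulAut.conj_apply,
        MonoidHom.id_apply, inv_inv]
      group
    rw [this, Subgroup.map_id]
  · rintro y ⟨x, hx, rfl⟩
    obtain ⟨j, hj, hxj⟩ := hnorm x hx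
    refine ⟨j, hj, ?_⟩
    simp only [MulEquiv.coe_toMonoidHom, MulAut.conj_apply, inv_inv]
    have e1 : g⁻¹ * x * g * z₀ * (g⁻¹ * x * g)⁻¹ = g⁻¹ * (x * (g * z₀ * g⁻¹) * x⁻¹) * g := by group
    rw [e1, hxj]
    have e2 : ∀ n : ℕ, g⁻¹ * (g * z₀ * g⁻¹) ^ n * g = z₀ ^ n := by
      intro n
      rw [conj_pow]
      group
    exact e2 j
  · intro c hcz hcSU
    set c' : GL (Fin 3) F := g * c * g⁻¹ with hc'
    have hc'comm : c' * (g * z₀ * g⁻¹) = (g * z₀ * g⁻¹) * c' := by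
      rw [hc']
      have e1 : g * c * g⁻¹ * (g * z₀ * g⁻¹) = g * (c * z₀) * g⁻¹ := by group
      have e2 : g * z₀ * g⁻¹ * (g * c * g⁻¹) = g * (z₀ * c) * g⁻¹ := by group
      rw [e1, e2, hcz]
    have hc'K : (c' : Matrix (Fin 3) (Fin 3) F) ∈ K := by
      apply hcent
      have := congrArg (fun u : GL (Fin 3) F => (u : Matrix (Fin 3) (Fin 3) F)) hc'comm
      simpa only [Units.val_mul] using this
    have hc'U : c' ∈ GU 3 F 5 :=
      (GU 3 F 5).mul_mem ((GU 3 F 5).mul_mem hg hcSU.1) ((GU 3 F 5).inv_mem hg)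
    have hcdet : Matrix.GeneralLinearGroup.det c = 1 := hcSU.2
    have hc'det : (c' : Matrix (Fin 3) (Fin 3) F).det = 1 := by
      have h1 : Matrix.GeneralLinearGroup.det c' = 1 := by
        rw [hc', map_mul, map_mul, hcdet, mul_one, ← map_mul, mul_inv_cancel, map_one]
      have := congrArg (fun u : Fˣ => (u : F)) h1
      simpa using this
    have h21 := (pow_eq_one_of_mem_SU hF (Or.inr rfl) K hK hadj c' hc'K hc'U hc'det).2 rfl
    have hζord : orderOf (g * z₀ * g⁻¹) = 7 := by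
      rw [← h7]
      exact (MulAut.conj g).orderOf_eq z₀
    obtain ⟨k, hk, ω, hω, hck⟩ := split_of_pow hF K hK (g * z₀ * g⁻¹) c' hζK hc'K hζord h21
    refine ⟨k, hk, ω, hω, ?_⟩
    have hcc : (c : Matrix (Fin 3) (Fin 3) F) =
        ((g⁻¹ : GL (Fin 3) F) : Matrix (Fin 3) (Fin 3) F) * (c' : Matrix (Fin 3) (Fin 3) F) *
          (g : Matrix (Fin 3) (Fin 3) F) := by
      rw [← Units.val_mul, ← Units.val_mul, hc']
      congr 1
      group
    have hzz : ((z₀ ^ k : GL (Fin 3) F) : Matrix (Fin 3) (Fin 3) F) =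
        ((g⁻¹ : GL (Fin 3) F) : Matrix (Fin 3) (Fin 3) F) *
          (((g * z₀ * g⁻¹) ^ k : GL (Fin 3) F) : Matrix (Fin 3) (Fin 3) F) * (g : Matrix (Fin 3) (Fin 3) F) := by
      rw [← Units.val_mul, ← Units.val_mul]
      congr 1
      rw [conj_pow]
      group
    rw [hcc, hck, hzz, Matrix.mul_smul, Matrix.smul_mul]

end Cfsg.Agent.Lib.Helper2.S5778SU5
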