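import Mathlib
import Cfsg.Prelude.Def_GeometricClasses
import Cfsg.Prelude.Def_LieClassical
import Cfsg.Agent.Lib.Helper15.S5778Final
import Cfsg.Agent.Lib.Helper15.S5778Data5b
import Cfsg.Agent.Lib.Helper2.S5778NF4
import Cfsg.Agent.Lib.Helper2.S5778SU
import Cfsg.Agent.Lib.Helper2.S5778SU5

/-!
# S5778 (SU_3), piece E6: the normaliser of an adjoint-closed cubic field is not maximal in `SU_3(5)` (helper2)

`N(K) ∩ SU_3(5) = (7 × 3):3 < 3.A_7 = ` the stabiliser of helper15's 105-point set `S105`.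
-/

set_option autoImplicit false
set_option linter.style.haveILetI false
set_option linter.unusedSectionVars false

namespace Cfsg.Agent.Lib.Helper2.S5778E6

open Matrix Cfsg Cfsg.Geo Cfsg.Agent.Lib.Helper2.S5778NF4 Cfsg.Agent.Lib.Helper2.S5778SU
open Cfsg.Agent.Lib.Helper2.S5778SU5
open Cfsg.Agent.Lib.Helper15.S5778Final Cfsg.Agent.Lib.Helper15.S5778Core Cfsg.Agent.Lib.Helper15.S5778Tools
open Cfsg.Agent.Lib.Helper15.FQuad Cfsg.Agent.Lib.Helper15.S5778Data5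

variable {F : Type*} [Field F] [Fintype F]

theorem mapGL_val {K : Type*} [Field K] (φ : K →+* F) (A : Matrix (Fin 3) (Fin 3) K) (hdet : A.det = 1) :
    ((mapGL φ A hdet : GL (Fin 3) F) : Matrix (Fin 3) (Fin 3) F) = φ.mapMatrix A := rfl

/-- a scalar multiple of an element of the stabiliser of `S105` stabilises `S105` -/
theorem smul_mem_stab105 (hF : Fintype.card F = 5 ^ 2) (y x : GL (Fin 3) F) (ω : F) (hω : ω ≠ 0)
    (hx : x ∈ stabSet (S105 F))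
    (hy : (y : Matrix (Fin 3) (Fin 3) F) = ω • (x : Matrix (Fin 3) (Fin 3) F)) : y ∈ stabSet (S105 F) := by
  have h24 : ∀ c : F, c ≠ 0 → c ^ 24 = 1 := by
    intro c hc
    have := FiniteField.pow_card_sub_one_eq_one c hc
    rwa [hF] at this
  apply mem_stabSet_of_forall
  intro v hv
  rw [hy, Matrix.smul_mulVec]
  have h1 : (x : Matrix (Fin 3) (Fin 3) F) *ᵥ v ∈ S105 F := (hx v).1 hv
  exact (inS105_smul h24 ω hω _).2 h1

/-- **E6** -/
theorem e6 (hF : Fintype.card F = 5 ^ 2) : E6 F := by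
  classical
  intro K hK hadj
  obtain ⟨_, φ, hφ⟩ := exists_equiv25 hF
  have hMinj : Function.Injective (φ.mapMatrix : Matrix (Fin 3) (Fin 3) K25 → Matrix (Fin 3) (Fin 3) F) := by
    intro A B hAB
    exact Matrix.map_injective hφ.1 hAB
  set z₀ : GL (Fin 3) F := mapGL φ ζ₀ det_ζ₀ with hz₀def
  set Φ : GL (Fin 3) F := mapGL φ Φ₀ det_Φ₀ with hΦdef
  set ww : GL (Fin 3) F := mapGL φ w det_w with hwdef
  set ss : GL (Fin 3) F := mapGL φ s det_s with hsdef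
  have hz₀SU : z₀ ∈ SUn 3 F 5 := mem_SU_of φ hF ζ₀ det_ζ₀ unit_ζ₀
  have hΦSU : Φ ∈ SUn 3 F 5 := mem_SU_of φ hF Φ₀ det_Φ₀ unit_Φ₀
  have hwSU : ww ∈ SUn 3 F 5 := mem_SU_of φ hF w det_w unit_w
  have hsSU : ss ∈ SUn 3 F 5 := mem_SU_of φ hF s det_s unit_s
  have hz₀st : z₀ ∈ stabSet (S105 F) := mem_stab105_of φ hφ.2 ζ₀ det_ζ₀ ζ₀_pres
  have hΦst : Φ ∈ stabSet (S105 F) := mem_stab105_of φ hφ.2 Φ₀ det_Φ₀ Φ₀_pres
  have hwst : ww ∈ stabSet (S105 F) := mem_stab105_of φ hφ.2 w det_w w_pres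
  have hsst : ss ∉ stabSet (S105 F) := s_not_mem_stab105 φ
  have hz₀7 : z₀ ^ 7 = 1 := by
    apply Units.ext
    rw [Units.val_pow_eq_pow_val, Units.val_one, hz₀def, mapGL_val, ← map_pow, ζ₀_pow, map_one]
  have hz₀1 : z₀ ≠ 1 := by
    intro h
    have := congrArg (fun u : GL (Fin 3) F => (u : Matrix (Fin 3) (Fin 3) F)) h
    simp only [Units.val_one, hz₀def, mapGL_val] at this
    rw [← map_one φ.mapMatrix] at this
    exact ζ₀_ne_one (hMinj this)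
  have hord : orderOf z₀ = 7 := by
    haveI : Fact (Nat.Prime 7) := ⟨by norm_num⟩
    exact orderOf_eq_prime hz₀7 hz₀1
  have hΦz : Φ * z₀ = z₀ ^ 2 * Φ := by
    apply Units.ext
    rw [Units.val_mul, Units.val_mul, Units.val_pow_eq_pow_val, hz₀def, hΦdef, mapGL_val, mapGL_val,
      ← map_mul, ← map_pow, ← map_mul, Φ₀_conj]
  have hww : ww * ww = 1 := by
    apply Units.ext
    rw [Units.val_mul, Units.val_one, hwdef, mapGL_val, ← map_mul, w_sq, map_one]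
  have hwinv : ww⁻¹ = ww := inv_eq_of_mul_eq_one_right hww
  have hwz : (ww * z₀ * ww) * z₀ ≠ z₀ * (ww * z₀ * ww) := by
    intro h
    have := congrArg (fun u : GL (Fin 3) F => (u : Matrix (Fin 3) (Fin 3) F)) h
    simp only [Units.val_mul, hz₀def, hwdef, mapGL_val, ← map_mul] at this
    exact w_not_norm (hMinj this)
  -- the normal form
  obtain ⟨g, A, hg, hNA, hAj, hcent⟩ := exists_normal_form_five hF K hK hadj z₀ hz₀SU.1 hord
  rw [hNA]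
  apply not_maximal_conj g hg A
  -- group identities
  have h1 : Φ⁻¹ * z₀ ^ 2 = z₀ * Φ⁻¹ := by
    calc Φ⁻¹ * z₀ ^ 2 = Φ⁻¹ * (z₀ ^ 2 * Φ) * Φ⁻¹ := by group
      _ = Φ⁻¹ * (Φ * z₀) * Φ⁻¹ := by rw [hΦz]
      _ = z₀ * Φ⁻¹ := by group
  have h2 : Φ⁻¹ * z₀ ^ 4 = z₀ ^ 2 * Φ⁻¹ := by
    have e : z₀ ^ 4 = z₀ ^ 2 * z₀ ^ 2 := by rw [← pow_add]
    rw [e, ← mul_assoc, h1, mul_assoc, h1, ← mul_assoc, ← sq]
  have hpowst : ∀ k : ℕ, z₀ ^ k ∈ stabSet (S105 F) := fun k => (stabSet (S105 F)).pow_mem hz₀st k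
  -- the centraliser of `z₀` in `SU` stabilises `S105`
  have hcst : ∀ c : GL (Fin 3) F, c * z₀ = z₀ * c → c ∈ SUn 3 F 5 → c ∈ stabSet (S105 F) := by
    intro c hc hcSU
    obtain ⟨k, -, ω, hω, hck⟩ := hcent c hc hcSU
    have hω0 : ω ≠ 0 := by
      rintro rfl
      norm_num at hω
    exact smul_mem_stab105 hF c (z₀ ^ k) ω hω0 (hpowst k) hck
  have hST : A ⊓ SUn 3 F 5 ≤ stabSet (S105 F) := by
    intro y hy
    obtain ⟨hyA, hySU⟩ := Subgroup.mem_inf.1 hy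
    obtain ⟨j, hj, hyj⟩ := hAj y hyA
    have hyz : y * z₀ = z₀ ^ j * y := by rw [← hyj]; group
    simp only [Finset.mem_insert, Finset.mem_singleton] at hj
    rcases hj with rfl | rfl | rfl
    · rw [pow_one] at hyz
      exact hcst y hyz hySU
    · have hc : (Φ⁻¹ * y) * z₀ = z₀ * (Φ⁻¹ * y) := by
        rw [mul_assoc, hyz, ← mul_assoc, h1, mul_assoc]
      have hcSU : Φ⁻¹ * y ∈ SUn 3 F 5 := (SUn 3 F 5).mul_mem ((SUn 3 F 5).inv_mem hΦSU) hySU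
      have h3 := hcst _ hc hcSU
      have : y = Φ * (Φ⁻¹ * y) := by group
      rw [this]
      exact (stabSet (S105 F)).mul_mem hΦst h3
    · have hc : (Φ⁻¹ * Φ⁻¹ * y) * z₀ = z₀ * (Φ⁻¹ * Φ⁻¹ * y) := by
        calc (Φ⁻¹ * Φ⁻¹ * y) * z₀ = Φ⁻¹ * Φ⁻¹ * (y * z₀) := by simp only [mul_assoc]
          _ = Φ⁻¹ * (Φ⁻¹ * z₀ ^ 4) * y := by rw [hyz]; simp only [mul_assoc]
          _ = (Φ⁻¹ * z₀ ^ 2) * Φ⁻¹ * y := by rw [h2]; simp only [mul_assoc]
          _ = z₀ * (Φ⁻¹ * Φ⁻¹ * y) := by rw [h1]; simp only [mul_assoc]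
      have hcSU : Φ⁻¹ * Φ⁻¹ * y ∈ SUn 3 F 5 :=
        (SUn 3 F 5).mul_mem ((SUn 3 F 5).mul_mem ((SUn 3 F 5).inv_mem hΦSU) ((SUn 3 F 5).inv_mem hΦSU)) hySU
      have h3 := hcst _ hc hcSU
      have : y = Φ * Φ * (Φ⁻¹ * Φ⁻¹ * y) := by group
      rw [this]
      exact (stabSet (S105 F)).mul_mem ((stabSet (S105 F)).mul_mem hΦst hΦst) h3
  have hwA : ww ∉ A ⊓ SUn 3 F 5 := by
    intro hw
    obtain ⟨j, -, hwj⟩ := hAj ww (Subgroup.mem_inf.1 hw).1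
    rw [hwinv] at hwj
    apply hwz
    rw [hwj, ← pow_succ, ← pow_succ']
  exact not_maximal_of_stabSet (S105 F) hST hwSU hwst hwA hsSU hsst

end Cfsg.Agent.Lib.Helper2.S5778E6
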