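import Mathlib
import Cfsg.Prelude.Def_GeometricClasses
import Cfsg.Prelude.Def_LieClassical
import Cfsg.Agent.Lib.Helper18.FormField
import Cfsg.Agent.Lib.Helper18.S5663U2

/-!
# S5796 (SU_5), piece X5-A `exists_zeta` (helper2, for helper29)

A Singer element `ζ` of order 11 in an adjoint-closed degree-5 field subalgebra of `M_5(F_4)`.

Over `F_4 = {0, 1, ω, ω + 1}`: `x ^ 11 - 1 = (x - 1) g₁ g₂` with
`g₁ = x^5 + ω x^4 + x^3 + x^2 + (ω+1) x + 1` and `g₂` the same with `ω ↔ ω + 1`.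
-/

set_option autoImplicit false
set_option linter.style.haveILetI false

namespace Cfsg.Agent.Lib.Helper2.S5796X5A

open Matrix Cfsg Cfsg.Geo

/-! ### the two quintics -/

section poly
variable {F A : Type*} [Field F] [Ring A] [Algebra F A]

/-- `x^5 + ω x^4 + x^3 + x^2 + (ω+1) x + 1` -/
def g1 (ω : F) (z : A) : A := z ^ 5 + ω • z ^ 4 + z ^ 3 + z ^ 2 + (ω + 1) • z + 1

/-- `x^5 + (ω+1) x^4 + x^3 + x^2 + ω x + 1` -/
def g2 (ω : F) (z : A) : A := z ^ 5 + (ω + 1) • z ^ 4 + z ^ 3 + z ^ 2 + ω • z + 1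

theorem g2_eq_g1 (h2 : (2 : F) = 0) (ω : F) (z : A) : g2 ω z = g1 (ω + 1) z := by
  have h : ω + 1 + 1 = ω := by linear_combination h2
  unfold g1 g2
  rw [h]

theorem g1_eq_g2 (h2 : (2 : F) = 0) (ω : F) (z : A) : g1 ω z = g2 (ω + 1) z := by
  have h : ω + 1 + 1 = ω := by linear_combination h2
  unfold g1 g2
  rw [h]

/-- conjugation commutes with `g1` -/
theorem g1_conj (ω : F) (u : Aˣ) (z : A) :
    g1 ω ((↑u⁻¹ : A) * z * (u : A)) = (↑u⁻¹ : A) * g1 ω z * (u : A) := by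
  unfold g1
  simp only [Units.conj_pow', mul_add, add_mul, mul_smul_comm, smul_mul_assoc, mul_one, Units.inv_mul]

end poly

section comm
variable {F L : Type*} [Field F] [CommRing L] [Algebra F L]

theorem two_eq_zero_alg (h2 : (2 : F) = 0) : (2 : L) = 0 := by
  have := congrArg (algebraMap F L) h2
  rwa [map_ofNat, map_zero] at this

theorem I1 {ω : F} (hω : ω ^ 2 = ω + 1) (h2 : (2 : F) = 0) (z : L) :
    (z - 1) * g1 ω z * g2 ω z = z ^ 11 - 1 := by
  have ha : (algebraMap F L ω) ^ 2 = algebraMap F L ω + 1 := by rw [← map_pow, hω, map_add, map_one]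
  have h2' : (2 : L) = 0 := two_eq_zero_alg h2
  unfold g1 g2
  simp only [Algebra.smul_def, map_add, map_one]
  generalize algebraMap F L ω = a at ha ⊢
  linear_combination ((-1) * z ^ 2 + (1) * z ^ 3 + (-2) * z ^ 5 + (2) * z ^ 6 + (-1) * z ^ 8 + (1) * z ^ 9) * ha +
    ((-1) * z * a + (-1) * z ^ 2 + (-1) * z ^ 4 * a + (-2) * z ^ 5 + (2) * z ^ 6 + (1) * z ^ 7 * a + (1) * z ^ 9 +
      (1) * z ^ 10 * a) * h2'

theorem I2 {ω : F} (hω : ω ^ 2 = ω + 1) (h2 : (2 : F) = 0) (z : L) :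
    g1 ω z ^ 2 = g2 ω (z ^ 2) := by
  have ha : (algebraMap F L ω) ^ 2 = algebraMap F L ω + 1 := by rw [← map_pow, hω, map_add, map_one]
  have h2' : (2 : L) = 0 := two_eq_zero_alg h2
  unfold g1 g2
  simp only [Algebra.smul_def, map_add, map_one]
  generalize algebraMap F L ω = a at ha ⊢
  linear_combination ((1) * z ^ 2 + (2) * z ^ 5 + (1) * z ^ 8) * ha +
    ((1) * z + (1) * z * a + (2) * z ^ 2 + (1) * z ^ 2 * a + (2) * z ^ 3 + (1) * z ^ 3 * a + (1) * z ^ 4 +
      (2) * z ^ 4 * a + (3) * z ^ 5 + (2) * z ^ 5 * a + (1) * z ^ 6 + (2) * z ^ 6 * a + (1) * z ^ 7 +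
      (1) * z ^ 7 * a + (1) * z ^ 8 + (1) * z ^ 9 * a) * h2'

theorem I3 {ω : F} (hω : ω ^ 2 = ω + 1) (h2 : (2 : F) = 0) (z : L) :
    g2 ω z ^ 2 = g1 ω (z ^ 2) := by
  have ha : (algebraMap F L ω) ^ 2 = algebraMap F L ω + 1 := by rw [← map_pow, hω, map_add, map_one]
  have h2' : (2 : L) = 0 := two_eq_zero_alg h2
  unfold g1 g2
  simp only [Algebra.smul_def, map_add, map_one]
  generalize algebraMap F L ω = a at ha ⊢
  linear_combination ((1) * z ^ 2 + (2) * z ^ 5 + (1) * z ^ 8) * ha +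
    ((1) * z * a + (1) * z ^ 2 + (1) * z ^ 3 + (1) * z ^ 3 * a + (1) * z ^ 4 + (2) * z ^ 4 * a + (3) * z ^ 5 +
      (2) * z ^ 5 * a + (1) * z ^ 6 + (2) * z ^ 6 * a + (2) * z ^ 7 + (1) * z ^ 7 * a + (2) * z ^ 8 +
      (1) * z ^ 8 * a + (1) * z ^ 9 + (1) * z ^ 9 * a) * h2'

theorem I4 (h2 : (2 : F) = 0) (ω : F) (z : L) :
    g1 ω z + g2 ω z = z ^ 4 + z := by
  have h2' : (2 : L) = 0 := two_eq_zero_alg h2
  unfold g1 g2
  simp only [Algebra.smul_def, map_add, map_one]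
  generalize algebraMap F L ω = a
  linear_combination ((1) + (1) * z * a + (1) * z ^ 2 + (1) * z ^ 3 + (1) * z ^ 4 * a + (1) * z ^ 5) * h2'

/-- the roots of `g1` are closed under `z ↦ z ^ 4` -/
theorem g1_pow_four {ω : F} (hω : ω ^ 2 = ω + 1) (h2 : (2 : F) = 0) {z : L} (h : g1 ω z = 0) :
    g1 ω (z ^ 4) = 0 := by
  have h1 : g2 ω (z ^ 2) = 0 := by rw [← I2 hω h2, h]; ring
  have h3 : g1 ω ((z ^ 2) ^ 2) = 0 := by rw [← I3 hω h2, h1]; ring
  rw [← h3]; congr 1; ring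

/-- a root of `g1` gives a root `z ^ 2` of `g2` -/
theorem g2_sq {ω : F} (hω : ω ^ 2 = ω + 1) (h2 : (2 : F) = 0) {z : L} (h : g1 ω z = 0) :
    g2 ω (z ^ 2) = 0 := by rw [← I2 hω h2, h]; ring

/-- **R2**: the two quintics have no common root among the 11-th roots of unity except `1` -/
theorem eq_one_of_roots (h2 : (2 : F) = 0) {ω : F} {z : L} (h11 : z ^ 11 = 1) (h1 : g1 ω z = 0)
    (h2z : g2 ω z = 0) : z = 1 := by
  have h2' : (2 : L) = 0 := two_eq_zero_alg h2
  have h4 : z ^ 4 = z := by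
    have := I4 (L := L) h2 ω z
    rw [h1, h2z, add_zero] at this
    linear_combination (-1 : L) * this - z * h2'
  have hz2 : z ^ 2 = 1 := by linear_combination h11 - (z ^ 7 + z ^ 4 + z) * h4
  linear_combination (-1 : L) * h4 + (z ^ 2 + 1) * hz2

end comm

/-! ### an element of order 11 in a field extension of `F_4` -/

section field
variable {F L : Type*} [Field F] [Field L] [Algebra F L]

theorem two_eq_zero_of_card [Fintype F] (hF : Fintype.card F = 4) : (2 : F) = 0 := by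
  have := FiniteField.cast_card_eq_zero F
  rw [hF] at this
  have h4 : (2 : F) * 2 = 0 := by
    rw [← this]; norm_num
  exact mul_self_eq_zero.1 h4

theorem exists_omega' [Fintype F] (hF : Fintype.card F = 4) : ∃ ω : F, ω ^ 2 = ω + 1 := by
  classical
  have h2 := two_eq_zero_of_card hF
  obtain ⟨x, hx0, hx1⟩ : ∃ x : F, x ≠ 0 ∧ x ≠ 1 := by
    by_contra hcon
    push Not at hcon
    have : Fintype.card F ≤ 2 := by
      have hsub : (Finset.univ : Finset F) ⊆ {0, 1} := by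
        intro x _
        by_cases hx : x = 0
        · simp [hx]
        · simp [hcon x hx]
      calc Fintype.card F = (Finset.univ : Finset F).card := rfl
        _ ≤ ({0, 1} : Finset F).card := Finset.card_le_card hsub
        _ ≤ 2 := Finset.card_le_two
    omega
  have h3 : x ^ 3 = 1 := by
    have := FiniteField.pow_card_sub_one_eq_one x hx0
    rwa [hF] at this
  refine ⟨x, ?_⟩
  have h4 : (x - 1) * (x ^ 2 + x + 1) = 0 := by linear_combination h3
  rcases mul_eq_zero.mp h4 with h | h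
  · exact absurd (sub_eq_zero.mp h) hx1
  · linear_combination h - (x + 1) * h2

theorem g1_one (h2 : (2 : F) = 0) (ω : F) : g1 ω (1 : L) = 1 := by
  have h2' : (2 : L) = 0 := two_eq_zero_alg h2
  unfold g1
  simp only [Algebra.smul_def, map_add, map_one, one_pow, mul_one]
  generalize algebraMap F L ω = a
  linear_combination (a + 2) * h2'

theorem pow_reduce {x : L} (h11 : x ^ 11 = 1) (r : ℕ) : x ^ r = x ^ (r % 11) := by
  conv_lhs => rw [← Nat.div_add_mod r 11, pow_add, pow_mul, h11, one_pow, one_mul]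

theorem pow_eq_pow_mod {x : L} (hord : orderOf x = 11) {m n : ℕ} (h : x ^ m = x ^ n) : m % 11 = n % 11 := by
  have h11 : x ^ 11 = 1 := by rw [← hord]; exact pow_orderOf_eq_one x
  have hprim : IsPrimitiveRoot x 11 := hord ▸ IsPrimitiveRoot.orderOf x
  rw [pow_reduce h11 m, pow_reduce h11 n] at h
  exact hprim.pow_inj (Nat.mod_lt _ (by norm_num)) (Nat.mod_lt _ (by norm_num)) h

theorem four_pow_inj : ∀ i j : Fin 5, 4 ^ (i : ℕ) % 11 = 4 ^ (j : ℕ) % 11 → i = j := by decide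

/-- the roots of `g1` among the powers of `ζ` -/
theorem mem_of_g1_pow {ω : F} (hω : ω ^ 2 = ω + 1) (h2 : (2 : F) = 0) {x : L} (hord : orderOf x = 11)
    (h1 : g1 ω x = 0) {r : ℕ} (hr : r < 11) (h : g1 ω (x ^ r) = 0) : r ∈ ({1, 3, 4, 5, 9} : Finset ℕ) := by
  have h11 : x ^ 11 = 1 := by rw [← hord]; exact pow_orderOf_eq_one x
  have h4 : g1 ω (x ^ 4) = 0 := g1_pow_four hω h2 h1
  have h5 : g1 ω (x ^ 5) = 0 := by
    have := g1_pow_four hω h2 h4
    rwa [← pow_mul, pow_reduce h11] at this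
  have h9 : g1 ω (x ^ 9) = 0 := by
    have := g1_pow_four hω h2 h5
    rwa [← pow_mul, pow_reduce h11] at this
  have h3 : g1 ω (x ^ 3) = 0 := by
    have := g1_pow_four hω h2 h9
    rwa [← pow_mul, pow_reduce h11] at this
  -- a common root of `g1` and `g2` among the non-trivial powers is impossible
  have key : ∀ s : ℕ, g1 ω (x ^ s) = 0 → ¬ (11 ∣ s * 2) → g1 ω (x ^ (s * 2 % 11)) = 0 → False := by
    intro s hs hnd hs2
    have hg2 : g2 ω (x ^ (s * 2 % 11)) = 0 := by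
      have := g2_sq hω h2 hs
      rwa [← pow_mul, pow_reduce h11] at this
    have hy11 : (x ^ (s * 2 % 11)) ^ 11 = 1 := by rw [← pow_mul, mul_comm, pow_mul, h11, one_pow]
    have hy1 := eq_one_of_roots h2 hy11 hs2 hg2
    rw [← pow_reduce h11] at hy1
    exact hnd (hord ▸ orderOf_dvd_of_pow_eq_one hy1)
  interval_cases r
  · exfalso
    rw [pow_zero, g1_one h2] at h
    exact one_ne_zero h
  · decide
  · exact (key 1 (by rwa [pow_one]) (by decide) h).elim
  · decide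
  · decide
  · decide
  · exact (key 3 h3 (by decide) h).elim
  · exact (key 9 h9 (by decide) h).elim
  · exact (key 4 h4 (by decide) h).elim
  · decide
  · exact (key 5 h5 (by decide) h).elim

/-- a ring involution of `L` acting as the Frobenius `c ↦ c ^ 2` on `F` swaps the two quintics -/
theorem tau_g1 {ω : F} (hω : ω ^ 2 = ω + 1) (h2 : (2 : F) = 0) (τ : L →+* L)
    (hτc : ∀ c : F, τ (algebraMap F L c) = algebraMap F L (c ^ 2)) (z : L) :
    τ (g1 ω z) = g2 ω (τ z) := by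
  have ha : (algebraMap F L ω) ^ 2 = algebraMap F L ω + 1 := by rw [← map_pow, hω, map_add, map_one]
  have h2' : (2 : L) = 0 := two_eq_zero_alg h2
  unfold g1 g2
  simp only [Algebra.smul_def, map_add, map_mul, map_pow, map_one, hτc]
  generalize algebraMap F L ω = a at ha ⊢
  generalize τ z = t
  linear_combination (t ^ 4 + t) * ha + t * h2'

/-- the involution inverts `ζ` -/
theorem tau_eq_pow_ten {ω : F} (hω : ω ^ 2 = ω + 1) (h2 : (2 : F) = 0) (τ : L →+* L)
    (hττ : ∀ y, τ (τ y) = y) (hτc : ∀ c : F, τ (algebraMap F L c) = algebraMap F L (c ^ 2))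
    {x : L} (hord : orderOf x = 11) (h1 : g1 ω x = 0) : τ x = x ^ 10 := by
  have h11 : x ^ 11 = 1 := by rw [← hord]; exact pow_orderOf_eq_one x
  have hprim : IsPrimitiveRoot x 11 := hord ▸ IsPrimitiveRoot.orderOf x
  have ht11 : (τ x) ^ 11 = 1 := by rw [← map_pow, h11, map_one]
  obtain ⟨e, he, hxe⟩ := hprim.eq_pow_of_pow_eq_one ht11
  have hee : x ^ (e * e) = x ^ 1 := by
    rw [pow_mul, hxe, ← map_pow, hxe, hττ, pow_one]
  have hmod : e * e % 11 = 1 % 11 := pow_eq_pow_mod hord hee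
  have hg2 : g2 ω (τ x) = 0 := by rw [← tau_g1 hω h2 τ hτc, h1, map_zero]
  have hcases : e = 1 ∨ e = 10 := by
    interval_cases e <;>
      first | exact Or.inl rfl | exact Or.inr rfl | exact absurd hmod (by decide)
  rcases hcases with rfl | rfl
  · exfalso
    rw [pow_one] at hxe
    rw [← hxe] at hg2
    have := eq_one_of_roots h2 h11 h1 hg2
    rw [this, orderOf_one] at hord
    omega
  · exact hxe.symm

/-- `1, ζ, ..., ζ ^ 4` are linearly independent over `F` -/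
theorem indep_pow [Fintype F] (hF : Fintype.card F = 4) {x : L} (hord : orderOf x = 11) (c : Fin 5 → F)
    (h : ∑ i : Fin 5, c i • x ^ (i : ℕ) = 0) : c = 0 := by
  haveI : CharP F 2 := CharTwo.of_one_ne_zero_of_two_eq_zero one_ne_zero (two_eq_zero_of_card hF)
  haveI : CharP L 2 := charP_of_injective_algebraMap (algebraMap F L).injective 2
  -- Frobenius: the polynomial vanishes at `x ^ 4 ^ j`
  have hfrob : ∀ z : L, ∑ i : Fin 5, c i • z ^ (i : ℕ) = 0 → ∑ i : Fin 5, c i • (z ^ 4) ^ (i : ℕ) = 0 := by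
    intro z hz
    have h4 : (∑ i : Fin 5, c i • z ^ (i : ℕ)) ^ 2 ^ 2 = 0 := by rw [hz]; norm_num
    rw [sum_pow_char_pow] at h4
    rw [← h4]
    refine Finset.sum_congr rfl (fun i _ => ?_)
    have hc : (c i) ^ 2 ^ 2 = c i := by
      have : (c i) ^ 4 = c i := by rw [← hF, FiniteField.pow_card]
      simpa using this
    rw [smul_pow, hc]
    congr 1
    ring
  have hroots : ∀ j : ℕ, ∑ i : Fin 5, c i • (x ^ 4 ^ j) ^ (i : ℕ) = 0 := by
    intro j
    induction j with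
    | zero => simpa using h
    | succ j ih =>
      have := hfrob _ ih
      rwa [← pow_mul, ← pow_succ] at this
  have hinj : Function.Injective (fun j : Fin 5 => x ^ 4 ^ (j : ℕ)) := by
    intro i j hij
    exact four_pow_inj i j (pow_eq_pow_mod hord hij)
  have hv : (fun i : Fin 5 => algebraMap F L (c i)) = 0 := by
    apply Matrix.eq_zero_of_forall_index_sum_mul_pow_eq_zero hinj
    intro j
    have := hroots j
    simpa [Algebra.smul_def] using this
  funext i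
  have := congrFun hv i
  simpa using this

/-- all the field theory, packaged -/
theorem package [Fintype F] [Finite L] (hF : Fintype.card F = 4) (hcard : Nat.card L = 1024)
    (τ : L →+* L) (hττ : ∀ y, τ (τ y) = y)
    (hτc : ∀ c : F, τ (algebraMap F L c) = algebraMap F L (c ^ 2)) :
    ∃ (x : L) (ω : F), ω ^ 2 = ω + 1 ∧ orderOf x = 11 ∧ g1 ω x = 0 ∧ τ x = x ^ 10 ∧
      (∀ y : L, y ^ 11 = 1 → g1 ω y = 0 → ∃ r ∈ ({1, 3, 4, 5, 9} : Finset ℕ), y = x ^ r) ∧
      (∀ c : Fin 5 → F, ∑ i : Fin 5, c i • x ^ (i : ℕ) = 0 → c = 0) := by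
  have h2 : (2 : F) = 0 := two_eq_zero_of_card hF
  obtain ⟨ω₀, hω₀⟩ := exists_omega' hF
  have hcardU : Nat.card Lˣ = 1023 := by rw [Nat.card_units, hcard]
  haveI : Fact (Nat.Prime 11) := ⟨by norm_num⟩
  obtain ⟨u, hu⟩ := exists_prime_orderOf_dvd_card' (G := Lˣ) 11 (by rw [hcardU]; norm_num)
  have hord : orderOf (u : L) = 11 := by rw [orderOf_units, hu]
  have h11 : (u : L) ^ 11 = 1 := by rw [← hord]; exact pow_orderOf_eq_one _
  have hprim : IsPrimitiveRoot (u : L) 11 := hord ▸ IsPrimitiveRoot.orderOf (u : L)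
  obtain ⟨ω, hω, h1⟩ : ∃ ω : F, ω ^ 2 = ω + 1 ∧ g1 ω (u : L) = 0 := by
    have hI := I1 (L := L) hω₀ h2 (u : L)
    rw [h11, sub_self] at hI
    rcases mul_eq_zero.1 hI with h | h
    · rcases mul_eq_zero.1 h with h | h
      · exfalso
        have : (u : L) = 1 := sub_eq_zero.1 h
        rw [this, orderOf_one] at hord
        omega
      · exact ⟨ω₀, hω₀, h⟩
    · refine ⟨ω₀ + 1, by linear_combination hω₀ + ω₀ * h2, ?_⟩
      rw [← g2_eq_g1 h2]
      exact h
  refine ⟨(u : L), ω, hω, hord, h1, tau_eq_pow_ten hω h2 τ hττ hτc hord h1, ?_, ?_⟩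
  · intro y hy11 hy1
    obtain ⟨r, hr, hxr⟩ := hprim.eq_pow_of_pow_eq_one hy11
    rw [← hxr] at hy1
    exact ⟨r, mem_of_g1_pow hω h2 hord h1 hr hy1, hxr.symm⟩
  · exact fun c hc => indep_pow hF hord c hc

end field

/-! ### the subalgebra -/

section coe
variable {F A : Type*} [Field F] [Ring A] [Algebra F A]

theorem coe_g1 (K : Subalgebra F A) (ω : F) (z : ↥K) : ((g1 ω z : ↥K) : A) = g1 ω (z : A) := by
  unfold g1
  simp only [Subalgebra.coe_add, Subalgebra.coe_smul, Subalgebra.coe_pow, Subalgebra.coe_one]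

end coe

section main
open Cfsg.Agent.Lib.Helper18.AschC3 Cfsg.Agent.Lib.Helper18.FormField Cfsg.Agent.Lib.Helper18.S5663U2

variable {F : Type*} [Field F] [Fintype F]

/-- **X5-A**: a Singer element `ζ` of order 11 in an adjoint-closed degree-5 field subalgebra of `M_5(F_4)`. -/
theorem exists_zeta (hF : Fintype.card F = 2 ^ 2) (K : Subalgebra F (Matrix (Fin 5) (Fin 5) F))
    (hK : IsFieldSubalgebra 5 K) (hadj : IsAdjointClosedFor (hermForm 5 F 2) K) :
    ∃ (ζ : Matrix (Fin 5) (Fin 5) F) (ω : F), ζ ∈ K ∧ ω ^ 2 = ω + 1 ∧ ζ ^ 11 = 1 ∧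
      ζ ^ 5 + ω • ζ ^ 4 + ζ ^ 3 + ζ ^ 2 + (ω + 1) • ζ + 1 = 0 ∧
      (∀ u v : Fin 5 → F, hermForm 5 F 2 (ζ *ᵥ u) v = hermForm 5 F 2 u ((ζ ^ 10) *ᵥ v)) ∧
      (∀ g : GL (Fin 5) F, g ∈ subalgebraNormalizer K →
        ∃ r ∈ ({1, 3, 4, 5, 9} : Finset ℕ),
          ((g⁻¹ : GL (Fin 5) F) : Matrix (Fin 5) (Fin 5) F) * ζ * (g : Matrix (Fin 5) (Fin 5) F) = ζ ^ r) ∧
      (∀ v : Fin 5 → F, v ≠ 0 → ∀ c : Fin 5 → F,
        (∑ i : Fin 5, c i • ((ζ ^ (i : ℕ)) *ᵥ v)) = 0 → c = 0) := by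
  classical
  have hF4 : Fintype.card F = 4 := by rw [hF]; norm_num
  have hf : AdjForm (hermForm 5 F 2) := adjForm_hermForm hF
  have hpack : ∃ (x : ↥K) (ω : F), ω ^ 2 = ω + 1 ∧ orderOf x = 11 ∧ g1 ω x = 0 ∧
      adjFun K hadj x = x ^ 10 ∧
      (∀ y : ↥K, y ^ 11 = 1 → g1 ω y = 0 → ∃ r ∈ ({1, 3, 4, 5, 9} : Finset ℕ), y = x ^ r) ∧
      (∀ c : Fin 5 → F, ∑ i : Fin 5, c i • x ^ (i : ℕ) = 0 → c = 0) := by
    letI := fieldOf K hK
    have hcardK : Nat.card ↥K = 1024 := by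
      rw [Module.natCard_eq_pow_finrank (K := F) (V := ↥K), hK.finrank_eq, Nat.card_eq_fintype_card, hF4]
      norm_num
    have hττ : ∀ y, (adjK hf K hK.comm hadj) ((adjK hf K hK.comm hadj) y) = y :=
      fun y => adjFun_adjFun hf K hadj y
    have hcq : ∀ c : F, (c ^ 2) ^ 2 = c := by
      intro c
      rw [← pow_mul, show 2 * 2 = Fintype.card F from hF4.symm, FiniteField.pow_card]
    have hτc : ∀ c : F, (adjK hf K hK.comm hadj) (algebraMap F ↥K c) = algebraMap F ↥K (c ^ 2) := by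
      intro c
      apply Subtype.ext
      apply adjFun_eq hf K hadj
      intro u v
      change hermForm 5 F 2 ((algebraMap F (Matrix (Fin 5) (Fin 5) F) c) *ᵥ u) v =
        hermForm 5 F 2 u ((algebraMap F (Matrix (Fin 5) (Fin 5) F) (c ^ 2)) *ᵥ v)
      rw [Algebra.algebraMap_eq_smul_one, Algebra.algebraMap_eq_smul_one, Matrix.smul_mulVec, Matrix.smul_mulVec,
        Matrix.one_mulVec, Matrix.one_mulVec, hf.smul_left, hermForm_smul_right, hcq]
    exact package hF4 hcardK (adjK hf K hK.comm hadj) hττ hτc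
  obtain ⟨x, ω, hω, hord, h1, hτx, hroots, hindep⟩ := hpack
  have h11 : x ^ 11 = 1 := by rw [← hord]; exact pow_orderOf_eq_one x
  have hζ11 : (x : Matrix (Fin 5) (Fin 5) F) ^ 11 = 1 := by
    rw [← Subalgebra.coe_pow, h11, Subalgebra.coe_one]
  have hζg1 : g1 ω (x : Matrix (Fin 5) (Fin 5) F) = 0 := by
    rw [← coe_g1, h1, Subalgebra.coe_zero]
  refine ⟨(x : Matrix (Fin 5) (Fin 5) F), ω, x.2, hω, hζ11, hζg1, ?_, ?_, ?_⟩
  · intro u v
    have := adjFun_spec K hadj x u v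
    rw [hτx, Subalgebra.coe_pow] at this
    exact this
  · intro g hg
    have hg' := (subalgebraNormalizer K).inv_mem hg
    have hy : ((g⁻¹ : GL (Fin 5) F) : Matrix (Fin 5) (Fin 5) F) * (x : Matrix (Fin 5) (Fin 5) F) *
        (g : Matrix (Fin 5) (Fin 5) F) ∈ K := by
      have := (hg' (x : Matrix (Fin 5) (Fin 5) F)).1 x.2
      rwa [inv_inv] at this
    have hy11 : (⟨_, hy⟩ : ↥K) ^ 11 = 1 := by
      apply Subtype.ext
      rw [Subalgebra.coe_pow, Subalgebra.coe_one]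
      change (((g⁻¹ : GL (Fin 5) F) : Matrix (Fin 5) (Fin 5) F) * (x : Matrix (Fin 5) (Fin 5) F) *
        (g : Matrix (Fin 5) (Fin 5) F)) ^ 11 = 1
      rw [Units.conj_pow', hζ11, mul_one, Units.inv_mul]
    have hyg1 : g1 ω (⟨_, hy⟩ : ↥K) = 0 := by
      apply Subtype.ext
      rw [coe_g1, Subalgebra.coe_zero]
      change g1 ω (((g⁻¹ : GL (Fin 5) F) : Matrix (Fin 5) (Fin 5) F) * (x : Matrix (Fin 5) (Fin 5) F) *
        (g : Matrix (Fin 5) (Fin 5) F)) = 0
      rw [g1_conj, hζg1, mul_zero, zero_mul]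
    obtain ⟨r, hr, hyr⟩ := hroots ⟨_, hy⟩ hy11 hyg1
    refine ⟨r, hr, ?_⟩
    have := congrArg Subtype.val hyr
    rw [Subalgebra.coe_pow] at this
    exact this
  · intro v hv c hc
    apply hindep c
    apply Subtype.ext
    rw [Subalgebra.coe_zero]
    by_contra hk
    obtain ⟨y, hyK, hy⟩ := hK.inv _ (Subtype.mem _) hk
    have hy' := (hK.comm _ (Subtype.mem _) y hyK).symm.trans hy
    apply hv
    have hkv : ((∑ i : Fin 5, c i • x ^ (i : ℕ) : ↥K) : Matrix (Fin 5) (Fin 5) F) *ᵥ v = 0 := by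
      rw [← hc]
      rw [show ((∑ i : Fin 5, c i • x ^ (i : ℕ) : ↥K) : Matrix (Fin 5) (Fin 5) F) =
        ∑ i : Fin 5, c i • (x : Matrix (Fin 5) (Fin 5) F) ^ (i : ℕ) by
          simp only [AddSubmonoidClass.coe_finsetSum, Subalgebra.coe_smul, Subalgebra.coe_pow]]
      rw [Matrix.sum_mulVec]
      refine Finset.sum_congr rfl (fun i _ => ?_)
      rw [Matrix.smul_mulVec]
    calc v = (1 : Matrix (Fin 5) (Fin 5) F) *ᵥ v := (Matrix.one_mulVec v).symm
      _ = (y * ((∑ i : Fin 5, c i • x ^ (i : ℕ) : ↥K) : Matrix (Fin 5) (Fin 5) F)) *ᵥ v := by rw [hy']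
      _ = 0 := by rw [← Matrix.mulVec_mulVec, hkv, Matrix.mulVec_zero]

end main

end Cfsg.Agent.Lib.Helper2.S5796X5A
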