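import Mathlib
import Cfsg.Prelude.Def_GeometricClasses
import Cfsg.Prelude.Def_LieClassical
import Cfsg.Agent.Lib.Helper18.FormField
import Cfsg.Agent.Lib.Helper18.S5663U2
import Cfsg.Agent.Lib.Helper2.S5796X5A
import Cfsg.Agent.Lib.Helper6.FFour
import Cfsg.Agent.Lib.Helper29.S5796CDefs

/-!
# S5796 (SU_5), piece X5-B: normalisation of the cyclic vector (helper2, for helper29)

For `ζ, ω` as delivered by `S5796X5A.exists_zeta` there is a vector `v ≠ 0` with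
`h(ζ ^ d v, v) = Tr_{K/F}(ζ ^ d)`, i.e. `1` for `d ≡ 0`, `ω` for `d ≡ 1, 3, 4, 5, 9` and `ω + 1` for
`d ≡ 2, 6, 7, 8, 10` modulo 11.  Hence the Gram matrix of `v, ζ v, ..., ζ ^ 4 v` is explicit.
-/

set_option autoImplicit false
set_option linter.style.haveILetI false

namespace Cfsg.Agent.Lib.Helper2.S5796X5B

open Matrix Cfsg Cfsg.Geo Cfsg.Agent.Lib.Helper2.S5796X5A

/-- the trace values `Tr(ζ ^ m)`, `m < 11` -/
def P {F : Type*} [Field F] (ω : F) (m : ℕ) : F :=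
  if m = 0 then 1 else if m ∈ ({1, 3, 4, 5, 9} : Finset ℕ) then ω else ω + 1

section abstract
variable {F L : Type*} [Field F] [Field L] [Algebra F L]

theorem rec_step {ω : F} (h2 : (2 : F) = 0) {x : L} (h1 : g1 ω x = 0) (ℓ : L →ₗ[F] F) (s : L) (d : ℕ) :
    ℓ (s * x ^ (d + 5)) = ω * ℓ (s * x ^ (d + 4)) + ℓ (s * x ^ (d + 3)) + ℓ (s * x ^ (d + 2)) +
      (ω + 1) * ℓ (s * x ^ (d + 1)) + ℓ (s * x ^ d) := by
  have h2' : (2 : L) = 0 := two_eq_zero_alg h2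
  have hx : s * x ^ (d + 5) = ω • (s * x ^ (d + 4)) + s * x ^ (d + 3) + s * x ^ (d + 2) +
      (ω + 1) • (s * x ^ (d + 1)) + s * x ^ d := by
    unfold g1 at h1
    simp only [Algebra.smul_def, map_add, map_one] at h1 ⊢
    generalize algebraMap F L ω = a at h1 ⊢
    linear_combination (s * x ^ d) * h1 -
      (s * x ^ d * (a * x ^ 4 + x ^ 3 + x ^ 2 + (a + 1) * x + 1)) * h2'
  rw [hx]
  simp only [map_add, map_smul, smul_eq_mul]

theorem P_lt (ω : F) : ∀ m : ℕ, m < 11 → (P ω m = 1 ∧ m = 0) ∨ (P ω m = ω ∧ m ∈ ({1, 3, 4, 5, 9} : Finset ℕ)) ∨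
    (P ω m = ω + 1 ∧ m ∈ ({2, 6, 7, 8, 10} : Finset ℕ)) := by
  intro m hm
  interval_cases m <;> simp [P]

theorem normalise [Fintype F] [Finite L] (hF : Fintype.card F = 4) (hcard : Nat.card L = 1024)
    (τ : L →+* L) (hττ : ∀ y, τ (τ y) = y)
    {ω : F} (hω : ω ^ 2 = ω + 1) {x : L} (hord : orderOf x = 11) (h1 : g1 ω x = 0) (hτx : τ x = x ^ 10)
    (ℓ : L →ₗ[F] F) (hℓ0 : ℓ ≠ 0) (hℓτ : ∀ k, ℓ (τ k) = ℓ k ^ 2) :
    ∃ r : L, r ≠ 0 ∧ ∀ d : ℕ, ℓ (τ r * r * x ^ d) = P ω (d % 11) := by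
  classical
  have h2 : (2 : F) = 0 := two_eq_zero_of_card hF
  have h2' : (2 : L) = 0 := two_eq_zero_alg h2
  have h11 : x ^ 11 = 1 := by rw [← hord]; exact pow_orderOf_eq_one x
  have hcardF : Nat.card F = 4 := by rw [Nat.card_eq_fintype_card, hF]
  have hcardfun : Nat.card (Fin 5 → F) = 1024 := by
    rw [Nat.card_fun, hcardF, Nat.card_eq_fintype_card, Fintype.card_fin]; norm_num
  haveI : Finite (Fin 5 → F) := inferInstance
  -- the basis `y i = x ^ (i - 2)`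
  have hΨinj : Function.Injective (fun c : Fin 5 → F => ∑ i : Fin 5, c i • x ^ ((i : ℕ) + 9)) := by
    intro c c' h
    have h0 : ∑ i : Fin 5, (c - c') i • x ^ (i : ℕ) = 0 := by
      have h' : ∑ i : Fin 5, (c i • x ^ ((i : ℕ) + 9) - c' i • x ^ ((i : ℕ) + 9)) = 0 := by
        rw [Finset.sum_sub_distrib]; exact sub_eq_zero.2 h
      have : ∑ i : Fin 5, (c - c') i • x ^ (i : ℕ) =
          x ^ 2 * ∑ i : Fin 5, (c i • x ^ ((i : ℕ) + 9) - c' i • x ^ ((i : ℕ) + 9)) := by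
        rw [Finset.mul_sum]
        refine Finset.sum_congr rfl (fun i _ => ?_)
        rw [Pi.sub_apply, sub_smul, mul_sub, mul_smul_comm, mul_smul_comm, ← pow_add,
          show 2 + ((i : ℕ) + 9) = (i : ℕ) + 11 by ring, pow_add, h11, mul_one]
      rw [this, h', mul_zero]
    have := indep_pow hF hord (c - c') h0
    exact sub_eq_zero.1 this
  have hΨsurj : Function.Surjective (fun c : Fin 5 → F => ∑ i : Fin 5, c i • x ^ ((i : ℕ) + 9)) :=
    (hΨinj.bijective_of_nat_card_le (by rw [hcard, hcardfun])).2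
  -- the map `Φ`
  have hΦadd : ∀ s s' : L, (fun i : Fin 5 => ℓ ((s - s') * x ^ ((i : ℕ) + 9))) =
      (fun i : Fin 5 => ℓ (s * x ^ ((i : ℕ) + 9))) - (fun i : Fin 5 => ℓ (s' * x ^ ((i : ℕ) + 9))) := by
    intro s s'
    funext i
    rw [Pi.sub_apply, sub_mul, map_sub]
  have hΦker : ∀ s : L, (fun i : Fin 5 => ℓ (s * x ^ ((i : ℕ) + 9))) = 0 → s = 0 := by
    intro s hs
    by_contra hs0
    apply hℓ0
    apply LinearMap.ext
    intro k
    obtain ⟨c, hc⟩ := hΨsurj (s⁻¹ * k)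
    have hk : k = ∑ i : Fin 5, c i • (s * x ^ ((i : ℕ) + 9)) := by
      have : k = s * (s⁻¹ * k) := by rw [← mul_assoc, mul_inv_cancel₀ hs0, one_mul]
      rw [this, ← hc, Finset.mul_sum]
      refine Finset.sum_congr rfl (fun i _ => ?_)
      rw [mul_smul_comm]
    rw [hk, map_sum, LinearMap.zero_apply]
    refine Finset.sum_eq_zero (fun i _ => ?_)
    rw [map_smul, congrFun hs i, Pi.zero_apply, smul_zero]
  have hΦinj : Function.Injective (fun s : L => (fun i : Fin 5 => ℓ (s * x ^ ((i : ℕ) + 9)))) := by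
    intro s s' h
    have := hΦker (s - s') (by rw [hΦadd]; exact sub_eq_zero.2 h)
    exact sub_eq_zero.1 this
  haveI : Finite L := inferInstance
  have hΦsurj : Function.Surjective (fun s : L => (fun i : Fin 5 => ℓ (s * x ^ ((i : ℕ) + 9)))) :=
    (hΦinj.bijective_of_nat_card_le (by rw [hcard, hcardfun])).2
  -- the element `s`
  obtain ⟨s, hs⟩ := hΦsurj (fun i : Fin 5 => P ω (((i : ℕ) + 9) % 11))
  have hsv : ∀ i : Fin 5, ℓ (s * x ^ ((i : ℕ) + 9)) = P ω (((i : ℕ) + 9) % 11) := fun i => congrFun hs i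
  have hω2 : (ω + 1) ^ 2 = ω := by linear_combination hω + (ω + 1) * h2
  -- `s` is fixed by `τ`
  have hτpow : ∀ m : ℕ, τ (x ^ m) = x ^ (10 * m) := by
    intro m
    rw [map_pow, hτx, ← pow_mul]
  have v9 : ℓ (s * x ^ 9) = ω := by simpa [P] using hsv 0
  have v10 : ℓ (s * x ^ 10) = ω + 1 := by simpa [P] using hsv 1
  have v11 : ℓ (s * x ^ 11) = 1 := by simpa [P] using hsv 2
  have v12 : ℓ (s * x ^ 12) = ω := by simpa [P] using hsv 3
  have v13 : ℓ (s * x ^ 13) = ω + 1 := by simpa [P] using hsv 4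
  have hflip : ∀ m m' : ℕ, (10 * m) % 11 = m' % 11 → ℓ (τ s * x ^ m) = ℓ (s * x ^ m') ^ 2 := by
    intro m m' hmm
    have e1 : τ s * x ^ m = τ (s * x ^ m') := by
      rw [map_mul, hτpow, pow_reduce h11 (10 * m'), pow_reduce h11 m]
      congr 2
      omega
    rw [e1, hℓτ]
  have hτs : τ s = s := by
    apply hΦinj
    funext i
    fin_cases i
    · change ℓ (τ s * x ^ 9) = ℓ (s * x ^ 9)
      rw [hflip 9 13 (by norm_num), v13, v9, hω2]
    · change ℓ (τ s * x ^ 10) = ℓ (s * x ^ 10)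
      rw [hflip 10 12 (by norm_num), v12, v10, hω]
    · change ℓ (τ s * x ^ 11) = ℓ (s * x ^ 11)
      rw [hflip 11 11 (by norm_num), v11, one_pow]
    · change ℓ (τ s * x ^ 12) = ℓ (s * x ^ 12)
      rw [hflip 12 10 (by norm_num), v10, v12, hω2]
    · change ℓ (τ s * x ^ 13) = ℓ (s * x ^ 13)
      rw [hflip 13 9 (by norm_num), v9, v13, hω]
  have hs0 : s ≠ 0 := by
    rintro rfl
    rw [zero_mul, map_zero] at v11
    exact zero_ne_one v11
  -- the recurrence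
  have hω1 : ω * (ω + 1) = 1 := by linear_combination hω + ω * h2
  have v14 : ℓ (s * x ^ 14) = ω := by
    rw [rec_step h2 h1 ℓ s 9, v13, v12, v11, v10, v9]
    linear_combination 2 * hω + (2 + 3 * ω) * h2
  have v15 : ℓ (s * x ^ 15) = ω := by
    rw [rec_step h2 h1 ℓ s 10, v14, v13, v12, v11, v10]
    linear_combination hω + (2 + 2 * ω) * h2
  have v16 : ℓ (s * x ^ 16) = ω := by
    rw [rec_step h2 h1 ℓ s 11, v15, v14, v13, v12, v11]
    linear_combination 2 * hω + (2 + 2 * ω) * h2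
  have v17 : ℓ (s * x ^ 17) = ω + 1 := by
    rw [rec_step h2 h1 ℓ s 12, v16, v15, v14, v13, v12]
    linear_combination 2 * hω + (1 + 3 * ω) * h2
  have v18 : ℓ (s * x ^ 18) = ω + 1 := by
    rw [rec_step h2 h1 ℓ s 13, v17, v16, v15, v14, v13]
    linear_combination 2 * hω + (1 + 3 * ω) * h2
  have v19 : ℓ (s * x ^ 19) = ω + 1 := by
    rw [rec_step h2 h1 ℓ s 14, v18, v17, v16, v15, v14]
    linear_combination 2 * hω + (1 + 3 * ω) * h2
  have hval : ∀ (m' : ℕ) (val : F), ℓ (s * x ^ m') = val → ℓ (s * x ^ (m' % 11)) = val :=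
    fun m' val h => by rw [← pow_reduce h11]; exact h
  have hall : ∀ m : ℕ, m < 11 → ℓ (s * x ^ m) = P ω m := by
    intro m hm
    interval_cases m
    · rw [hval 11 _ v11]; simp [P]
    · rw [hval 12 _ v12]; simp [P]
    · rw [hval 13 _ v13]; simp [P]
    · rw [hval 14 _ v14]; simp [P]
    · rw [hval 15 _ v15]; simp [P]
    · rw [hval 16 _ v16]; simp [P]
    · rw [hval 17 _ v17]; simp [P]
    · rw [hval 18 _ v18]; simp [P]
    · rw [hval 19 _ v19]; simp [P]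
    · rw [v9]; simp [P]
    · rw [v10]; simp [P]
  -- the square root
  haveI : Fintype L := Fintype.ofFinite L
  have hcardL : Fintype.card L = 1024 := by rw [← Nat.card_eq_fintype_card, hcard]
  have hs1024 : s ^ 1024 = s := by rw [← hcardL, FiniteField.pow_card]
  refine ⟨s ^ 512, pow_ne_zero _ hs0, ?_⟩
  intro d
  have hr : τ (s ^ 512) * s ^ 512 = s := by
    rw [map_pow, hτs, ← pow_add]
    exact hs1024
  rw [hr, pow_reduce h11 d]
  exact hall _ (Nat.mod_lt _ (by norm_num))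

end abstract

/-! ### the subalgebra version -/

section main
open Cfsg.Agent.Lib.Helper18.AschC3 Cfsg.Agent.Lib.Helper18.FormField Cfsg.Agent.Lib.Helper18.S5663U2

variable {F : Type*} [Field F] [Fintype F]

/-- **X5-N, with the field subalgebra as a hypothesis**: the normalised cyclic vector -/
theorem exists_normalized_of_field (hF : Fintype.card F = 2 ^ 2) (K : Subalgebra F (Matrix (Fin 5) (Fin 5) F))
    (hK : IsFieldSubalgebra 5 K) (hadjK : IsAdjointClosedFor (hermForm 5 F 2) K)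
    (ζ : Matrix (Fin 5) (Fin 5) F) (ω : F) (hζK : ζ ∈ K) (hω : ω ^ 2 = ω + 1) (hz : ζ ^ 11 = 1)
    (hquint : ζ ^ 5 + ω • ζ ^ 4 + ζ ^ 3 + ζ ^ 2 + (ω + 1) • ζ + 1 = 0)
    (hadj : ∀ u v : Fin 5 → F, hermForm 5 F 2 (ζ *ᵥ u) v = hermForm 5 F 2 u ((ζ ^ 10) *ᵥ v)) :
    ∃ v : Fin 5 → F, v ≠ 0 ∧ ∀ d : ℕ, hermForm 5 F 2 ((ζ ^ d) *ᵥ v) v = P ω (d % 11) := by
  classical
  have hF4 : Fintype.card F = 4 := by rw [hF]; norm_num
  have h2 : (2 : F) = 0 := two_eq_zero_of_card hF4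
  have hf : AdjForm (hermForm 5 F 2) := adjForm_hermForm hF
  -- the base vector
  obtain ⟨v₀, hv₀⟩ : ∃ v₀ : Fin 5 → F, v₀ ≠ 0 := ⟨Pi.single 0 1, by
    intro h
    have := congrFun h 0
    simp at this⟩
  -- the evaluation map `k ↦ k v₀` is onto
  have hinjK : ∀ k : ↥K, (k : Matrix (Fin 5) (Fin 5) F) *ᵥ v₀ = 0 → k = 0 := by
    intro k hk
    by_contra hk0
    have hk0' : (k : Matrix (Fin 5) (Fin 5) F) ≠ 0 := fun h => hk0 (Subtype.ext h)
    obtain ⟨y, hyK, hy⟩ := hK.inv _ k.2 hk0'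
    have hy' := (hK.comm _ k.2 y hyK).symm.trans hy
    apply hv₀
    calc v₀ = (1 : Matrix (Fin 5) (Fin 5) F) *ᵥ v₀ := (Matrix.one_mulVec v₀).symm
      _ = (y * (k : Matrix (Fin 5) (Fin 5) F)) *ᵥ v₀ := by rw [hy']
      _ = 0 := by rw [← Matrix.mulVec_mulVec, hk, Matrix.mulVec_zero]
  let ev : ↥K →ₗ[F] (Fin 5 → F) :=
    { toFun := fun k => (k : Matrix (Fin 5) (Fin 5) F) *ᵥ v₀
      map_add' := fun a b => by rw [Subalgebra.coe_add, Matrix.add_mulVec]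
      map_smul' := fun c a => by rw [Subalgebra.coe_smul, Matrix.smul_mulVec, RingHom.id_apply] }
  have hevinj : Function.Injective ev := by
    rw [← LinearMap.ker_eq_bot, LinearMap.ker_eq_bot']
    exact fun k hk => hinjK k hk
  have hevsurj : Function.Surjective ev := by
    haveI : FiniteDimensional F ↥K := FiniteDimensional.of_finrank_pos (by rw [hK.finrank_eq]; norm_num)
    refine (LinearMap.injective_iff_surjective_of_finrank_eq_finrank ?_).1 hevinj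
    rw [hK.finrank_eq, Module.finrank_fintype_fun_eq_card, Fintype.card_fin]
  -- the functional
  let ℓ : ↥K →ₗ[F] F :=
    { toFun := fun k => hermForm 5 F 2 ((k : Matrix (Fin 5) (Fin 5) F) *ᵥ v₀) v₀
      map_add' := fun a b => by rw [Subalgebra.coe_add, Matrix.add_mulVec, hf.add_left]
      map_smul' := fun c a => by
        rw [Subalgebra.coe_smul, Matrix.smul_mulVec, hf.smul_left, RingHom.id_apply, smul_eq_mul] }
  have hℓ0 : ℓ ≠ 0 := by
    intro h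
    obtain ⟨w, hw⟩ := (hf.nondeg v₀ hv₀).1
    obtain ⟨k, hk⟩ := hevsurj w
    apply hw
    have := LinearMap.congr_fun h k
    rw [← hk]
    exact this
  have hℓτ : ∀ k : ↥K, ℓ (adjFun K hadjK k) = ℓ k ^ 2 := by
    intro k
    change hermForm 5 F 2 ((adjFun K hadjK k : Matrix (Fin 5) (Fin 5) F) *ᵥ v₀) v₀ =
      hermForm 5 F 2 ((k : Matrix (Fin 5) (Fin 5) F) *ᵥ v₀) v₀ ^ 2
    rw [hf.adj_symm _ _ (adjFun_spec K hadjK k) v₀ v₀, hermForm_swap hF]
  -- the element `x`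
  have hx11 : (⟨ζ, hζK⟩ : ↥K) ^ 11 = 1 := Subtype.ext (by rw [Subalgebra.coe_pow, Subalgebra.coe_one]; exact hz)
  have hx1 : (⟨ζ, hζK⟩ : ↥K) ≠ 1 := by
    intro h
    have hζ1 : ζ = 1 := congrArg Subtype.val h
    rw [hζ1] at hquint
    simp only [one_pow] at hquint
    have h00 := congrFun (congrFun hquint 0) 0
    simp only [Matrix.add_apply, Matrix.smul_apply, Matrix.one_apply_eq, Matrix.zero_apply, smul_eq_mul,
      mul_one] at h00
    have : (1 : F) = 0 := by linear_combination h00 - (ω + 2) * h2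
    exact one_ne_zero this
  have hg1x : g1 ω (⟨ζ, hζK⟩ : ↥K) = 0 := by
    apply Subtype.ext
    rw [coe_g1, Subalgebra.coe_zero]
    exact hquint
  have hpack : ∃ r : ↥K, r ≠ 0 ∧ ∀ d : ℕ,
      ℓ (adjFun K hadjK r * r * (⟨ζ, hζK⟩ : ↥K) ^ d) = P ω (d % 11) := by
    letI := fieldOf K hK
    have hord : orderOf (⟨ζ, hζK⟩ : ↥K) = 11 := by
      haveI : Fact (Nat.Prime 11) := ⟨by norm_num⟩
      exact orderOf_eq_prime hx11 hx1
    have hcardK : Nat.card ↥K = 1024 := by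
      rw [Module.natCard_eq_pow_finrank (K := F) (V := ↥K), hK.finrank_eq, Nat.card_eq_fintype_card, hF4]
      norm_num
    have hττ : ∀ y, (adjK hf K hK.comm hadjK) ((adjK hf K hK.comm hadjK) y) = y :=
      fun y => adjFun_adjFun hf K hadjK y
    have hτx : (adjK hf K hK.comm hadjK) (⟨ζ, hζK⟩ : ↥K) = (⟨ζ, hζK⟩ : ↥K) ^ 10 := by
      apply Subtype.ext
      rw [Subalgebra.coe_pow]
      exact adjFun_eq hf K hadjK ⟨ζ, hζK⟩ (ζ ^ 10) hadj
    haveI : Finite ↥K := Nat.finite_of_card_ne_zero (by rw [hcardK]; norm_num)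
    exact normalise hF4 hcardK (adjK hf K hK.comm hadjK) hττ hω hord hg1x hτx ℓ hℓ0 hℓτ
  obtain ⟨r, hr0, hr⟩ := hpack
  refine ⟨(r : Matrix (Fin 5) (Fin 5) F) *ᵥ v₀, fun h => hr0 (hinjK r h), ?_⟩
  intro d
  rw [← hr d]
  change _ = hermForm 5 F 2 (((adjFun K hadjK r * r * (⟨ζ, hζK⟩ : ↥K) ^ d : ↥K) :
    Matrix (Fin 5) (Fin 5) F) *ᵥ v₀) v₀
  rw [← hf.adj_symm _ _ (adjFun_spec K hadjK r), Matrix.mulVec_mulVec, Matrix.mulVec_mulVec]
  congr 2
  simp only [Subalgebra.coe_mul, Subalgebra.coe_pow]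
  have hc : (r : Matrix (Fin 5) (Fin 5) F) * ζ ^ d = ζ ^ d * (r : Matrix (Fin 5) (Fin 5) F) :=
    hK.comm _ r.2 _ (K.pow_mem hζK d)
  rw [mul_assoc, mul_assoc, hc]

end main

/-! ### the field `F[ζ]` -/

section adjoin
open Cfsg.Agent.Lib.Helper18.AschC3 Cfsg.Agent.Lib.Helper18.FormField Cfsg.Agent.Lib.Helper18.S5663U2
open Polynomial

variable {F : Type*} [Field F] [Fintype F]

/-- the quintic as a polynomial -/
noncomputable def quintic (ω : F) : F[X] := X ^ 5 + C ω * X ^ 4 + X ^ 3 + X ^ 2 + C (ω + 1) * X + 1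

theorem quintic_monic (ω : F) : (quintic ω).Monic := by
  unfold quintic
  monicity!

theorem quintic_natDegree (ω : F) : (quintic ω).natDegree = 5 := by
  unfold quintic
  compute_degree!

theorem aeval_quintic (ω : F) (ζ : Matrix (Fin 5) (Fin 5) F) :
    aeval ζ (quintic ω) = ζ ^ 5 + ω • ζ ^ 4 + ζ ^ 3 + ζ ^ 2 + (ω + 1) • ζ + 1 := by
  unfold quintic
  simp only [map_add, map_mul, map_pow, aeval_X, aeval_C, map_one, Algebra.smul_def]

/-- every element of `F[ζ]` is a combination of `1, ζ, ..., ζ ^ 4` -/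
theorem mem_adjoin_iff (ζ : Matrix (Fin 5) (Fin 5) F) (ω : F)
    (hquint : ζ ^ 5 + ω • ζ ^ 4 + ζ ^ 3 + ζ ^ 2 + (ω + 1) • ζ + 1 = 0) (k : Matrix (Fin 5) (Fin 5) F) :
    k ∈ Algebra.adjoin F {ζ} ↔ ∃ c : Fin 5 → F, k = ∑ i : Fin 5, c i • ζ ^ (i : ℕ) := by
  constructor
  · intro hk
    rw [Algebra.adjoin_singleton_eq_range_aeval] at hk
    obtain ⟨p, rfl⟩ := hk
    have hroot : aeval ζ (quintic ω) = 0 := by rw [aeval_quintic]; exact hquint
    have h1 : aeval ζ (p %ₘ quintic ω) = aeval ζ p := aeval_modByMonic_eq_self_of_root hroot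
    have hdeg : (p %ₘ quintic ω).natDegree < 5 := by
      have := natDegree_modByMonic_lt p (quintic_monic ω)
        (by intro h; have := quintic_natDegree ω; rw [h, natDegree_one] at this; omega)
      rwa [quintic_natDegree] at this
    refine ⟨fun i => (p %ₘ quintic ω).coeff (i : ℕ), ?_⟩
    change (aeval ζ) p = _
    rw [← h1, aeval_eq_sum_range' hdeg, Fin.sum_univ_eq_sum_range (fun i => (p %ₘ quintic ω).coeff i • ζ ^ i) 5]
  · rintro ⟨c, rfl⟩
    refine Subalgebra.sum_mem _ (fun i _ => Subalgebra.smul_mem _ (Subalgebra.pow_mem _ ?_ _) _)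
    exact Algebra.self_mem_adjoin_singleton F ζ

theorem comm_adjoin (ζ : Matrix (Fin 5) (Fin 5) F) :
    ∀ x ∈ Algebra.adjoin F {ζ}, ∀ y ∈ Algebra.adjoin F {ζ}, x * y = y * x := by
  intro x hx y hy
  rw [Algebra.adjoin_singleton_eq_range_aeval] at hx hy
  obtain ⟨p, rfl⟩ := hx
  obtain ⟨q, rfl⟩ := hy
  change (aeval ζ) p * (aeval ζ) q = (aeval ζ) q * (aeval ζ) p
  rw [← map_mul, ← map_mul, mul_comm]

/-- `F[ζ]` is a field of degree 5 -/
theorem isFieldSubalgebra_adjoin (ζ : Matrix (Fin 5) (Fin 5) F) (ω : F)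
    (hquint : ζ ^ 5 + ω • ζ ^ 4 + ζ ^ 3 + ζ ^ 2 + (ω + 1) • ζ + 1 = 0)
    (hind : ∀ v : Fin 5 → F, v ≠ 0 → ∀ c : Fin 5 → F,
      (∑ i : Fin 5, c i • ((ζ ^ (i : ℕ)) *ᵥ v)) = 0 → c = 0) :
    IsFieldSubalgebra 5 (Algebra.adjoin F {ζ}) := by
  classical
  have hζmem : ζ ∈ Algebra.adjoin F {ζ} := Algebra.self_mem_adjoin_singleton F ζ
  have hsum : ∀ (c : Fin 5 → F) (v : Fin 5 → F),
      (∑ i : Fin 5, c i • ζ ^ (i : ℕ)) *ᵥ v = ∑ i : Fin 5, c i • ((ζ ^ (i : ℕ)) *ᵥ v) := by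
    intro c v
    rw [Matrix.sum_mulVec]
    exact Finset.sum_congr rfl (fun i _ => Matrix.smul_mulVec _ _ _)
  -- a non-zero element kills no non-zero vector
  have hker : ∀ x ∈ Algebra.adjoin F {ζ}, x ≠ 0 → ∀ v : Fin 5 → F, x *ᵥ v = 0 → v = 0 := by
    intro x hx hx0 v hv
    obtain ⟨c, rfl⟩ := (mem_adjoin_iff ζ ω hquint x).1 hx
    by_contra hv0
    rw [hsum] at hv
    have := hind v hv0 c hv
    apply hx0
    rw [this]
    simp
  -- the coordinate map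
  let Ψ : (Fin 5 → F) →ₗ[F] ↥(Algebra.adjoin F {ζ}) :=
    { toFun := fun c => ⟨∑ i : Fin 5, c i • ζ ^ (i : ℕ), (mem_adjoin_iff ζ ω hquint _).2 ⟨c, rfl⟩⟩
      map_add' := fun a b => Subtype.ext (by
        simp only [Pi.add_apply, add_smul, Finset.sum_add_distrib, Subalgebra.coe_add])
      map_smul' := fun a b => Subtype.ext (by
        simp only [Pi.smul_apply, smul_eq_mul, mul_smul, Finset.smul_sum, Subalgebra.coe_smul,
          RingHom.id_apply]) }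
  have hΨinj : Function.Injective Ψ := by
    rw [← LinearMap.ker_eq_bot, LinearMap.ker_eq_bot']
    intro c hc
    have h0 : ∑ i : Fin 5, c i • ζ ^ (i : ℕ) = 0 := congrArg Subtype.val hc
    have hv0 : (Pi.single 0 1 : Fin 5 → F) ≠ 0 := by
      intro h
      have := congrFun h 0
      simp at this
    apply hind _ hv0 c
    rw [← hsum, h0, Matrix.zero_mulVec]
  have hΨsurj : Function.Surjective Ψ := by
    rintro ⟨k, hk⟩
    obtain ⟨c, hc⟩ := (mem_adjoin_iff ζ ω hquint k).1 hk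
    exact ⟨c, Subtype.ext hc.symm⟩
  have hfin : Module.finrank F ↥(Algebra.adjoin F {ζ}) = 5 := by
    rw [← (LinearEquiv.ofBijective Ψ ⟨hΨinj, hΨsurj⟩).finrank_eq, Module.finrank_fintype_fun_eq_card,
      Fintype.card_fin]
  refine ⟨comm_adjoin ζ, ?_, hfin⟩
  intro x hx hx0
  haveI : FiniteDimensional F ↥(Algebra.adjoin F {ζ}) :=
    FiniteDimensional.of_finrank_pos (by rw [hfin]; norm_num)
  let mx : ↥(Algebra.adjoin F {ζ}) →ₗ[F] ↥(Algebra.adjoin F {ζ}) := LinearMap.mulLeft F ⟨x, hx⟩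
  have hmxinj : Function.Injective mx := by
    rw [← LinearMap.ker_eq_bot, LinearMap.ker_eq_bot']
    intro k hk
    have h0 : x * (k : Matrix (Fin 5) (Fin 5) F) = 0 := congrArg Subtype.val hk
    apply Subtype.ext
    rw [Subalgebra.coe_zero]
    apply Matrix.mulVec_injective
    funext v
    rw [Matrix.zero_mulVec]
    apply hker x hx hx0
    rw [Matrix.mulVec_mulVec, h0, Matrix.zero_mulVec]
  obtain ⟨y, hy⟩ := (LinearMap.injective_iff_surjective.1 hmxinj) 1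
  refine ⟨(y : Matrix (Fin 5) (Fin 5) F), y.2, ?_⟩
  exact congrArg Subtype.val hy

/-- `F[ζ]` is closed under adjoints -/
theorem isAdjointClosedFor_adjoin (hF : Fintype.card F = 2 ^ 2) (ζ : Matrix (Fin 5) (Fin 5) F)
    (hadj : ∀ u v : Fin 5 → F, hermForm 5 F 2 (ζ *ᵥ u) v = hermForm 5 F 2 u ((ζ ^ 10) *ᵥ v)) :
    IsAdjointClosedFor (hermForm 5 F 2) (Algebra.adjoin F {ζ}) := by
  have hf : AdjForm (hermForm 5 F 2) := adjForm_hermForm hF
  have hζmem : ζ ∈ Algebra.adjoin F {ζ} := Algebra.self_mem_adjoin_singleton F ζ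
  intro k hk
  induction hk using Algebra.adjoin_induction with
  | mem x hx =>
    rw [Set.mem_singleton_iff] at hx
    subst hx
    exact ⟨x ^ 10, Subalgebra.pow_mem _ hζmem _, hadj⟩
  | algebraMap c =>
    refine ⟨algebraMap F _ (c ^ 2), Subalgebra.algebraMap_mem _ _, ?_⟩
    intro u v
    rw [Algebra.algebraMap_eq_smul_one, Algebra.algebraMap_eq_smul_one, Matrix.smul_mulVec, Matrix.smul_mulVec,
      Matrix.one_mulVec, Matrix.one_mulVec, hf.smul_left, hermForm_smul_right]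
    congr 1
    rw [← pow_mul, show 2 * 2 = Fintype.card F by rw [hF]; norm_num, FiniteField.pow_card]
  | add x y hx hy ihx ihy =>
    obtain ⟨x', hx', hxa⟩ := ihx
    obtain ⟨y', hy', hya⟩ := ihy
    exact ⟨x' + y', Subalgebra.add_mem _ hx' hy', IsAdj.add hf hxa hya⟩
  | mul x y hx hy ihx ihy =>
    obtain ⟨x', hx', hxa⟩ := ihx
    obtain ⟨y', hy', hya⟩ := ihy
    exact ⟨y' * x', Subalgebra.mul_mem _ hy' hx', IsAdj.mul hxa hya⟩

end adjoin

/-! ### the exact shape of `notes/S5796XSkel_helper29.lean.txt` -/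

section final
open Cfsg.Agent.Lib.Helper6.FFour

variable {F : Type*} [Field F] [Fintype F]

theorem P_eq_toF (ω : F) (hω : ω ^ 2 = ω + 1) (h2 : (2 : F) = 0) : ∀ d : ℕ, d < 11 →
    P ω d = toF ω hω h2 (Cfsg.Agent.Lib.Helper29.S5796C.g1 d) := by
  intro d hd
  interval_cases d <;> simp [P] <;> rfl

/-- **X5-N** (all `d`, and `v ≠ 0`) -/
theorem exists_normalized' (hF : Fintype.card F = 2 ^ 2) (ζ : Matrix (Fin 5) (Fin 5) F) (ω : F)
    (hω : ω ^ 2 = ω + 1) (hz : ζ ^ 11 = 1)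
    (hquint : ζ ^ 5 + ω • ζ ^ 4 + ζ ^ 3 + ζ ^ 2 + (ω + 1) • ζ + 1 = 0)
    (hadj : ∀ u v : Fin 5 → F, hermForm 5 F 2 (ζ *ᵥ u) v = hermForm 5 F 2 u ((ζ ^ 10) *ᵥ v))
    (hind : ∀ v : Fin 5 → F, v ≠ 0 → ∀ c : Fin 5 → F,
      (∑ i : Fin 5, c i • ((ζ ^ (i : ℕ)) *ᵥ v)) = 0 → c = 0) :
    ∃ v : Fin 5 → F, v ≠ 0 ∧ ∀ d : ℕ, hermForm 5 F 2 ((ζ ^ d) *ᵥ v) v = P ω (d % 11) :=
  exists_normalized_of_field hF (Algebra.adjoin F {ζ}) (isFieldSubalgebra_adjoin ζ ω hquint hind)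
    (isAdjointClosedFor_adjoin hF ζ hadj) ζ ω (Algebra.self_mem_adjoin_singleton F ζ) hω hz hquint hadj

/-- **X5-N**: exact signature of the skeleton (with `sigF` unfolded) -/
theorem exists_normalized (hF : Fintype.card F = 2 ^ 2) (ζ : Matrix (Fin 5) (Fin 5) F) (ω : F)
    (hω : ω ^ 2 = ω + 1) (h2 : (2 : F) = 0) (hz : ζ ^ 11 = 1)
    (hquint : ζ ^ 5 + ω • ζ ^ 4 + ζ ^ 3 + ζ ^ 2 + (ω + 1) • ζ + 1 = 0)
    (hadj : ∀ u v : Fin 5 → F, hermForm 5 F 2 (ζ *ᵥ u) v = hermForm 5 F 2 u ((ζ ^ 10) *ᵥ v))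
    (hind : ∀ v : Fin 5 → F, v ≠ 0 → ∀ c : Fin 5 → F,
      (∑ i : Fin 5, c i • ((ζ ^ (i : ℕ)) *ᵥ v)) = 0 → c = 0) :
    ∃ v : Fin 5 → F, ∀ d < 11, hermForm 5 F 2 ((ζ ^ d) *ᵥ v) v =
      toF ω hω h2 (Cfsg.Agent.Lib.Helper29.S5796C.g1 d) := by
  obtain ⟨v, -, hv⟩ := exists_normalized' hF ζ ω hω hz hquint hadj hind
  refine ⟨v, fun d hd => ?_⟩
  rw [hv d, Nat.mod_eq_of_lt hd]
  exact P_eq_toF ω hω h2 d hd

end final

end Cfsg.Agent.Lib.Helper2.S5796X5B
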