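import Mathlib
import Cfsg.Agent.Lib.Helper24.SLB.Defs
import Cfsg.Agent.Lib.Helper15.Bruhat

set_option autoImplicit false

/-! S4538 farm (architect helper24), leaf **[C]** `gg_SL`: the Gelfand–Graev representation of
`SL_n(F)` is multiplicity free.  This file proves the statement from the two generic leaves
**[A]** (Gelfand's trick) and **[B]** (block reversal permutations), taken as hypotheses
(specialised); `SLBC.lean` plugs in the official leaves. -/

namespace Cfsg.Agent.Lib.Helper24.SLB.Helper2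

open Matrix

variable {n : ℕ} {F : Type*} [Field F]

/-! ### the sum of the superdiagonal -/

/-- double-sum form of `superSum` -/
theorem superSum_eq (u : Matrix (Fin n) (Fin n) F) :
    superSum u = ∑ i : Fin n, ∑ j : Fin n, if i.val + 1 = j.val then u i j else 0 := by
  unfold superSum
  refine Finset.sum_congr rfl (fun i _ => ?_)
  split_ifs with h
  · rw [Finset.sum_eq_single (⟨i.val + 1, h⟩ : Fin n)]
    · simp
    · intro j _ hj
      rw [if_neg]
      intro h'
      exact hj (Fin.ext h'.symm)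
    · intro h'; exact absurd (Finset.mem_univ _) h'
  · symm
    apply Finset.sum_eq_zero
    intro j _
    rw [if_neg]
    intro h'
    exact h (h' ▸ j.isLt)

theorem superSum_add (A B : Matrix (Fin n) (Fin n) F) :
    superSum (A + B) = superSum A + superSum B := by
  simp only [superSum_eq, Matrix.add_apply]
  rw [← Finset.sum_add_distrib]
  refine Finset.sum_congr rfl (fun i _ => ?_)
  rw [← Finset.sum_add_distrib]
  refine Finset.sum_congr rfl (fun j _ => ?_)
  split_ifs <;> simp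

theorem superSum_one : superSum (1 : Matrix (Fin n) (Fin n) F) = 0 := by
  rw [superSum_eq]
  apply Finset.sum_eq_zero; intro i _; apply Finset.sum_eq_zero; intro j _
  split_ifs with h
  · rw [Matrix.one_apply_ne]
    intro hij; rw [hij] at h; omega
  · rfl

theorem superSum_single (a b : Fin n) (c : F) :
    superSum (Matrix.single a b c) = if a.val + 1 = b.val then c else 0 := by
  rw [superSum_eq, Finset.sum_eq_single a]
  · rw [Finset.sum_eq_single b]
    · simp
    · intro j _ hj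
      rw [Matrix.single_apply]
      simp [hj.symm]
    · intro h'; exact absurd (Finset.mem_univ _) h'
  · intro i _ hi
    apply Finset.sum_eq_zero
    intro j _
    rw [Matrix.single_apply]
    simp [hi.symm]
  · intro h'; exact absurd (Finset.mem_univ _) h'

theorem superSum_mul {u u' : Matrix (Fin n) (Fin n) F} (hu : u.BlockTriangular id)
    (hu1 : ∀ i, u i i = 1) (hu' : u'.BlockTriangular id) (hu1' : ∀ i, u' i i = 1) :
    superSum (u * u') = superSum u + superSum u' := by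
  simp only [superSum_eq]
  rw [← Finset.sum_add_distrib]
  refine Finset.sum_congr rfl (fun i _ => ?_)
  rw [← Finset.sum_add_distrib]
  refine Finset.sum_congr rfl (fun j _ => ?_)
  split_ifs with h
  · rw [Matrix.mul_apply]
    have hij : i ≠ j := by intro e; rw [e] at h; omega
    rw [Finset.sum_eq_add i j hij]
    · rw [hu1 i, hu1' j, one_mul, mul_one, add_comm]
    · intro l _ hl
      obtain ⟨hli, hlj⟩ := hl
      rcases lt_or_gt_of_ne hli with h1 | h1
      · rw [hu h1, zero_mul]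
      · have h2 : j < l := by
          rw [Fin.lt_def] at h1 ⊢
          have := Fin.val_ne_of_ne hlj
          omega
        rw [hu' h2, mul_zero]
    · intro h'; exact absurd (Finset.mem_univ _) h'
    · intro h'; exact absurd (Finset.mem_univ _) h'
  · simp

/-! ### the anti-involution `g ↦ w₀ gᵀ w₀` -/

/-- reflection of a matrix in the anti-diagonal -/
def iotaM (A : Matrix (Fin n) (Fin n) F) : Matrix (Fin n) (Fin n) F :=
  fun i j => A (Fin.rev j) (Fin.rev i)

omit [Field F] in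
theorem iotaM_apply (A : Matrix (Fin n) (Fin n) F) (i j : Fin n) :
    iotaM A i j = A (Fin.rev j) (Fin.rev i) := rfl

theorem iotaM_mul (A B : Matrix (Fin n) (Fin n) F) : iotaM (A * B) = iotaM B * iotaM A := by
  ext i j
  simp only [iotaM_apply, Matrix.mul_apply]
  rw [← Equiv.sum_comp Fin.revPerm]
  refine Finset.sum_congr rfl (fun l _ => ?_)
  simp [mul_comm]

omit [Field F] in
theorem iotaM_iotaM (A : Matrix (Fin n) (Fin n) F) : iotaM (iotaM A) = A := by
  ext i j
  simp [iotaM_apply]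

theorem det_iotaM (A : Matrix (Fin n) (Fin n) F) : (iotaM A).det = A.det := by
  have h : iotaM A = (Aᵀ).submatrix Fin.revPerm Fin.revPerm := by
    ext i j
    simp [iotaM_apply]
  rw [h, Matrix.det_submatrix_equiv_self, Matrix.det_transpose]

/-- the anti-involution of `SL_n(F)` -/
def iotaSL (g : SpecialLinearGroup (Fin n) F) : SpecialLinearGroup (Fin n) F :=
  ⟨iotaM (g : Matrix (Fin n) (Fin n) F), by rw [det_iotaM]; exact g.2⟩

theorem iotaSL_coe (g : SpecialLinearGroup (Fin n) F) :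
    ((iotaSL g : SpecialLinearGroup (Fin n) F) : Matrix (Fin n) (Fin n) F) =
      iotaM (g : Matrix (Fin n) (Fin n) F) := rfl

theorem iotaSL_mul (a b : SpecialLinearGroup (Fin n) F) : iotaSL (a * b) = iotaSL b * iotaSL a := by
  apply Subtype.ext
  change iotaM ((a * b : SpecialLinearGroup (Fin n) F) : Matrix (Fin n) (Fin n) F) =
    ((iotaSL b * iotaSL a : SpecialLinearGroup (Fin n) F) : Matrix (Fin n) (Fin n) F)
  rw [Matrix.SpecialLinearGroup.coe_mul, Matrix.SpecialLinearGroup.coe_mul, iotaM_mul]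
  rfl

theorem iotaSL_iotaSL (g : SpecialLinearGroup (Fin n) F) : iotaSL (iotaSL g) = g := by
  apply Subtype.ext
  exact iotaM_iotaM _

theorem iotaSL_mem_Usl {u : SpecialLinearGroup (Fin n) F} (hu : u ∈ Usl n F) :
    iotaSL u ∈ Usl n F := by
  refine ⟨?_, ?_⟩
  · intro i j hij
    change iotaM (u : Matrix (Fin n) (Fin n) F) i j = 0
    rw [iotaM_apply]
    apply hu.1
    change Fin.rev i < Fin.rev j
    exact Fin.rev_lt_rev.mpr hij
  · intro i
    change iotaM (u : Matrix (Fin n) (Fin n) F) i i = 1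
    rw [iotaM_apply]
    exact hu.2 _

theorem superSum_iotaM (A : Matrix (Fin n) (Fin n) F) : superSum (iotaM A) = superSum A := by
  rw [superSum_eq, superSum_eq]
  have h1 : ∀ f : Fin n → Fin n → F,
      ∑ a, ∑ b, f a b = ∑ i, ∑ j, f (Fin.rev j) (Fin.rev i) := by
    intro f
    calc ∑ a, ∑ b, f a b = ∑ b, ∑ a, f a b := Finset.sum_comm
      _ = ∑ i, ∑ a, f a (Fin.rev i) :=
          (Equiv.sum_comp Fin.revPerm (fun b => ∑ a, f a b)).symm
      _ = ∑ i, ∑ j, f (Fin.rev j) (Fin.rev i) :=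
          Finset.sum_congr rfl (fun i _ =>
            (Equiv.sum_comp Fin.revPerm (fun a => f a (Fin.rev i))).symm)
  rw [h1 (fun a b => if a.val + 1 = b.val then A a b else 0)]
  refine Finset.sum_congr rfl (fun i _ => Finset.sum_congr rfl (fun j _ => ?_))
  simp only [iotaM_apply, Fin.val_rev]
  have hi := i.isLt
  have hj := j.isLt
  by_cases h : i.val + 1 = j.val
  · rw [if_pos h, if_pos (by omega)]
  · rw [if_neg h, if_neg (by omega)]

/-! ### the character `ψ u = θ (superSum u)` of `U` -/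

/-- `ψ` as a homomorphism to the units of `ℂ` -/
noncomputable def psiU (θ : AddChar F ℂ) : Usl n F →* ℂˣ where
  toFun u := θ.toMonoidHom.toHomUnits
    (Multiplicative.ofAdd (superSum ((u : SpecialLinearGroup (Fin n) F) : Matrix (Fin n) (Fin n) F)))
  map_one' := by
    have h : (((1 : Usl n F) : SpecialLinearGroup (Fin n) F) : Matrix (Fin n) (Fin n) F) = 1 := rfl
    rw [h, superSum_one]
    simp
  map_mul' := by
    intro a b
    have h : (((a * b : Usl n F) : SpecialLinearGroup (Fin n) F) : Matrix (Fin n) (Fin n) F) =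
        ((a : SpecialLinearGroup (Fin n) F) : Matrix (Fin n) (Fin n) F) *
          ((b : SpecialLinearGroup (Fin n) F) : Matrix (Fin n) (Fin n) F) := rfl
    rw [h, superSum_mul a.2.1 a.2.2 b.2.1 b.2.2, ofAdd_add, map_mul]

theorem psiU_coe (θ : AddChar F ℂ) (u : Usl n F) :
    ((psiU θ u : ℂˣ) : ℂ) =
      θ (superSum ((u : SpecialLinearGroup (Fin n) F) : Matrix (Fin n) (Fin n) F)) := by
  change ((θ.toMonoidHom.toHomUnits _ : ℂˣ) : ℂ) = _
  rw [MonoidHom.coe_toHomUnits, AddChar.toMonoidHom_apply]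
  rfl

theorem psiU_eq_iff (θ : AddChar F ℂ) (u u' : Usl n F) :
    psiU θ u = psiU θ u' ↔
      θ (superSum ((u : SpecialLinearGroup (Fin n) F) : Matrix (Fin n) (Fin n) F)) =
        θ (superSum ((u' : SpecialLinearGroup (Fin n) F) : Matrix (Fin n) (Fin n) F)) := by
  rw [← psiU_coe, ← psiU_coe]
  exact Units.ext_iff

theorem psiU_iota (θ : AddChar F ℂ) (u : Usl n F) :
    psiU θ ⟨iotaSL (u : SpecialLinearGroup (Fin n) F), iotaSL_mem_Usl u.2⟩ = psiU θ u := by
  rw [psiU_eq_iff]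
  change θ (superSum (iotaM _)) = _
  rw [superSum_iotaM]

/-! ### transvections in `U` -/

theorem T_mem_Usl {a b : Fin n} (hab : a < b) (c : F) :
    Cfsg.Agent.Lib.Helper25.SLCC.T a b c ∈ Usl n F := by
  have hne : a ≠ b := ne_of_lt hab
  refine ⟨?_, ?_⟩
  · intro i j hij
    rw [Cfsg.Agent.Lib.Helper25.SLCC.T_coe hne, Matrix.add_apply, Matrix.single_apply]
    have hij' : j < i := hij
    rw [Matrix.one_apply_ne (ne_of_gt hij'), if_neg, add_zero]
    rintro ⟨rfl, rfl⟩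
    exact absurd hab (not_lt.mpr (le_of_lt hij'))
  · intro i
    rw [Cfsg.Agent.Lib.Helper25.SLCC.T_coe hne, Matrix.add_apply, Matrix.single_apply,
      Matrix.one_apply_eq, if_neg, add_zero]
    rintro ⟨rfl, h⟩
    exact hne h.symm

theorem superSum_T {a b : Fin n} (hab : a ≠ b) (c : F) :
    superSum ((Cfsg.Agent.Lib.Helper25.SLCC.T a b c : SpecialLinearGroup (Fin n) F) :
      Matrix (Fin n) (Fin n) F) = if a.val + 1 = b.val then c else 0 := by
  rw [Cfsg.Agent.Lib.Helper25.SLCC.T_coe hab, superSum_add, superSum_one, zero_add,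
    superSum_single]

/-! ### Bruhat decomposition of `SL_n(F)` in the form `U · (monomial) · U` -/

theorem bruhat_SL [Finite F] (g : SpecialLinearGroup (Fin n) F) :
    ∃ u₁ ∈ Usl n F, ∃ u₂ ∈ Usl n F, ∃ m : SpecialLinearGroup (Fin n) F,
      ∃ π : Equiv.Perm (Fin n), ∃ dd : Fin n → F, (∀ j, dd j ≠ 0) ∧
        (∀ i j, (m : Matrix (Fin n) (Fin n) F) i j = if i = π j then dd j else 0) ∧
        g = u₁ * m * u₂ := by
  classical
  obtain ⟨b₁, hb₁, b₂, hb₂, σ, hg⟩ :=
    Cfsg.Agent.Lib.Helper15.Bru.bruhat (SpecialLinearGroup.toGL g)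
  have hdiag : ∀ (b : GL (Fin n) F), (b : Matrix (Fin n) (Fin n) F).BlockTriangular id →
      ∀ i, (b : Matrix (Fin n) (Fin n) F) i i ≠ 0 := by
    intro b hb i
    have h1 : IsUnit (b : Matrix (Fin n) (Fin n) F).det :=
      (Matrix.isUnit_iff_isUnit_det _).mp b.isUnit
    rw [Matrix.det_of_isUpperTriangular hb] at h1
    exact Finset.prod_ne_zero_iff.mp h1.ne_zero i (Finset.mem_univ i)
  obtain ⟨B₁, hB₁⟩ : ∃ B : Matrix (Fin n) (Fin n) F, B = (b₁ : Matrix (Fin n) (Fin n) F) := ⟨_, rfl⟩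
  obtain ⟨B₂, hB₂⟩ : ∃ B : Matrix (Fin n) (Fin n) F, B = (b₂ : Matrix (Fin n) (Fin n) F) := ⟨_, rfl⟩
  have hT₁ : B₁.BlockTriangular id := by rw [hB₁]; exact hb₁
  have hT₂ : B₂.BlockTriangular id := by rw [hB₂]; exact hb₂
  have he₁ : ∀ i, B₁ i i ≠ 0 := by rw [hB₁]; exact hdiag b₁ hb₁
  have he₂ : ∀ i, B₂ i i ≠ 0 := by rw [hB₂]; exact hdiag b₂ hb₂
  have hgM : (g : Matrix (Fin n) (Fin n) F) = B₁ * σ.permMatrix F * B₂ := by
    have h := congrArg (fun x : GL (Fin n) F => (x : Matrix (Fin n) (Fin n) F)) hg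
    rw [hB₁, hB₂]
    exact h
  obtain ⟨U₁, hU₁⟩ : ∃ U : Matrix (Fin n) (Fin n) F,
      U = B₁ * Matrix.diagonal (fun i => (B₁ i i)⁻¹) := ⟨_, rfl⟩
  obtain ⟨U₂, hU₂⟩ : ∃ U : Matrix (Fin n) (Fin n) F,
      U = Matrix.diagonal (fun i => (B₂ i i)⁻¹) * B₂ := ⟨_, rfl⟩
  obtain ⟨M, hM⟩ : ∃ M : Matrix (Fin n) (Fin n) F,
      M = Matrix.diagonal (fun i => B₁ i i) * σ.permMatrix F * Matrix.diagonal (fun i => B₂ i i) :=
    ⟨_, rfl⟩
  have hD₁ : Matrix.diagonal (fun i => (B₁ i i)⁻¹) * Matrix.diagonal (fun i => B₁ i i) = 1 := by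
    rw [Matrix.diagonal_mul_diagonal, ← Matrix.diagonal_one]
    congr 1
    funext i
    exact inv_mul_cancel₀ (he₁ i)
  have hD₂ : Matrix.diagonal (fun i => B₂ i i) * Matrix.diagonal (fun i => (B₂ i i)⁻¹) = 1 := by
    rw [Matrix.diagonal_mul_diagonal, ← Matrix.diagonal_one]
    congr 1
    funext i
    exact mul_inv_cancel₀ (he₂ i)
  have hprod : U₁ * M * U₂ = B₁ * σ.permMatrix F * B₂ := by
    rw [hU₁, hU₂, hM]
    calc B₁ * Matrix.diagonal (fun i => (B₁ i i)⁻¹) *
          (Matrix.diagonal (fun i => B₁ i i) * σ.permMatrix F * Matrix.diagonal (fun i => B₂ i i)) *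
          (Matrix.diagonal (fun i => (B₂ i i)⁻¹) * B₂)
        = B₁ * (Matrix.diagonal (fun i => (B₁ i i)⁻¹) * Matrix.diagonal (fun i => B₁ i i)) *
            σ.permMatrix F *
            (Matrix.diagonal (fun i => B₂ i i) * Matrix.diagonal (fun i => (B₂ i i)⁻¹)) * B₂ := by
          simp only [Matrix.mul_assoc]
      _ = B₁ * σ.permMatrix F * B₂ := by rw [hD₁, hD₂, Matrix.mul_one, Matrix.mul_one]
  have hU₁T : U₁.BlockTriangular id := by
    rw [hU₁]; exact hT₁.mul (Matrix.blockTriangular_diagonal _)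
  have hU₂T : U₂.BlockTriangular id := by
    rw [hU₂]; exact (Matrix.blockTriangular_diagonal _).mul hT₂
  have hU₁d : ∀ i, U₁ i i = 1 := by
    intro i
    rw [hU₁, Matrix.mul_diagonal]
    exact mul_inv_cancel₀ (he₁ i)
  have hU₂d : ∀ i, U₂ i i = 1 := by
    intro i
    rw [hU₂, Matrix.diagonal_mul]
    exact inv_mul_cancel₀ (he₂ i)
  have hU₁det : U₁.det = 1 := by
    rw [Matrix.det_of_isUpperTriangular hU₁T]
    exact Finset.prod_eq_one (fun i _ => hU₁d i)
  have hU₂det : U₂.det = 1 := by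
    rw [Matrix.det_of_isUpperTriangular hU₂T]
    exact Finset.prod_eq_one (fun i _ => hU₂d i)
  have hMdet : M.det = 1 := by
    have h1 : (U₁ * M * U₂).det = 1 := by rw [hprod, ← hgM]; exact g.2
    rw [Matrix.det_mul, Matrix.det_mul, hU₁det, hU₂det, one_mul, mul_one] at h1
    exact h1
  have hMapply : ∀ i j, M i j = if i = σ⁻¹ j then B₁ (σ⁻¹ j) (σ⁻¹ j) * B₂ j j else 0 := by
    intro i j
    rw [hM, Matrix.mul_diagonal, Matrix.diagonal_mul, Equiv.Perm.permMatrix,
      PEquiv.toMatrix_apply]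
    by_cases h : i = σ⁻¹ j
    · rw [if_pos h, h]
      simp
    · rw [if_neg h]
      have h' : ¬ σ i = j := fun hh => h (by rw [← hh]; simp)
      simp [h']
  refine ⟨⟨U₁, hU₁det⟩, ⟨hU₁T, hU₁d⟩, ⟨U₂, hU₂det⟩, ⟨hU₂T, hU₂d⟩, ⟨M, hMdet⟩, σ⁻¹,
    fun j => B₁ (σ⁻¹ j) (σ⁻¹ j) * B₂ j j, fun j => mul_ne_zero (he₁ _) (he₂ _), hMapply, ?_⟩
  apply Subtype.ext
  change (g : Matrix (Fin n) (Fin n) F) = U₁ * M * U₂
  rw [hprod, hgM]

/-! ### admissible monomial matrices -/

theorem addChar_eq_one_of_mul (θ : AddChar F ℂ) (c : F) (hc : c ≠ 0)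
    (h : ∀ t : F, θ (t * c) = 1) : θ = 1 := by
  apply DFunLike.ext
  intro s
  have := h (s / c)
  rw [div_mul_cancel₀ s hc] at this
  rw [this]
  rfl

/-- the test with a simple root element: an admissible monomial matrix maps adjacent columns in
increasing position to adjacent rows, with equal coefficients -/
theorem test_pair (θ : AddChar F ℂ) (hθ : θ ≠ 1) (m : SpecialLinearGroup (Fin n) F)
    (π : Equiv.Perm (Fin n)) (dd : Fin n → F) (hdd : ∀ j, dd j ≠ 0)
    (hm : ∀ i j, (m : Matrix (Fin n) (Fin n) F) i j = if i = π j then dd j else 0)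
    (hadm : ∀ u ∈ Usl n F, ∀ u' ∈ Usl n F, u * m = m * u' →
      θ (superSum (u : Matrix (Fin n) (Fin n) F)) = θ (superSum (u' : Matrix (Fin n) (Fin n) F)))
    (k : ℕ) (hk : k + 1 < n) (hlt : π (fi k hk) < π (fs k hk)) :
    ((π (fi k hk)).val + 1 = (π (fs k hk)).val) ∧ dd (fi k hk) = dd (fs k hk) := by
  classical
  obtain ⟨j, hj⟩ : ∃ j : Fin n, j = fi k hk := ⟨_, rfl⟩
  obtain ⟨j', hj'⟩ : ∃ j : Fin n, j = fs k hk := ⟨_, rfl⟩
  rw [← hj, ← hj'] at hlt ⊢
  have hjj' : j ≠ j' := by rw [hj, hj']; exact fi_ne_fs k hk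
  have hjlt : j < j' := by rw [hj, hj', Fin.lt_def]; simp
  have hval : j.val + 1 = j'.val := by rw [hj, hj']
  have hπne : π j ≠ π j' := ne_of_lt hlt
  have key : ∀ t : F,
      θ (if (π j).val + 1 = (π j').val then t * dd j else 0) = θ (t * dd j') := by
    intro t
    have heq : Cfsg.Agent.Lib.Helper25.SLCC.T (π j) (π j') (t * dd j) * m =
        m * Cfsg.Agent.Lib.Helper25.SLCC.T j j' (t * dd j') := by
      apply Subtype.ext
      rw [Matrix.SpecialLinearGroup.coe_mul, Matrix.SpecialLinearGroup.coe_mul,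
        Cfsg.Agent.Lib.Helper25.SLCC.T_coe hπne, Cfsg.Agent.Lib.Helper25.SLCC.T_coe hjj',
        Matrix.add_mul, Matrix.mul_add, Matrix.one_mul, Matrix.mul_one]
      congr 1
      ext i l
      by_cases hi : i = π j
      · rw [hi, Matrix.single_mul_apply_same]
        by_cases hl : l = j'
        · rw [hl, Matrix.mul_single_apply_same, hm, hm, if_pos rfl, if_pos rfl]
          ring
        · rw [Matrix.mul_single_apply_of_ne _ _ _ _ _ hl, hm,
            if_neg (fun h => hl (π.injective h).symm), mul_zero]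
      · rw [Matrix.single_mul_apply_of_ne _ _ _ _ _ hi]
        by_cases hl : l = j'
        · rw [hl, Matrix.mul_single_apply_same, hm, if_neg hi, zero_mul]
        · rw [Matrix.mul_single_apply_of_ne _ _ _ _ _ hl]
    have h1 := hadm _ (T_mem_Usl hlt (t * dd j)) _ (T_mem_Usl hjlt (t * dd j')) heq
    rw [superSum_T hπne, superSum_T hjj', if_pos hval] at h1
    exact h1
  have hstep : (π j).val + 1 = (π j').val := by
    by_contra hne
    apply hθ
    apply addChar_eq_one_of_mul θ (dd j') (hdd j')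
    intro t
    have := key t
    rw [if_neg hne] at this
    rw [← this]
    exact AddChar.map_zero_eq_one θ
  refine ⟨hstep, ?_⟩
  by_contra hne
  apply hθ
  apply addChar_eq_one_of_mul θ (dd j' - dd j) (sub_ne_zero.mpr (Ne.symm hne))
  intro t
  have := key t
  rw [if_pos hstep] at this
  rw [mul_sub, sub_eq_add_neg, AddChar.map_add_eq_mul, AddChar.map_neg_eq_inv, ← this]
  exact mul_inv_cancel₀ (by
    intro h0
    have h2 := AddChar.map_add_eq_mul θ (t * dd j) (-(t * dd j))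
    rw [add_neg_cancel, AddChar.map_zero_eq_one, h0, zero_mul] at h2
    exact one_ne_zero h2)

/-- the hypothesis `hadm` of Gelfand's trick **[A]** for `SL_n(F)`, `U`, `ψ = θ ∘ superSum` and
the anti-involution `iotaSL`, from the combinatorial leaf **[B]** -/
theorem hadm_SL [Finite F]
    (hB : ∀ (τ : Equiv.Perm (Fin n)) (dd : Fin n → F),
      (∀ (k : ℕ) (hk : k + 1 < n), τ (fs k hk) < τ (fi k hk) →
        ((τ (fs k hk) : ℕ) + 1 = (τ (fi k hk) : ℕ) ∧ dd (fs k hk) = dd (fi k hk))) →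
      ∀ j : Fin n, τ (τ j) = j ∧ dd (τ j) = dd j)
    (θ : AddChar F ℂ) (hθ : θ ≠ 1) (g : SpecialLinearGroup (Fin n) F)
    (hg : ∀ u u' : Usl n F, (u : SpecialLinearGroup (Fin n) F) * g = g * (u' : SpecialLinearGroup (Fin n) F) →
      psiU θ u = psiU θ u') :
    ∃ u₁ u₂ : Usl n F, iotaSL g = (u₁ : SpecialLinearGroup (Fin n) F) * g *
      (u₂ : SpecialLinearGroup (Fin n) F) ∧ psiU θ u₁ * psiU θ u₂ = 1 := by
  classical
  obtain ⟨u₁, hu₁, u₂, hu₂, m, π, dd, hdd, hm, hgm⟩ := bruhat_SL g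
  -- `m` is admissible
  have hadm : ∀ u ∈ Usl n F, ∀ u' ∈ Usl n F, u * m = m * u' →
      θ (superSum (u : Matrix (Fin n) (Fin n) F)) =
        θ (superSum (u' : Matrix (Fin n) (Fin n) F)) := by
    intro u hu u' hu' h
    have h1 := hg (⟨u₁, hu₁⟩ * ⟨u, hu⟩ * ⟨u₁, hu₁⟩⁻¹) (⟨u₂, hu₂⟩⁻¹ * ⟨u', hu'⟩ * ⟨u₂, hu₂⟩) (by
      change u₁ * u * u₁⁻¹ * g = g * (u₂⁻¹ * u' * u₂)
      rw [hgm]
      calc u₁ * u * u₁⁻¹ * (u₁ * m * u₂) = u₁ * (u * m) * u₂ := by group
        _ = u₁ * (m * u') * u₂ := by rw [h]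
        _ = u₁ * m * u₂ * (u₂⁻¹ * u' * u₂) := by group)
    rw [map_mul, map_mul, map_mul, map_mul, map_inv, map_inv] at h1
    have h2 : psiU θ ⟨u, hu⟩ = psiU θ ⟨u', hu'⟩ := by
      calc psiU θ ⟨u, hu⟩ = psiU θ ⟨u₁, hu₁⟩ * psiU θ ⟨u, hu⟩ * (psiU θ ⟨u₁, hu₁⟩)⁻¹ := by
            rw [mul_comm, inv_mul_cancel_left]
        _ = (psiU θ ⟨u₂, hu₂⟩)⁻¹ * psiU θ ⟨u', hu'⟩ * psiU θ ⟨u₂, hu₂⟩ := h1
        _ = psiU θ ⟨u', hu'⟩ := by rw [mul_comm, mul_inv_cancel_left]
    exact (psiU_eq_iff θ _ _).mp h2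
  -- the block reversal structure
  obtain ⟨τ, hτ⟩ : ∃ τ : Equiv.Perm (Fin n), τ = Fin.revPerm * π := ⟨_, rfl⟩
  have hτa : ∀ j, τ j = Fin.rev (π j) := by intro j; rw [hτ]; rfl
  have hinv := hB τ dd (by
    intro k hk hlt
    rw [hτa, hτa, Fin.rev_lt_rev] at hlt
    obtain ⟨h1, h2⟩ := test_pair θ hθ m π dd hdd hm hadm k hk hlt
    refine ⟨?_, h2.symm⟩
    rw [hτa, hτa, Fin.val_rev, Fin.val_rev]
    have := (π (fs k hk)).isLt
    omega)
  -- `ι m = m`
  have hιm : iotaSL m = m := by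
    apply Subtype.ext
    ext i j
    change iotaM (m : Matrix (Fin n) (Fin n) F) i j = (m : Matrix (Fin n) (Fin n) F) i j
    rw [iotaM_apply, hm, hm]
    by_cases h : i = π j
    · have h1 : Fin.rev i = τ j := by rw [hτa, h]
      have h2 : τ (Fin.rev i) = j := by rw [h1]; exact (hinv j).1
      have h3 : Fin.rev j = π (Fin.rev i) := by
        rw [← h2, hτa, Fin.rev_rev]
      rw [if_pos h, if_pos h3, h1]
      exact (hinv j).2
    · rw [if_neg h, if_neg]
      intro h3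
      apply h
      have h2 : τ (Fin.rev i) = j := by rw [hτa, ← h3, Fin.rev_rev]
      have h4 : τ j = Fin.rev i := by rw [← h2]; exact (hinv _).1
      rw [hτa] at h4
      exact (Fin.rev_injective h4).symm
  -- conclusion
  refine ⟨⟨iotaSL u₂, iotaSL_mem_Usl hu₂⟩ * ⟨u₁, hu₁⟩⁻¹,
    ⟨u₂, hu₂⟩⁻¹ * ⟨iotaSL u₁, iotaSL_mem_Usl hu₁⟩, ?_, ?_⟩
  · change iotaSL g = iotaSL u₂ * u₁⁻¹ * g * (u₂⁻¹ * iotaSL u₁)
    rw [hgm, iotaSL_mul, iotaSL_mul, hιm]
    group
  · rw [map_mul, map_mul, map_inv, map_inv]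
    have e1 := psiU_iota θ ⟨u₁, hu₁⟩
    have e2 := psiU_iota θ ⟨u₂, hu₂⟩
    rw [e1, e2]
    calc psiU θ ⟨u₂, hu₂⟩ * (psiU θ ⟨u₁, hu₁⟩)⁻¹ * ((psiU θ ⟨u₂, hu₂⟩)⁻¹ * psiU θ ⟨u₁, hu₁⟩)
        = (psiU θ ⟨u₂, hu₂⟩ * (psiU θ ⟨u₂, hu₂⟩)⁻¹) *
            ((psiU θ ⟨u₁, hu₁⟩)⁻¹ * psiU θ ⟨u₁, hu₁⟩) := by
          rw [mul_mul_mul_comm]
      _ = 1 := by rw [mul_inv_cancel, inv_mul_cancel, one_mul]

end Cfsg.Agent.Lib.Helper24.SLB.Helper2
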