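import Mathlib
import Cfsg.Prelude.Def_Involutions
import Cfsg.Agent.Lib.Helper2.Involutions

/-!
# Characterizations of strongly embedded subgroups
(helper2 library)
-/

set_option autoImplicit false

namespace Cfsg.Agent.Lib.Helper2

variable {G : Type*} [Group G]

theorem mem_conjMap_iff {H : Subgroup G} {g x : G} :
    x ∈ H.map (MulAut.conj g).toMonoidHom ↔ g⁻¹ * x * g ∈ H := by
  constructor
  · rintro ⟨y, hy, rfl⟩
    simp only [MulEquiv.coe_toMonoidHom, MulAut.conj_apply]
    have : g⁻¹ * (g * y * g⁻¹) * g = y := by group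
    rw [this]; exact hy
  · intro h
    refine ⟨g⁻¹ * x * g, h, ?_⟩
    simp only [MulEquiv.coe_toMonoidHom, MulAut.conj_apply]
    group

theorem even_card_of_involution_mem [Finite G] {K : Subgroup G} {t : G} (ht : orderOf t = 2)
    (htK : t ∈ K) : Even (Nat.card K) := by
  rw [even_iff_two_dvd, ← ht, ← Subgroup.orderOf_mk t htK]
  exact orderOf_dvd_natCard _

theorem exists_involution_of_even_card [Finite G] {K : Subgroup G} (h : Even (Nat.card K)) :
    ∃ t ∈ K, orderOf t = 2 := by
  haveI : Fact (Nat.Prime 2) := ⟨Nat.prime_two⟩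
  obtain ⟨t, ht⟩ := exists_prime_orderOf_dvd_card' (G := K) 2 h.two_dvd
  exact ⟨t.1, t.2, by rw [Subgroup.orderOf_coe]; exact ht⟩

theorem orderOf_conj' (g t : G) : orderOf (g * t * g⁻¹) = orderOf t := by
  have := orderOf_injective (MulAut.conj g).toMonoidHom (MulAut.conj g).injective t
  simpa using this

/-- in a strongly embedded subgroup, an involution of `H ∩ H^g` forces `g ∈ H`. -/
theorem mem_of_involution_mem_inf [Finite G] {H : Subgroup G} (hH : Cfsg.IsStronglyEmbedded H)
    {g s : G} (hs : orderOf s = 2) (hsH : s ∈ H)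
    (hsg : s ∈ H.map (MulAut.conj g).toMonoidHom) : g ∈ H := by
  by_contra hg
  have hodd := hH.2.2 g hg
  have heven := even_card_of_involution_mem hs (Subgroup.mem_inf.mpr ⟨hsH, hsg⟩)
  exact (Nat.not_even_iff_odd.mpr hodd) heven

/-- S0223. -/
theorem stronglyEmbedded_iff_centralizer_fusion [Finite G] (H : Subgroup G) (hH : H ≠ ⊤)
    (heven : Even (Nat.card H)) :
    Cfsg.IsStronglyEmbedded H ↔
      ((∀ t ∈ H, orderOf t = 2 → Subgroup.centralizer ({t} : Set G) ≤ H) ∧
       (∀ t ∈ H, ∀ s ∈ H, orderOf t = 2 → orderOf s = 2 → IsConj t s →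
          ∃ h ∈ H, h * t * h⁻¹ = s)) := by
  constructor
  · intro hSE
    constructor
    · intro t htH ht c hc
      apply mem_of_involution_mem_inf hSE ht htH
      rw [mem_conjMap_iff]
      rw [Subgroup.mem_centralizer_iff] at hc
      have h1 := hc t (Set.mem_singleton t)
      have : c⁻¹ * t * c = t := by
        rw [mul_assoc, h1, ← mul_assoc, inv_mul_cancel, one_mul]
      rw [this]; exact htH
    · intro t htH s hsH ht hs hconj
      obtain ⟨g, hg⟩ := isConj_iff.mp hconj
      refine ⟨g, ?_, hg⟩
      apply mem_of_involution_mem_inf hSE hs hsH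
      rw [mem_conjMap_iff, ← hg]
      have : g⁻¹ * (g * t * g⁻¹) * g = t := by group
      rw [this]; exact htH
  · rintro ⟨hC, hF⟩
    refine ⟨hH, heven, ?_⟩
    intro g hg
    by_contra hodd
    rw [Nat.not_odd_iff_even] at hodd
    obtain ⟨s, hs, hsord⟩ := exists_involution_of_even_card hodd
    rw [Subgroup.mem_inf, mem_conjMap_iff] at hs
    set t := g⁻¹ * s * g with ht
    have htord : orderOf t = 2 := by
      have := orderOf_conj' g⁻¹ s
      rw [inv_inv] at this
      rw [ht, this, hsord]
    have hts : g * t * g⁻¹ = s := by rw [ht]; group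
    obtain ⟨h, hhH, hh⟩ := hF t hs.2 s hs.1 htord hsord (isConj_iff.mpr ⟨g, hts⟩)
    have hcent : h⁻¹ * g ∈ Subgroup.centralizer ({t} : Set G) := by
      rw [Subgroup.mem_centralizer_iff]
      intro y hy
      rw [Set.mem_singleton_iff] at hy
      subst hy
      have h1 : g * t = s * g := by rw [← hts]; group
      have h2 : h * t = s * h := by rw [← hh]; group
      have h3 : h⁻¹ * s = t * h⁻¹ := by
        have : s = h * t * h⁻¹ := hh.symm
        rw [this]; group
      calc t * (h⁻¹ * g) = (t * h⁻¹) * g := by group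
        _ = h⁻¹ * s * g := by rw [h3]
        _ = h⁻¹ * (s * g) := by group
        _ = h⁻¹ * (g * t) := by rw [h1]
        _ = h⁻¹ * g * t := by group
    have := hC t hs.2 htord hcent
    apply hg
    have h4 : g = h * (h⁻¹ * g) := by group
    rw [h4]
    exact H.mul_mem hhH this

/-- S0224. -/
theorem stronglyEmbedded_iff_fixed_points [Finite G] (H : Subgroup G) (hH : H ≠ ⊤)
    (heven : Even (Nat.card H)) :
    Cfsg.IsStronglyEmbedded H ↔
      ∀ t ∈ H, orderOf t = 2 → Nat.card {c : G ⧸ H // t • c = c} = 1 := by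
  have hfix : ∀ (t g : G), t • ((g : G) : G ⧸ H) = ((g : G) : G ⧸ H) ↔ g⁻¹ * t * g ∈ H := by
    intro t g
    rw [MulAction.Quotient.smul_mk, QuotientGroup.eq]
    constructor
    · intro h
      have h2 := H.inv_mem h
      have : ((t • g)⁻¹ * g)⁻¹ = g⁻¹ * t * g := by
        rw [smul_eq_mul]; group
      rwa [this] at h2
    · intro h
      have h2 := H.inv_mem h
      have : (g⁻¹ * t * g)⁻¹ = (t • g)⁻¹ * g := by
        rw [smul_eq_mul]; group
      rwa [this] at h2
  constructor
  · intro hSE t htH ht
    rw [Nat.card_eq_one_iff_unique]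
    constructor
    · constructor
      rintro ⟨c, hc⟩ ⟨d, hd⟩
      apply Subtype.ext
      change c = d
      have key : ∀ e : G ⧸ H, t • e = e → e = ((1 : G) : G ⧸ H) := by
        intro e he
        induction e using QuotientGroup.induction_on with
        | H g =>
          rw [hfix] at he
          have hg : g ∈ H := by
            apply mem_of_involution_mem_inf hSE ht htH
            rw [mem_conjMap_iff]; exact he
          rw [QuotientGroup.eq]
          simpa using H.inv_mem hg
      rw [key c hc, key d hd]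
    · refine ⟨⟨((1 : G) : G ⧸ H), ?_⟩⟩
      rw [hfix]
      simpa using htH
  · intro hfp
    refine ⟨hH, heven, ?_⟩
    intro g hg
    by_contra hodd
    rw [Nat.not_odd_iff_even] at hodd
    obtain ⟨s, hs, hsord⟩ := exists_involution_of_even_card hodd
    rw [Subgroup.mem_inf, mem_conjMap_iff] at hs
    have h1 := hfp s hs.1 hsord
    rw [Nat.card_eq_one_iff_unique] at h1
    have hsub := h1.1
    have e1 : s • ((1 : G) : G ⧸ H) = ((1 : G) : G ⧸ H) := by
      rw [hfix]; simpa using hs.1
    have e2 : s • ((g : G) : G ⧸ H) = ((g : G) : G ⧸ H) := by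
      rw [hfix]; exact hs.2
    have := hsub.elim ⟨_, e1⟩ ⟨_, e2⟩
    have h3 : ((1 : G) : G ⧸ H) = ((g : G) : G ⧸ H) := congrArg Subtype.val this
    rw [QuotientGroup.eq] at h3
    apply hg
    simpa using h3

end Cfsg.Agent.Lib.Helper2
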