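import Mathlib
import Cfsg.Agent.Lib.Helper2.IsolatedInv

/-!
# TI Sylow 2-subgroups: one class of involutions
(helper2 library)
-/

set_option autoImplicit false

namespace Cfsg.Agent.Lib.Helper2

open TwoInv
open scoped Pointwise

variable {G : Type*} [Group G]

theorem sylow_mem_smul_iff {p : ℕ} (Q : Sylow p G) (g x : G) :
    x ∈ (g • Q : Sylow p G) ↔ g⁻¹ * x * g ∈ Q := by
  have hQ : ((g • Q : Sylow p G) : Subgroup G) = MulAut.conj g • (Q : Subgroup G) := by
    rw [Sylow.smul_def, Sylow.pointwise_smul_def]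
  change x ∈ ((g • Q : Sylow p G) : Subgroup G) ↔ _
  rw [hQ, Subgroup.mem_pointwise_smul_iff_inv_smul_mem]
  simp only [MulAut.smul_def, MulAut.conj_inv_apply]
  rfl

/-- In the TI situation a nontrivial element lies in a unique Sylow 2-subgroup. -/
theorem sylow_unique_of_TI [Finite G] (T : Sylow 2 G)
    (hTI : ∀ g : G, MulAut.conj g • (T : Subgroup G) ≠ T →
      MulAut.conj g • (T : Subgroup G) ⊓ T = ⊥)
    (Q₁ Q₂ : Sylow 2 G) (x : G) (hx : x ≠ 1) (h₁ : x ∈ Q₁) (h₂ : x ∈ Q₂) : Q₁ = Q₂ := by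
  haveI : Fact (Nat.Prime 2) := ⟨Nat.prime_two⟩
  obtain ⟨a, ha⟩ := MulAction.exists_smul_eq G T Q₁
  obtain ⟨b, hb⟩ := MulAction.exists_smul_eq G T Q₂
  rw [← ha, sylow_mem_smul_iff] at h₁
  rw [← hb, sylow_mem_smul_iff] at h₂
  set g := b⁻¹ * a with hg
  have hgT : MulAut.conj g • (T : Subgroup G) = T := by
    by_contra hne
    have hbot := hTI g hne
    have hmem : b⁻¹ * x * b ∈ MulAut.conj g • (T : Subgroup G) ⊓ T := by
      refine Subgroup.mem_inf.mpr ⟨?_, h₂⟩
      rw [Subgroup.mem_pointwise_smul_iff_inv_smul_mem]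
      simp only [MulAut.smul_def, MulAut.conj_inv_apply]
      have : g⁻¹ * (b⁻¹ * x * b) * g = a⁻¹ * x * a := by rw [hg]; group
      rw [this]; exact h₁
    rw [hbot, Subgroup.mem_bot] at hmem
    apply hx
    calc x = b * (b⁻¹ * x * b) * b⁻¹ := by group
      _ = 1 := by rw [hmem]; group
  have hgT' : g • T = T := by
    apply Sylow.ext
    rw [Sylow.smul_def, Sylow.pointwise_smul_def]
    exact hgT
  rw [← ha, ← hb]
  have : a = b * g := by rw [hg]; group
  rw [this, mul_smul, hgT']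

/-- S0231. -/
theorem isConj_involutions_of_TI [Finite G] (T : Sylow 2 G) (hnn : ¬ (T : Subgroup G).Normal)
    (hTI : ∀ g : G, MulAut.conj g • (T : Subgroup G) ≠ T →
      MulAut.conj g • (T : Subgroup G) ⊓ T = ⊥)
    (s t : G) (hs : orderOf s = 2) (ht : orderOf t = 2) : IsConj s t := by
  haveI : Fact (Nat.Prime 2) := ⟨Nat.prime_two⟩
  -- two commuting involutions lie in a common Sylow 2-subgroup
  have hcommon : ∀ u v : G, orderOf u = 2 → orderOf v = 2 → Commute u v →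
      ∃ Q : Sylow 2 G, u ∈ Q ∧ v ∈ Q := by
    intro u v hu hv hc
    obtain ⟨Q, hQ⟩ :=
      (isPGroup_closure_of_commute (sq_of_orderOf hu) (sq_of_orderOf hv) hc).exists_le_sylow
    exact ⟨Q, hQ x_mem, hQ y_mem⟩
  -- non-conjugate involutions lie in a common Sylow 2-subgroup
  have hnonconj : ∀ u v : G, orderOf u = 2 → orderOf v = 2 → ¬ IsConj u v →
      ∃ Q : Sylow 2 G, u ∈ Q ∧ v ∈ Q := by
    intro u v hu hv hnc
    have hu2 := sq_of_orderOf hu
    have hv2 := sq_of_orderOf hv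
    have heven : Even (orderOf (u * v)) := by
      by_contra hodd
      rw [Nat.not_even_iff_odd] at hodd
      obtain ⟨d, -, hd⟩ := exists_conj_of_odd hu2 hv2 hodd
      exact hnc (isConj_iff.mpr ⟨d, hd⟩)
    obtain ⟨hz, hzu, hzv⟩ := central_involution hu2 hv2 (orderOf_pos _) heven
    set z := (u * v) ^ (orderOf (u * v) / 2) with hzdef
    obtain ⟨Q₁, hzQ₁, huQ₁⟩ := hcommon z u hz hu hzu
    obtain ⟨Q₂, hzQ₂, hvQ₂⟩ := hcommon z v hz hv hzv
    have hz1 : z ≠ 1 := ne_one_of_orderOf hz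
    have := sylow_unique_of_TI T hTI Q₁ Q₂ z hz1 hzQ₁ hzQ₂
    exact ⟨Q₁, huQ₁, by rw [this]; exact hvQ₂⟩
  by_contra hnc
  obtain ⟨Q, hsQ, htQ⟩ := hnonconj s t hs ht hnc
  -- some conjugate of `Q` differs from `Q`
  have hex : ∃ g : G, g • Q ≠ Q := by
    by_contra hall
    push Not at hall
    apply hnn
    obtain ⟨a, ha⟩ := MulAction.exists_smul_eq G Q T
    have hTQ : T = Q := by rw [← ha]; exact hall a
    have hnorm : (Q : Subgroup G).Normal := by
      rw [← Subgroup.normalizer_eq_top_iff, eq_top_iff]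
      intro g _
      exact Sylow.smul_eq_iff_mem_normalizer.mp (hall g)
    rw [hTQ]; exact hnorm
  obtain ⟨g, hg⟩ := hex
  have hs'ord : orderOf (g * s * g⁻¹) = 2 := by
    have := orderOf_injective (MulAut.conj g).toMonoidHom (MulAut.conj g).injective s
    simp only [MulEquiv.coe_toMonoidHom, MulAut.conj_apply] at this
    rw [this, hs]
  have hs'Q : g * s * g⁻¹ ∈ (g • Q : Sylow 2 G) := by
    rw [sylow_mem_smul_iff]
    have : g⁻¹ * (g * s * g⁻¹) * g = s := by group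
    rw [this]; exact hsQ
  have hnc' : ¬ IsConj (g * s * g⁻¹) t := by
    intro h
    exact hnc ((isConj_iff.mpr ⟨g, rfl⟩).trans h)
  obtain ⟨Q'', hs'Q'', htQ''⟩ := hnonconj _ t hs'ord ht hnc'
  have h1 : Q = Q'' := sylow_unique_of_TI T hTI Q Q'' t (ne_one_of_orderOf ht) htQ htQ''
  have h2 : (g • Q : Sylow 2 G) = Q'' :=
    sylow_unique_of_TI T hTI _ Q'' _ (ne_one_of_orderOf hs'ord) hs'Q hs'Q''
  exact hg (h2.trans h1.symm)

end Cfsg.Agent.Lib.Helper2
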