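import Mathlib
import Cfsg.Agent.Lib.Helper2.StronglyEmbedded
import Cfsg.Agent.Lib.Helper2.TISylow

/-!
# Strongly embedded subgroups via normalizers of 2-subgroups (S0214)
(helper2 library)
-/

set_option autoImplicit false

namespace Cfsg.Agent.Lib.Helper2

open scoped Pointwise

variable {G : Type*} [Group G]

/-- Normalizers grow in nilpotent subgroups (ambient form). -/
theorem exists_mem_normalizer_not_mem_of_lt {D N : Subgroup G} (hnil : Group.IsNilpotent D)
    (hN : N < D) : ∃ u ∈ D, u ∈ Subgroup.normalizer (N : Set G) ∧ u ∉ N := by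
  have hlt : N.subgroupOf D < ⊤ := by
    rw [lt_top_iff_ne_top, Ne, Subgroup.subgroupOf_eq_top]
    exact not_le_of_gt hN
  have h1 := Group.normalizerCondition_of_isNilpotent (G := D) _ hlt
  obtain ⟨u', hu'n, hu'⟩ := SetLike.exists_of_lt h1
  refine ⟨u', u'.2, ?_, ?_⟩
  · have key : ∀ v : D, v ∈ Subgroup.normalizer ((N.subgroupOf D : Subgroup D) : Set D) →
        ∀ n ∈ N, (v : G) * n * (v : G)⁻¹ ∈ N := by
      intro v hv n hn
      have h2 := (Subgroup.mem_normalizer_iff.mp hv ⟨n, hN.le hn⟩).mp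
        (Subgroup.mem_subgroupOf.mpr hn)
      rw [Subgroup.mem_subgroupOf] at h2
      simpa using h2
    rw [Subgroup.mem_normalizer_iff]
    intro n
    constructor
    · exact key u' hu'n n
    · intro hn
      have := key u'⁻¹ (inv_mem hu'n) _ hn
      simpa [mul_assoc] using this
  · intro hmem
    exact hu' (Subgroup.mem_subgroupOf.mpr hmem)

/-- normalizers of nontrivial 2-subgroups of `K` lie in `K`. -/
def NormCond (K : Subgroup G) : Prop :=
  ∀ U : Subgroup G, U ≤ K → IsPGroup 2 U → U ≠ ⊥ → Subgroup.normalizer (U : Set G) ≤ K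

/-- conjugating a normalizer -/
theorem conj_mem_normalizer_conjMap {U : Subgroup G} {g n : G}
    (hn : n ∈ Subgroup.normalizer (U : Set G)) :
    g * n * g⁻¹ ∈ Subgroup.normalizer ((U.map (MulAut.conj g).toMonoidHom : Subgroup G) : Set G) := by
  rw [Subgroup.mem_normalizer_iff] at hn ⊢
  intro x
  rw [mem_conjMap_iff, mem_conjMap_iff, hn (g⁻¹ * x * g)]
  have : g⁻¹ * (g * n * g⁻¹ * x * (g * n * g⁻¹)⁻¹) * g = n * (g⁻¹ * x * g) * n⁻¹ := by group
  rw [this]

theorem conjMap_conjMap_inv (U : Subgroup G) (g : G) :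
    (U.map (MulAut.conj g).toMonoidHom).map (MulAut.conj g⁻¹).toMonoidHom = U := by
  ext x
  rw [mem_conjMap_iff, mem_conjMap_iff, inv_inv]
  have : g⁻¹ * (g * x * g⁻¹) * g = x := by group
  rw [this]

theorem conjMap_inv_conjMap (U : Subgroup G) (g : G) :
    (U.map (MulAut.conj g⁻¹).toMonoidHom).map (MulAut.conj g).toMonoidHom = U := by
  have := conjMap_conjMap_inv U g⁻¹
  rwa [inv_inv] at this

theorem NormCond.conj {K : Subgroup G} (hK : NormCond K) (g : G) :
    NormCond (K.map (MulAut.conj g).toMonoidHom) := by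
  intro U hUK hU hUne n hn
  -- `W = g⁻¹ U g ≤ K`
  have hW : U.map (MulAut.conj g⁻¹).toMonoidHom ≤ K := by
    have := Subgroup.map_mono (f := (MulAut.conj g⁻¹).toMonoidHom) hUK
    rwa [conjMap_conjMap_inv] at this
  have hWne : U.map (MulAut.conj g⁻¹).toMonoidHom ≠ ⊥ := by
    rw [Ne, Subgroup.map_eq_bot_iff_of_injective _ (MulAut.conj g⁻¹).injective]
    exact hUne
  have h1 := hK _ hW (hU.map _) hWne (conj_mem_normalizer_conjMap (g := g⁻¹) hn)
  rw [mem_conjMap_iff]
  rwa [inv_inv] at h1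

/-- maximality of a 2-subgroup of `K ⊓ K'` transfers to `K`. -/
theorem maximal_of_maximal_inf [Finite G] {K K' U : Subgroup G} (hK' : NormCond K')
    (hUK : U ≤ K ⊓ K') (hU : IsPGroup 2 U) (hUne : U ≠ ⊥)
    (hmax : ∀ V : Subgroup G, IsPGroup 2 V → V ≤ K ⊓ K' → U ≤ V → V = U)
    (V : Subgroup G) (hV : IsPGroup 2 V) (hVK : V ≤ K) (hUV : U ≤ V) : V = U := by
  haveI : Fact (Nat.Prime 2) := ⟨Nat.prime_two⟩
  by_contra hne
  have hlt : U < V := lt_of_le_of_ne hUV (Ne.symm hne)
  obtain ⟨u, huV, huN, huU⟩ := exists_mem_normalizer_not_mem_of_lt hV.isNilpotent hlt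
  have huK' : u ∈ K' := hK' U (hUK.trans inf_le_right) hU hUne huN
  have hle : U ⊔ Subgroup.zpowers u ≤ V := sup_le hUV ((Subgroup.zpowers_le).mpr huV)
  have h1 := hmax (U ⊔ Subgroup.zpowers u) (hV.to_le hle)
    (sup_le hUK ((Subgroup.zpowers_le).mpr (Subgroup.mem_inf.mpr ⟨hVK huV, huK'⟩))) le_sup_left
  apply huU
  rw [← h1]
  exact Subgroup.mem_sup_right (Subgroup.mem_zpowers u)

/-- a maximal 2-subgroup of `H`, as a Sylow subgroup of `H`. -/
def sylowOfMaximal {H U : Subgroup G} (hUH : U ≤ H) (hU : IsPGroup 2 U)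
    (hmax : ∀ V : Subgroup G, IsPGroup 2 V → V ≤ H → U ≤ V → V = U) : Sylow 2 ↥H where
  toSubgroup := U.subgroupOf H
  isPGroup' := hU.comap_subtype
  is_maximal' := by
    intro Q hQ hle
    have h1 : Q.map H.subtype = U := by
      apply hmax _ (hQ.map _) (Subgroup.map_subtype_le Q)
      rw [← Subgroup.map_subgroupOf_eq_of_le hUH]
      exact Subgroup.map_mono hle
    rw [← h1]
    ext x
    rw [Subgroup.mem_subgroupOf]
    constructor
    · intro hx; exact ⟨x, hx, rfl⟩
    · rintro ⟨y, hy, hyx⟩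
      have : y = x := Subtype.ext hyx
      rw [← this]; exact hy

theorem mem_sylowOfMaximal {H U : Subgroup G} (hUH : U ≤ H) (hU : IsPGroup 2 U)
    (hmax : ∀ V : Subgroup G, IsPGroup 2 V → V ≤ H → U ≤ V → V = U) (y : H) :
    y ∈ sylowOfMaximal hUH hU hmax ↔ (y : G) ∈ U := Iff.rfl

/-- S0214, reverse direction. -/
theorem stronglyEmbedded_of_normCond [Finite G] (H : Subgroup G) (hH : H ≠ ⊤)
    (heven : Even (Nat.card H)) (hN : NormCond H) : Cfsg.IsStronglyEmbedded H := by
  haveI : Fact (Nat.Prime 2) := ⟨Nat.prime_two⟩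
  refine ⟨hH, heven, ?_⟩
  intro g hg
  by_contra hodd
  rw [Nat.not_odd_iff_even] at hodd
  set K' := H.map (MulAut.conj g).toMonoidHom with hK'
  set D := H ⊓ K' with hD
  have hNK' : NormCond K' := hN.conj g
  -- a maximal 2-subgroup of `D`
  obtain ⟨Q⟩ : Nonempty (Sylow 2 ↥D) := inferInstance
  set U := (Q : Subgroup ↥D).map D.subtype with hUdef
  have hU : IsPGroup 2 U := Q.2.map _
  have hUD : U ≤ D := Subgroup.map_subtype_le _
  have hUne : U ≠ ⊥ := by
    rw [hUdef, Ne, Subgroup.map_eq_bot_iff_of_injective _ D.subtype_injective]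
    intro hbot
    have h2 : 2 ∣ Nat.card (Q : Subgroup ↥D) := Q.dvd_card_of_dvd_card hodd.two_dvd
    rw [hbot, Subgroup.card_bot] at h2
    omega
  have hmax : ∀ V : Subgroup G, IsPGroup 2 V → V ≤ D → U ≤ V → V = U := by
    intro V hV hVD hUV
    have h1 : V.subgroupOf D = Q := by
      apply Q.is_maximal' hV.comap_subtype
      intro x hx
      change (x : G) ∈ V
      exact hUV ⟨x, hx, rfl⟩
    rw [hUdef, ← h1, Subgroup.map_subgroupOf_eq_of_le hVD]
  -- maximal in `H` and in `K'`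
  have hmaxH : ∀ V : Subgroup G, IsPGroup 2 V → V ≤ H → U ≤ V → V = U :=
    maximal_of_maximal_inf hNK' hUD hU hUne hmax
  have hmaxK' : ∀ V : Subgroup G, IsPGroup 2 V → V ≤ K' → U ≤ V → V = U := by
    have hUD' : U ≤ K' ⊓ H := by rw [inf_comm]; exact hUD
    have hmax' : ∀ V : Subgroup G, IsPGroup 2 V → V ≤ K' ⊓ H → U ≤ V → V = U := by
      intro V hV hVD; rw [inf_comm] at hVD; exact hmax V hV hVD
    exact maximal_of_maximal_inf hN hUD' hU hUne hmax'
  have hUH : U ≤ H := hUD.trans inf_le_left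
  have hUK' : U ≤ K' := hUD.trans inf_le_right
  -- `W = g⁻¹ U g` is a maximal 2-subgroup of `H`
  set W := U.map (MulAut.conj g⁻¹).toMonoidHom with hWdef
  have hW : IsPGroup 2 W := hU.map _
  have hWH : W ≤ H := by
    have := Subgroup.map_mono (f := (MulAut.conj g⁻¹).toMonoidHom) hUK'
    rwa [hK', conjMap_conjMap_inv] at this
  have hmaxW : ∀ V : Subgroup G, IsPGroup 2 V → V ≤ H → W ≤ V → V = W := by
    intro V hV hVH hWV
    have h1 := hmaxK' (V.map (MulAut.conj g).toMonoidHom) (hV.map _)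
      (Subgroup.map_mono hVH) (by
        have := Subgroup.map_mono (f := (MulAut.conj g).toMonoidHom) hWV
        rwa [hWdef, conjMap_inv_conjMap] at this)
    rw [hWdef, ← h1, conjMap_conjMap_inv]
  -- Sylow's theorem in `H`
  obtain ⟨h, hh⟩ := MulAction.exists_smul_eq H (sylowOfMaximal hWH hW hmaxW)
    (sylowOfMaximal hUH hU hmaxH)
  -- `n = g h⁻¹` normalizes `U`
  have hkey : ∀ y : H, (y : G) ∈ U ↔ g * ((h : G)⁻¹ * (y : G) * (h : G)) * g⁻¹ ∈ U := by
    intro y
    rw [← mem_sylowOfMaximal hUH hU hmaxH, ← hh, sylow_mem_smul_iff, mem_sylowOfMaximal, hWdef,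
      mem_conjMap_iff, inv_inv]
    rfl
  have hn : g * (h : G)⁻¹ ∈ Subgroup.normalizer (U : Set G) := by
    rw [Subgroup.mem_normalizer_iff]
    intro x
    have e : g * (h : G)⁻¹ * x * (g * (h : G)⁻¹)⁻¹ = g * ((h : G)⁻¹ * x * (h : G)) * g⁻¹ := by
      group
    rw [e]
    by_cases hxH : x ∈ H
    · exact hkey ⟨x, hxH⟩
    · constructor
      · intro hx; exact absurd (hUH hx) hxH
      · intro hx
        exfalso
        apply hxH
        -- `g⁻¹ U g ≤ H`
        have h1 : g⁻¹ * (g * ((h : G)⁻¹ * x * (h : G)) * g⁻¹) * g ∈ H := by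
          apply hWH
          rw [hWdef, mem_conjMap_iff, inv_inv]
          have : g * (g⁻¹ * (g * ((h : G)⁻¹ * x * (h : G)) * g⁻¹) * g) * g⁻¹ =
              g * ((h : G)⁻¹ * x * (h : G)) * g⁻¹ := by group
          rw [this]; exact hx
        have h2 : g⁻¹ * (g * ((h : G)⁻¹ * x * (h : G)) * g⁻¹) * g = (h : G)⁻¹ * x * (h : G) := by
          group
        rw [h2] at h1
        have h3 : x = (h : G) * ((h : G)⁻¹ * x * (h : G)) * (h : G)⁻¹ := by group
        rw [h3]
        exact H.mul_mem (H.mul_mem h.2 h1) (H.inv_mem h.2)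
  have hnH := hN U hUH hU hUne hn
  apply hg
  have : g = g * (h : G)⁻¹ * (h : G) := by group
  rw [this]
  exact H.mul_mem hnH h.2

/-- the hypothesis on subgroups of a fixed Sylow 2-subgroup of `H` gives `NormCond H`. -/
theorem normCond_of_sylow [Finite G] (H : Subgroup G) (P : Sylow 2 ↥H)
    (hX : ∀ X : Subgroup ↥H, X ≤ (P : Subgroup ↥H) → X ≠ ⊥ →
      Subgroup.normalizer ((X.map H.subtype : Subgroup G) : Set G) ≤ H) : NormCond H := by
  haveI : Fact (Nat.Prime 2) := ⟨Nat.prime_two⟩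
  intro U hUH hU hUne n hn
  obtain ⟨Q, hQ⟩ := (hU.comap_subtype (K := H)).exists_le_sylow
  obtain ⟨h, hh⟩ := MulAction.exists_smul_eq H Q P
  -- `X = (h U h⁻¹) ∩ H`
  set Uh := U.map (MulAut.conj (h : G)).toMonoidHom with hUh
  have hUhH : Uh ≤ H := by
    intro x hx
    rw [hUh, mem_conjMap_iff] at hx
    have h1 := hUH hx
    have : x = (h : G) * ((h : G)⁻¹ * x * (h : G)) * (h : G)⁻¹ := by group
    rw [this]
    exact H.mul_mem (H.mul_mem h.2 h1) (H.inv_mem h.2)
  have hXP : Uh.subgroupOf H ≤ (P : Subgroup ↥H) := by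
    intro y hy
    rw [Subgroup.mem_subgroupOf, hUh, mem_conjMap_iff] at hy
    change y ∈ P
    rw [← hh, sylow_mem_smul_iff]
    apply hQ
    change ((h⁻¹ * y * h : H) : G) ∈ U
    exact hy
  have hXne : Uh.subgroupOf H ≠ ⊥ := by
    intro hbot
    apply hUne
    have h1 : (Uh.subgroupOf H).map H.subtype = Uh := Subgroup.map_subgroupOf_eq_of_le hUhH
    rw [hbot, Subgroup.map_bot] at h1
    rw [hUh] at h1
    exact (Subgroup.map_eq_bot_iff_of_injective _ (MulAut.conj (h : G)).injective).mp h1.symm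
  have h2 := hX _ hXP hXne
  rw [Subgroup.map_subgroupOf_eq_of_le hUhH] at h2
  have h3 := h2 (conj_mem_normalizer_conjMap (g := (h : G)) hn)
  have : n = (h : G)⁻¹ * ((h : G) * n * (h : G)⁻¹) * (h : G) := by group
  rw [this]
  exact H.mul_mem (H.mul_mem (H.inv_mem h.2) h3) h.2

/-- S0214. -/
theorem stronglyEmbedded_iff_normalizers [Finite G] (H : Subgroup G) (hH : H ≠ ⊤)
    (P : Sylow 2 ↥H) (hP : (P : Subgroup ↥H) ≠ ⊥) :
    Cfsg.IsStronglyEmbedded H ↔
      (∀ X : Subgroup ↥H, X ≤ (P : Subgroup ↥H) → X ≠ ⊥ →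
        Subgroup.normalizer ((X.map H.subtype : Subgroup G) : Set G) ≤ H) := by
  haveI : Fact (Nat.Prime 2) := ⟨Nat.prime_two⟩
  have hevenP : ∀ X : Subgroup ↥H, X ≤ (P : Subgroup ↥H) → X ≠ ⊥ → Even (Nat.card X) := by
    intro X hXP hXne
    obtain ⟨k, hk⟩ := IsPGroup.iff_card.mp (P.2.to_le hXP)
    rcases Nat.eq_zero_or_pos k with h0 | h0
    · rw [h0, pow_zero, Subgroup.card_eq_one] at hk
      exact absurd hk hXne
    · rw [hk]; exact (Nat.even_pow.mpr ⟨even_two, h0.ne'⟩)
  constructor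
  · intro hSE X hXP hXne n hn
    have heven : Even (Nat.card (X.map H.subtype)) := by
      rw [Nat.card_congr (Subgroup.equivMapOfInjective X H.subtype H.subtype_injective).symm.toEquiv]
      exact hevenP X hXP hXne
    obtain ⟨s, hs, hsord⟩ := exists_involution_of_even_card heven
    have hsH : s ∈ H := Subgroup.map_subtype_le X hs
    apply mem_of_involution_mem_inf hSE hsord hsH
    rw [mem_conjMap_iff]
    apply Subgroup.map_subtype_le X
    have hn' := inv_mem hn
    rw [Subgroup.mem_normalizer_iff] at hn'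
    have := (hn' s).mp hs
    rwa [inv_inv] at this
  · intro hX
    apply stronglyEmbedded_of_normCond H hH _ (normCond_of_sylow H P hX)
    have h1 := hevenP _ le_rfl hP
    exact (Even.two_dvd h1).trans (Subgroup.card_subgroup_dvd_card _) |> even_iff_two_dvd.mpr

end Cfsg.Agent.Lib.Helper2
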