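import Mathlib
import Cfsg.Agent.Lib.Helper2.StronglyEmbedded2

/-!
# Centralizer of a self-centralizing normal subgroup of a Sylow subgroup (S0125)
(helper2 library)
-/

set_option autoImplicit false

namespace Cfsg.Agent.Lib.Helper2

open scoped Pointwise

variable {G : Type*} [Group G]

/-- `A` is a maximal `p`-subgroup of `C_G(A)`. -/
theorem maximal_pgroup_centralizer [Finite G] {p : ℕ} [Fact p.Prime] (R : Sylow p G)
    (A : Subgroup G) (hAn : (R : Subgroup G) ≤ Subgroup.normalizer (A : Set G))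
    (hC : (R : Subgroup G) ⊓ Subgroup.centralizer (A : Set G) = A)
    (S : Subgroup G) (hS : IsPGroup p S) (hSC : S ≤ Subgroup.centralizer (A : Set G))
    (hAS : A ≤ S) : S = A := by
  set N := Subgroup.normalizer (A : Set G) with hN
  have hCN : Subgroup.centralizer (A : Set G) ≤ N := Subgroup.centralizer_le_normalizer _
  -- conjugate `S` into `R` inside `N`
  obtain ⟨S', hS'⟩ := (hS.comap_subtype (K := N)).exists_le_sylow
  obtain ⟨n, hn⟩ := MulAction.exists_smul_eq N S' (R.subtype hAn)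
  have hconj : ∀ s ∈ S, (n : G) * s * (n : G)⁻¹ ∈ (R : Subgroup G) ⊓ Subgroup.centralizer (A : Set G) := by
    intro s hs
    have hsN : s ∈ N := hCN (hSC hs)
    have h1 : (⟨s, hsN⟩ : N) ∈ S' := hS' (by exact hs)
    have h2 : n * ⟨s, hsN⟩ * n⁻¹ ∈ (n • S' : Sylow p N) := by
      rw [sylow_mem_smul_iff]
      have : n⁻¹ * (n * ⟨s, hsN⟩ * n⁻¹) * n = ⟨s, hsN⟩ := by group
      rw [this]; exact h1
    rw [hn] at h2
    have h3 : ((n * ⟨s, hsN⟩ * n⁻¹ : N) : G) ∈ (R : Subgroup G) := by
      have : (n * ⟨s, hsN⟩ * n⁻¹ : N) ∈ ((R.subtype hAn : Sylow p N) : Subgroup N) := h2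
      rw [Sylow.coe_subtype, Subgroup.mem_subgroupOf] at this
      exact this
    refine Subgroup.mem_inf.mpr ⟨h3, ?_⟩
    -- `n s n⁻¹` centralizes `n A n⁻¹ = A`
    rw [Subgroup.mem_centralizer_iff]
    intro a ha
    have hnN : (n : G) ∈ Subgroup.normalizer (A : Set G) := n.2
    have ha' : (n : G)⁻¹ * a * (n : G) ∈ A := by
      have := (Subgroup.mem_normalizer_iff.mp (inv_mem hnN) a).mp ha
      rwa [inv_inv] at this
    have hcs := (Subgroup.mem_centralizer_iff.mp (hSC hs)) _ ha'
    calc a * ((n : G) * s * (n : G)⁻¹)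
        = (n : G) * (((n : G)⁻¹ * a * (n : G)) * s) * (n : G)⁻¹ := by group
      _ = (n : G) * (s * ((n : G)⁻¹ * a * (n : G))) * (n : G)⁻¹ := by rw [hcs]
      _ = (n : G) * s * (n : G)⁻¹ * a := by group
  rw [hC] at hconj
  -- so `|S| ≤ |A|`
  have hcard : Nat.card S ≤ Nat.card A := by
    apply Nat.card_le_card_of_injective (fun s : S => (⟨(n : G) * s * (n : G)⁻¹, hconj s s.2⟩ : A))
    intro s t hst
    have : (n : G) * s * (n : G)⁻¹ = (n : G) * t * (n : G)⁻¹ := congrArg Subtype.val hst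
    apply Subtype.ext
    have h4 := mul_right_cancel this
    exact mul_left_cancel h4
  exact (Subgroup.eq_of_le_of_card_ge hAS hcard).symm

/-- S0125. -/
theorem centralizer_eq_direct_product [Finite G] {p : ℕ} [Fact p.Prime] (R : Sylow p G)
    (A : Subgroup G) (hAR : A ≤ (R : Subgroup G))
    (hAn : (R : Subgroup G) ≤ Subgroup.normalizer (A : Set G))
    (hC : (R : Subgroup G) ⊓ Subgroup.centralizer (A : Set G) = A) :
    ∃ H : Subgroup G, H ≤ Subgroup.centralizer (A : Set G) ∧ Nat.Coprime (Nat.card H) p ∧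
      Subgroup.centralizer (A : Set G) ≤ Subgroup.normalizer (H : Set G) ∧ H ⊓ A = ⊥ ∧
      H ⊔ A = Subgroup.centralizer (A : Set G) := by
  have hp : p.Prime := Fact.out
  set C := Subgroup.centralizer (A : Set G) with hCdef
  have hAC : A ≤ C := by rw [← hC]; exact inf_le_right
  have hA : IsPGroup p A := R.2.to_le hAR
  -- `A` as a Sylow subgroup of `C`
  let P : Sylow p ↥C :=
    { toSubgroup := A.subgroupOf C
      isPGroup' := hA.comap_subtype
      is_maximal' := by
        intro Q hQ hle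
        have h1 : Q.map C.subtype = A := by
          apply maximal_pgroup_centralizer R A hAn hC _ (hQ.map _) (Subgroup.map_subtype_le Q)
          rw [← Subgroup.map_subgroupOf_eq_of_le hAC]
          exact Subgroup.map_mono hle
        rw [← h1]
        ext x
        rw [Subgroup.mem_subgroupOf]
        constructor
        · intro hx; exact ⟨x, hx, rfl⟩
        · rintro ⟨y, hy, hyx⟩
          have : y = x := Subtype.ext hyx
          rw [← this]; exact hy }
  have hPcoe : (P : Subgroup ↥C) = A.subgroupOf C := rfl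
  -- `P` is central in `C`
  have hPcent : Subgroup.normalizer ((P : Subgroup ↥C) : Set ↥C) ≤
      Subgroup.centralizer ((P : Subgroup ↥C) : Set ↥C) := by
    intro c _
    rw [Subgroup.mem_centralizer_iff]
    intro a ha
    rw [SetLike.mem_coe, hPcoe, Subgroup.mem_subgroupOf] at ha
    apply Subtype.ext
    have := (Subgroup.mem_centralizer_iff.mp c.2) _ ha
    exact this
  obtain ⟨K, hKn, hcompl, hKp⟩ : ∃ K : Subgroup ↥C, K.Normal ∧
      Subgroup.IsComplement' K (P : Subgroup ↥C) ∧ ¬ p ∣ Nat.card K :=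
    ⟨(MonoidHom.transferSylow P hPcent).ker, inferInstance,
      MonoidHom.ker_transferSylow_isComplement' P hPcent,
      MonoidHom.not_dvd_card_ker_transferSylow P hPcent⟩
  refine ⟨K.map C.subtype, Subgroup.map_subtype_le K, ?_, ?_, ?_, ?_⟩
  · rw [Nat.card_congr (Subgroup.equivMapOfInjective K C.subtype C.subtype_injective).symm.toEquiv]
    exact ((Nat.Prime.coprime_iff_not_dvd hp).mpr hKp).symm
  · intro c hc
    rw [Subgroup.mem_normalizer_iff]
    intro x
    constructor
    · rintro ⟨k, hk, rfl⟩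
      refine ⟨⟨c, hc⟩ * k * ⟨c, hc⟩⁻¹, hKn.conj_mem k hk ⟨c, hc⟩, ?_⟩
      simp only [Subgroup.subtype_apply, Subgroup.coe_mul, Subgroup.coe_inv]
    · rintro ⟨k, hk, hkx⟩
      have hxC : x ∈ C := by
        have h1 : c⁻¹ * (c * x * c⁻¹) * c ∈ C :=
          C.mul_mem (C.mul_mem (C.inv_mem hc) (by rw [← hkx]; exact k.2)) hc
        have : c⁻¹ * (c * x * c⁻¹) * c = x := by group
        rwa [this] at h1
      refine ⟨⟨x, hxC⟩, ?_, rfl⟩
      have h2 := hKn.conj_mem k hk ⟨c, hc⟩⁻¹
      have : (⟨c, hc⟩ : C)⁻¹ * k * (⟨c, hc⟩ : C)⁻¹⁻¹ = ⟨x, hxC⟩ := by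
        apply Subtype.ext
        simp only [Subgroup.coe_mul, Subgroup.coe_inv, inv_inv]
        change c⁻¹ * (k : G) * c = x
        have : (k : G) = c * x * c⁻¹ := hkx
        rw [this]; group
      rwa [this] at h2
  · have h1 : K ⊓ (P : Subgroup ↥C) = ⊥ := disjoint_iff.mp hcompl.disjoint
    have h2 := congrArg (Subgroup.map C.subtype) h1
    rw [Subgroup.map_inf _ _ _ C.subtype_injective, Subgroup.map_bot, hPcoe,
      Subgroup.map_subgroupOf_eq_of_le hAC] at h2
    exact h2
  · have h1 : K ⊔ (P : Subgroup ↥C) = ⊤ := hcompl.sup_eq_top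
    have h2 := congrArg (Subgroup.map C.subtype) h1
    rw [Subgroup.map_sup, hPcoe, Subgroup.map_subgroupOf_eq_of_le hAC,
      ← MonoidHom.range_eq_map, Subgroup.subtype_range] at h2
    exact h2

end Cfsg.Agent.Lib.Helper2
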