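import Mathlib
import Cfsg.Prelude.Def_Characters
import Cfsg.Agent.Lib.Helper2.Decomp
import Cfsg.Agent.Lib.Helper2.Integrality

/-!
# Representations of degree smaller than every prime divisor of the group order
(helper2 library)
-/

set_option autoImplicit false

namespace Cfsg.Agent.Lib.Helper2

open Module

universe u

variable {G : Type*} [Group G] [Finite G]

/-- If the degree of a complex representation is smaller than every prime dividing `|G|`, then all the
operators `ρ a` commute. -/
theorem commute_of_degree_lt_primes {V : Type u} [AddCommGroup V] [Module ℂ V]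
    [FiniteDimensional ℂ V] (ρ : Representation ℂ G V)
    (hdeg : ∀ p : ℕ, p.Prime → p ∣ Nat.card G → finrank ℂ V < p) (a b : G) :
    ρ a * ρ b = ρ b * ρ a := by
  revert hdeg
  refine rep_induction (G := G)
    (P := fun V _ _ ρ => (∀ p : ℕ, p.Prime → p ∣ Nat.card G → finrank ℂ V < p) →
      ρ a * ρ b = ρ b * ρ a) ?_ ?_ ?_ ?_ V ρ
  · intro V _ _ _ ρ _
    exact LinearMap.ext fun v => Subsingleton.elim _ _
  · intro V _ _ _ ρ hirr hdeg
    haveI := hirr
    classical
    haveI : Fintype G := Fintype.ofFinite G
    have hdvd := finrank_dvd_card ρ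
    have hpos := finrank_pos_of_isIrreducible ρ
    have h1 : finrank ℂ V = 1 := by
      by_contra hne
      obtain ⟨q, hq, hqd⟩ := Nat.exists_prime_and_dvd hne
      have := hdeg q hq (hqd.trans hdvd)
      exact absurd (Nat.le_of_dvd hpos hqd) (by omega)
    obtain ⟨c, hc, -⟩ := LinearMap.existsUnique_eq_smul_id_of_finrank_eq_one h1 (ρ a)
    obtain ⟨d, hd, -⟩ := LinearMap.existsUnique_eq_smul_id_of_finrank_eq_one h1 (ρ b)
    rw [hc, hd]
    ext v
    simp [mul_comm, smul_smul]
  · intro V W _ _ _ _ _ _ ρ σ e ih hdeg
    have hfr : finrank ℂ V = finrank ℂ W := e.toLinearEquiv.finrank_eq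
    have h := ih (fun p hp hpd => hfr ▸ hdeg p hp hpd)
    have hE : ∀ (g : G) (v : V), σ g (e.toLinearEquiv v) = e.toLinearEquiv (ρ g v) := by
      intro g v
      exact (LinearMap.congr_fun (e.toIntertwiningMap.isIntertwining' g) v).symm
    have h' := fun v => LinearMap.congr_fun h v
    simp only [Module.End.mul_apply] at h'
    refine LinearMap.ext fun w => ?_
    obtain ⟨v, rfl⟩ := e.toLinearEquiv.surjective w
    simp only [Module.End.mul_apply]
    rw [hE, hE, hE, hE, h']
  · intro V W _ _ _ _ _ _ ρ σ ihρ ihσ hdeg
    have hfr : finrank ℂ (V × W) = finrank ℂ V + finrank ℂ W := Module.finrank_prod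
    have h1 := ihρ (fun p hp hpd => by have := hdeg p hp hpd; omega)
    have h2 := ihσ (fun p hp hpd => by have := hdeg p hp hpd; omega)
    have h1' := fun v => LinearMap.congr_fun h1 v
    have h2' := fun v => LinearMap.congr_fun h2 v
    simp only [Module.End.mul_apply] at h1' h2'
    refine LinearMap.ext fun ⟨v, w⟩ => Prod.ext ?_ ?_
    · simp [Representation.prod, h1']
    · simp [Representation.prod, h2']

/-- A finite group with a faithful complex representation of degree smaller than every prime
dividing its order is abelian. -/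
theorem comm_of_faithful_degree_lt_primes {V : Type u} [AddCommGroup V] [Module ℂ V]
    [FiniteDimensional ℂ V] (ρ : Representation ℂ G V) (hfaithful : Function.Injective ρ)
    (hdeg : ∀ p : ℕ, p.Prime → p ∣ Nat.card G → finrank ℂ V < p) (a b : G) :
    a * b = b * a := by
  apply hfaithful
  rw [map_mul, map_mul]
  exact commute_of_degree_lt_primes ρ hdeg a b

end Cfsg.Agent.Lib.Helper2
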