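import Mathlib
import Cfsg.Prelude.Def_Characters
import Cfsg.Agent.Lib.Helper2.KRep
import Cfsg.Agent.Lib.Helper2.KInduced
import Cfsg.Agent.Lib.Helper2.EquivOfChar
import Cfsg.Agent.S0163

/-!
# Brauer's splitting field theorem (helper2 library)

If a subfield `K` of `ℂ` contains the values of all linear characters of all subgroups of `G`,
then every complex representation of `G` is equivalent to one with matrix entries in `K`.
-/

set_option autoImplicit false

universe u

namespace Cfsg.Agent.Lib.Helper2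

namespace KRep

open Module

variable {G : Type u} [Group G] [Finite G] {K : Type} [Field K] [Algebra K ℂ]

omit [Finite G] in
/-- a `K`-valued homomorphism to `ℂˣ` lifts to `Kˣ` -/
theorem exists_lift_hom (E : Subgroup G) (lam : E →* ℂˣ)
    (h : ∀ e : E, ((lam e : ℂˣ) : ℂ) ∈ (algebraMap K ℂ).range) :
    ∃ lamK : E →* Kˣ, ∀ e : E, algebraMap K ℂ ((lamK e : Kˣ) : K) = ((lam e : ℂˣ) : ℂ) := by
  choose kf hkf using h
  have hinj := (algebraMap K ℂ).injective
  have hk1 : kf 1 = 1 := hinj (by rw [hkf, map_one, Units.val_one, map_one])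
  have hkmul : ∀ a b, kf (a * b) = kf a * kf b := fun a b =>
    hinj (by rw [hkf, map_mul, map_mul, Units.val_mul, hkf, hkf])
  let lamK0 : E →* K := ⟨⟨kf, hk1⟩, hkmul⟩
  refine ⟨lamK0.toHomUnits, ?_⟩
  intro e
  rw [MonoidHom.coe_toHomUnits]
  exact hkf e

omit [Finite G] in
/-- the Brauer combination splits into a difference of realizable characters -/
theorem exists_realizable_sub [Fintype G]
    (hK : ∀ (E : Subgroup G) (lam : E →* ℂˣ) (e : E),
      ((lam e : ℂˣ) : ℂ) ∈ (algebraMap K ℂ).range)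
    (l : List ((E : Subgroup G) × ((E →* ℂˣ) × ℤ))) :
    ∃ ψ₁ ψ₂ : G → ℂ, Realizable K ψ₁ ∧ Realizable K ψ₂ ∧
      (l.map fun t => (t.2.2 : ℂ) • Cfsg.indFun t.1 (fun e => (t.2.1 e : ℂ))).sum = ψ₁ - ψ₂ := by
  induction l with
  | nil => exact ⟨0, 0, realizable_zero, realizable_zero, by simp⟩
  | cons t l ih =>
    obtain ⟨ψ₁, ψ₂, h₁, h₂, hsum⟩ := ih
    obtain ⟨lamK, hlamK⟩ := exists_lift_hom t.1 t.2.1 (hK t.1 t.2.1)
    have hreal : Realizable K (Cfsg.indFun t.1 (fun e => (t.2.1 e : ℂ))) := by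
      have := realizable_indFun t.1 lamK
      have heq : (fun e : t.1 => algebraMap K ℂ ((lamK e : Kˣ) : K)) =
          fun e => ((t.2.1 e : ℂˣ) : ℂ) := funext hlamK
      rwa [heq] at this
    rw [List.map_cons, List.sum_cons, hsum]
    rcases le_total 0 t.2.2 with hc | hc
    · obtain ⟨k, hk⟩ := Int.eq_ofNat_of_zero_le hc
      refine ⟨k • Cfsg.indFun t.1 (fun e => (t.2.1 e : ℂ)) + ψ₁, ψ₂,
        realizable_add (realizable_nsmul hreal _) h₁, h₂, ?_⟩
      rw [hk, Int.cast_natCast, Nat.cast_smul_eq_nsmul]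
      abel
    · obtain ⟨k, hk⟩ := Int.exists_eq_neg_ofNat hc
      refine ⟨ψ₁, k • Cfsg.indFun t.1 (fun e => (t.2.1 e : ℂ)) + ψ₂, h₁,
        realizable_add (realizable_nsmul hreal _) h₂, ?_⟩
      rw [hk, Int.cast_neg, Int.cast_natCast, neg_smul, Nat.cast_smul_eq_nsmul]
      abel

/-- **Brauer's splitting field theorem**, abstract form. -/
theorem exists_equiv_entries
    (hK : ∀ (E : Subgroup G) (lam : E →* ℂˣ) (e : E),
      ((lam e : ℂˣ) : ℂ) ∈ (algebraMap K ℂ).range)
    (n : ℕ) (ρ : Representation ℂ G (Fin n → ℂ)) :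
    ∃ σ : Representation ℂ G (Fin n → ℂ), Nonempty (ρ.Equiv σ) ∧
      ∀ (g : G) (i j : Fin n), LinearMap.toMatrix' (σ g) i j ∈ (algebraMap K ℂ).range := by
  classical
  haveI : Fintype G := Fintype.ofFinite G
  have hχ : Cfsg.IsCharacter G ρ.character := isCharacter_of_rep ρ
  obtain ⟨l, _, hl⟩ := Cfsg.Agent.S0163.result ρ.character hχ
  obtain ⟨ψ₁, ψ₂, h₁, h₂, hsum⟩ := exists_realizable_sub hK l
  have hreal : Realizable K ρ.character := by
    apply realizable_of_add h₁ h₂ hχ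
    rw [hl, hsum]
    abel
  obtain ⟨W, _, _, _, τ, hτ⟩ := hreal
  obtain ⟨d, σ₀, hσ₀char, hσ₀ent⟩ : ∃ (d : ℕ) (σ₀ : Representation ℂ G (Fin d → ℂ)),
      σ₀.character = ρ.character ∧
      ∀ (g : G) (i j : Fin d), LinearMap.toMatrix' (σ₀ g) i j ∈ (algebraMap K ℂ).range :=
    ⟨_, complexify τ, by rw [complexify_character, hτ], complexify_entry τ⟩
  have hd : d = n := by
    have h1 := congrFun hσ₀char 1
    rw [Representation.char_one, Representation.char_one] at h1
    simpa using h1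
  subst hd
  obtain ⟨φ⟩ := nonempty_equiv_of_char_eq _ _ _ ρ σ₀ rfl hσ₀char.symm
  exact ⟨σ₀, ⟨φ⟩, hσ₀ent⟩

/-- **Brauer's splitting field theorem** (S0166): every complex representation of a finite group
of exponent `m` is equivalent to one with matrix entries in `ℚ(exp(2πi/m))`. -/
theorem splitting_exponent (n : ℕ) (ρ : Representation ℂ G (Fin n → ℂ)) :
    ∃ σ : Representation ℂ G (Fin n → ℂ), Nonempty (ρ.Equiv σ) ∧
      ∀ g : G, ∀ i j : Fin n, LinearMap.toMatrix' (σ g) i j ∈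
        Algebra.adjoin ℚ ({Complex.exp (2 * Real.pi * Complex.I / (Monoid.exponent G : ℂ))} :
          Set ℂ) := by
  set m := Monoid.exponent G with hm
  have hm0 : m ≠ 0 := Monoid.exponent_ne_zero_of_finite
  set ζ : ℂ := Complex.exp (2 * Real.pi * Complex.I / (m : ℂ)) with hζ
  have hprim : IsPrimitiveRoot ζ m := Complex.isPrimitiveRoot_exp m hm0
  have hint : IsIntegral ℚ ζ := by
    apply IsIntegral.of_pow (Nat.pos_of_ne_zero hm0)
    rw [hprim.pow_eq_one]
    exact isIntegral_one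
  let L : IntermediateField ℚ ℂ := IntermediateField.adjoin ℚ {ζ}
  have hLmem : ∀ x : ℂ, x ∈ L ↔ x ∈ Algebra.adjoin ℚ ({ζ} : Set ℂ) := by
    intro x
    have h1 := IntermediateField.adjoin_simple_toSubalgebra_of_isAlgebraic hint.isAlgebraic
    rw [← h1]
    rfl
  have hrange : ∀ x : ℂ, x ∈ (algebraMap L ℂ).range ↔ x ∈ L := by
    intro x
    constructor
    · rintro ⟨y, rfl⟩
      exact y.2
    · intro hx
      exact ⟨⟨x, hx⟩, rfl⟩
  have hK : ∀ (E : Subgroup G) (lam : E →* ℂˣ) (e : E),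
      ((lam e : ℂˣ) : ℂ) ∈ (algebraMap L ℂ).range := by
    intro E lam e
    rw [hrange]
    have h1 : e ^ m = 1 := by
      apply Subtype.ext
      rw [Subgroup.coe_pow, Subgroup.coe_one]
      exact Monoid.pow_exponent_eq_one (e : G)
    have h2 : ((lam e : ℂˣ) : ℂ) ^ m = 1 := by
      rw [← Units.val_pow_eq_pow_val, ← map_pow, h1, map_one, Units.val_one]
    obtain ⟨i, _, hi⟩ := hprim.eq_pow_of_pow_eq_one h2
    rw [← hi]
    exact pow_mem (IntermediateField.mem_adjoin_simple_self ℚ ζ) i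
  obtain ⟨σ, hσ, hent⟩ := exists_equiv_entries (K := L) hK n ρ
  refine ⟨σ, hσ, ?_⟩
  intro g i j
  rw [← hLmem, ← hrange]
  exact hent g i j

end KRep

end Cfsg.Agent.Lib.Helper2
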