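import Mathlib
set_option autoImplicit false

/-!
# Type-A Steinberg groups: abstract set-up (for S2401)

`StRep n K G` : a group `G` with elements `x i j t` (`i j : Fin n`, `t : K`) satisfying Steinberg's relations
(R1) additivity, (R2) commutation for `i ≠ l`, `j ≠ k`, (R3) `[x_ij(t), x_jl(u)] = x_il(tu)` (`[a,b] = a b a⁻¹ b⁻¹`),
together with a homomorphism `φ` to `SL_n(K)` sending `x i j t` to the transvection, and generation.
Basic consequences, conjugation rules.
-/

namespace Cfsg.Agent.Lib.Helper2.StA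

open Matrix

/-- A group with Steinberg (type A) root elements and the natural map to `SL_n`. -/
structure StRep (n : ℕ) (K : Type*) [Field K] (G : Type*) [Group G] where
  x : Fin n → Fin n → K → G
  x_add : ∀ i j, i ≠ j → ∀ t u, x i j t * x i j u = x i j (t + u)
  x_comm : ∀ i j k l, i ≠ j → k ≠ l → i ≠ l → j ≠ k → ∀ t u, x i j t * x k l u = x k l u * x i j t
  x_comm3 : ∀ i j l, i ≠ j → j ≠ l → i ≠ l → ∀ t u,
    x i j t * x j l u * (x i j t)⁻¹ * (x j l u)⁻¹ = x i l (t * u)
  φ : G →* Matrix.SpecialLinearGroup (Fin n) K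
  φ_x : ∀ i j (h : i ≠ j) t, φ (x i j t) = Matrix.SpecialLinearGroup.transvection h t
  gen : Subgroup.closure {g : G | ∃ i j t, i ≠ j ∧ g = x i j t} = ⊤

variable {n : ℕ} {K : Type*} [Field K] {G : Type*} [Group G] (S : StRep n K G)

namespace StRep

/-- conjugation `g a g⁻¹` -/
def cj (g a : G) : G := g * a * g⁻¹

omit S in
theorem cj_mul (g a b : G) : cj g (a * b) = cj g a * cj g b := by
  simp [cj, mul_assoc]

omit S in
theorem cj_inv (g a : G) : cj g a⁻¹ = (cj g a)⁻¹ := by
  simp [cj, mul_assoc]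

omit S in
theorem cj_one (g : G) : cj g 1 = 1 := by simp [cj]

omit S in
theorem cj_cj (g h a : G) : cj g (cj h a) = cj (g * h) a := by
  simp [cj, mul_assoc]

omit S in
theorem cj_one_left (a : G) : cj 1 a = a := by simp [cj]

omit S in
theorem cj_eq_self_iff (g a : G) : cj g a = a ↔ g * a = a * g := by
  unfold cj
  constructor
  · intro h
    calc g * a = g * a * g⁻¹ * g := by group
      _ = a * g := by rw [h]
  · intro h
    rw [h]; group

theorem x_zero {i j : Fin n} (h : i ≠ j) : S.x i j 0 = 1 := by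
  have := S.x_add i j h 0 0
  rw [add_zero] at this
  exact mul_eq_left.mp this

theorem x_neg {i j : Fin n} (h : i ≠ j) (t : K) : S.x i j (-t) = (S.x i j t)⁻¹ := by
  have := S.x_add i j h t (-t)
  rw [add_neg_cancel, S.x_zero h] at this
  exact (inv_eq_of_mul_eq_one_right this).symm

theorem x_inv {i j : Fin n} (h : i ≠ j) (t : K) : (S.x i j t)⁻¹ = S.x i j (-t) := (S.x_neg h t).symm

theorem x_sub {i j : Fin n} (h : i ≠ j) (t u : K) : S.x i j t * (S.x i j u)⁻¹ = S.x i j (t - u) := by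
  rw [S.x_inv h, S.x_add i j h, sub_eq_add_neg]

theorem x_comm_same {i j : Fin n} (h : i ≠ j) (t u : K) : S.x i j t * S.x i j u = S.x i j u * S.x i j t := by
  rw [S.x_add i j h, S.x_add i j h, add_comm]

/-- (C0) commuting root elements -/
theorem cj_x_comm {i j k l : Fin n} (hij : i ≠ j) (hkl : k ≠ l) (hil : i ≠ l) (hjk : j ≠ k) (u t : K) :
    cj (S.x i j u) (S.x k l t) = S.x k l t := by
  rw [cj_eq_self_iff]
  exact S.x_comm i j k l hij hkl hil hjk u t

/-- (C1) `x_ij(u) x_jl(t) x_ij(u)⁻¹ = x_il(ut) x_jl(t)` -/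
theorem cj_x_right {i j l : Fin n} (hij : i ≠ j) (hjl : j ≠ l) (hil : i ≠ l) (u t : K) :
    cj (S.x i j u) (S.x j l t) = S.x i l (u * t) * S.x j l t := by
  have := S.x_comm3 i j l hij hjl hil u t
  unfold cj
  rw [← this]; group

/-- (C2) `x_ij(u) x_ki(t) x_ij(u)⁻¹ = x_ki(t) x_kj(-(tu))` -/
theorem cj_x_left {i j k : Fin n} (hij : i ≠ j) (hki : k ≠ i) (hkj : k ≠ j) (u t : K) :
    cj (S.x i j u) (S.x k i t) = S.x k i t * S.x k j (-(t * u)) := by
  have h := S.x_comm3 k i j hki hij hkj (-t) u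
  rw [S.x_neg hki, inv_inv] at h
  unfold cj
  have h2 : S.x i j u * S.x k i t * (S.x i j u)⁻¹ =
      S.x k i t * ((S.x k i t)⁻¹ * S.x i j u * S.x k i t * (S.x i j u)⁻¹) := by group
  rw [h2, h, neg_mul]

/-- the commutator relation, rewritten -/
theorem comm3 {i j l : Fin n} (hij : i ≠ j) (hjl : j ≠ l) (hil : i ≠ l) (t u : K) :
    S.x i l (t * u) = S.x i j t * S.x j l u * (S.x i j t)⁻¹ * (S.x j l u)⁻¹ :=
  (S.x_comm3 i j l hij hjl hil t u).symm

theorem x_mem_closure (i j : Fin n) (h : i ≠ j) (t : K) :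
    S.x i j t ∈ Subgroup.closure {g : G | ∃ i j t, i ≠ j ∧ g = S.x i j t} :=
  Subgroup.subset_closure ⟨i, j, t, h, rfl⟩

/-- an element commuting with all root elements is central -/
theorem central_of_commute (g : G) (h : ∀ i j, i ≠ j → ∀ t, g * S.x i j t = S.x i j t * g) :
    ∀ a : G, g * a = a * g := by
  intro a
  have ha : a ∈ Subgroup.closure {g : G | ∃ i j t, i ≠ j ∧ g = S.x i j t} := by
    rw [S.gen]; trivial
  induction ha using Subgroup.closure_induction with
  | mem y hy =>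
    obtain ⟨i, j, t, hij, rfl⟩ := hy
    exact h i j hij t
  | one => simp
  | mul y z _ _ hy hz => rw [← mul_assoc, hy, mul_assoc, hz, mul_assoc]
  | inv y _ hy =>
    have : y⁻¹ * (g * y) * y⁻¹ = y⁻¹ * (y * g) * y⁻¹ := by rw [hy]
    simpa [mul_assoc] using this.symm

/-- an induction principle on the whole group -/
theorem induction_on {P : G → Prop} (g : G) (h1 : P 1)
    (hmul : ∀ i j, i ≠ j → ∀ t a, P a → P (S.x i j t * a)) : P g := by
  have hg : g ∈ Subgroup.closure {g : G | ∃ i j t, i ≠ j ∧ g = S.x i j t} := by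
    rw [S.gen]; trivial
  induction hg using Subgroup.closure_induction_left with
  | one => exact h1
  | mul_left y hy z _ hz =>
    obtain ⟨i, j, t, hij, rfl⟩ := hy
    exact hmul i j hij t z hz
  | inv_mul_cancel y hy z _ hz =>
    obtain ⟨i, j, t, hij, rfl⟩ := hy
    rw [S.x_inv hij]
    exact hmul i j hij (-t) z hz

theorem φ_x_coe {i j : Fin n} (h : i ≠ j) (t : K) :
    ((S.φ (S.x i j t) : Matrix.SpecialLinearGroup (Fin n) K) : Matrix (Fin n) (Fin n) K) =
      Matrix.transvection i j t := by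
  rw [S.φ_x i j h]; rfl

end StRep

end Cfsg.Agent.Lib.Helper2.StA
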