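import Cfsg.Agent.Lib.Helper2.StA0
set_option autoImplicit false

/-!
# Type-A Steinberg groups: the elements `w_ij(u)` act monomially on root elements
-/

namespace Cfsg.Agent.Lib.Helper2.StA

variable {n : ℕ} {K : Type*} [Field K] {G : Type*} [Group G] (S : StRep n K G)

namespace StRep

/-- `w_ij(u) = x_ij(u) x_ji(-u⁻¹) x_ij(u)` with a field-valued parameter -/
def wK (i j : Fin n) (u : K) : G := S.x i j u * S.x j i (-u⁻¹) * S.x i j u

theorem cj_wK (i j : Fin n) (u : K) (a : G) :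
    cj (S.wK i j u) a = cj (S.x i j u) (cj (S.x j i (-u⁻¹)) (cj (S.x i j u) a)) := by
  rw [cj_cj, cj_cj, wK]

/-- (A) -/
theorem cj_wK_disjoint {i j k l : Fin n} (hij : i ≠ j) (hkl : k ≠ l) (hki : k ≠ i) (hkj : k ≠ j)
    (hli : l ≠ i) (hlj : l ≠ j) (u t : K) : cj (S.wK i j u) (S.x k l t) = S.x k l t := by
  rw [cj_wK, S.cj_x_comm hij hkl hli.symm hkj.symm, S.cj_x_comm hij.symm hkl hlj.symm hki.symm,
    S.cj_x_comm hij hkl hli.symm hkj.symm]

/-- (B) -/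
theorem cj_wK_B {i j l : Fin n} (hij : i ≠ j) (hli : l ≠ i) (hlj : l ≠ j) {u : K} (hu : u ≠ 0) (t : K) :
    cj (S.wK i j u) (S.x i l t) = S.x j l (-u⁻¹ * t) := by
  rw [cj_wK, S.cj_x_comm hij hli.symm hli.symm hij.symm, S.cj_x_right hij.symm hli.symm hlj.symm,
    cj_mul, S.cj_x_right hij hlj.symm hli.symm, S.cj_x_comm hij hli.symm hli.symm hij.symm]
  have e : u * (-u⁻¹ * t) = -t := by field_simp
  rw [e, mul_assoc, S.x_comm j l i l hlj.symm hli.symm hlj.symm hli, ← mul_assoc, S.x_add i l hli.symm,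
    neg_add_cancel, S.x_zero hli.symm, one_mul]

/-- (C) -/
theorem cj_wK_C {i j l : Fin n} (hij : i ≠ j) (hli : l ≠ i) (hlj : l ≠ j) {u : K} (hu : u ≠ 0) (t : K) :
    cj (S.wK i j u) (S.x j l t) = S.x i l (u * t) := by
  rw [cj_wK, S.cj_x_right hij hlj.symm hli.symm, cj_mul, S.cj_x_right hij.symm hli.symm hlj.symm,
    S.cj_x_comm hij.symm hlj.symm hlj.symm hij]
  have e : -u⁻¹ * (u * t) = -t := by field_simp
  rw [e, mul_assoc, S.x_comm i l j l hli.symm hlj.symm hli.symm hlj, ← mul_assoc, S.x_add j l hlj.symm,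
    neg_add_cancel, S.x_zero hlj.symm, one_mul, S.cj_x_comm hij hli.symm hli.symm hij.symm]

/-- (D) -/
theorem cj_wK_D {i j k : Fin n} (hij : i ≠ j) (hki : k ≠ i) (hkj : k ≠ j) {u : K} (hu : u ≠ 0) (t : K) :
    cj (S.wK i j u) (S.x k i t) = S.x k j (-u * t) := by
  rw [cj_wK, S.cj_x_left hij hki hkj, cj_mul, S.cj_x_comm hij.symm hki hij.symm hki.symm,
    S.cj_x_left hij.symm hkj hki]
  have e : -(-(t * u) * -u⁻¹) = -t := by field_simp
  rw [e, S.x_comm k j k i hkj hki hki hkj.symm, ← mul_assoc, S.x_add k i hki,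
    add_neg_cancel, S.x_zero hki, one_mul, S.cj_x_comm hij hkj hij hkj.symm]
  congr 1; ring

/-- (E) -/
theorem cj_wK_E {i j k : Fin n} (hij : i ≠ j) (hki : k ≠ i) (hkj : k ≠ j) {u : K} (hu : u ≠ 0) (t : K) :
    cj (S.wK i j u) (S.x k j t) = S.x k i (u⁻¹ * t) := by
  rw [cj_wK, S.cj_x_comm hij hkj hij hkj.symm, S.cj_x_left hij.symm hkj hki, cj_mul,
    S.cj_x_comm hij hkj hij hkj.symm, S.cj_x_left hij hki hkj]
  have e : -(-(t * -u⁻¹) * u) = -t := by field_simp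
  rw [e, ← mul_assoc, S.x_comm k j k i hkj hki hki hkj.symm, mul_assoc,
    S.x_add k j hkj, add_neg_cancel, S.x_zero hkj, mul_one]
  congr 1; ring

/-- (F) uses a third index -/
theorem cj_wK_F {i j m : Fin n} (hij : i ≠ j) (hmi : m ≠ i) (hmj : m ≠ j) {u : K} (hu : u ≠ 0) (t : K) :
    cj (S.wK i j u) (S.x i j t) = S.x j i (-u⁻¹ * u⁻¹ * t) := by
  have e : S.x i j t = S.x i m t * S.x m j 1 * (S.x i m t)⁻¹ * (S.x m j 1)⁻¹ := by
    rw [← S.comm3 hmi.symm hmj hij, mul_one]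
  rw [e, cj_mul, cj_mul, cj_mul, cj_inv, cj_inv, S.cj_wK_B hij hmi hmj hu, S.cj_wK_E hij hmi hmj hu,
    ← S.comm3 hmj.symm hmi hij.symm]
  congr 1; ring

/-- (G) uses a third index -/
theorem cj_wK_G {i j m : Fin n} (hij : i ≠ j) (hmi : m ≠ i) (hmj : m ≠ j) {u : K} (hu : u ≠ 0) (t : K) :
    cj (S.wK i j u) (S.x j i t) = S.x i j (-u * u * t) := by
  have e : S.x j i t = S.x j m t * S.x m i 1 * (S.x j m t)⁻¹ * (S.x m i 1)⁻¹ := by
    rw [← S.comm3 hmj.symm hmi hij.symm, mul_one]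
  rw [e, cj_mul, cj_mul, cj_mul, cj_inv, cj_inv, S.cj_wK_C hij hmi hmj hu, S.cj_wK_D hij hmi hmj hu,
    ← S.comm3 hmi.symm hmj hij]
  congr 1; ring

end StRep

end Cfsg.Agent.Lib.Helper2.StA
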