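import Cfsg.Agent.Lib.Helper2.StA9
import Cfsg.Agent.Lib.Helper23.StUKer
import Cfsg.Agent.Lib.Helper27.StHtilC
set_option autoImplicit false

/-!
# Type-A Steinberg groups: injectivity of `φ` (assembly, with the Bruhat decomposition and the torus
lemma as hypotheses)
-/

namespace Cfsg.Agent.Lib.Helper2.StA

variable {n : ℕ} {K : Type*} [Field K] {G : Type*} [Group G] (S : StRep n K G)

namespace StRep

/-- matrices of elements of `U` are upper unitriangular -/
theorem phi_U_upper {g : G} (hg : g ∈ S.U) :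
    (∀ r k : Fin n, k < r →
      ((S.φ g : Matrix.SpecialLinearGroup (Fin n) K) : Matrix (Fin n) (Fin n) K) r k = 0) ∧
    ∀ k : Fin n, ((S.φ g : Matrix.SpecialLinearGroup (Fin n) K) : Matrix (Fin n) (Fin n) K) k k = 1 := by
  unfold U at hg
  have step : ∀ (i j : Fin n) (t : K) (a : G), i < j →
      ((∀ r k : Fin n, k < r →
        ((S.φ a : Matrix.SpecialLinearGroup (Fin n) K) : Matrix (Fin n) (Fin n) K) r k = 0) ∧
      ∀ k : Fin n, ((S.φ a : Matrix.SpecialLinearGroup (Fin n) K) : Matrix (Fin n) (Fin n) K) k k = 1) →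
      ((∀ r k : Fin n, k < r →
        ((S.φ (S.x i j t * a) : Matrix.SpecialLinearGroup (Fin n) K) : Matrix (Fin n) (Fin n) K) r k = 0) ∧
      ∀ k : Fin n,
        ((S.φ (S.x i j t * a) : Matrix.SpecialLinearGroup (Fin n) K) : Matrix (Fin n) (Fin n) K) k k = 1) := by
    intro i j t a hij ⟨h1, h2⟩
    have e : ((S.φ (S.x i j t * a) : Matrix.SpecialLinearGroup (Fin n) K) : Matrix (Fin n) (Fin n) K) =
        ((S.φ a : Matrix.SpecialLinearGroup (Fin n) K) : Matrix (Fin n) (Fin n) K) +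
          Matrix.single i j t * ((S.φ a : Matrix.SpecialLinearGroup (Fin n) K) : Matrix (Fin n) (Fin n) K) := by
      rw [map_mul, Matrix.SpecialLinearGroup.coe_mul, S.φ_x_coe (ne_of_lt hij), Matrix.transvection,
        Matrix.add_mul, Matrix.one_mul]
    constructor
    · intro r k hkr
      rw [e, Matrix.add_apply, h1 r k hkr, zero_add]
      by_cases hri : r = i
      · subst hri
        rw [Matrix.single_mul_apply_same, h1 j k (lt_trans hkr hij), mul_zero]
      · rw [Matrix.single_mul_apply_of_ne (c := t) i j r k hri]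
    · intro k
      rw [e, Matrix.add_apply, h2 k]
      by_cases hki : k = i
      · subst hki
        rw [Matrix.single_mul_apply_same, h1 j k hij, mul_zero, add_zero]
      · rw [Matrix.single_mul_apply_of_ne (c := t) i j k k hki, add_zero]
  induction hg using Subgroup.closure_induction_left with
  | one =>
    simp only [map_one, Matrix.SpecialLinearGroup.coe_one]
    exact ⟨fun r k hkr => Matrix.one_apply_ne (ne_of_gt hkr), fun k => Matrix.one_apply_eq k⟩
  | mul_left y hy z _ hz =>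
    obtain ⟨i, j, t, hij, rfl⟩ := hy
    exact step i j t z hij hz
  | inv_mul_cancel y hy z _ hz =>
    obtain ⟨i, j, t, hij, rfl⟩ := hy
    rw [S.x_inv (ne_of_lt hij)]
    exact step i j (-t) z hij hz

/-- injectivity of `φ`, given the Bruhat decomposition and the torus lemma -/
theorem phi_injective_of [Finite K] (hn : 3 ≤ n)
    (hbruhat : ∀ g : G, ∃ u ∈ S.U, ∃ w ∈ S.Wtil, ∃ u' ∈ S.U, g = u * w * u')
    (htorus : ∀ g : G, g ∈ S.Htil → S.φ g = 1 → g = 1) :
    Function.Injective S.φ := by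
  rw [injective_iff_map_eq_one]
  intro g hg
  obtain ⟨u, hu, w, hw, u', hu', rfl⟩ := hbruhat g
  -- φ w = φ (u⁻¹ u'⁻¹)
  have hb : u⁻¹ * u'⁻¹ ∈ S.U := S.U.mul_mem (S.U.inv_mem hu) (S.U.inv_mem hu')
  have hφw : S.φ w = S.φ (u⁻¹ * u'⁻¹) := by
    have : S.φ w = (S.φ u)⁻¹ * S.φ (u * w * u') * (S.φ u')⁻¹ := by
      simp only [map_mul]; group
    rw [this, hg]
    simp only [map_mul, map_inv]; group
  obtain ⟨σ, d, hmon⟩ := S.exists_monAct_of_mem_Wtil hn hw
  have hdiag : ∀ k, ((S.φ w : Matrix.SpecialLinearGroup (Fin n) K) : Matrix (Fin n) (Fin n) K) k k = 1 := by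
    intro k
    rw [hφw]
    exact (S.phi_U_upper hb).2 k
  obtain ⟨hw1, hσ⟩ := hmon.phi_eq_one_of_diag (by omega) hdiag
  subst hσ
  have hwH : w ∈ S.Htil := Cfsg.Agent.Lib.Helper27.StHtilC.mem_Htil_of_monAct_one S hn hw hmon
  have hw_one : w = 1 := htorus w hwH hw1
  subst hw_one
  rw [mul_one] at hg ⊢
  exact Cfsg.Agent.Lib.Helper23.StUKer.U_inter_ker S (S.U.mul_mem hu hu') hg

end StRep

end Cfsg.Agent.Lib.Helper2.StA
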