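import Cfsg.Agent.Lib.Helper2.StA10
import Cfsg.Agent.Lib.Helper15.SLNormal
set_option autoImplicit false

/-!
# The Steinberg presentation of `SL_n` as a `StRep`
-/

namespace Cfsg.Agent.Lib.Helper2.StA

open Matrix

variable (n : ℕ) (K : Type*) [Field K]

/-- index type of the generators -/
abbrev Idx := {ij : Fin n × Fin n // ij.1 ≠ ij.2}

/-- Steinberg's relators, exactly as in statement S2401 -/
def stRels : Set (FreeGroup (Idx n × K)) :=
  {g : FreeGroup (Idx n × K) | ∃ (a : Idx n) (t u : K),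
      g = FreeGroup.of (a, t) * FreeGroup.of (a, u) * (FreeGroup.of (a, t + u))⁻¹} ∪
    {g | ∃ (a b : Idx n) (t u : K), a.1.1 ≠ b.1.2 ∧ a.1.2 ≠ b.1.1 ∧
      g = FreeGroup.of (a, t) * FreeGroup.of (b, u) * (FreeGroup.of (a, t))⁻¹ * (FreeGroup.of (b, u))⁻¹} ∪
    {g | ∃ (a b : Idx n) (h : a.1.1 ≠ b.1.2) (t u : K), a.1.2 = b.1.1 ∧
      g = FreeGroup.of (a, t) * FreeGroup.of (b, u) * (FreeGroup.of (a, t))⁻¹ * (FreeGroup.of (b, u))⁻¹ *
        (FreeGroup.of (⟨(a.1.1, b.1.2), h⟩, t * u))⁻¹}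

variable {n K}

/-- matrix relations -/
theorem tv_comm {i j k l : Fin n} (hij : i ≠ j) (hkl : k ≠ l) (hil : i ≠ l) (hjk : j ≠ k) (t u : K) :
    SpecialLinearGroup.transvection hij t * SpecialLinearGroup.transvection hkl u =
      SpecialLinearGroup.transvection hkl u * SpecialLinearGroup.transvection hij t := by
  apply Subtype.ext
  change ((1 : Matrix (Fin n) (Fin n) K) + single i j t) * (1 + single k l u) =
    (1 + single k l u) * (1 + single i j t)
  simp only [mul_add, add_mul, mul_one, one_mul,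
    single_mul_single_of_ne _ _ _ _ hjk, single_mul_single_of_ne _ _ _ _ hil.symm]
  abel

theorem tv_comm3 {i j l : Fin n} (hij : i ≠ j) (hjl : j ≠ l) (hil : i ≠ l) (t u : K) :
    SpecialLinearGroup.transvection hij t * SpecialLinearGroup.transvection hjl u *
      (SpecialLinearGroup.transvection hij t)⁻¹ * (SpecialLinearGroup.transvection hjl u)⁻¹ =
      SpecialLinearGroup.transvection hil (t * u) := by
  rw [mul_inv_eq_iff_eq_mul, mul_inv_eq_iff_eq_mul]
  apply Subtype.ext
  change ((1 : Matrix (Fin n) (Fin n) K) + single i j t) * (1 + single j l u) =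
    (1 + single i l (t * u)) * (1 + single j l u) * (1 + single i j t)
  simp only [mul_add, add_mul, mul_one, one_mul,
    single_mul_single_same, single_mul_single_of_ne _ _ _ _ hil.symm, single_mul_single_of_ne _ _ _ _ hjl.symm,
    zero_mul, mul_zero, add_zero]
  abel

/-- the map on generators -/
def genMap : Idx n × K → SpecialLinearGroup (Fin n) K := fun p => SpecialLinearGroup.transvection p.1.2 p.2

theorem genMap_rels : ∀ r ∈ stRels n K, FreeGroup.lift (genMap (n := n) (K := K)) r = 1 := by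
  intro r hr
  rcases hr with (⟨a, t, u, rfl⟩ | ⟨a, b, t, u, h1, h2, rfl⟩) | ⟨a, b, h, t, u, hab, rfl⟩
  · simp only [map_mul, map_inv, FreeGroup.lift_apply_of, genMap]
    rw [SpecialLinearGroup.transvection_add, mul_inv_cancel]
  · simp only [map_mul, map_inv, FreeGroup.lift_apply_of, genMap]
    rw [tv_comm a.2 b.2 h1 h2]; group
  · simp only [map_mul, map_inv, FreeGroup.lift_apply_of, genMap]
    obtain ⟨⟨i, j⟩, hij⟩ := a
    obtain ⟨⟨k, l⟩, hkl⟩ := b
    simp only at hab h hij hkl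
    subst hab
    rw [tv_comm3 hij hkl h, mul_inv_cancel]

/-- the presented group -/
abbrev StGrp (n : ℕ) (K : Type*) [Field K] := PresentedGroup (stRels n K)

/-- the root elements of the presented group -/
noncomputable def stX (i j : Fin n) (t : K) : StGrp n K :=
  if h : i ≠ j then PresentedGroup.of (⟨(i, j), h⟩, t) else 1

theorem stX_of {i j : Fin n} (h : i ≠ j) (t : K) :
    stX i j t = (PresentedGroup.of (⟨(i, j), h⟩, t) : StGrp n K) := by
  simp [stX, h]

/-- the Steinberg presentation as a `StRep` -/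
noncomputable def stRep (n : ℕ) (K : Type*) [Field K] : StRep n K (StGrp n K) where
  x := stX
  x_add := by
    intro i j hij t u
    rw [stX_of hij, stX_of hij, stX_of hij]
    have : (FreeGroup.of ((⟨(i, j), hij⟩ : Idx n), t) * FreeGroup.of ((⟨(i, j), hij⟩ : Idx n), u) *
        (FreeGroup.of ((⟨(i, j), hij⟩ : Idx n), t + u))⁻¹) ∈ stRels n K :=
      Or.inl (Or.inl ⟨_, t, u, rfl⟩)
    have h := PresentedGroup.one_of_mem this
    simp only [map_mul, map_inv] at h
    exact mul_inv_eq_one.mp h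
  x_comm := by
    intro i j k l hij hkl hil hjk t u
    rw [stX_of hij, stX_of hkl]
    have : (FreeGroup.of ((⟨(i, j), hij⟩ : Idx n), t) * FreeGroup.of ((⟨(k, l), hkl⟩ : Idx n), u) *
        (FreeGroup.of ((⟨(i, j), hij⟩ : Idx n), t))⁻¹ * (FreeGroup.of ((⟨(k, l), hkl⟩ : Idx n), u))⁻¹) ∈
        stRels n K :=
      Or.inl (Or.inr ⟨_, _, t, u, hil, hjk, rfl⟩)
    have h := PresentedGroup.one_of_mem this
    simp only [map_mul, map_inv] at h
    have h2 := mul_inv_eq_one.mp h
    exact mul_inv_eq_iff_eq_mul.mp h2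
  x_comm3 := by
    intro i j l hij hjl hil t u
    rw [stX_of hij, stX_of hjl, stX_of hil]
    have : (FreeGroup.of ((⟨(i, j), hij⟩ : Idx n), t) * FreeGroup.of ((⟨(j, l), hjl⟩ : Idx n), u) *
        (FreeGroup.of ((⟨(i, j), hij⟩ : Idx n), t))⁻¹ * (FreeGroup.of ((⟨(j, l), hjl⟩ : Idx n), u))⁻¹ *
        (FreeGroup.of ((⟨(i, l), hil⟩ : Idx n), t * u))⁻¹) ∈ stRels n K :=
      Or.inr ⟨⟨(i, j), hij⟩, ⟨(j, l), hjl⟩, hil, t, u, rfl, rfl⟩
    have h := PresentedGroup.one_of_mem this
    simp only [map_mul, map_inv] at h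
    exact mul_inv_eq_one.mp h
  φ := PresentedGroup.toGroup genMap_rels
  φ_x := by
    intro i j hij t
    rw [stX_of hij]
    exact PresentedGroup.toGroup.of genMap_rels
  gen := by
    rw [eq_top_iff, ← PresentedGroup.closure_range_of (stRels n K)]
    apply Subgroup.closure_mono
    rintro g ⟨⟨⟨⟨i, j⟩, hij⟩, t⟩, rfl⟩
    exact ⟨i, j, t, hij, (stX_of hij t).symm⟩

theorem stRep_phi_surjective (hn : 2 ≤ n) : Function.Surjective (stRep n K).φ := by
  haveI : Nontrivial (Fin n) := Fin.nontrivial_iff_two_le.mpr hn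
  intro A
  refine Cfsg.Agent.Lib.Helper15.SLn_transvection_induction
    (fun A => ∃ g, (stRep n K).φ g = A) ?_ ?_ A
  · intro i j hij c
    exact ⟨(stRep n K).x i j c, (stRep n K).φ_x i j hij c⟩
  · rintro A B ⟨g, rfl⟩ ⟨g', rfl⟩
    exact ⟨g * g', map_mul _ _ _⟩

end Cfsg.Agent.Lib.Helper2.StA
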