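import Cfsg.Agent.Lib.Helper2.StA1
set_option autoImplicit false

/-!
# Type-A Steinberg groups: monomially acting elements, `w_ij(u)`, `h_ij(u)`
-/

namespace Cfsg.Agent.Lib.Helper2.StA

variable {n : ℕ} {K : Type*} [Field K] {G : Type*} [Group G] (S : StRep n K G)

theorem exists_third (hn : 3 ≤ n) (i j : Fin n) : ∃ m : Fin n, m ≠ i ∧ m ≠ j := by
  by_contra hcon
  push Not at hcon
  have h0 := hcon ⟨0, by omega⟩
  have h1 := hcon ⟨1, by omega⟩
  have h2 := hcon ⟨2, by omega⟩
  by_cases a0 : (⟨0, by omega⟩ : Fin n) = i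
  · by_cases a1 : (⟨1, by omega⟩ : Fin n) = i
    · have := a0.trans a1.symm
      simp [Fin.ext_iff] at this
    · have b1 := h1 a1
      by_cases a2 : (⟨2, by omega⟩ : Fin n) = i
      · have := a0.trans a2.symm
        simp [Fin.ext_iff] at this
      · have b2 := h2 a2
        have := b1.trans b2.symm
        simp [Fin.ext_iff] at this
  · have b0 := h0 a0
    by_cases a1 : (⟨1, by omega⟩ : Fin n) = i
    · by_cases a2 : (⟨2, by omega⟩ : Fin n) = i
      · have := a1.trans a2.symm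
        simp [Fin.ext_iff] at this
      · have b2 := h2 a2
        have := b0.trans b2.symm
        simp [Fin.ext_iff] at this
    · have b1 := h1 a1
      have := b0.trans b1.symm
      simp [Fin.ext_iff] at this

namespace StRep

/-- `g` acts on the root elements like the monomial matrix `e_k ↦ d_k e_{σ k}` -/
def MonAct (g : G) (σ : Equiv.Perm (Fin n)) (d : Fin n → Kˣ) : Prop :=
  ∀ k l, k ≠ l → ∀ t : K, cj g (S.x k l t) = S.x (σ k) (σ l) (((d k / d l : Kˣ) : K) * t)

theorem MonAct.one : S.MonAct 1 1 (fun _ => 1) := by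
  intro k l _ t
  simp [cj_one_left]

variable {S}

theorem MonAct.mul {g g' : G} {σ σ' : Equiv.Perm (Fin n)} {d d' : Fin n → Kˣ}
    (hg : S.MonAct g σ d) (hg' : S.MonAct g' σ' d') :
    S.MonAct (g * g') (σ * σ') (fun k => d (σ' k) * d' k) := by
  intro k l hkl t
  rw [← cj_cj, hg' k l hkl, hg (σ' k) (σ' l) (fun h => hkl (σ'.injective h))]
  simp only [Equiv.Perm.coe_mul, Function.comp_apply]
  congr 1
  rw [← mul_assoc, ← Units.val_mul]
  congr 2
  rw [div_mul_div_comm]

theorem MonAct.inv {g : G} {σ : Equiv.Perm (Fin n)} {d : Fin n → Kˣ} (hg : S.MonAct g σ d) :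
    S.MonAct g⁻¹ σ⁻¹ (fun k => (d (σ⁻¹ k))⁻¹) := by
  intro k l hkl t
  have h := hg (σ⁻¹ k) (σ⁻¹ l) (fun h => hkl (σ⁻¹.injective h))
    ((((d (σ⁻¹ k))⁻¹ / (d (σ⁻¹ l))⁻¹ : Kˣ) : K) * t)
  have hk : σ (σ⁻¹ k) = k := by simp
  have hl : σ (σ⁻¹ l) = l := by simp
  rw [hk, hl] at h
  rw [← mul_assoc, ← Units.val_mul] at h
  have e : (d (σ⁻¹ k) / d (σ⁻¹ l)) * ((d (σ⁻¹ k))⁻¹ / (d (σ⁻¹ l))⁻¹) = 1 := by
    rw [div_mul_div_comm, mul_inv_cancel, mul_inv_cancel, div_one]
  rw [e, Units.val_one, one_mul] at h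
  rw [← h, cj_cj, inv_mul_cancel, cj_one_left]

variable (S)

/-- `w_ij(u)` for a unit `u` -/
def w (i j : Fin n) (u : Kˣ) : G := S.wK i j (u : K)

theorem w_def (i j : Fin n) (u : Kˣ) :
    S.w i j u = S.x i j u * S.x j i (-((u⁻¹ : Kˣ) : K)) * S.x i j u := by
  simp [w, wK]

/-- the diagonal part of the monomial matrix of `w_ij(u)` -/
def dw (i j : Fin n) (u : Kˣ) : Fin n → Kˣ := fun k => if k = i then -u⁻¹ else if k = j then u else 1

theorem monAct_w (hn : 3 ≤ n) {i j : Fin n} (hij : i ≠ j) (u : Kˣ) :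
    S.MonAct (S.w i j u) (Equiv.swap i j) (dw i j u) := by
  obtain ⟨m, hmi, hmj⟩ := exists_third hn i j
  have hu : (u : K) ≠ 0 := u.ne_zero
  intro k l hkl t
  unfold w
  by_cases hki : k = i
  · subst hki
    by_cases hlj : l = j
    · subst hlj
      rw [S.cj_wK_F hij hmi hmj hu, Equiv.swap_apply_left, Equiv.swap_apply_right]
      congr 1
      simp [dw, hij.symm, Units.val_div_eq_div_val]
      field_simp
    · rw [S.cj_wK_B hij (Ne.symm hkl) hlj hu, Equiv.swap_apply_left,
        Equiv.swap_apply_of_ne_of_ne (Ne.symm hkl) hlj]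
      congr 1
      simp [dw, hlj, (Ne.symm hkl)]
  · by_cases hkj : k = j
    · subst hkj
      by_cases hli : l = i
      · subst hli
        rw [S.cj_wK_G hkl.symm hmi hmj hu, Equiv.swap_apply_left, Equiv.swap_apply_right]
        congr 1
        simp [dw, hkl, Units.val_div_eq_div_val]
        field_simp
      · rw [S.cj_wK_C hij hli (Ne.symm hkl) hu, Equiv.swap_apply_right,
          Equiv.swap_apply_of_ne_of_ne hli (Ne.symm hkl)]
        congr 1
        simp [dw, hli, (Ne.symm hkl), hki]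
    · by_cases hli : l = i
      · subst hli
        rw [S.cj_wK_D hij hki hkj hu, Equiv.swap_apply_left, Equiv.swap_apply_of_ne_of_ne hki hkj]
        congr 1
        simp [dw, hki, hkj]
      · by_cases hlj : l = j
        · subst hlj
          rw [S.cj_wK_E hij hki hkj hu, Equiv.swap_apply_right, Equiv.swap_apply_of_ne_of_ne hki hkj]
          congr 1
          simp [dw, hki, hkj, hli]
        · rw [S.cj_wK_disjoint hij hkl hki hkj hli hlj, Equiv.swap_apply_of_ne_of_ne hki hkj,
            Equiv.swap_apply_of_ne_of_ne hli hlj]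
          simp [dw, hki, hkj, hli, hlj]

end StRep

end Cfsg.Agent.Lib.Helper2.StA
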