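import Cfsg.Agent.Lib.Helper2.StA2
set_option autoImplicit false

/-!
# Type-A Steinberg groups: the subgroups `U`, `W̃`, `H̃` and first identities
-/

namespace Cfsg.Agent.Lib.Helper2.StA

variable {n : ℕ} {K : Type*} [Field K] {G : Type*} [Group G] (S : StRep n K G)

namespace StRep

/-- the subgroup generated by all `w_ij(u)` -/
def Wtil : Subgroup G := Subgroup.closure {g : G | ∃ i j, ∃ u : Kˣ, i ≠ j ∧ g = S.w i j u}

/-- `h_ij(u) = w_ij(u) w_ij(-1)` -/
def h (i j : Fin n) (u : Kˣ) : G := S.w i j u * S.w i j (-1)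

/-- the subgroup generated by all `h_ij(u)` -/
def Htil : Subgroup G := Subgroup.closure {g : G | ∃ i j, ∃ u : Kˣ, i ≠ j ∧ g = S.h i j u}

/-- the subgroup generated by the upper root elements -/
def U : Subgroup G := Subgroup.closure {g : G | ∃ i j t, i < j ∧ g = S.x i j t}

theorem w_mem_Wtil {i j : Fin n} (hij : i ≠ j) (u : Kˣ) : S.w i j u ∈ S.Wtil :=
  Subgroup.subset_closure ⟨i, j, u, hij, rfl⟩

theorem h_mem_Htil {i j : Fin n} (hij : i ≠ j) (u : Kˣ) : S.h i j u ∈ S.Htil :=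
  Subgroup.subset_closure ⟨i, j, u, hij, rfl⟩

theorem x_mem_U {i j : Fin n} (hij : i < j) (t : K) : S.x i j t ∈ S.U :=
  Subgroup.subset_closure ⟨i, j, t, hij, rfl⟩

theorem h_mem_Wtil {i j : Fin n} (hij : i ≠ j) (u : Kˣ) : S.h i j u ∈ S.Wtil :=
  S.Wtil.mul_mem (S.w_mem_Wtil hij u) (S.w_mem_Wtil hij (-1))

theorem Htil_le_Wtil : S.Htil ≤ S.Wtil := by
  unfold Htil
  rw [Subgroup.closure_le]
  rintro g ⟨i, j, u, hij, rfl⟩
  exact S.h_mem_Wtil hij u

theorem w_inv {i j : Fin n} (hij : i ≠ j) (u : Kˣ) : (S.w i j u)⁻¹ = S.w i j (-u) := by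
  rw [w_def, w_def, mul_inv_rev, mul_inv_rev, S.x_inv hij, S.x_inv hij.symm, mul_assoc]
  simp [inv_neg]

theorem exists_monAct_of_mem_Wtil (hn : 3 ≤ n) {g : G} (hg : g ∈ S.Wtil) :
    ∃ σ d, S.MonAct g σ d := by
  unfold Wtil at hg
  induction hg using Subgroup.closure_induction with
  | mem y hy =>
    obtain ⟨i, j, u, hij, rfl⟩ := hy
    exact ⟨_, _, S.monAct_w hn hij u⟩
  | one => exact ⟨_, _, MonAct.one S⟩
  | mul y z _ _ hy hz =>
    obtain ⟨σ, d, h1⟩ := hy
    obtain ⟨σ', d', h2⟩ := hz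
    exact ⟨_, _, h1.mul h2⟩
  | inv y _ hy =>
    obtain ⟨σ, d, h1⟩ := hy
    exact ⟨_, _, h1.inv⟩

variable {S}

theorem MonAct.cj_w {g : G} {σ : Equiv.Perm (Fin n)} {d : Fin n → Kˣ} (hg : S.MonAct g σ d)
    {k l : Fin n} (hkl : k ≠ l) (t : Kˣ) :
    cj g (S.w k l t) = S.w (σ k) (σ l) (d k / d l * t) := by
  rw [w_def, w_def, cj_mul, cj_mul, hg k l hkl, hg l k hkl.symm]
  have e : (((d l / d k : Kˣ) : K)) * -(((t⁻¹ : Kˣ) : K)) = -((((d k / d l * t)⁻¹ : Kˣ) : K)) := by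
    rw [mul_neg, ← Units.val_mul]
    congr 2
    rw [mul_inv, inv_div]
  rw [e, Units.val_mul]

variable (S)

theorem w_swap (hn : 3 ≤ n) {i j : Fin n} (hij : i ≠ j) (u : Kˣ) : S.w j i u = S.w i j (-u⁻¹) := by
  -- `w_ij(v) x_ij(v) w_ij(v)⁻¹ = x_ji(-v⁻¹)` with `v = -u⁻¹`
  set v : Kˣ := -u⁻¹ with hv
  have h1 := S.monAct_w hn hij v i j hij (v : K)
  rw [Equiv.swap_apply_left, Equiv.swap_apply_right] at h1
  have e : (((dw i j v i / dw i j v j : Kˣ) : K)) * (v : K) = (u : K) := by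
    rw [← Units.val_mul]
    congr 1
    simp only [dw, hij.symm, if_true, if_false, hv]
    apply Units.ext
    have hu : (u : K) ≠ 0 := u.ne_zero
    simp only [Units.val_mul, Units.val_div_eq_div_val, Units.val_neg, Units.val_inv_eq_inv_val, inv_neg, inv_inv]
    field_simp
  rw [e] at h1
  -- h1 : cj (w i j v) (x i j v) = x j i u
  have h2 : S.w i j v * S.x i j v = S.x j i u * S.w i j v := by
    rw [← h1]; unfold cj; group
  have hvinv : -(((v⁻¹ : Kˣ) : K)) = (u : K) := by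
    simp [hv]
  rw [w_def S i j v, hvinv] at h2
  rw [w_def S j i u, w_def S i j v, hvinv]
  have hvv : -(((u⁻¹ : Kˣ) : K)) = (v : K) := by simp [hv]
  rw [hvv]
  -- h2 : x v * y u * x v * x v = y u * (x v * y u * x v)
  have := mul_right_cancel (b := S.x i j v) (by simpa [mul_assoc] using h2 :
    (S.x i j v * S.x j i u * S.x i j v) * S.x i j v = (S.x j i u * S.x i j v * S.x j i u) * S.x i j v)
  exact this.symm

theorem h_one {i j : Fin n} (hij : i ≠ j) : S.h i j 1 = 1 := by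
  unfold h
  rw [← S.w_inv hij 1, mul_inv_cancel]

theorem h_mul_inv {i j : Fin n} (hij : i ≠ j) (a b : Kˣ) :
    S.h i j a * (S.h i j b)⁻¹ = S.w i j a * S.w i j (-b) := by
  unfold h
  rw [mul_inv_rev, S.w_inv hij b]
  group

theorem w_eq_h_mul_w_one {i j : Fin n} (hij : i ≠ j) (u : Kˣ) : S.w i j u = S.h i j u * S.w i j 1 := by
  unfold h
  rw [mul_assoc, ← S.w_inv hij 1, inv_mul_cancel, mul_one]

theorem w_one_mul_w_one {i j : Fin n} (hij : i ≠ j) : S.w i j 1 * S.w i j 1 = (S.h i j (-1))⁻¹ := by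
  unfold h
  rw [mul_inv_rev, S.w_inv hij (-1), neg_neg]

variable {S}

theorem MonAct.cj_h {g : G} {σ : Equiv.Perm (Fin n)} {d : Fin n → Kˣ} (hg : S.MonAct g σ d)
    {k l : Fin n} (hkl : k ≠ l) (t : Kˣ) :
    cj g (S.h k l t) = S.h (σ k) (σ l) (d k / d l * t) * (S.h (σ k) (σ l) (d k / d l))⁻¹ := by
  have hkl' : σ k ≠ σ l := fun h => hkl (σ.injective h)
  rw [S.h_mul_inv hkl', h, cj_mul, hg.cj_w hkl, hg.cj_w hkl, mul_neg, mul_one]

variable (S)

/-- the diagonal matrix of `h_ij(u)` -/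
def dh (i j : Fin n) (u : Kˣ) : Fin n → Kˣ := fun k => if k = i then u else if k = j then u⁻¹ else 1

theorem monAct_h (hn : 3 ≤ n) {i j : Fin n} (hij : i ≠ j) (u : Kˣ) :
    S.MonAct (S.h i j u) 1 (dh i j u) := by
  have h1 := (S.monAct_w hn hij u).mul (S.monAct_w hn hij (-1))
  have e1 : Equiv.swap i j * Equiv.swap i j = 1 := Equiv.swap_mul_self i j
  have e2 : (fun k => dw i j u ((Equiv.swap i j) k) * dw i j (-1) k) = dh i j u := by
    funext k
    by_cases hki : k = i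
    · subst hki
      simp [dw, dh, hij.symm]
    · by_cases hkj : k = j
      · subst hkj
        simp [dw, dh, hki]
      · rw [Equiv.swap_apply_of_ne_of_ne hki hkj]
        simp [dw, dh, hki, hkj]
  rw [e1, e2] at h1
  exact h1

/-- root elements are determined by their matrices -/
theorem x_eq_x_iff {i j k l : Fin n} (hij : i ≠ j) (hkl : k ≠ l) {t u : K} (ht : t ≠ 0)
    (h : S.x i j t = S.x k l u) : i = k ∧ j = l ∧ t = u := by
  have h1 := congrArg (fun g => ((S.φ g : Matrix.SpecialLinearGroup (Fin n) K) : Matrix (Fin n) (Fin n) K)) h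
  simp only [S.φ_x_coe hij, S.φ_x_coe hkl] at h1
  have h2 := congrFun (congrFun h1 i) j
  simp only [Matrix.transvection, Matrix.add_apply, Matrix.one_apply, Matrix.single_apply, hij,
    if_false, and_self, if_true, zero_add] at h2
  by_cases hc : k = i ∧ l = j
  · obtain ⟨rfl, rfl⟩ := hc
    simp at h2
    exact ⟨rfl, rfl, h2⟩
  · rw [if_neg hc] at h2
    exact absurd h2 ht

end StRep

end Cfsg.Agent.Lib.Helper2.StA
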