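import Cfsg.Agent.Lib.Helper2.StA3
set_option autoImplicit false

/-!
# Type-A Steinberg groups: monomial action versus the matrix image
-/

namespace Cfsg.Agent.Lib.Helper2.StA

variable {n : ℕ} {K : Type*} [Field K] {G : Type*} [Group G] {S : StRep n K G}

namespace StRep

theorem exists_ne (hn : 2 ≤ n) (k : Fin n) : ∃ l : Fin n, k ≠ l := by
  by_cases h : k = ⟨0, by omega⟩
  · exact ⟨⟨1, by omega⟩, by rw [h]; simp [Fin.ext_iff]⟩
  · exact ⟨_, h⟩

/-- the permutation of a monomially acting element is unique -/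
theorem MonAct.perm_unique (hn : 2 ≤ n) {g : G} {σ σ' : Equiv.Perm (Fin n)} {d d' : Fin n → Kˣ}
    (hg : S.MonAct g σ d) (hg' : S.MonAct g σ' d') : σ = σ' := by
  ext k
  obtain ⟨l, hkl⟩ := exists_ne hn k
  have h1 := hg k l hkl 1
  rw [hg' k l hkl 1] at h1
  have hne : (((d' k / d' l : Kˣ) : K)) * 1 ≠ 0 := by
    rw [mul_one]; exact Units.ne_zero _
  have := S.x_eq_x_iff (fun h => hkl (σ'.injective h)) (fun h => hkl (σ.injective h)) hne h1
  rw [this.1]

/-- the ratio function of a monomially acting element is unique -/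
theorem MonAct.ratio_unique {g : G} {σ σ' : Equiv.Perm (Fin n)} {d d' : Fin n → Kˣ}
    (hg : S.MonAct g σ d) (hg' : S.MonAct g σ' d') {k l : Fin n} (hkl : k ≠ l) :
    d k / d l = d' k / d' l := by
  have h1 := hg k l hkl 1
  rw [hg' k l hkl 1] at h1
  have hne : (((d' k / d' l : Kˣ) : K)) * 1 ≠ 0 := by
    rw [mul_one]; exact Units.ne_zero _
  have := (S.x_eq_x_iff (fun h => hkl (σ'.injective h)) (fun h => hkl (σ.injective h)) hne h1).2.2
  rw [mul_one, mul_one] at this
  exact (Units.ext this).symm

/-- a monomially acting element with trivial permutation and constant diagonal is central -/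
theorem MonAct.central {g : G} {d : Fin n → Kˣ} (hg : S.MonAct g 1 d)
    (hd : ∀ k l, k ≠ l → d k = d l) (a : G) : g * a = a * g := by
  apply S.central_of_commute
  intro i j hij t
  have := hg i j hij t
  rw [hd i j hij, div_self', Units.val_one, one_mul, Equiv.Perm.one_apply, Equiv.Perm.one_apply,
    cj_eq_self_iff] at this
  exact this

/-- matrix form of the monomial action -/
theorem MonAct.phi_mul {g : G} {σ : Equiv.Perm (Fin n)} {d : Fin n → Kˣ} (hg : S.MonAct g σ d)
    {k l : Fin n} (hkl : k ≠ l) (t : K) :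
    ((S.φ g : Matrix.SpecialLinearGroup (Fin n) K) : Matrix (Fin n) (Fin n) K) * Matrix.transvection k l t =
      Matrix.transvection (σ k) (σ l) (((d k / d l : Kˣ) : K) * t) *
        ((S.φ g : Matrix.SpecialLinearGroup (Fin n) K) : Matrix (Fin n) (Fin n) K) := by
  have h := hg k l hkl t
  have h2 : g * S.x k l t = S.x (σ k) (σ l) (((d k / d l : Kˣ) : K) * t) * g := by
    rw [← h]; unfold cj; group
  have h3 := congrArg (fun y => ((S.φ y : Matrix.SpecialLinearGroup (Fin n) K) : Matrix (Fin n) (Fin n) K)) h2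
  simp only [map_mul, Matrix.SpecialLinearGroup.coe_mul] at h3
  rw [S.φ_x_coe hkl, S.φ_x_coe (fun h => hkl (σ.injective h))] at h3
  exact h3

/-- if the matrix of a monomially acting element has all diagonal entries equal to `1`, its matrix is `1`
and its permutation is trivial -/
theorem MonAct.phi_eq_one_of_diag (hn : 2 ≤ n) {g : G} {σ : Equiv.Perm (Fin n)} {d : Fin n → Kˣ}
    (hg : S.MonAct g σ d)
    (hdiag : ∀ k, ((S.φ g : Matrix.SpecialLinearGroup (Fin n) K) : Matrix (Fin n) (Fin n) K) k k = 1) :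
    S.φ g = 1 ∧ σ = 1 := by
  set B : Matrix (Fin n) (Fin n) K := ((S.φ g : Matrix.SpecialLinearGroup (Fin n) K) : Matrix (Fin n) (Fin n) K)
    with hB
  -- B_{rk} = c δ_{r,σ k} B_{σ l, l}
  have key : ∀ k l, k ≠ l → ∀ r, B r k = (((d k / d l : Kˣ) : K)) * (if r = σ k then B (σ l) l else 0) := by
    intro k l hkl r
    have h := hg.phi_mul hkl 1
    rw [← hB] at h
    have h2 := congrFun (congrFun h r) l
    simp only [Matrix.transvection, Matrix.mul_add, Matrix.add_mul, Matrix.mul_one, Matrix.one_mul,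
      Matrix.add_apply] at h2
    have e1 : (B * Matrix.single k l (1 : K)) r l = B r k := by
      simp [Matrix.mul_apply, Matrix.single_apply]
    have e2 : (Matrix.single (σ k) (σ l) ((((d k / d l : Kˣ) : K)) * 1) * B) r l =
        (((d k / d l : Kˣ) : K)) * (if r = σ k then B (σ l) l else 0) := by
      simp [Matrix.mul_apply, Matrix.single_apply]
      by_cases hr : r = σ k
      · simp [hr]
      · simp [hr, Ne.symm hr]
    rw [e1, e2] at h2
    exact add_left_cancel h2
  have hσ : ∀ k, σ k = k := by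
    intro k
    obtain ⟨l, hkl⟩ := exists_ne hn k
    have := key k l hkl k
    rw [hdiag k] at this
    by_contra hne
    rw [if_neg (Ne.symm hne), mul_zero] at this
    exact one_ne_zero this
  have hσ1 : σ = 1 := by
    ext k; simp [hσ k]
  refine ⟨?_, hσ1⟩
  apply Subtype.ext
  rw [← hB]
  ext r k
  simp only [Matrix.SpecialLinearGroup.coe_one, Matrix.one_apply]
  by_cases hrk : r = k
  · subst hrk
    simp [hdiag r]
  · rw [if_neg hrk]
    obtain ⟨l, hkl⟩ := exists_ne hn k
    rw [key k l hkl r, hσ k, if_neg hrk, mul_zero]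

end StRep

end Cfsg.Agent.Lib.Helper2.StA
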