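import Cfsg.Agent.Lib.Helper2.StA4
set_option autoImplicit false

/-!
# Type-A Steinberg groups: symbols `{u,t} = h(ut) h(u)⁻¹ h(t)⁻¹`, central and bimultiplicative
-/

namespace Cfsg.Agent.Lib.Helper2.StA

variable {n : ℕ} {K : Type*} [Field K] {G : Type*} [Group G] (S : StRep n K G)

/-- commutator `a b a⁻¹ b⁻¹` -/
def cm {G : Type*} [Group G] (a b : G) : G := a * b * a⁻¹ * b⁻¹

theorem cm_mul_right {G : Type*} [Group G] (a b c : G) (hc : ∀ x, cm a c * x = x * cm a c) :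
    cm a (b * c) = cm a b * cm a c := by
  have h := hc b⁻¹
  unfold cm at *
  calc a * (b * c) * a⁻¹ * (b * c)⁻¹ = a * b * a⁻¹ * ((a * c * a⁻¹ * c⁻¹) * b⁻¹) := by group
    _ = a * b * a⁻¹ * (b⁻¹ * (a * c * a⁻¹ * c⁻¹)) := by rw [h]
    _ = a * b * a⁻¹ * b⁻¹ * (a * c * a⁻¹ * c⁻¹) := by group

theorem cm_mul_left {G : Type*} [Group G] (b c d : G) (hc : ∀ x, cm c d * x = x * cm c d) :
    cm (b * c) d = cm c d * cm b d := by
  have h := hc b
  unfold cm at *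
  calc b * c * d * (b * c)⁻¹ * d⁻¹ = b * (c * d * c⁻¹ * d⁻¹) * d * b⁻¹ * d⁻¹ := by group
    _ = (c * d * c⁻¹ * d⁻¹) * b * d * b⁻¹ * d⁻¹ := by rw [← h]
    _ = c * d * c⁻¹ * d⁻¹ * (b * d * b⁻¹ * d⁻¹) := by group

theorem cm_central_right {G : Type*} [Group G] (a z g : G) (hz : ∀ x, z * x = x * z) :
    cm a (z * g) = cm a g := by
  unfold cm
  have h1 := hz g
  have h2 := hz a⁻¹
  calc a * (z * g) * a⁻¹ * (z * g)⁻¹ = a * (z * g) * a⁻¹ * g⁻¹ * z⁻¹ := by group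
    _ = a * (g * z) * a⁻¹ * g⁻¹ * z⁻¹ := by rw [h1]
    _ = a * g * (z * a⁻¹) * g⁻¹ * z⁻¹ := by group
    _ = a * g * (a⁻¹ * z) * g⁻¹ * z⁻¹ := by rw [h2]
    _ = a * g * a⁻¹ * (z * g⁻¹) * z⁻¹ := by group
    _ = a * g * a⁻¹ * (g⁻¹ * z) * z⁻¹ := by rw [hz g⁻¹]
    _ = a * g * a⁻¹ * g⁻¹ := by group

theorem cm_central_left {G : Type*} [Group G] (z g d : G) (hz : ∀ x, z * x = x * z) :
    cm (z * g) d = cm g d := by
  unfold cm
  calc z * g * d * (z * g)⁻¹ * d⁻¹ = z * (g * d * g⁻¹) * z⁻¹ * d⁻¹ := by group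
    _ = (g * d * g⁻¹) * z * z⁻¹ * d⁻¹ := by rw [hz (g * d * g⁻¹)]
    _ = g * d * g⁻¹ * d⁻¹ := by group

namespace StRep

variable {S}

theorem MonAct.of_eq {g : G} {σ σ' : Equiv.Perm (Fin n)} {d d' : Fin n → Kˣ} (hg : S.MonAct g σ d)
    (hσ : σ = σ') (hd : d = d') : S.MonAct g σ' d' := by
  subst hσ; subst hd; exact hg

variable (S)

/-- the symbol `{u,t}_{ij} = h_ij(ut) h_ij(u)⁻¹ h_ij(t)⁻¹` -/
def sym (i j : Fin n) (u t : Kˣ) : G := S.h i j (u * t) * (S.h i j u)⁻¹ * (S.h i j t)⁻¹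

theorem sym_central (hn : 3 ≤ n) {i j : Fin n} (hij : i ≠ j) (u t : Kˣ) (a : G) :
    S.sym i j u t * a = a * S.sym i j u t := by
  have h1 := ((S.monAct_h hn hij (u * t)).mul (S.monAct_h hn hij u).inv).mul (S.monAct_h hn hij t).inv
  refine MonAct.central (d := fun _ => 1) (h1.of_eq (by simp) ?_) (fun _ _ _ => rfl) a
  funext k
  simp only [inv_one, Equiv.Perm.coe_one, id_eq]
  by_cases hki : k = i
  · subst hki; simp [dh]
  · by_cases hkj : k = j
    · subst hkj; simp [dh, hki]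
    · simp [dh, hki, hkj]

theorem cj_h_third (hn : 3 ≤ n) {i j m : Fin n} (hij : i ≠ j) (him : i ≠ m) (hjm : j ≠ m) (u t : Kˣ) :
    cj (S.h i m u) (S.h i j t) = S.h i j (u * t) * (S.h i j u)⁻¹ := by
  have := (S.monAct_h hn him u).cj_h hij t
  simp only [Equiv.Perm.coe_one, id_eq] at this
  rw [this]
  have e : dh i m u i / dh i m u j = u := by
    simp [dh, hij.symm, hjm]
  rw [e]

theorem sym_eq_cm (hn : 3 ≤ n) {i j m : Fin n} (hij : i ≠ j) (him : i ≠ m) (hjm : j ≠ m) (u t : Kˣ) :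
    S.sym i j u t = cm (S.h i m u) (S.h i j t) := by
  have := S.cj_h_third hn hij him hjm u t
  unfold cj at this
  unfold cm sym
  rw [this]

theorem h_mul_eq (i j : Fin n) (u t : Kˣ) :
    S.h i j (u * t) = S.sym i j u t * (S.h i j t * S.h i j u) := by
  unfold sym; group

theorem sym_one_left {i j : Fin n} (hij : i ≠ j) (t : Kˣ) : S.sym i j 1 t = 1 := by
  unfold sym; rw [one_mul, S.h_one hij]; group

theorem sym_one_right {i j : Fin n} (hij : i ≠ j) (u : Kˣ) : S.sym i j u 1 = 1 := by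
  unfold sym; rw [mul_one, S.h_one hij]; group

theorem sym_mul_right (hn : 3 ≤ n) {i j : Fin n} (hij : i ≠ j) (u t t' : Kˣ) :
    S.sym i j u (t * t') = S.sym i j u t * S.sym i j u t' := by
  obtain ⟨m, hmi, hmj⟩ := exists_third hn i j
  rw [S.sym_eq_cm hn hij hmi.symm hmj.symm, S.sym_eq_cm hn hij hmi.symm hmj.symm,
    S.sym_eq_cm hn hij hmi.symm hmj.symm, S.h_mul_eq, cm_central_right _ _ _ (S.sym_central hn hij t t')]
  have hc : ∀ x, cm (S.h i m u) (S.h i j t) * x = x * cm (S.h i m u) (S.h i j t) := by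
    rw [← S.sym_eq_cm hn hij hmi.symm hmj.symm]
    exact S.sym_central hn hij u t
  rw [cm_mul_right _ _ _ hc]
  have hc' : ∀ x, cm (S.h i m u) (S.h i j t') * x = x * cm (S.h i m u) (S.h i j t') := by
    rw [← S.sym_eq_cm hn hij hmi.symm hmj.symm]
    exact S.sym_central hn hij u t'
  exact hc' _

theorem sym_mul_left (hn : 3 ≤ n) {i j : Fin n} (hij : i ≠ j) (u u' t : Kˣ) :
    S.sym i j (u * u') t = S.sym i j u t * S.sym i j u' t := by
  obtain ⟨m, hmi, hmj⟩ := exists_third hn i j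
  rw [S.sym_eq_cm hn hij hmi.symm hmj.symm, S.sym_eq_cm hn hij hmi.symm hmj.symm,
    S.sym_eq_cm hn hij hmi.symm hmj.symm, S.h_mul_eq, cm_central_left _ _ _ (S.sym_central hn hmi.symm u u')]
  have hc : ∀ x, cm (S.h i m u) (S.h i j t) * x = x * cm (S.h i m u) (S.h i j t) := by
    rw [← S.sym_eq_cm hn hij hmi.symm hmj.symm]
    exact S.sym_central hn hij u t
  rw [cm_mul_left _ _ _ hc]

end StRep

end Cfsg.Agent.Lib.Helper2.StA
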