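import Cfsg.Agent.Lib.Helper2.StA5
set_option autoImplicit false

/-!
# Type-A Steinberg groups: rank one identities `{u,-u} = 1`, `{1-v, v} = 1`
-/

namespace Cfsg.Agent.Lib.Helper2.StA

variable {n : ℕ} {K : Type*} [Field K] {G : Type*} [Group G] (S : StRep n K G)

namespace StRep

/-- `w_ij(1) h_ij(u) w_ij(1)⁻¹ = h_ij(u⁻¹)` -/
theorem cj_w_one_h (hn : 3 ≤ n) {i j : Fin n} (hij : i ≠ j) (u : Kˣ) :
    cj (S.w i j 1) (S.h i j u) = S.h i j u⁻¹ := by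
  have h1 := (S.monAct_w hn hij 1).cj_h hij u
  rw [Equiv.swap_apply_left, Equiv.swap_apply_right] at h1
  have e : dw i j (1 : Kˣ) i / dw i j 1 j = -1 := by
    simp [dw, hij.symm]
  rw [h1, e, S.h_mul_inv hij.symm, neg_neg, neg_one_mul, S.w_swap hn hij, S.w_swap hn hij]
  have e1 : -(-u)⁻¹ = u⁻¹ := by rw [inv_neg, neg_neg]
  have e2 : -(1 : Kˣ)⁻¹ = -1 := by rw [inv_one]
  rw [e1, e2]
  rfl

/-- `w(t) w(u) = h(t) h(u⁻¹) h(-1)⁻¹` -/
theorem w_mul_w (hn : 3 ≤ n) {i j : Fin n} (hij : i ≠ j) (t u : Kˣ) :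
    S.w i j t * S.w i j u = S.h i j t * S.h i j u⁻¹ * (S.h i j (-1))⁻¹ := by
  have h1 := S.cj_w_one_h hn hij u
  unfold cj at h1
  rw [S.w_eq_h_mul_w_one hij t, S.w_eq_h_mul_w_one hij u, ← h1, ← S.w_one_mul_w_one hij]
  group

/-- `h(-u) h(u⁻¹) = h(-1)` -/
theorem h_neg_mul_h_inv (hn : 3 ≤ n) {i j : Fin n} (hij : i ≠ j) (u : Kˣ) :
    S.h i j (-u) * S.h i j u⁻¹ = S.h i j (-1) := by
  have h1 := S.w_mul_w hn hij 1 u
  have h2 := S.h_mul_inv hij 1 (-u)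
  rw [neg_neg] at h2
  rw [← h2, S.h_one hij, one_mul, one_mul] at h1
  -- h1 : (h (-u))⁻¹ = h u⁻¹ * (h (-1))⁻¹
  have h3 : S.h i j (-u) = S.h i j (-1) * (S.h i j u⁻¹)⁻¹ := by
    rw [← inv_inv (S.h i j (-u)), h1]; group
  rw [h3]; group

theorem sym_inv_neg (hn : 3 ≤ n) {i j : Fin n} (hij : i ≠ j) (u : Kˣ) :
    S.sym i j u⁻¹ (-u) = 1 := by
  unfold sym
  have e : u⁻¹ * -u = -1 := by rw [mul_neg, inv_mul_cancel]
  rw [e, ← S.h_neg_mul_h_inv hn hij u]; group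

/-- `{u, -u} = 1` -/
theorem sym_self_neg (hn : 3 ≤ n) {i j : Fin n} (hij : i ≠ j) (u : Kˣ) :
    S.sym i j u (-u) = 1 := by
  have h1 := S.sym_mul_left hn hij u⁻¹ u (-u)
  rw [inv_mul_cancel, S.sym_one_left hij, S.sym_inv_neg hn hij, one_mul] at h1
  exact h1.symm

/-- skew-symmetry -/
theorem sym_skew (hn : 3 ≤ n) {i j : Fin n} (hij : i ≠ j) (u v : Kˣ) :
    S.sym i j u v * S.sym i j v u = 1 := by
  have h1 := S.sym_self_neg hn hij (u * v)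
  rw [S.sym_mul_left hn hij] at h1
  have e1 : -(u * v) = -u * v := by rw [neg_mul]
  have e2 : -(u * v) = u * -v := by rw [mul_neg]
  have h2 : S.sym i j u (-(u * v)) = S.sym i j u v := by
    rw [e1, S.sym_mul_right hn hij, S.sym_self_neg hn hij, one_mul]
  have h3 : S.sym i j v (-(u * v)) = S.sym i j v u := by
    rw [e2, S.sym_mul_right hn hij, S.sym_self_neg hn hij, mul_one]
  rw [h2, h3] at h1
  exact h1

end StRep

end Cfsg.Agent.Lib.Helper2.StA
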