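import Cfsg.Agent.Lib.Helper2.StA6
set_option autoImplicit false

/-!
# Type-A Steinberg groups: the rank one relation `w(-1/(1+r)) w(1) w(r) = w(r/(1+r))`
-/

namespace Cfsg.Agent.Lib.Helper2.StA

variable {n : ℕ} {K : Type*} [Field K] {G : Type*} [Group G] (S : StRep n K G)

namespace StRep

/-- `x_ji(-v⁻¹) = x_ij(-v) w_ij(v) x_ij(-v)` -/
theorem y_eq (i j : Fin n) (hij : i ≠ j) (v : K) :
    S.x j i (-v⁻¹) = S.x i j (-v) * S.wK i j v * S.x i j (-v) := by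
  unfold wK
  rw [S.x_neg hij]; group

theorem wK_star (hn : 3 ≤ n) {i j : Fin n} (hij : i ≠ j) {r q : K} (hr : r ≠ 0) (hq : q ≠ 0)
    (hqr : q = 1 + r) :
    S.wK i j (-q⁻¹) * S.wK i j 1 * S.wK i j r = S.wK i j (r / q) := by
  obtain ⟨m, hmi, hmj⟩ := exists_third hn i j
  have hs : r / q ≠ 0 := div_ne_zero hr hq
  have hr' : r = q - 1 := by rw [hqr]; ring
  have hq1 : q - 1 ≠ 0 := by rw [← hr']; exact hr
  -- sum of two lower root elements
  have h1 : S.x j i (-(1 : K)⁻¹) * S.x j i (-r⁻¹) = S.x j i (-(r / q)⁻¹) := by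
    rw [S.x_add j i hij.symm]
    congr 1
    rw [hr']; field_simp; ring
  rw [S.y_eq i j hij 1, S.y_eq i j hij r, S.y_eq i j hij (r / q)] at h1
  -- A
  have hA : S.wK i j 1 * S.x i j (-q) = S.x j i q * S.wK i j 1 := by
    have := S.cj_wK_F hij hmi hmj (one_ne_zero) (-q)
    have e : -(1 : K)⁻¹ * (1 : K)⁻¹ * -q = q := by simp
    rw [e] at this
    rw [← this]; unfold cj; group
  -- B
  have hB : S.x j i q = S.x i j q⁻¹ * S.wK i j (-q⁻¹) * S.x i j q⁻¹ := by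
    have := S.y_eq i j hij (-q⁻¹)
    rw [inv_neg, inv_inv, neg_neg, neg_neg] at this
    exact this
  -- C
  have hC : S.x i j q⁻¹ * (S.wK i j 1 * S.wK i j r) = (S.wK i j 1 * S.wK i j r) * S.x i j (r * r * q⁻¹) := by
    have c1 := S.cj_wK_F hij hmi hmj hr (r * r * q⁻¹)
    have e1 : -r⁻¹ * r⁻¹ * (r * r * q⁻¹) = -q⁻¹ := by field_simp
    rw [e1] at c1
    have c2 := S.cj_wK_G hij hmi hmj (one_ne_zero) (-q⁻¹)
    have e2 : -(1 : K) * 1 * -q⁻¹ = q⁻¹ := by simp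
    rw [e2] at c2
    rw [← c2, ← c1]; unfold cj; group
  have e3 : (-1 : K) + -r = -q := by rw [hqr]; ring
  have e4 : (-1 : K) + q⁻¹ = -(r / q) := by rw [hr']; field_simp; ring
  have e5 : r * r * q⁻¹ + -r = -(r / q) := by rw [hr']; field_simp; ring
  -- assemble
  have h2 : S.x i j (-(r / q)) * (S.wK i j (-q⁻¹) * S.wK i j 1 * S.wK i j r) * S.x i j (-(r / q)) =
      S.x i j (-(r / q)) * S.wK i j (r / q) * S.x i j (-(r / q)) := by
    rw [← h1]
    calc S.x i j (-(r / q)) * (S.wK i j (-q⁻¹) * S.wK i j 1 * S.wK i j r) * S.x i j (-(r / q))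
        = S.x i j (-1 + q⁻¹) * (S.wK i j (-q⁻¹) * S.wK i j 1 * S.wK i j r) * S.x i j (r * r * q⁻¹ + -r) := by
          rw [e4, e5]
      _ = S.x i j (-1) * (S.x i j q⁻¹ * S.wK i j (-q⁻¹) * (S.wK i j 1 * S.wK i j r * S.x i j (r * r * q⁻¹))) *
            S.x i j (-r) := by
          rw [← S.x_add i j hij, ← S.x_add i j hij]; group
      _ = S.x i j (-1) * (S.x i j q⁻¹ * S.wK i j (-q⁻¹) * (S.x i j q⁻¹ * (S.wK i j 1 * S.wK i j r))) *
            S.x i j (-r) := by rw [hC]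
      _ = S.x i j (-1) * ((S.x i j q⁻¹ * S.wK i j (-q⁻¹) * S.x i j q⁻¹) * S.wK i j 1) * S.wK i j r *
            S.x i j (-r) := by group
      _ = S.x i j (-1) * (S.wK i j 1 * S.x i j (-q)) * S.wK i j r * S.x i j (-r) := by
          rw [← hB, ← hA]
      _ = S.x i j (-1) * S.wK i j 1 * (S.x i j (-1) * S.x i j (-r)) * S.wK i j r * S.x i j (-r) := by
          rw [S.x_add i j hij, e3]; group
      _ = S.x i j (-1) * S.wK i j 1 * S.x i j (-1) * (S.x i j (-r) * S.wK i j r * S.x i j (-r)) := by group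
  have h3 := mul_left_cancel (mul_right_cancel h2)
  exact h3

end StRep

end Cfsg.Agent.Lib.Helper2.StA
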