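import Cfsg.Agent.Lib.Helper2.StA7
set_option autoImplicit false

/-!
# Type-A Steinberg groups: Steinberg's relation `{1-v, v} = 1`; over a finite field `h_ij` is multiplicative
-/

namespace Cfsg.Agent.Lib.Helper2.StA

variable {n : ℕ} {K : Type*} [Field K] {G : Type*} [Group G] (S : StRep n K G)

namespace StRep

/-- `h(r) = h(q) h(r/q)` when `q = 1 + r` -/
theorem h_eq_mul_of_add (hn : 3 ≤ n) {i j : Fin n} (hij : i ≠ j) (r q : Kˣ) (hqr : (q : K) = 1 + r) :
    S.h i j r = S.h i j q * S.h i j (r / q) := by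
  have h1 := S.wK_star hn hij r.ne_zero q.ne_zero hqr
  have e1 : S.wK i j (-(q : K)⁻¹) = S.w i j (-q⁻¹) := by
    unfold w; simp
  have e2 : S.wK i j (1 : K) = S.w i j 1 := by
    unfold w; simp
  have e3 : S.wK i j (r : K) = S.w i j r := rfl
  have e4 : S.wK i j ((r : K) / q) = S.w i j (r / q) := by
    unfold w; simp [Units.val_div_eq_div_val]
  rw [e1, e2, e3, e4, S.w_eq_h_mul_w_one hij (-q⁻¹), S.w_eq_h_mul_w_one hij r,
    S.w_eq_h_mul_w_one hij (r / q)] at h1
  -- h1 : h(-q⁻¹) w1 w1 (h r w1) = h(r/q) w1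
  have h2 : S.h i j (-q⁻¹) * (S.w i j 1 * S.w i j 1) * S.h i j r = S.h i j (r / q) := by
    have := congrArg (fun g => g * (S.w i j 1)⁻¹) h1
    beta_reduce at this
    calc S.h i j (-q⁻¹) * (S.w i j 1 * S.w i j 1) * S.h i j r
        = S.h i j (-q⁻¹) * S.w i j 1 * S.w i j 1 * (S.h i j r * S.w i j 1) * (S.w i j 1)⁻¹ := by group
      _ = S.h i j (r / q) * S.w i j 1 * (S.w i j 1)⁻¹ := this
      _ = S.h i j (r / q) := by group
  rw [S.w_one_mul_w_one hij] at h2
  have h3 := S.h_neg_mul_h_inv hn hij (-q)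
  rw [neg_neg, inv_neg] at h3
  -- h3 : h q * h (-q⁻¹) = h (-1)
  have h4 : S.h i j (-q⁻¹) = (S.h i j q)⁻¹ * S.h i j (-1) := by
    rw [← h3]; group
  rw [h4] at h2
  rw [← h2]; group

theorem sym_div_self (hn : 3 ≤ n) {i j : Fin n} (hij : i ≠ j) (r q : Kˣ) (hqr : (q : K) = 1 + r) :
    S.sym i j (r / q) q = 1 := by
  unfold sym
  rw [div_mul_cancel, S.h_eq_mul_of_add hn hij r q hqr]; group

/-- Steinberg's relation -/
theorem sym_steinberg (hn : 3 ≤ n) {i j : Fin n} (hij : i ≠ j) (v p : Kˣ) (hvp : (v : K) + p = 1) :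
    S.sym i j p v = 1 := by
  -- r = -p, q = v
  have hqr : (v : K) = 1 + ((-p : Kˣ) : K) := by
    rw [Units.val_neg, ← hvp]; ring
  have h1 := S.sym_div_self hn hij (-p) v hqr
  rw [div_eq_mul_inv, S.sym_mul_left hn hij] at h1
  -- sym(-p, v) * sym(v⁻¹, v) = 1
  have h2 : S.sym i j v⁻¹ v * S.sym i j v v = 1 := by
    rw [← S.sym_mul_left hn hij, inv_mul_cancel, S.sym_one_left hij]
  have h3 : S.sym i j v v = S.sym i j v (-1) := by
    have : S.sym i j v v = S.sym i j v (-v * -1) := by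
      congr 1; simp
    rw [this, S.sym_mul_right hn hij, S.sym_self_neg hn hij, one_mul]
  have h4 : S.sym i j (-p) v = S.sym i j (-1) v * S.sym i j p v := by
    have : -p = -1 * p := by simp
    rw [this, S.sym_mul_left hn hij]
  have h5 : S.sym i j v (-1) * S.sym i j (-1) v = 1 := S.sym_skew hn hij v (-1)
  have h6 : S.sym i j v (-1) * S.sym i j v (-1) = 1 := by
    rw [← S.sym_mul_right hn hij]
    simp [S.sym_one_right hij]
  -- from h1, h2: sym(-p,v) = sym(v,v)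
  have h7 : S.sym i j (-p) v = S.sym i j v v := by
    have a1 : S.sym i j (-p) v = (S.sym i j v⁻¹ v)⁻¹ := eq_inv_of_mul_eq_one_left h1
    have a2 : S.sym i j v v = (S.sym i j v⁻¹ v)⁻¹ := eq_inv_of_mul_eq_one_right h2
    rw [a1, a2]
  rw [h4, h3] at h7
  -- h7 : sym(-1,v) * sym(p,v) = sym(v,-1)
  calc S.sym i j p v = (S.sym i j v (-1) * S.sym i j (-1) v) * S.sym i j p v := by rw [h5, one_mul]
    _ = S.sym i j v (-1) * (S.sym i j (-1) v * S.sym i j p v) := by group
    _ = S.sym i j v (-1) * S.sym i j v (-1) := by rw [h7]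
    _ = 1 := h6

end StRep

end Cfsg.Agent.Lib.Helper2.StA
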