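import Cfsg.Agent.Lib.Helper2.StA8
set_option autoImplicit false

/-!
# Type-A Steinberg groups: over a finite field all symbols vanish, so `h_ij` is multiplicative
-/

namespace Cfsg.Agent.Lib.Helper2.StA

variable {n : ℕ} {K : Type*} [Field K] {G : Type*} [Group G] (S : StRep n K G)

/-- in a finite field of odd characteristic there are two non-squares with sum `1` -/
theorem exists_nonsquare_pair [Finite K] (hK : ringChar K ≠ 2) :
    ∃ v p : Kˣ, (v : K) + p = 1 ∧ ¬ IsSquare v ∧ ¬ IsSquare p := by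
  classical
  haveI : Fintype K := Fintype.ofFinite K
  obtain ⟨c, hc⟩ := FiniteField.exists_nonsquare hK
  have hc0 : c ≠ 0 := by
    rintro rfl; exact hc ⟨0, by simp⟩
  have hodd := FiniteField.odd_card_of_char_ne_two hK
  obtain ⟨a, b, hab⟩ := FiniteField.exists_root_sum_quadratic (R := K)
    (f := Polynomial.X ^ 2) (g := Polynomial.X ^ 2 - Polynomial.C c)
    (Polynomial.degree_X_pow 2) (Polynomial.degree_X_pow_sub_C (by norm_num) c) hodd
  simp only [Polynomial.eval_pow, Polynomial.eval_X, Polynomial.eval_sub, Polynomial.eval_C] at hab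
  have habc : a ^ 2 + b ^ 2 = c := by linear_combination hab
  have ha0 : a ≠ 0 := by
    rintro rfl
    apply hc
    exact ⟨b, by rw [← habc]; ring⟩
  have hb0 : b ≠ 0 := by
    rintro rfl
    apply hc
    exact ⟨a, by rw [← habc]; ring⟩
  refine ⟨Units.mk0 (a ^ 2 / c) (div_ne_zero (pow_ne_zero 2 ha0) hc0),
    Units.mk0 (b ^ 2 / c) (div_ne_zero (pow_ne_zero 2 hb0) hc0), ?_, ?_, ?_⟩
  · simp only [Units.val_mk0]
    rw [← add_div, habc, div_self hc0]
  · rintro ⟨y, hy⟩
    apply hc
    have hy' := congrArg Units.val hy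
    simp only [Units.val_mk0, Units.val_mul] at hy'
    have hy0 : (y : K) ≠ 0 := y.ne_zero
    refine ⟨a / y, ?_⟩
    field_simp
    field_simp at hy'
    linear_combination -hy'
  · rintro ⟨y, hy⟩
    apply hc
    have hy' := congrArg Units.val hy
    simp only [Units.val_mk0, Units.val_mul] at hy'
    have hy0 : (y : K) ≠ 0 := y.ne_zero
    refine ⟨b / y, ?_⟩
    field_simp
    field_simp at hy'
    linear_combination -hy'

namespace StRep

/-- left symbol map as a homomorphism -/
def symL (hn : 3 ≤ n) {i j : Fin n} (hij : i ≠ j) (t : Kˣ) : Kˣ →* G where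
  toFun u := S.sym i j u t
  map_one' := S.sym_one_left hij t
  map_mul' u u' := S.sym_mul_left hn hij u u' t

/-- right symbol map as a homomorphism -/
def symR (hn : 3 ≤ n) {i j : Fin n} (hij : i ≠ j) (u : Kˣ) : Kˣ →* G where
  toFun t := S.sym i j u t
  map_one' := S.sym_one_right hij u
  map_mul' t t' := S.sym_mul_right hn hij u t t'

theorem sym_zpow (hn : 3 ≤ n) {i j : Fin n} (hij : i ≠ j) (z : Kˣ) (a b : ℤ) :
    S.sym i j (z ^ a) (z ^ b) = (S.sym i j z z) ^ (b * a) := by
  have h1 : S.sym i j (z ^ a) (z ^ b) = (S.sym i j z (z ^ b)) ^ a :=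
    map_zpow (S.symL hn hij (z ^ b)) z a
  have h2 : S.sym i j z (z ^ b) = (S.sym i j z z) ^ b :=
    map_zpow (S.symR hn hij z) z b
  rw [h1, h2, zpow_mul]

theorem zpow_of_sq_eq_one {s : G} (hs : s * s = 1) (k : ℤ) : s ^ (2 * k) = 1 := by
  rw [zpow_mul, zpow_two, hs, one_zpow]

theorem sym_eq_one [Finite K] (hn : 3 ≤ n) {i j : Fin n} (hij : i ≠ j) (u t : Kˣ) :
    S.sym i j u t = 1 := by
  obtain ⟨z, hz⟩ := IsCyclic.exists_generator (α := Kˣ)
  set s := S.sym i j z z with hs
  have hss : s * s = 1 := S.sym_skew hn hij z z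
  have hs1 : s = 1 := by
    by_cases hK : ringChar K = 2
    · -- every element is a square
      obtain ⟨y, hy⟩ := FiniteField.isSquare_of_char_two hK (z : K)
      have hy0 : y ≠ 0 := by
        rintro rfl
        rw [mul_zero] at hy
        exact z.ne_zero hy
      obtain ⟨k, hk⟩ := Subgroup.mem_zpowers_iff.mp (hz (Units.mk0 y hy0))
      have hz2 : z = z ^ (2 * k) := by
        rw [zpow_mul', hk, zpow_two]
        apply Units.ext
        simpa using hy
      have : s = s ^ ((2 * k) * 1) := by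
        have h := S.sym_zpow hn hij z 1 (2 * k)
        rw [zpow_one, ← hz2] at h
        exact h
      rw [this, mul_one, zpow_of_sq_eq_one hss]
    · obtain ⟨v, p, hvp, hv, hp⟩ := exists_nonsquare_pair hK
      obtain ⟨a, ha⟩ := Subgroup.mem_zpowers_iff.mp (hz v)
      obtain ⟨b, hb⟩ := Subgroup.mem_zpowers_iff.mp (hz p)
      have hao : Odd a := by
        rcases Int.even_or_odd a with ⟨k, hk⟩ | h
        · exfalso; apply hv
          refine ⟨z ^ k, ?_⟩
          rw [← ha, hk, zpow_add]
        · exact h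
      have hbo : Odd b := by
        rcases Int.even_or_odd b with ⟨k, hk⟩ | h
        · exfalso; apply hp
          refine ⟨z ^ k, ?_⟩
          rw [← hb, hk, zpow_add]
        · exact h
      have h1 := S.sym_steinberg hn hij v p hvp
      rw [← ha, ← hb, S.sym_zpow hn hij] at h1
      obtain ⟨k, hk⟩ := hao.mul hbo
      rw [← hs, hk, zpow_add, zpow_of_sq_eq_one hss, one_mul, zpow_one] at h1
      exact h1
  obtain ⟨a, ha⟩ := Subgroup.mem_zpowers_iff.mp (hz u)
  obtain ⟨b, hb⟩ := Subgroup.mem_zpowers_iff.mp (hz t)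
  rw [← ha, ← hb, S.sym_zpow hn hij, ← hs, hs1, one_zpow]

/-- over a finite field, `h_ij` is multiplicative -/
theorem h_mul [Finite K] (hn : 3 ≤ n) {i j : Fin n} (hij : i ≠ j) (t u : Kˣ) :
    S.h i j (t * u) = S.h i j t * S.h i j u := by
  have h1 := S.sym_eq_one hn hij u t
  unfold sym at h1
  rw [mul_comm t u]
  calc S.h i j (u * t) = (S.h i j (u * t) * (S.h i j u)⁻¹ * (S.h i j t)⁻¹) * (S.h i j t * S.h i j u) := by
        group
    _ = S.h i j t * S.h i j u := by rw [h1, one_mul]

end StRep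

end Cfsg.Agent.Lib.Helper2.StA
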