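import Cfsg.Agent.Lib.Helper14.StCC.Defs
import Cfsg.Agent.Lib.Helper11.StCCPairing
import Cfsg.Agent.Lib.Helper6.StCCAlg

/-!
# S2398 / S2100 (Steinberg's Theorem 10), Part A, piece [A-K2] (helper2, for helper14)

Lifts of `x_r(t)`, `x_r(u)` commute for the exceptional roots `r` (coweight value `2` only: the long roots of
`B₂`).  Characteristic `2`: the squares are closed under addition, so the scaling argument works inside `K²`.
Characteristic `≠ 2`: `x_r(u)` is a commutator of elements commuting with `x_r(t)`.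
-/

set_option autoImplicit false

namespace Cfsg.Agent.Lib.Helper14.StCC.A

open Cfsg.Lie Cfsg.Agent.Lib.Helper8.Chev Cfsg.Agent.Lib.Helper11.StCCPairing
open scoped commutatorElement

variable {D : ChevalleyDatum} {K : Type*} [Field K] {Γ : Type*} [Group Γ] {E : Type*} [Group E]

namespace Helper2

theorem commute_x_x (S : StRep D K Γ) {r : ℕ} (hr : r < D.nroots) (t u : K) :
    Commute (S.x r t) (S.x r u) := by
  show S.x r t * S.x r u = S.x r u * S.x r t
  rw [S.add r hr, S.add r hr, add_comm]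

/-- root elements with no commutator terms commute -/
theorem commute_of_commTerms_nil (S : StRep D K Γ) {a r : ℕ} (ha : a < D.nroots) (hr : r < D.nroots)
    (hra : r ≠ a) (hra' : r ≠ D.neg a) (har : D.commTerms a r = []) (t t' : K) :
    Commute (S.x r t) (S.x a t') := by
  have h := S.comm a ha r hr hra hra' t' t
  have hw : D.commWord K a r t' t = [] := by
    unfold ChevalleyDatum.commWord
    rw [har]
    rfl
  rw [hw, wS_nil, mul_one] at h
  exact h

/-- the pairing on `x_r × x_r` is invariant under the squares -/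
theorem pr_sq_invariant (S : StRep D K Γ) (ψ : E →* Γ) (hψ : Function.Surjective ψ)
    (hc : ψ.ker ≤ Subgroup.center E) {r : ℕ} (hr : r < D.nroots) (m : ℕ → ℤ) (hm : wt D m r = 2)
    {v : K} (hv : v ≠ 0) (t u : K) :
    pr ψ hψ (S.x r (v ^ 2 * t)) (S.x r (v ^ 2 * u)) = pr ψ hψ (S.x r t) (S.x r u) := by
  obtain ⟨g, _, hg⟩ := exists_torus S m hv
  obtain ⟨g', rfl⟩ := hψ g
  have h1 := conj_pr ψ hψ hc g' (S.x r t) (S.x r u)
  have hz : (v : K) ^ (2 : ℤ) = v ^ 2 := by norm_cast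
  rw [hg r hr t, hg r hr u, hm, hz] at h1
  rw [← h1]
  have hcen := pr_mem_center ψ hψ hc (commute_x_x S hr t u)
  rw [Subgroup.mem_center_iff] at hcen
  rw [hcen g', mul_inv_cancel_right]

/-- a product `q⁻¹ p⁻¹ q p` of elements commuting with `x` pairs trivially with `x` -/
theorem pr_comm_eq_one (ψ : E →* Γ) (hψ : Function.Surjective ψ) (hc : ψ.ker ≤ Subgroup.center E)
    {x p q : Γ} (hp : Commute x p) (hq : Commute x q) :
    pr ψ hψ x (q⁻¹ * p⁻¹ * q * p) = 1 := by
  rw [pr_mul_right ψ hψ hc hp, pr_mul_right ψ hψ hc hq, pr_mul_right ψ hψ hc hp.inv_right,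
    pr_inv_right ψ hψ hc hq, pr_inv_right ψ hψ hc hp]
  have hP := pr_mem_center ψ hψ hc hp
  rw [Subgroup.mem_center_iff] at hP
  have h1 : (pr ψ hψ x q)⁻¹ * (pr ψ hψ x p)⁻¹ * pr ψ hψ x q * pr ψ hψ x p =
      (pr ψ hψ x q)⁻¹ * ((pr ψ hψ x p)⁻¹ * pr ψ hψ x q * pr ψ hψ x p) := by group
  rw [h1]
  have h2 : (pr ψ hψ x p)⁻¹ * pr ψ hψ x q * pr ψ hψ x p = pr ψ hψ x q := by
    rw [mul_assoc, hP (pr ψ hψ x q), ← mul_assoc, inv_mul_cancel, one_mul]
  rw [h2, inv_mul_cancel]

end Helper2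

open Helper2 in
/-- [A-K2] lifts of `x_r(t)`, `x_r(u)` commute: the exceptional roots. -/
theorem pr_x_x_of_wt_two (S : StRep D K Γ) (hK5 : ∃ s : Finset K, 4 < s.card)
    (ψ : E →* Γ) (hψ : Function.Surjective ψ) (hc : ψ.ker ≤ Subgroup.center E)
    {r : ℕ} (hr : r < D.nroots) (m : ℕ → ℤ) (hm : wt D m r = 2)
    {a b : ℕ} (ha : a < D.nroots) (hb : b < D.nroots) (hba : b ≠ a) (hba' : b ≠ D.neg a)
    (hra : r ≠ a) (hra' : r ≠ D.neg a) (hrb : r ≠ b) (hrb' : r ≠ D.neg b)
    (har : D.commTerms a r = []) (hbr : D.commTerms b r = [])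
    {C : ℤ} (hC : C = 2 ∨ C = -2) (hab : D.commTerms a b = [(r, C, 1, 1)]) (t u : K) :
    pr ψ hψ (S.x r t) (S.x r u) = 1 := by
  by_cases h2 : (2 : K) = 0
  · -- characteristic 2: the scaling argument inside the squares
    obtain ⟨c, hc0, hc1, hc3⟩ := Cfsg.Agent.Lib.Helper6.StCCAlg.exists_good_scalar hK5
    have h1c : (1 : K) - c ≠ 0 := sub_ne_zero.mpr (Ne.symm hc1)
    have hA0 : c ^ 2 ≠ 0 := pow_ne_zero 2 hc0
    have hA1 : c ^ 2 ≠ 1 := by
      intro h
      apply h1c
      have : ((1 : K) - c) ^ 2 = 0 := by linear_combination h + (1 - c) * h2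
      exact pow_eq_zero_iff (two_ne_zero) |>.mp this
    have hA3 : (c ^ 2) ^ 2 - c ^ 2 + 1 ≠ 0 := by
      have : (c ^ 2) ^ 2 - c ^ 2 + 1 = (c ^ 2 - c + 1) ^ 2 := by
        linear_combination (c ^ 3 - 2 * c ^ 2 + c) * h2
      rw [this]
      exact pow_ne_zero 2 hc3
    have h1A : (1 : K) - c ^ 2 = (1 - c) ^ 2 := by linear_combination (c - c ^ 2) * h2
    refine Cfsg.Agent.Lib.Helper6.StCCAlg.biadd_eq_one_of_central
      (fun t u => pr ψ hψ (S.x r t) (S.x r u))
      (fun t u => pr_mem_center ψ hψ hc (commute_x_x S hr t u)) ?_ ?_ (c ^ 2) hA0 hA1 hA3 ?_ ?_ t u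
    · intro t t' u
      show pr ψ hψ (S.x r (t + t')) (S.x r u) = _
      rw [← S.add r hr, pr_mul_left ψ hψ hc (commute_x_x S hr t' u)]
    · intro t u u'
      show pr ψ hψ (S.x r t) (S.x r (u + u')) = _
      rw [← S.add r hr, pr_mul_right ψ hψ hc (commute_x_x S hr t u')]
    · intro t u
      exact pr_sq_invariant S ψ hψ hc hr m hm hc0 t u
    · intro t u
      show pr ψ hψ (S.x r ((1 - c ^ 2) * t)) (S.x r ((1 - c ^ 2) * u)) = _
      rw [h1A]
      exact pr_sq_invariant S ψ hψ hc hr m hm h1c t u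
  · -- characteristic ≠ 2: `x_r(u)` is a commutator of elements commuting with `x_r(t)`
    have hCK : (C : K) ≠ 0 := by
      rcases hC with rfl | rfl
      · simpa using h2
      · simpa using h2
    have hcomm := S.comm a ha b hb hba hba' (-u / (C : K)) 1
    have hw : D.commWord K a b (-u / (C : K)) 1 = [(r, u)] := by
      unfold ChevalleyDatum.commWord
      rw [hab]
      simp only [List.map_cons, List.map_nil, pow_one]
      congr 2
      field_simp
    rw [hw, wS_cons, wS_nil, mul_one] at hcomm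
    have hx : S.x r u = (S.x b 1)⁻¹ * (S.x a (-u / (C : K)))⁻¹ * S.x b 1 * S.x a (-u / (C : K)) := by
      have h3 : (S.x b 1)⁻¹ * (S.x a (-u / (C : K)))⁻¹ * S.x b 1 * S.x a (-u / (C : K)) =
          (S.x b 1)⁻¹ * (S.x a (-u / (C : K)))⁻¹ * (S.x b 1 * S.x a (-u / (C : K))) := by group
      rw [h3, hcomm]
      group
    rw [hx]
    exact pr_comm_eq_one ψ hψ hc (commute_of_commTerms_nil S ha hr hra hra' har t _)
      (commute_of_commTerms_nil S hb hr hrb hrb' hbr t _)

end Cfsg.Agent.Lib.Helper14.StCC.A
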