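import Cfsg.Agent.Lib.Helper28.SylAlt.Defs

/-!
# S2221 farm (architect helper28), piece [D2]: `decomp_Y_two`

For `m = 2` and `T = ⊤` the group `Y T` is a four-group: the product of the pure vectors
and the pure permutations.
-/

set_option autoImplicit false

namespace Cfsg.Agent.Lib.Helper28.SylAlt

open SW Equiv

namespace Helper2

variable {m : ℕ}

/-- the elements `(v, t)` with `t = 1`. -/
def vecSub (m : ℕ) : Subgroup (SW m) := (tHom (m := m)).ker

/-- the elements `(v, t)` with `v = 0`. -/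
def prmSub (m : ℕ) : Subgroup (SW m) where
  carrier := {x | ∀ j, x.v j = 0}
  one_mem' := by intro j; simp
  mul_mem' := by
    intro x y hx hy j
    simp [hx j, hy _]
  inv_mem' := by
    intro x hx j
    simp [hx _]

theorem mem_vecSub {x : SW m} : x ∈ vecSub m ↔ x.t = 1 := Iff.rfl

theorem mem_prmSub {x : SW m} : x ∈ prmSub m ↔ ∀ j, x.v j = 0 := Iff.rfl

/-- for `m = 2` an even vector is constant. -/
theorem const_of_sum_two {v : Fin 2 → ZMod 2} (h : ∑ i, v i = 0) (i j : Fin 2) : v i = v j := by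
  rw [Fin.sum_univ_two] at h
  have h01 : v 0 = v 1 := by
    have h2 : v 0 = - v 1 := eq_neg_of_add_eq_zero_left h
    rw [h2, ZModModule.neg_eq_self]
  fin_cases i <;> fin_cases j <;> simp [h01]

end Helper2

open Helper2

theorem decomp_Y_two (T : Subgroup (Perm (Fin 2))) (hT : T = ⊤) : Decomp ↥(Y T) := by
  subst hT
  refine ⟨(vecSub 2).subgroupOf (Y ⊤), (prmSub 2).subgroupOf (Y ⊤), ?_, ?_, ?_, ?_, ?_⟩
  · -- `vec (1,1)` is a non-trivial pure vector
    intro hbot
    have hmemY : vec (fun _ : Fin 2 => (1 : ZMod 2)) ∈ Y (⊤ : Subgroup (Perm (Fin 2))) := by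
      rw [mem_Y]
      refine ⟨Subgroup.mem_top _, ?_⟩
      simp only [vec_v, Fin.sum_univ_two]
      decide
    have hmemA : (⟨_, hmemY⟩ : Y (⊤ : Subgroup (Perm (Fin 2)))) ∈
        (vecSub 2).subgroupOf (Y ⊤) := by
      rw [Subgroup.mem_subgroupOf, mem_vecSub]
      rfl
    rw [hbot, Subgroup.mem_bot] at hmemA
    have h1 := congrArg (fun x : Y (⊤ : Subgroup (Perm (Fin 2))) => x.1.v 0) hmemA
    simp at h1
  · -- `prm (swap 0 1)` is a non-trivial pure permutation
    intro hbot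
    have hmemY : prm (swap (0 : Fin 2) 1) ∈ Y (⊤ : Subgroup (Perm (Fin 2))) := by
      rw [mem_Y]
      refine ⟨Subgroup.mem_top _, ?_⟩
      simp
    have hmemB : (⟨_, hmemY⟩ : Y (⊤ : Subgroup (Perm (Fin 2)))) ∈
        (prmSub 2).subgroupOf (Y ⊤) := by
      rw [Subgroup.mem_subgroupOf, mem_prmSub]
      intro j
      rfl
    rw [hbot, Subgroup.mem_bot] at hmemB
    have h1 := congrArg (fun x : Y (⊤ : Subgroup (Perm (Fin 2))) => x.1.t 0) hmemB
    simp at h1
  · -- they commute: even vectors are constant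
    rintro ⟨x, hx⟩ hxA ⟨y, hy⟩ hyB
    rw [Subgroup.mem_subgroupOf, mem_vecSub] at hxA
    rw [Subgroup.mem_subgroupOf, mem_prmSub] at hyB
    simp only at hxA hyB
    have hxs := (mem_Y.1 hx).2
    apply Subtype.ext
    show x * y = y * x
    ext i
    · simp only [mul_v, hxA, hyB, inv_one, Perm.coe_one, id_eq, add_zero, zero_add]
      exact const_of_sum_two hxs _ _
    · simp [hxA]
  · -- trivial intersection
    rw [eq_bot_iff]
    intro x0 hx0
    obtain ⟨hxA, hxB⟩ := Subgroup.mem_inf.1 hx0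
    obtain ⟨x, hx⟩ := x0
    rw [Subgroup.mem_subgroupOf, mem_vecSub] at hxA
    rw [Subgroup.mem_subgroupOf, mem_prmSub] at hxB
    simp only at hxA hxB
    rw [Subgroup.mem_bot]
    apply Subtype.ext
    show x = 1
    ext i
    · simp [hxB i]
    · simp [hxA]
  · -- they generate
    rw [eq_top_iff]
    rintro ⟨g, hg⟩ -
    have hxY : vec g.v ∈ Y (⊤ : Subgroup (Perm (Fin 2))) := by
      rw [mem_Y]
      exact ⟨Subgroup.mem_top _, (mem_Y.1 hg).2⟩
    have hyY : prm g.t ∈ Y (⊤ : Subgroup (Perm (Fin 2))) := by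
      rw [mem_Y]
      refine ⟨Subgroup.mem_top _, ?_⟩
      simp
    have hxA : (⟨_, hxY⟩ : Y (⊤ : Subgroup (Perm (Fin 2)))) ∈ (vecSub 2).subgroupOf (Y ⊤) := by
      rw [Subgroup.mem_subgroupOf, mem_vecSub]
      rfl
    have hyB : (⟨_, hyY⟩ : Y (⊤ : Subgroup (Perm (Fin 2)))) ∈ (prmSub 2).subgroupOf (Y ⊤) := by
      rw [Subgroup.mem_subgroupOf, mem_prmSub]
      intro j
      rfl
    have hprod : (⟨g, hg⟩ : Y (⊤ : Subgroup (Perm (Fin 2)))) = ⟨_, hxY⟩ * ⟨_, hyY⟩ := by
      apply Subtype.ext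
      show g = vec g.v * prm g.t
      ext i
      · simp
      · simp
    rw [hprod]
    exact Subgroup.mul_mem_sup hxA hyB

end Cfsg.Agent.Lib.Helper28.SylAlt
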