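import Cfsg.Agent.Lib.Helper28.SylAlt.Defs

/-!
# S2221 farm (architect helper28), piece [O2]: `decomp_Y_odd`

If `T` fixes `a`, is orbit-closed and is not transitive off `a`, then `Y T` is the direct product
of the part living on the orbit `O` of `b` (plus the coordinate `a`) and the part living off `O`.
-/

set_option autoImplicit false

namespace Cfsg.Agent.Lib.Helper28.SylAlt

open SW Equiv

variable {m : ℕ}

namespace Helper2

/-- the elements `(v, t)` with `t j = j` and `v j = 0` for every `j ∈ P`. -/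
def fixSub (P : Set (Fin m)) : Subgroup (SW m) where
  carrier := {x | ∀ j ∈ P, x.t j = j ∧ x.v j = 0}
  one_mem' := by
    intro j _
    simp
  mul_mem' := by
    intro x y hx hy j hj
    obtain ⟨hx1, hx2⟩ := hx j hj
    obtain ⟨hy1, hy2⟩ := hy j hj
    have hxi : x.t⁻¹ j = j := by
      rw [Perm.inv_eq_iff_eq]
      exact hx1.symm
    refine ⟨?_, ?_⟩
    · simp [hx1, hy1]
    · simp [hx2, hxi, hy2]
  inv_mem' := by
    intro x hx j hj
    obtain ⟨hx1, hx2⟩ := hx j hj
    refine ⟨?_, ?_⟩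
    · show x.t⁻¹ j = j
      rw [Perm.inv_eq_iff_eq]
      exact hx1.symm
    · simp [hx1, hx2]

theorem mem_fixSub {P : Set (Fin m)} {x : SW m} :
    x ∈ fixSub P ↔ ∀ j ∈ P, x.t j = j ∧ x.v j = 0 := Iff.rfl

/-- orbits are invariant. -/
theorem orb_inv {T : Subgroup (Perm (Fin m))} (b : Fin m) {t : Perm (Fin m)} (ht : t ∈ T)
    (j : Fin m) : t j ∈ orb T b ↔ j ∈ orb T b := by
  constructor
  · rintro ⟨s, hs, hsb⟩
    refine ⟨t⁻¹ * s, T.mul_mem (T.inv_mem ht) hs, ?_⟩
    simp [hsb]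
  · rintro ⟨s, hs, hsb⟩
    exact ⟨t * s, T.mul_mem ht hs, by simp [hsb]⟩

theorem orb_inv' {T : Subgroup (Perm (Fin m))} (b : Fin m) {t : Perm (Fin m)} (ht : t ∈ T)
    (j : Fin m) : t⁻¹ j ∈ orb T b ↔ j ∈ orb T b :=
  orb_inv b (T.inv_mem ht) j

/-- `e_b + e_a` as an element of `Y T`. -/
theorem pair_mem_Y (T : Subgroup (Perm (Fin m))) (a b : Fin m) :
    vec (Pi.single b 1 + Pi.single a 1) ∈ Y T := by
  rw [mem_Y]
  refine ⟨T.one_mem, ?_⟩
  simp only [vec_v, Pi.add_apply, Finset.sum_add_distrib, Finset.sum_pi_single', Finset.mem_univ,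
    if_true]
  decide

end Helper2

open Helper2

theorem decomp_Y_odd (T : Subgroup (Perm (Fin m))) (hoc : OC T) (a : Fin m)
    (ha : ∀ t ∈ T, t a = a) (b c : Fin m) (hb : b ≠ a) (hc : c ≠ a) (hbc : c ∉ orb T b) :
    Decomp ↥(Y T) := by
  classical
  have hbO : b ∈ orb T b := ⟨1, T.one_mem, rfl⟩
  have haO : a ∉ orb T b := by
    rintro ⟨t, ht, htb⟩
    exact hb (t.injective (htb.trans (ha t ht).symm))
  have ha' : ∀ t ∈ T, t⁻¹ a = a := fun t ht => ha _ (T.inv_mem ht)
  refine ⟨(fixSub {j | j ∉ orb T b ∧ j ≠ a}).subgroupOf (Y T),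
    (fixSub (orb T b)).subgroupOf (Y T), ?_, ?_, ?_, ?_, ?_⟩
  · -- `e_b + e_a` lies in the first factor
    intro hbot
    have hmemA : (⟨_, pair_mem_Y T a b⟩ : Y T) ∈
        (fixSub {j | j ∉ orb T b ∧ j ≠ a}).subgroupOf (Y T) := by
      rw [Subgroup.mem_subgroupOf, mem_fixSub]
      rintro j ⟨hj1, hj2⟩
      refine ⟨rfl, ?_⟩
      have hjb : j ≠ b := fun h => hj1 (h ▸ hbO)
      simp [hjb, hj2]
    rw [hbot, Subgroup.mem_bot] at hmemA
    have h1 := congrArg (fun x : Y T => x.1.v b) hmemA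
    simp [hb] at h1
  · -- `e_c + e_a` lies in the second factor
    intro hbot
    have hmemB : (⟨_, pair_mem_Y T a c⟩ : Y T) ∈ (fixSub (orb T b)).subgroupOf (Y T) := by
      rw [Subgroup.mem_subgroupOf, mem_fixSub]
      intro j hj
      refine ⟨rfl, ?_⟩
      have hjc : j ≠ c := fun h => hbc (h ▸ hj)
      have hja : j ≠ a := fun h => haO (h ▸ hj)
      simp [hjc, hja]
    rw [hbot, Subgroup.mem_bot] at hmemB
    have h1 := congrArg (fun x : Y T => x.1.v c) hmemB
    simp [hc] at h1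
  · -- the two factors commute
    rintro ⟨x, hx⟩ hxA ⟨y, hy⟩ hyB
    rw [Subgroup.mem_subgroupOf, mem_fixSub] at hxA hyB
    simp only at hxA hyB
    have hxT := (mem_Y.1 hx).1
    have hyT := (mem_Y.1 hy).1
    apply Subtype.ext
    show x * y = y * x
    refine SW.ext (funext fun i => ?_) (Equiv.ext fun i => ?_)
    · simp only [mul_v]
      by_cases hiO : i ∈ orb T b
      · have h1 : y.v i = 0 := (hyB i hiO).2
        have h2 : y.t⁻¹ i = i := by
          rw [Perm.inv_eq_iff_eq]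
          exact (hyB i hiO).1.symm
        have h3 : y.v (x.t⁻¹ i) = 0 := (hyB _ ((orb_inv' b hxT i).2 hiO)).2
        rw [h1, h2, h3, add_zero, zero_add]
      · by_cases hia : i = a
        · rw [hia, ha' _ hxT, ha' _ hyT, add_comm]
        · have h1 : x.v i = 0 := (hxA i ⟨hiO, hia⟩).2
          have h2 : x.t⁻¹ i = i := by
            rw [Perm.inv_eq_iff_eq]
            exact (hxA i ⟨hiO, hia⟩).1.symm
          have h4 : y.t⁻¹ i ∉ orb T b := fun h => hiO ((orb_inv' b hyT i).1 h)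
          have h5 : y.t⁻¹ i ≠ a := by
            intro h
            apply hia
            exact (Perm.inv_eq_iff_eq.1 h).trans (ha _ hyT)
          have h3 : x.v (y.t⁻¹ i) = 0 := (hxA _ ⟨h4, h5⟩).2
          rw [h1, h2, h3, add_zero, zero_add]
    · simp only [mul_t, Perm.coe_mul, Function.comp_apply]
      by_cases hiO : i ∈ orb T b
      · have h1 : y.t i = i := (hyB i hiO).1
        have h2 : y.t (x.t i) = x.t i := (hyB _ ((orb_inv b hxT i).2 hiO)).1
        rw [h1, h2]
      · by_cases hia : i = a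
        · rw [hia, ha _ hxT, ha _ hyT, ha _ hxT]
        · have h1 : x.t i = i := (hxA i ⟨hiO, hia⟩).1
          have h4 : y.t i ∉ orb T b := fun h => hiO ((orb_inv b hyT i).1 h)
          have h5 : y.t i ≠ a := by
            intro h
            apply hia
            exact y.t.injective (h.trans (ha _ hyT).symm)
          have h2 : x.t (y.t i) = y.t i := (hxA _ ⟨h4, h5⟩).1
          rw [h1, h2]
  · -- trivial intersection
    rw [eq_bot_iff]
    intro x0 hx0
    obtain ⟨hxA, hxB⟩ := Subgroup.mem_inf.1 hx0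
    obtain ⟨x, hx⟩ := x0
    rw [Subgroup.mem_subgroupOf, mem_fixSub] at hxA hxB
    simp only at hxA hxB
    obtain ⟨hxT, hxs⟩ := mem_Y.1 hx
    rw [Subgroup.mem_bot]
    apply Subtype.ext
    show x = 1
    have hv : ∀ j, j ≠ a → x.v j = 0 := by
      intro j hja
      by_cases hjO : j ∈ orb T b
      · exact (hxB j hjO).2
      · exact (hxA j ⟨hjO, hja⟩).2
    have hva : x.v a = 0 := by
      rw [Finset.sum_eq_single a (fun j _ hja => hv j hja) (fun h => absurd (Finset.mem_univ a) h)]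
        at hxs
      exact hxs
    refine SW.ext (funext fun i => ?_) (Equiv.ext fun i => ?_)
    · by_cases hia : i = a
      · rw [hia, hva]; rfl
      · rw [hv i hia]; rfl
    · show x.t i = i
      by_cases hiO : i ∈ orb T b
      · exact (hxB i hiO).1
      · by_cases hia : i = a
        · rw [hia]; exact ha _ hxT
        · exact (hxA i ⟨hiO, hia⟩).1
  · -- the two factors generate
    rw [eq_top_iff]
    rintro ⟨g, hg⟩ -
    obtain ⟨hgT, hgs⟩ := mem_Y.1 hg
    obtain ⟨u, huT, hu1, hu2⟩ := hoc g.t hgT b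
    -- the `O`-part of `g`
    let w : Fin m → ZMod 2 := fun j =>
      (if j ∈ orb T b then g.v j else 0) +
        (if j = a then ∑ i ∈ Finset.univ.filter (fun i => i ∈ orb T b), g.v i else 0)
    have hwO : ∀ j, j ∈ orb T b → w j = g.v j := by
      intro j hj
      have hja : j ≠ a := fun h => haO (h ▸ hj)
      simp [w, hj, hja]
    have hwO' : ∀ j, j ∉ orb T b → j ≠ a → w j = 0 := by
      intro j hj hja
      simp [w, hj, hja]
    have hxY : (⟨w, u⟩ : SW m) ∈ Y T := by
      rw [mem_Y]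
      refine ⟨huT, ?_⟩
      show ∑ j, w j = 0
      simp only [w, Finset.sum_add_distrib, Finset.sum_ite_eq', Finset.mem_univ, if_true]
      rw [← Finset.sum_filter]
      exact CharTwo.add_self_eq_zero _
    have hxA : (⟨_, hxY⟩ : Y T) ∈ (fixSub {j | j ∉ orb T b ∧ j ≠ a}).subgroupOf (Y T) := by
      rw [Subgroup.mem_subgroupOf, mem_fixSub]
      rintro j ⟨hj1, hj2⟩
      exact ⟨hu2 j hj1, hwO' j hj1 hj2⟩
    have hyB : (⟨_, hxY⟩ : Y T)⁻¹ * ⟨g, hg⟩ ∈ (fixSub (orb T b)).subgroupOf (Y T) := by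
      rw [Subgroup.mem_subgroupOf, mem_fixSub]
      intro j hj
      have huj : u j ∈ orb T b := (orb_inv b huT j).2 hj
      refine ⟨?_, ?_⟩
      · show u⁻¹ (g.t j) = j
        rw [Perm.inv_eq_iff_eq]
        exact (hu1 j hj).symm
      · show - w (u j) + g.v (u⁻¹⁻¹ j) = 0
        rw [inv_inv, hwO _ huj]
        exact neg_add_cancel _
    have hprod : (⟨g, hg⟩ : Y T) = ⟨_, hxY⟩ * ((⟨_, hxY⟩ : Y T)⁻¹ * ⟨g, hg⟩) :=
      (mul_inv_cancel_left _ _).symm
    rw [hprod]
    exact Subgroup.mul_mem_sup hxA hyB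

end Cfsg.Agent.Lib.Helper28.SylAlt
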