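import Mathlib
import Cfsg.Prelude.Def_Characters
import Cfsg.Agent.Lib.Helper2.SmallDegree
import Cfsg.Agent.Lib.Helper2.OddOrderChars
import Cfsg.Agent.Lib.Helper2.BurnsidePQ

/-!
# Simple groups with many conjugacy classes have abelian Sylow subgroups
(helper2 library)
-/

set_option autoImplicit false

namespace Cfsg.Agent.Lib.Helper2

open Module

universe u

section

variable {G : Type u} [Group G] [Finite G]

/-- In a finite group with `p ^ 2 ∣ |G|` and more than `|G| / p ^ 2` classes there is a nonprincipal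
irreducible character of degree less than `p`. -/
theorem exists_irr_degree_lt_of_many_classes (p : ℕ) (hp0 : 0 < p) (hp2 : p ^ 2 ∣ Nat.card G)
    (hmany : Nat.card G < p ^ 2 * Nat.card (ConjClasses G)) :
    ∃ (χ : Cfsg.IrrCharacter G) (d : ℕ), (χ : G → ℂ) ≠ (fun _ => 1) ∧ (χ : G → ℂ) 1 = d ∧ d < p := by
  classical
  haveI : Fintype G := Fintype.ofFinite G
  haveI : Fintype (Cfsg.IrrCharacter G) := Fintype.ofFinite _
  choose d hd hdvd hdpos using IrrCharacter.exists_degree (G := G)
  have hsq : ∑ χ : Cfsg.IrrCharacter G, (d χ) ^ 2 = Nat.card G := by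
    have h := sum_irr_degree_sq (G := G)
    simp only [hd] at h
    exact_mod_cast h
  have hk : Fintype.card (Cfsg.IrrCharacter G) = Nat.card (ConjClasses G) := by
    rw [← card_irrCharacter, Nat.card_eq_fintype_card]
  by_contra hcon
  simp only [not_exists, not_and, not_lt] at hcon
  let t : Cfsg.IrrCharacter G := ⟨fun _ => 1, isIrrCharacter_one⟩
  have hge : ∀ χ : Cfsg.IrrCharacter G, χ ≠ t → p ^ 2 ≤ d χ ^ 2 := by
    intro χ hχ
    have := hcon χ (d χ) (fun h => hχ (Subtype.ext h)) (hd χ)
    exact Nat.pow_le_pow_left this 2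
  have h1 : ∑ χ : Cfsg.IrrCharacter G, (d χ) ^ 2
      = d t ^ 2 + ∑ χ ∈ Finset.univ.erase t, (d χ) ^ 2 := by
    exact (Finset.add_sum_erase Finset.univ (fun χ => d χ ^ 2) (Finset.mem_univ t)).symm
  have h2 : (Fintype.card (Cfsg.IrrCharacter G) - 1) * p ^ 2
      ≤ ∑ χ ∈ Finset.univ.erase t, (d χ) ^ 2 := by
    have : ∑ _χ ∈ (Finset.univ.erase t : Finset (Cfsg.IrrCharacter G)), p ^ 2
        ≤ ∑ χ ∈ Finset.univ.erase t, (d χ) ^ 2 :=
      Finset.sum_le_sum fun χ hχ => hge χ (Finset.ne_of_mem_erase hχ)
    simpa [Finset.card_erase_of_mem] using this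
  have h3 : 1 ≤ d t ^ 2 := Nat.one_le_pow _ _ (hdpos t)
  obtain ⟨m, hm⟩ := hp2
  set k := Nat.card (ConjClasses G) with hkdef
  rw [hk] at h2
  have hkpos : 0 < k := by
    rcases Nat.eq_zero_or_pos k with h | h
    · rw [h] at hmany; simp at hmany
    · exact h
  have hpp : 0 < p ^ 2 := by positivity
  -- `n = p^2 m < p^2 k`, so `m + 1 ≤ k`
  have hmk : m < k := by
    rw [hm] at hmany
    exact Nat.lt_of_mul_lt_mul_left hmany
  have h4 : m * p ^ 2 ≤ (k - 1) * p ^ 2 := Nat.mul_le_mul_right _ (by omega)
  have : Nat.card G ≥ 1 + (k - 1) * p ^ 2 := by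
    rw [← hsq, h1]; omega
  rw [hm] at this
  nlinarith
end

section

variable {G : Type u} [Group G] [Finite G] [IsSimpleGroup G]

/-- A nonprincipal irreducible representation of a simple group is faithful. -/
theorem injective_of_simple_of_irreducible {V : Type*} [AddCommGroup V] [Module ℂ V]
    [FiniteDimensional ℂ V] (ρ : Representation ℂ G V) [ρ.IsIrreducible]
    (hnt : ρ.character ≠ fun _ => 1) : Function.Injective ρ := by
  classical
  haveI : Fintype G := Fintype.ofFinite G
  rcases (MonoidHom.normal_ker ρ).eq_bot_or_eq_top with hk | hk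
  · exact (MonoidHom.ker_eq_bot_iff ρ).mp hk
  · exfalso
    apply hnt
    have h1 : ∀ x : G, ρ x = 1 := by
      intro x
      have : x ∈ MonoidHom.ker ρ := by rw [hk]; trivial
      exact this
    have hχ : ∀ x : G, ρ.character x = (finrank ℂ V : ℂ) := by
      intro x
      simp [Representation.character, h1 x]
    have h2 := classInner_irr_self ρ
    rw [classInner_def] at h2
    simp only [hχ, Complex.conj_natCast, Finset.sum_const, Finset.card_univ, nsmul_eq_mul] at h2
    have hne : (Nat.card G : ℂ) ≠ 0 := card_ne_zero_complex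
    rw [← Nat.card_eq_fintype_card, ← mul_assoc, inv_mul_cancel₀ hne, one_mul] at h2
    have h3 : finrank ℂ V * finrank ℂ V = 1 := by exact_mod_cast h2
    have h4 : finrank ℂ V = 1 := Nat.eq_one_of_mul_eq_one_right h3
    ext x
    rw [hχ x, h4]; simp

/-- Let `G` be a finite simple group of order `n` and `p` a prime dividing `n`.  If `G` has more
than `n / p ^ 2` conjugacy classes, then every Sylow `p`-subgroup is abelian. -/
theorem sylow_comm_of_many_classes (p : ℕ) [Fact p.Prime] (hp : p ∣ Nat.card G)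
    (hmany : Nat.card G < p ^ 2 * Nat.card (ConjClasses G)) (P : Sylow p G) (a b : G)
    (ha : a ∈ P) (hb : b ∈ P) : a * b = b * a := by
  classical
  have hpp : p.Prime := Fact.out
  by_cases hp2 : p ^ 2 ∣ Nat.card G
  · obtain ⟨χ, d, hne, hd, hdp⟩ := exists_irr_degree_lt_of_many_classes p hpp.pos hp2 hmany
    obtain ⟨n, ρ, hρ, hχ⟩ := χ.2
    haveI := hρ
    have hinj : Function.Injective ρ := injective_of_simple_of_irreducible ρ (by rw [hχ]; exact hne)
    have hfin : finrank ℂ (Fin n → ℂ) = d := by
      have h1 : ρ.character 1 = (finrank ℂ (Fin n → ℂ) : ℂ) := Representation.char_one ρ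
      rw [hχ, hd] at h1
      exact_mod_cast h1.symm
    let σ : Representation ℂ P (Fin n → ℂ) := ρ.comp (P : Subgroup G).subtype
    have hσ : Function.Injective σ := by
      intro x y hxy
      exact Subtype.ext (hinj hxy)
    have hcomm := comm_of_faithful_degree_lt_primes σ hσ (by
      intro q hq hqd
      obtain ⟨e, he⟩ := IsPGroup.iff_card.mp P.isPGroup'
      rw [he] at hqd
      have : q = p := (Nat.prime_dvd_prime_iff_eq hq hpp).mp (hq.dvd_of_dvd_pow hqd)
      rw [this, hfin]; exact hdp) ⟨a, ha⟩ ⟨b, hb⟩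
    exact congrArg Subtype.val hcomm
  · have hcard : Nat.card P = p := by
      rw [P.card_eq_multiplicity]
      have hn0 : Nat.card G ≠ 0 := Nat.card_pos.ne'
      have h1 : 1 ≤ (Nat.card G).factorization p :=
        (hpp.dvd_iff_one_le_factorization hn0).mp hp
      have h2 : ¬ 2 ≤ (Nat.card G).factorization p := by
        intro h
        exact hp2 ((hpp.pow_dvd_iff_le_factorization hn0).mpr h)
      have : (Nat.card G).factorization p = 1 := by omega
      rw [this, pow_one]
    haveI : IsCyclic P := isCyclic_of_prime_card hcard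
    have := (IsCyclic.commGroup (α := P)).mul_comm ⟨a, ha⟩ ⟨b, hb⟩
    exact congrArg Subtype.val this

end

end Cfsg.Agent.Lib.Helper2
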