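import Mathlib
import Cfsg.Prelude.Def_Characters
import Cfsg.Agent.Lib.Helper2.CentralExt
import Cfsg.Agent.Lib.Helper25.Irred

/-!
# Extendibility of an invariant character from the Sylow overgroups (helper2 library)

Isaacs 11.31: a `G`-invariant `ϑ ∈ Irr(N)`, `N ⊴ G`, extends to `G` provided that for every prime
`p` it extends to some `P ⊇ N` of index prime to `p`.  The proof uses the finite central extension
`CentralExt.hatG` and the transfer.
-/

set_option autoImplicit false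
set_option linter.style.haveILetI false
set_option linter.unusedSectionVars false

namespace Cfsg.Agent.Lib.Helper2

namespace SylowExtend

open Module CentralExt

universe u

section Scalar

variable {d : ℕ}

/-- the scalar units -/
noncomputable def sU (d : ℕ) : ℂˣ →* (Module.End ℂ (Fin d → ℂ))ˣ :=
  Units.map (algebraMap ℂ (Module.End ℂ (Fin d → ℂ)) : ℂ →* Module.End ℂ (Fin d → ℂ))

theorem sU_val (c : ℂˣ) :
    ((sU d c : (Module.End ℂ (Fin d → ℂ))ˣ) : Module.End ℂ (Fin d → ℂ)) = (c : ℂ) • 1 := by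
  show algebraMap ℂ (Module.End ℂ (Fin d → ℂ)) (c : ℂ) = _
  rw [Algebra.algebraMap_eq_smul_one]

theorem sU_comm (c : ℂˣ) (γ : (Module.End ℂ (Fin d → ℂ))ˣ) : sU d c * γ = γ * sU d c := by
  apply Units.ext
  rw [Units.val_mul, Units.val_mul]
  exact Algebra.commutes (c : ℂ) (γ : Module.End ℂ (Fin d → ℂ))

theorem smul_one_injective (hd : 0 < d) {c c' : ℂ}
    (h : c • (1 : Module.End ℂ (Fin d → ℂ)) = c' • 1) : c = c' := by
  have := congrArg (fun f : Module.End ℂ (Fin d → ℂ) => f (fun _ => 1) ⟨0, hd⟩) h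
  simpa using this

theorem sU_injective (hd : 0 < d) : Function.Injective (sU d) := by
  intro c c' h
  apply Units.ext
  apply smul_one_injective hd
  rw [← sU_val, ← sU_val, h]

theorem exists_sU (hd : 0 < d) (γ : (Module.End ℂ (Fin d → ℂ))ˣ) (c : ℂ)
    (h : (γ : Module.End ℂ (Fin d → ℂ)) = c • 1) : ∃ c' : ℂˣ, γ = sU d c' ∧ (c' : ℂ) = c := by
  have hc : c ≠ 0 := by
    rintro rfl
    rw [zero_smul] at h
    have h1 : (1 : Module.End ℂ (Fin d → ℂ)) = 0 := by
      rw [← Units.inv_mul γ, h, mul_zero]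
    have h2 : (1 : ℂ) • (1 : Module.End ℂ (Fin d → ℂ)) = (0 : ℂ) • 1 := by
      rw [one_smul, zero_smul, h1]
    exact one_ne_zero (smul_one_injective hd h2)
  refine ⟨Units.mk0 c hc, ?_, rfl⟩
  apply Units.ext
  rw [h, sU_val, Units.val_mk0]

end Scalar

section Conj

/-- A character of `P ≥ N` extending the character of `ρ` is afforded by a representation
extending `ρ`. -/
theorem exists_rep_extending {G : Type u} [Group G] [Finite G] (N P : Subgroup G) (hNP : N ≤ P)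
    {d : ℕ} (ρ : Representation ℂ N (Fin d → ℂ)) (η : P → ℂ) (hη : Cfsg.IsCharacter P η)
    (hres : ∀ n : N, η ⟨(n : G), hNP n.2⟩ = ρ.character n) :
    ∃ R : Representation ℂ P (Fin d → ℂ), ∀ n : N, R (Subgroup.inclusion hNP n) = ρ n := by
  obtain ⟨m, Y, rfl⟩ := hη
  let Y' : Representation ℂ N (Fin m → ℂ) := Y.comp (Subgroup.inclusion hNP)
  have hchar : ρ.character = Y'.character := by
    funext n
    exact (hres n).symm
  obtain ⟨φ⟩ := nonempty_equiv_of_char_eq _ _ _ ρ Y' rfl hchar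
  refine ⟨((φ.toLinearEquiv.symm.conjAlgEquiv ℂ :
    Module.End ℂ (Fin m → ℂ) ≃ₐ[ℂ] Module.End ℂ (Fin d → ℂ)) :
      Module.End ℂ (Fin m → ℂ) →* Module.End ℂ (Fin d → ℂ)).comp Y, ?_⟩
  intro n
  apply LinearMap.ext
  intro v
  show φ.toLinearEquiv.symm (Y (Subgroup.inclusion hNP n) (φ.toLinearEquiv.symm.symm v)) = ρ n v
  have h1 := LinearMap.congr_fun (φ.toIntertwiningMap.isIntertwining' n) v
  have h2 : Y (Subgroup.inclusion hNP n) (φ.toLinearEquiv v) = φ.toLinearEquiv (ρ n v) :=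
    h1.symm
  rw [LinearEquiv.symm_symm, h2, LinearEquiv.symm_apply_apply]

end Conj

section Main

variable {G : Type u} [Group G] [Finite G] (N : Subgroup G) [hN : N.Normal] {d : ℕ}
  (ρ : Representation ℂ N (Fin d → ℂ))

theorem pos_of_irr (hρ : ρ.IsIrreducible) : 0 < d := by
  have := finrank_pos_of_isIrreducible ρ
  rwa [finrank_fin] at this

/-- Step A: an extension `R` of `ρ` to `P ≥ N` gives a linear character of the preimage of `P`. -/
theorem exists_mu (hρ : ρ.IsIrreducible) (P : Subgroup G) (hNP : N ≤ P)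
    (R : Representation ℂ P (Fin d → ℂ))
    (hR : ∀ n : N, R (Subgroup.inclusion hNP n) = ρ n) :
    ∃ μ : (P.comap (proj N ρ)) →* ℂˣ, ∀ x : P.comap (proj N ρ),
      x.1.1.2 = R.asGroupHom ((proj N ρ).subgroupComap P x) * sU d (μ x) := by
  have hd : 0 < d := pos_of_irr N ρ hρ
  have hRu : ∀ n : N, R.asGroupHom (Subgroup.inclusion hNP n) = ρ.asGroupHom n := by
    intro n
    apply Units.ext
    rw [Representation.asGroupHom_apply, Representation.asGroupHom_apply, hR]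
  have key : ∀ x : P.comap (proj N ρ), ∃ c : ℂˣ,
      x.1.1.2 = R.asGroupHom ((proj N ρ).subgroupComap P x) * sU d c := by
    intro x
    set g : P := (proj N ρ).subgroupComap P x with hg
    set S : (Module.End ℂ (Fin d → ℂ))ˣ := (R.asGroupHom g)⁻¹ * x.1.1.2 with hS
    have hcomm : ∀ n : N, S * ρ.asGroupHom n * S⁻¹ = ρ.asGroupHom n := by
      intro n
      have h1 := x.1.2.1 n
      have h2 : ρ.asGroupHom (MulAut.conjNormal x.1.1.1 n)
          = R.asGroupHom g * R.asGroupHom (Subgroup.inclusion hNP n) * (R.asGroupHom g)⁻¹ := by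
        rw [← hRu, ← map_inv, ← map_mul, ← map_mul]
        congr 1
      calc S * ρ.asGroupHom n * S⁻¹
          = (R.asGroupHom g)⁻¹ * (x.1.1.2 * ρ.asGroupHom n * x.1.1.2⁻¹) * R.asGroupHom g := by
            rw [hS]; group
        _ = (R.asGroupHom g)⁻¹ * (R.asGroupHom g * R.asGroupHom (Subgroup.inclusion hNP n)
              * (R.asGroupHom g)⁻¹) * R.asGroupHom g := by rw [h1, h2]
        _ = R.asGroupHom (Subgroup.inclusion hNP n) := by group
        _ = ρ.asGroupHom n := hRu n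
    have hcomm' : ∀ n : N, (S : Module.End ℂ (Fin d → ℂ)) ∘ₗ ρ n
        = ρ n ∘ₗ (S : Module.End ℂ (Fin d → ℂ)) := by
      intro n
      have h2 := hcomm n
      rw [mul_inv_eq_iff_eq_mul] at h2
      have h3 := congrArg Units.val h2
      simp only [Units.val_mul, Representation.asGroupHom_apply] at h3
      exact h3
    obtain ⟨c, hc⟩ := Cfsg.Agent.Lib.Helper25.schur_scalar ρ hρ _ hcomm'
    obtain ⟨c', hc', -⟩ := exists_sU hd S c hc
    refine ⟨c', ?_⟩
    rw [← hc', hS]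
    group
  choose μ hμ using key
  refine ⟨MonoidHom.mk' μ ?_, hμ⟩
  intro x y
  apply sU_injective hd
  have hx := hμ x
  have hy := hμ y
  have hxy := hμ (x * y)
  have h1 : (x * y).1.1.2 = x.1.1.2 * y.1.1.2 := rfl
  rw [h1, hx, hy, map_mul, map_mul] at hxy
  have e : R.asGroupHom ((proj N ρ).subgroupComap P x) * sU d (μ x)
        * (R.asGroupHom ((proj N ρ).subgroupComap P y) * sU d (μ y))
      = R.asGroupHom ((proj N ρ).subgroupComap P x) * R.asGroupHom ((proj N ρ).subgroupComap P y)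
        * (sU d (μ x) * sU d (μ y)) := by
    rw [mul_assoc, ← mul_assoc (sU d (μ x)), sU_comm, mul_assoc, ← mul_assoc]
  rw [e] at hxy
  rw [map_mul]
  exact (mul_left_cancel hxy).symm

/-- Step B: transfer to the central extension. -/
theorem exists_transfer (hρ : ρ.IsIrreducible)
    (hinv : ∀ (g : G) (n : N), ρ.character (MulAut.conjNormal g n) = ρ.character n)
    (P : Subgroup G) (hNP : N ≤ P) (R : Representation ℂ P (Fin d → ℂ))
    (hR : ∀ n : N, R (Subgroup.inclusion hNP n) = ρ n) :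
    ∃ Λ : hatG N ρ →* ℂˣ, (∀ n, Λ (incl N ρ n) = 1) ∧
      ∀ x, proj N ρ x = 1 → ∀ c : ℂˣ, rep N ρ x = (c : ℂ) • 1 → Λ x = c ^ P.index := by
  classical
  have hd : 0 < d := pos_of_irr N ρ hρ
  haveI := finite_hatG N ρ hρ
  obtain ⟨μ, hμ⟩ := exists_mu N ρ hρ P hNP R hR
  have hRu : ∀ n : N, R.asGroupHom (Subgroup.inclusion hNP n) = ρ.asGroupHom n := by
    intro n
    apply Units.ext
    rw [Representation.asGroupHom_apply, Representation.asGroupHom_apply, hR]
  have hsurj := proj_surjective N ρ hρ hinv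
  have hidx : (P.comap (proj N ρ)).index = P.index := Subgroup.index_comap_of_surjective P hsurj
  -- `μ` is trivial on the copy of `N`
  have mu_incl : ∀ (w : P.comap (proj N ρ)) (n : N), (w : hatG N ρ) = incl N ρ n → μ w = 1 := by
    intro w n hw
    apply sU_injective hd
    have h1 := hμ w
    have h2 : (proj N ρ).subgroupComap P w = Subgroup.inclusion hNP n := by
      apply Subtype.ext
      show proj N ρ (w : hatG N ρ) = (n : G)
      rw [hw, proj_incl]
    have h3 : w.1.1.2 = ρ.asGroupHom n := by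
      rw [hw]
      rfl
    rw [h2, h3, hRu] at h1
    rw [map_one]
    exact (mul_left_cancel (a := ρ.asGroupHom n) (by rw [mul_one]; exact h1)).symm
  -- `μ` on the elements over `1`
  have mu_ker : ∀ (w : P.comap (proj N ρ)), proj N ρ (w : hatG N ρ) = 1 → ∀ c : ℂˣ,
      rep N ρ (w : hatG N ρ) = (c : ℂ) • 1 → μ w = c := by
    intro w hw c hc
    apply sU_injective hd
    have h1 := hμ w
    have h2 : (proj N ρ).subgroupComap P w = 1 := by
      apply Subtype.ext
      exact hw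
    rw [h2, map_one, one_mul] at h1
    rw [← h1]
    apply Units.ext
    rw [sU_val]
    exact hc
  refine ⟨MonoidHom.transfer μ, ?_, ?_⟩
  · intro n
    haveI : Fintype (Quotient (MulAction.orbitRel (Subgroup.zpowers (incl N ρ n))
        (hatG N ρ ⧸ P.comap (proj N ρ)))) := Fintype.ofFinite _
    rw [MonoidHom.transfer_eq_prod_quotient_orbitRel_zpowers_quot]
    apply Finset.prod_eq_one
    intro q _
    apply mu_incl _ (MulAut.conjNormal (proj N ρ (q.out.out)⁻¹)
      (n ^ Function.minimalPeriod (fun x => incl N ρ n • x) q.out))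
    show (q.out.out)⁻¹ * incl N ρ n ^ Function.minimalPeriod (fun x => incl N ρ n • x) q.out
      * q.out.out = _
    rw [← conj_incl, map_pow, inv_inv]
  · intro x hx c hc
    have hcen := ker_le_center N ρ hρ x hx
    rw [MonoidHom.transfer_eq_pow μ x (fun k g₀ _ => by
      have h := Subgroup.mem_center_iff.mp (Subgroup.pow_mem _ hcen k) g₀
      rw [mul_assoc, ← h, ← mul_assoc, inv_mul_cancel, one_mul])]
    rw [← hidx]
    apply mu_ker
    · show proj N ρ (x ^ (P.comap (proj N ρ)).index) = 1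
      rw [map_pow, hx, one_pow]
    · show rep N ρ (x ^ (P.comap (proj N ρ)).index) = _
      rw [map_pow, hc, smul_pow, one_pow, Units.val_pow_eq_pow_val]

/-- Step C: combining the primes. -/
theorem exists_char (hρ : ρ.IsIrreducible)
    (hinv : ∀ (g : G) (n : N), ρ.character (MulAut.conjNormal g n) = ρ.character n)
    (hsyl : ∀ p : ℕ, p.Prime → ∃ (P : Subgroup G) (hNP : N ≤ P)
      (R : Representation ℂ P (Fin d → ℂ)), Nat.Coprime P.index p ∧
        ∀ n : N, R (Subgroup.inclusion hNP n) = ρ n) :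
    ∃ Λ : hatG N ρ →* ℂˣ, (∀ n, Λ (incl N ρ n) = 1) ∧
      ∀ x, proj N ρ x = 1 → ∀ c : ℂˣ, rep N ρ x = (c : ℂ) • 1 → Λ x = c := by
  let E : AddSubgroup ℤ :=
    { carrier := {k | ∃ Λ : hatG N ρ →* ℂˣ, (∀ n, Λ (incl N ρ n) = 1) ∧
        ∀ x, proj N ρ x = 1 → ∀ c : ℂˣ, rep N ρ x = (c : ℂ) • 1 → Λ x = c ^ k}
      zero_mem' := ⟨1, fun n => rfl, fun x _ c _ => by simp⟩
      add_mem' := by
        rintro a b ⟨Λa, ha1, ha2⟩ ⟨Λb, hb1, hb2⟩
        refine ⟨Λa * Λb, fun n => by rw [MonoidHom.mul_apply, ha1, hb1, one_mul],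
          fun x hx c hc => ?_⟩
        rw [MonoidHom.mul_apply, ha2 x hx c hc, hb2 x hx c hc, zpow_add]
      neg_mem' := by
        rintro a ⟨Λa, ha1, ha2⟩
        refine ⟨Λa⁻¹, fun n => by rw [MonoidHom.inv_apply, ha1, inv_one], fun x hx c hc => ?_⟩
        rw [MonoidHom.inv_apply, ha2 x hx c hc, zpow_neg] }
  have hmem : ∀ p : ℕ, p.Prime → ∃ n : ℕ, Nat.Coprime n p ∧ (n : ℤ) ∈ E := by
    intro p hp
    obtain ⟨P, hNP, R, hcop, hR⟩ := hsyl p hp
    obtain ⟨Λ, h1, h2⟩ := exists_transfer N ρ hρ hinv P hNP R hR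
    exact ⟨P.index, hcop, Λ, h1, fun x hx c hc => by rw [h2 x hx c hc, zpow_natCast]⟩
  obtain ⟨a, ha⟩ := Int.subgroup_cyclic E
  have hE : ∀ k, k ∈ E ↔ a ∣ k := by
    intro k
    rw [ha, ← AddSubgroup.zmultiples_eq_closure, Int.mem_zmultiples_iff]
  have ha1 : a ∣ 1 := by
    by_contra hnu
    have hne : a.natAbs ≠ 1 := by
      intro h
      apply hnu
      exact Int.natAbs_dvd_natAbs.mp (by rw [h]; exact one_dvd _)
    obtain ⟨q, hq, hqa⟩ := Nat.exists_prime_and_dvd hne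
    obtain ⟨n, hcop, hn⟩ := hmem q hq
    have h3 : a ∣ (n : ℤ) := (hE n).mp hn
    have h4 : q ∣ n := by
      have h5 : a.natAbs ∣ n := by
        have := Int.natAbs_dvd_natAbs.mpr h3
        simpa using this
      exact hqa.trans h5
    exact (Nat.Prime.coprime_iff_not_dvd hq).mp hcop.symm h4
  obtain ⟨Λ, h1, h2⟩ := (hE 1).mpr ha1
  exact ⟨Λ, h1, fun x hx c hc => by rw [h2 x hx c hc, zpow_one]⟩

/-- Step D: from the linear character to an extension of `ρ`. -/
theorem exists_extension (hρ : ρ.IsIrreducible)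
    (hinv : ∀ (g : G) (n : N), ρ.character (MulAut.conjNormal g n) = ρ.character n)
    (Λ : hatG N ρ →* ℂˣ) (h1 : ∀ n, Λ (incl N ρ n) = 1)
    (h2 : ∀ x, proj N ρ x = 1 → ∀ c : ℂˣ, rep N ρ x = (c : ℂ) • 1 → Λ x = c) :
    ∃ R : Representation ℂ G (Fin d → ℂ), R.IsIrreducible ∧ ∀ n : N, R n = ρ n := by
  have hd : 0 < d := pos_of_irr N ρ hρ
  have hsurj := proj_surjective N ρ hρ hinv
  let Ru : hatG N ρ →* (Module.End ℂ (Fin d → ℂ))ˣ :=
    MonoidHom.mk' (fun x => sU d (Λ x)⁻¹ * x.1.2) (by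
      intro x y
      show sU d (Λ (x * y))⁻¹ * (x.1.2 * y.1.2) = sU d (Λ x)⁻¹ * x.1.2 * (sU d (Λ y)⁻¹ * y.1.2)
      rw [map_mul, mul_inv, map_mul]
      calc sU d (Λ x)⁻¹ * sU d (Λ y)⁻¹ * (x.1.2 * y.1.2)
          = sU d (Λ x)⁻¹ * (sU d (Λ y)⁻¹ * x.1.2) * y.1.2 := by group
        _ = sU d (Λ x)⁻¹ * (x.1.2 * sU d (Λ y)⁻¹) * y.1.2 := by rw [sU_comm (Λ y)⁻¹ x.1.2]
        _ = _ := by group)
  have hRu : ∀ x, Ru x = sU d (Λ x)⁻¹ * x.1.2 := fun x => rfl
  have hker : (proj N ρ).ker ≤ Ru.ker := by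
    intro x hx
    rw [MonoidHom.mem_ker] at hx ⊢
    obtain ⟨c, -, hc⟩ := ker_scalar N ρ hρ x hx
    obtain ⟨c', hc', hcc⟩ := exists_sU hd x.1.2 c hc
    have h3 := h2 x hx c' (by rw [rep_apply, hc, hcc])
    rw [hRu, h3, hc', ← map_mul, inv_mul_cancel, map_one]
  let Rg : G →* (Module.End ℂ (Fin d → ℂ))ˣ := (proj N ρ).liftOfSurjective hsurj ⟨Ru, hker⟩
  have hRg : ∀ x, Rg (proj N ρ x) = Ru x := fun x =>
    MonoidHom.liftOfRightInverse_comp_apply _ _ _ ⟨Ru, hker⟩ x
  let R : Representation ℂ G (Fin d → ℂ) := (Units.coeHom _).comp Rg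
  have hRn : ∀ n : N, R n = ρ n := by
    intro n
    show ((Rg (n : G) : (Module.End ℂ (Fin d → ℂ))ˣ) : Module.End ℂ (Fin d → ℂ)) = ρ n
    rw [← proj_incl N ρ n, hRg, hRu, h1, inv_one, map_one, one_mul]
    exact Representation.asGroupHom_apply ρ n
  refine ⟨R, ?_, hRn⟩
  rw [Cfsg.Agent.Lib.Helper25.isIrreducible_iff] at hρ ⊢
  refine ⟨hρ.1, fun W hW => hρ.2 W (fun n v hv => ?_)⟩
  rw [← hRn]
  exact hW n v hv

/-- Isaacs 11.31. -/
theorem main (ϑ : N → ℂ) (hϑ : Cfsg.IsIrrCharacter N ϑ)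
    (hinv : ∀ (g : G) (n : N), ϑ ⟨g * n * g⁻¹, hN.conj_mem (n : G) n.2 g⟩ = ϑ n)
    (hsyl : ∀ p : ℕ, p.Prime → ∃ (P : Subgroup G) (hNP : N ≤ P) (η : P → ℂ),
      Nat.Coprime P.index p ∧ Cfsg.IsCharacter P η ∧ ∀ n : N, η ⟨(n : G), hNP n.2⟩ = ϑ n) :
    ∃ χ : G → ℂ, Cfsg.IsIrrCharacter G χ ∧ ∀ n : N, χ n = ϑ n := by
  obtain ⟨d, ρ, hρ, rfl⟩ := hϑ
  have hinv' : ∀ (g : G) (n : N), ρ.character (MulAut.conjNormal g n) = ρ.character n := by
    intro g n
    rw [← hinv g n]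
    congr 1
  have hsyl' : ∀ p : ℕ, p.Prime → ∃ (P : Subgroup G) (hNP : N ≤ P)
      (R : Representation ℂ P (Fin d → ℂ)), Nat.Coprime P.index p ∧
        ∀ n : N, R (Subgroup.inclusion hNP n) = ρ n := by
    intro p hp
    obtain ⟨P, hNP, η, hcop, hη, hres⟩ := hsyl p hp
    obtain ⟨R, hR⟩ := exists_rep_extending N P hNP ρ η hη hres
    exact ⟨P, hNP, R, hcop, hR⟩
  obtain ⟨Λ, h1, h2⟩ := exists_char N ρ hρ hinv' hsyl'
  obtain ⟨R, hRirr, hRn⟩ := exists_extension N ρ hρ hinv' Λ h1 h2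
  refine ⟨R.character, ⟨d, R, hRirr, rfl⟩, fun n => ?_⟩
  show LinearMap.trace ℂ _ (R n) = LinearMap.trace ℂ _ (ρ n)
  rw [hRn]

end Main

end SylowExtend

end Cfsg.Agent.Lib.Helper2
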