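import Cfsg.Agent.Lib.Helper2.ThreeInvQ
set_option autoImplicit false

/-!
# 2-groups with at most three involutions: the order bound for "reduced" groups

Piece FO-K of helper13's farm-out for S3117.
-/

namespace Cfsg.Agent.Lib.Helper2.ThreeInv

open scoped Classical

variable {G : Type*} [Group G] [Finite G]

omit [Group G] [Finite G] in
theorem natCard_subtype_eq_card_filter [Fintype G] (p : G → Prop) :
    Nat.card {x : G // p x} = (Finset.univ.filter p).card := by
  rw [Nat.card_eq_fintype_card, Fintype.card_subtype]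

theorem card_sq_one_le (h3 : Nat.card {x : G // orderOf x = 2} ≤ 3) :
    Nat.card {x : G // x ^ 2 = 1} ≤ 4 := by
  have e1 : Nat.card {x : G // x ^ 2 = 1} = {x : G | x ^ 2 = 1}.ncard :=
    _root_.Nat.card_coe_set_eq {x : G | x ^ 2 = 1}
  have e2 : Nat.card {x : G // orderOf x = 2} = {x : G | orderOf x = 2}.ncard :=
    _root_.Nat.card_coe_set_eq {x : G | orderOf x = 2}
  have hsub : {x : G | x ^ 2 = 1} ⊆ insert 1 {x : G | orderOf x = 2} := by
    intro x hx
    have hx' : x ^ 2 = 1 := hx
    by_cases h1 : x = 1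
    · exact Or.inl h1
    · exact Or.inr (orderOf_eq_prime hx' h1)
  have h5 := Set.ncard_le_ncard hsub (Set.toFinite _)
  have h6 := Set.ncard_insert_le (1 : G) {x : G | orderOf x = 2}
  omega

omit [Finite G] in
theorem isPGroup_two (h4 : ∀ x : G, x ^ 4 = 1) : IsPGroup 2 G :=
  fun g => ⟨2, by simpa using h4 g⟩

omit [Finite G] in
theorem mem_zpowers_of_sq_one {g m : G} (hg : g ^ 2 = 1) (hm : m ∈ Subgroup.zpowers g) :
    m = 1 ∨ m = g := by
  obtain ⟨k, rfl⟩ := Subgroup.mem_zpowers_iff.mp hm
  have hg2 : g ^ (2 : ℤ) = 1 := by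
    rw [zpow_two, ← pow_two]; exact hg
  rcases Int.even_or_odd' k with ⟨j, rfl | rfl⟩
  · left; rw [zpow_mul, hg2, one_zpow]
  · right; rw [zpow_add_one, zpow_mul, hg2, one_zpow, one_mul]

section main

variable (h4 : ∀ x : G, x ^ 4 = 1) (hc : ∀ x y : G, y ^ 2 = 1 → x * y = y * x)
  (hk : ∀ x y : G, (x * y * x⁻¹ * y⁻¹) ^ 2 = 1)

include h4 hc hk in
/-- centralizers of elements outside `U` have order at most `32` when `|U| = 4` -/
theorem card_centralizer_le (hU : Nat.card {x : G // x ^ 2 = 1} = 4) (x : G) (hx : x ^ 2 ≠ 1) :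
    Nat.card (Subgroup.centralizer ({x} : Set G)) ≤ 32 := by
  have hx2 : (x ^ 2) ^ 2 = 1 := sq_sq h4 x
  have hord : orderOf (x ^ 2) = 2 := orderOf_eq_prime hx2 hx
  have hMU : Subgroup.zpowers (x ^ 2) ≤ U hc := Subgroup.zpowers_le.mpr hx2
  have hcardU : Nat.card (U hc) = 4 := by
    rw [← hU]; exact Nat.card_congr (Equiv.subtypeEquivRight (fun x => Iff.rfl))
  have hN : ((U hc : Set G) ∪ (fun u => x * u) '' (U hc : Set G)).ncard ≤ 8 := by
    have h1 := Set.ncard_union_le (U hc : Set G) ((fun u => x * u) '' (U hc : Set G))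
    rw [Set.ncard_image_of_injective _ (mul_right_injective x)] at h1
    have h2 : (U hc : Set G).ncard = 4 := by
      rw [← _root_.Nat.card_coe_set_eq]; exact hcardU
    omega
  have key := lemmaQ h4 hc hk (Subgroup.centralizer ({x} : Set G))
    ((U hc : Set G) ∪ (fun u => x * u) '' (U hc : Set G)) (Subgroup.zpowers (x ^ 2))
    (fun m hm => hMU hm) (by rw [Nat.card_zpowers, hord, hU]) (by
      intro y hy hyN hyM
      apply hyN
      have hcomm : x * y = y * x := by
        have := Subgroup.mem_centralizer_iff.mp hy x (Set.mem_singleton x)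
        exact this
      rcases mem_zpowers_of_sq_one hx2 hyM with h | h
      · exact Or.inl h
      · right
        refine ⟨x⁻¹ * y, ?_, by group⟩
        show (x⁻¹ * y) ^ 2 = 1
        have hc' : Commute x⁻¹ y := (show Commute x y from hcomm).inv_left
        rw [hc'.mul_pow, h, inv_pow, inv_mul_cancel])
  omega

include hc hk in
/-- `|G| ≤ 4 |C(x)|` -/
theorem card_le_four_mul_centralizer (hU : Nat.card {x : G // x ^ 2 = 1} = 4) (x : G) :
    Nat.card G ≤ 4 * Nat.card (Subgroup.centralizer ({x} : Set G)) := by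
  let f : G →* G := MonoidHom.mk' (fun y => kap x y) (fun b c => kap_mul_right hc hk x b c)
  have hker : f.ker = Subgroup.centralizer ({x} : Set G) := by
    ext y
    rw [MonoidHom.mem_ker, Subgroup.mem_centralizer_iff]
    show kap x y = 1 ↔ _
    rw [kap_eq_one_iff]
    constructor
    · intro h z hz
      rw [Set.mem_singleton_iff] at hz
      rw [hz]; exact h
    · intro h; exact h x (Set.mem_singleton x)
  have hrange : f.range ≤ U hc := by
    rintro _ ⟨y, rfl⟩
    exact kap_sq hk x y
  have hcardU : Nat.card (U hc) = 4 := by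
    rw [← hU]; exact Nat.card_congr (Equiv.subtypeEquivRight (fun x => Iff.rfl))
  have h1 := Subgroup.card_mul_index f.ker
  rw [Subgroup.index_ker, hker] at h1
  have h2 : Nat.card f.range ≤ 4 := by
    rw [← hcardU]; exact Subgroup.card_le_of_le hrange
  calc Nat.card G = Nat.card (Subgroup.centralizer ({x} : Set G)) * Nat.card f.range := h1.symm
    _ ≤ Nat.card (Subgroup.centralizer ({x} : Set G)) * 4 := Nat.mul_le_mul_left _ h2
    _ = 4 * Nat.card (Subgroup.centralizer ({x} : Set G)) := by ring

include h4 hc hk in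
theorem card_centralizer_eq (hU : Nat.card {x : G // x ^ 2 = 1} = 4) (hG : Nat.card G = 128)
    (x : G) (hx : x ^ 2 ≠ 1) : Nat.card (Subgroup.centralizer ({x} : Set G)) = 32 := by
  have h1 := card_centralizer_le h4 hc hk hU x hx
  have h2 := card_le_four_mul_centralizer hc hk hU x
  omega

include h4 hc hk in
/-- the fibre count inside a centralizer -/
theorem card_cfib [Fintype G] (hU : Nat.card {x : G // x ^ 2 = 1} = 4) (hG : Nat.card G = 128)
    (x v w : G) (hxv : x ^ 2 = v) (hv1 : v ≠ 1) (hw2 : w ^ 2 = 1) (hw1 : w ≠ 1) (hwv : w ≠ v) :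
    (Finset.univ.filter (fun y : G => Commute x y ∧ y ^ 2 = w)).card = 12 := by
  have hv2 : v ^ 2 = 1 := hxv ▸ sq_sq h4 x
  have hvinv : v⁻¹ = v := by
    rw [inv_eq_iff_mul_eq_one, ← pow_two]; exact hv2
  have hcvw : Commute v w := hc v w hw2
  have hvw2 : (v * w) ^ 2 = 1 := by rw [hcvw.mul_pow, hv2, hw2, one_mul]
  have h_vw1 : v * w ≠ 1 := by
    intro h
    apply hwv
    have : w = v⁻¹ := by rw [eq_inv_iff_mul_eq_one]; rw [← h]; exact (hcvw.eq).symm
    rw [this, hvinv]
  have h_vvw : v * w ≠ v := by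
    intro h; apply hw1; exact mul_eq_left.mp h
  have h_wvw : v * w ≠ w := by
    intro h; apply hv1; exact mul_eq_right.mp h
  set Ufin : Finset G := Finset.univ.filter (fun y : G => y ^ 2 = 1) with hUfin_def
  have hUfin : Ufin.card = 4 := by
    rw [← hU, natCard_subtype_eq_card_filter]
  -- the four elements of U
  have ht_card : ({1, v, w, v * w} : Finset G).card = 4 := by
    rw [Finset.card_insert_of_notMem, Finset.card_insert_of_notMem,
      Finset.card_insert_of_notMem, Finset.card_singleton]
    · simp only [Finset.mem_singleton]; exact fun h => h_wvw h.symm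
    · simp only [Finset.mem_insert, Finset.mem_singleton, not_or]
      exact ⟨fun h => hwv h.symm, fun h => h_vvw h.symm⟩
    · simp only [Finset.mem_insert, Finset.mem_singleton, not_or]
      exact ⟨fun h => hv1 h.symm, fun h => hw1 h.symm, fun h => h_vw1 h.symm⟩
  have ht_sub : ({1, v, w, v * w} : Finset G) ⊆ Ufin := by
    intro y hy
    simp only [Finset.mem_insert, Finset.mem_singleton] at hy
    simp only [hUfin_def, Finset.mem_filter, Finset.mem_univ, true_and]
    rcases hy with rfl | rfl | rfl | rfl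
    · simp
    · exact hv2
    · exact hw2
    · exact hvw2
  have ht_eq : ({1, v, w, v * w} : Finset G) = Ufin :=
    Finset.eq_of_subset_of_card_le ht_sub (by rw [ht_card, hUfin])
  -- the centralizer as a finset
  set Cfin : Finset G := Finset.univ.filter (fun y : G => Commute x y) with hCfin_def
  have hx1 : x ^ 2 ≠ 1 := by rw [hxv]; exact hv1
  have hC : Cfin.card = 32 := by
    rw [← card_centralizer_eq h4 hc hk hU hG x hx1]
    have := natCard_subtype_eq_card_filter (fun y : G => y ∈ Subgroup.centralizer ({x} : Set G))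
    rw [show Nat.card (Subgroup.centralizer ({x} : Set G)) =
      Nat.card {y : G // y ∈ Subgroup.centralizer ({x} : Set G)} from rfl, this]
    congr 1
    apply Finset.filter_congr
    intro y _
    rw [Subgroup.mem_centralizer_iff]
    constructor
    · intro h z hz
      rw [Set.mem_singleton_iff] at hz
      rw [hz]; exact h
    · intro h; exact h x (Set.mem_singleton x)
  have hfib := Finset.card_eq_sum_card_fiberwise (f := fun y : G => y ^ 2) (s := Cfin)
    (t := ({1, v, w, v * w} : Finset G)) (by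
      intro y _
      rw [ht_eq]
      rw [Finset.mem_coe, Finset.mem_filter]
      exact ⟨Finset.mem_univ _, sq_sq h4 y⟩)
  rw [Finset.sum_insert, Finset.sum_insert, Finset.sum_insert, Finset.sum_singleton] at hfib
  rotate_left
  · simp only [Finset.mem_singleton]; exact fun h => h_wvw h.symm
  · simp only [Finset.mem_insert, Finset.mem_singleton, not_or]
    exact ⟨fun h => hwv h.symm, fun h => h_vvw h.symm⟩
  · simp only [Finset.mem_insert, Finset.mem_singleton, not_or]
    exact ⟨fun h => hv1 h.symm, fun h => hw1 h.symm, fun h => h_vw1 h.symm⟩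
  -- the four fibres
  have c1 : (Cfin.filter (fun y : G => y ^ 2 = 1)).card = 4 := by
    rw [← hUfin]
    congr 1
    ext y
    simp only [hCfin_def, hUfin_def, Finset.mem_filter, Finset.mem_univ, true_and]
    exact ⟨fun h => h.2, fun h => ⟨hc x y h, h⟩⟩
  have cv : (Cfin.filter (fun y : G => y ^ 2 = v)).card = 4 := by
    rw [← hUfin, ← Finset.card_image_of_injective Ufin (mul_right_injective x)]
    congr 1
    ext y
    simp only [hCfin_def, hUfin_def, Finset.mem_filter, Finset.mem_univ, true_and,
      Finset.mem_image]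
    constructor
    · rintro ⟨hxy, hy⟩
      refine ⟨x⁻¹ * y, ?_, by group⟩
      have hc' : Commute x⁻¹ y := hxy.inv_left
      rw [hc'.mul_pow, hy, inv_pow, hxv, inv_mul_cancel]
    · rintro ⟨u, hu, rfl⟩
      have hxu : Commute x u := hc x u hu
      refine ⟨(Commute.refl x).mul_right hxu, ?_⟩
      rw [hxu.mul_pow, hu, mul_one, hxv]
  have cw : (Cfin.filter (fun y : G => y ^ 2 = w)).card =
      (Cfin.filter (fun y : G => y ^ 2 = v * w)).card := by
    apply Finset.card_bij (fun y _ => x * y)
    · intro y hy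
      simp only [hCfin_def, Finset.mem_filter, Finset.mem_univ, true_and] at hy ⊢
      obtain ⟨hxy, hy⟩ := hy
      refine ⟨(Commute.refl x).mul_right hxy, ?_⟩
      rw [hxy.mul_pow, hy, hxv]
    · intro y _ z _ h
      exact mul_left_cancel h
    · intro z hz
      simp only [hCfin_def, Finset.mem_filter, Finset.mem_univ, true_and] at hz
      obtain ⟨hxz, hz⟩ := hz
      refine ⟨x⁻¹ * z, ?_, by group⟩
      simp only [hCfin_def, Finset.mem_filter, Finset.mem_univ, true_and]
      have hc' : Commute x⁻¹ z := hxz.inv_left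
      refine ⟨(Commute.inv_right (Commute.refl x)).mul_right hxz, ?_⟩
      rw [hc'.mul_pow, hz, inv_pow, hxv, inv_mul_cancel_left]
  have htarget : (Finset.univ.filter (fun y : G => Commute x y ∧ y ^ 2 = w)) =
      Cfin.filter (fun y : G => y ^ 2 = w) := by
    rw [hCfin_def, Finset.filter_filter]
  rw [htarget]
  rw [hC, c1, cv] at hfib
  omega

include h4 hc hk in
/-- the square fibres over two distinct involutions have the same size -/
theorem fib_card_eq [Fintype G] (hU : Nat.card {x : G // x ^ 2 = 1} = 4) (hG : Nat.card G = 128)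
    (v w : G) (hv2 : v ^ 2 = 1) (hv1 : v ≠ 1) (hw2 : w ^ 2 = 1) (hw1 : w ≠ 1) (hvw : v ≠ w) :
    (Finset.univ.filter (fun x : G => x ^ 2 = v)).card =
      (Finset.univ.filter (fun x : G => x ^ 2 = w)).card := by
  have key := Finset.sum_card_bipartiteAbove_eq_sum_card_bipartiteBelow
    (s := Finset.univ.filter (fun x : G => x ^ 2 = v))
    (t := Finset.univ.filter (fun x : G => x ^ 2 = w)) (fun x y : G => Commute x y)
  have hL : ∀ a ∈ Finset.univ.filter (fun x : G => x ^ 2 = v),
      ((Finset.univ.filter (fun x : G => x ^ 2 = w)).bipartiteAbove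
        (fun x y : G => Commute x y) a).card = 12 := by
    intro a ha
    simp only [Finset.mem_filter, Finset.mem_univ, true_and] at ha
    rw [← card_cfib h4 hc hk hU hG a v w ha hv1 hw2 hw1 hvw.symm]
    congr 1
    ext y
    simp only [Finset.bipartiteAbove, Finset.mem_filter, Finset.mem_univ, true_and]
    exact and_comm
  have hR : ∀ b ∈ Finset.univ.filter (fun x : G => x ^ 2 = w),
      ((Finset.univ.filter (fun x : G => x ^ 2 = v)).bipartiteBelow
        (fun x y : G => Commute x y) b).card = 12 := by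
    intro b hb
    simp only [Finset.mem_filter, Finset.mem_univ, true_and] at hb
    rw [← card_cfib h4 hc hk hU hG b w v hb hw1 hv2 hv1 hvw]
    congr 1
    ext y
    simp only [Finset.bipartiteBelow, Finset.mem_filter, Finset.mem_univ, true_and]
    exact ⟨fun h => ⟨h.2.symm, h.1⟩, fun h => ⟨h.2, h.1.symm⟩⟩
  rw [Finset.sum_congr rfl hL, Finset.sum_congr rfl hR, Finset.sum_const, Finset.sum_const,
    smul_eq_mul, smul_eq_mul] at key
  omega

include h4 hc hk in
/-- order `128` is impossible -/
theorem not_card_128 (hU : Nat.card {x : G // x ^ 2 = 1} = 4) (hG : Nat.card G = 128) : False := by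
  haveI := Fintype.ofFinite G
  set Ufin : Finset G := Finset.univ.filter (fun y : G => y ^ 2 = 1) with hUfin_def
  have hUfin : Ufin.card = 4 := by
    rw [← hU, natCard_subtype_eq_card_filter]
  have hfib := Finset.card_eq_sum_card_fiberwise (f := fun y : G => y ^ 2)
    (s := (Finset.univ : Finset G)) (t := Ufin) (by
      intro y _
      rw [Finset.mem_coe, Finset.mem_filter]
      exact ⟨Finset.mem_univ _, sq_sq h4 y⟩)
  have h1mem : (1 : G) ∈ Ufin := by simp [hUfin_def]
  rw [← Finset.add_sum_erase Ufin _ h1mem] at hfib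
  have hcardG : (Finset.univ : Finset G).card = 128 := by
    rw [Finset.card_univ, ← Nat.card_eq_fintype_card, hG]
  have ha1 : ((Finset.univ : Finset G).filter (fun y : G => y ^ 2 = 1)).card = 4 := hUfin
  have herase : (Ufin.erase 1).card = 3 := by
    rw [Finset.card_erase_of_mem h1mem, hUfin]
  have hne : (Ufin.erase 1).Nonempty := by
    rw [← Finset.card_pos, herase]; norm_num
  obtain ⟨v0, hv0⟩ := hne
  have hv0' : v0 ≠ 1 ∧ v0 ^ 2 = 1 := by
    simpa [hUfin_def] using hv0
  have hall : ∀ u ∈ Ufin.erase 1,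
      ((Finset.univ : Finset G).filter (fun y : G => y ^ 2 = u)).card =
      ((Finset.univ : Finset G).filter (fun y : G => y ^ 2 = v0)).card := by
    intro u hu
    have hu' : u ≠ 1 ∧ u ^ 2 = 1 := by
      simpa [hUfin_def] using hu
    by_cases huv : u = v0
    · rw [huv]
    · exact fib_card_eq h4 hc hk hU hG u v0 hu'.2 hu'.1 hv0'.2 hv0'.1 huv
  rw [Finset.sum_congr rfl hall, Finset.sum_const, smul_eq_mul, herase, hcardG] at hfib
  rw [ha1] at hfib
  omega

include h4 hc hk in
/-- FO-K: the order bound -/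
theorem card_le_of_reduced_aux (h3 : Nat.card {x : G // orderOf x = 2} ≤ 3) :
    (Nat.card {x : G // x ^ 2 = 1} = 1 ∧ Nat.card G = 1) ∨
    (Nat.card {x : G // x ^ 2 = 1} = 2 ∧ Nat.card G ≤ 8) ∨
    (Nat.card {x : G // x ^ 2 = 1} = 4 ∧ Nat.card G ≤ 64) := by
  have hp : IsPGroup 2 G := isPGroup_two h4
  haveI : Fact (Nat.Prime 2) := ⟨Nat.prime_two⟩
  obtain ⟨m, hm⟩ := (IsPGroup.iff_card).mp hp
  have hcardU : Nat.card (U hc) = Nat.card {x : G // x ^ 2 = 1} :=
    Nat.card_congr (Equiv.subtypeEquivRight (fun x => Iff.rfl))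
  obtain ⟨n, hn⟩ := (IsPGroup.iff_card).mp (hp.to_subgroup (U hc))
  rw [hcardU] at hn
  have hle := card_sq_one_le h3
  have hn2 : n ≤ 2 := by
    by_contra h
    push Not at h
    have : 2 ^ 3 ≤ 2 ^ n := Nat.pow_le_pow_right (by norm_num) h
    omega
  interval_cases n
  · -- |U| = 1
    left
    refine ⟨by simpa using hn, ?_⟩
    by_contra hG1
    have hm0 : m ≠ 0 := by
      rintro rfl
      exact hG1 (by simpa using hm)
    have hdvd : 2 ∣ Nat.card G := by
      rw [hm]; exact dvd_pow_self 2 hm0
    obtain ⟨x, hx⟩ := exists_prime_orderOf_dvd_card' 2 hdvd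
    have hx2 : x ^ 2 = 1 := by rw [← hx]; exact pow_orderOf_eq_one x
    have hx1 : x ≠ 1 := by
      rintro rfl
      rw [orderOf_one] at hx; omega
    have hsub : Subsingleton {x : G // x ^ 2 = 1} := by
      rw [← Finite.card_le_one_iff_subsingleton]
      omega
    have := Subsingleton.elim (⟨x, hx2⟩ : {x : G // x ^ 2 = 1}) ⟨1, by simp⟩
    exact hx1 (Subtype.ext_iff.mp this)
  · -- |U| = 2
    right; left
    refine ⟨by simpa using hn, ?_⟩
    have hN : (U hc : Set G).ncard = 2 := by
      rw [← _root_.Nat.card_coe_set_eq]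
      rw [show Nat.card (U hc : Set G) = Nat.card (U hc) from rfl, hcardU, hn]; norm_num
    have key := lemmaQ h4 hc hk (⊤ : Subgroup G) (U hc : Set G) (⊥ : Subgroup G)
      (fun m hm => by rw [Subgroup.mem_bot] at hm; rw [hm]; simp)
      (by rw [Subgroup.card_bot, hn]; norm_num)
      (by
        intro y _ hyN hyM
        apply hyN
        rw [Subgroup.mem_bot] at hyM
        exact hyM)
    rw [Subgroup.card_top, hN] at key
    omega
  · -- |U| = 4
    right; right
    have hU4 : Nat.card {x : G // x ^ 2 = 1} = 4 := by simpa using hn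
    refine ⟨hU4, ?_⟩
    by_cases hall : ∀ x : G, x ^ 2 = 1
    · have : Nat.card {x : G // x ^ 2 = 1} = Nat.card G :=
        Nat.card_congr (Equiv.subtypeUnivEquiv hall)
      omega
    · push Not at hall
      obtain ⟨x, hx⟩ := hall
      have h1 := card_centralizer_le h4 hc hk hU4 x hx
      have h2 := card_le_four_mul_centralizer hc hk hU4 x
      have h128 : Nat.card G ≤ 128 := by omega
      have hne : Nat.card G ≠ 128 := fun h => not_card_128 h4 hc hk hU4 h
      rw [hm] at h128 hne ⊢
      have hm7 : m ≤ 7 := by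
        by_contra h
        push Not at h
        have : 2 ^ 8 ≤ 2 ^ m := Nat.pow_le_pow_right (by norm_num) h
        omega
      interval_cases m <;> omega

end main

/-- FO-K: the order bound, with the skeleton's exact signature -/
theorem card_le_of_reduced {G : Type*} [Group G] [Finite G]
    (h3 : Nat.card {x : G // orderOf x = 2} ≤ 3) (h4 : ∀ x : G, x ^ 4 = 1)
    (hc : ∀ x y : G, y ^ 2 = 1 → x * y = y * x) (hk : ∀ x y : G, (x * y * x⁻¹ * y⁻¹) ^ 2 = 1) :
    (Nat.card {x : G // x ^ 2 = 1} = 1 ∧ Nat.card G = 1) ∨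
    (Nat.card {x : G // x ^ 2 = 1} = 2 ∧ Nat.card G ≤ 8) ∨
    (Nat.card {x : G // x ^ 2 = 1} = 4 ∧ Nat.card G ≤ 64) :=
  card_le_of_reduced_aux h4 hc hk h3

end Cfsg.Agent.Lib.Helper2.ThreeInv
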