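import Mathlib
set_option autoImplicit false

/-!
# 2-groups with at most three involutions: the order bound for "reduced" groups

Piece FO-Q (and basic identities) of helper13's farm-out for S3117.
-/

namespace Cfsg.Agent.Lib.Helper2.ThreeInv

open scoped Classical

variable {G : Type*} [Group G]

/-- the subgroup of elements of square one (central by hypothesis) -/
def U (hc : ∀ x y : G, y ^ 2 = 1 → x * y = y * x) : Subgroup G where
  carrier := {x | x ^ 2 = 1}
  one_mem' := by simp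
  mul_mem' := by
    intro a b ha hb
    have ha' : a ^ 2 = 1 := ha
    have hb' : b ^ 2 = 1 := hb
    have hab : Commute a b := hc a b hb'
    show (a * b) ^ 2 = 1
    rw [hab.mul_pow, ha', hb', one_mul]
  inv_mem' := by
    intro a ha
    have ha' : a ^ 2 = 1 := ha
    show (a⁻¹) ^ 2 = 1
    rw [inv_pow, ha', inv_one]

theorem mem_U {hc : ∀ x y : G, y ^ 2 = 1 → x * y = y * x} {x : G} : x ∈ U hc ↔ x ^ 2 = 1 :=
  Iff.rfl

/-- the commutator-type symbol -/
def kap (a b : G) : G := b⁻¹ * a⁻¹ * b * a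

section identities

variable (h4 : ∀ x : G, x ^ 4 = 1) (hc : ∀ x y : G, y ^ 2 = 1 → x * y = y * x)
  (hk : ∀ x y : G, (x * y * x⁻¹ * y⁻¹) ^ 2 = 1)

include h4 in
theorem sq_sq (x : G) : (x ^ 2) ^ 2 = 1 := by
  rw [← pow_mul]; exact h4 x

include hk in
theorem kap_sq (a b : G) : (kap a b) ^ 2 = 1 := by
  have := hk b⁻¹ a⁻¹
  simpa [kap, inv_inv] using this

include hc hk in
theorem kap_comm (a b g : G) : g * kap a b = kap a b * g :=
  hc g (kap a b) (kap_sq hk a b)

include hc hk in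
theorem mul_sq (a b : G) : (a * b) ^ 2 = a ^ 2 * b ^ 2 * kap a b := by
  have hκ : b * a = a * b * kap a b := by simp only [kap]; group
  have hcom := kap_comm hc hk a b
  calc (a * b) ^ 2 = a * (b * a) * b := by rw [pow_two]; group
    _ = a * (a * b * kap a b) * b := by rw [hκ]
    _ = a * a * b * (kap a b * b) := by group
    _ = a * a * b * (b * kap a b) := by rw [← hcom b]
    _ = a ^ 2 * b ^ 2 * kap a b := by rw [pow_two, pow_two]; group

include hc hk in
theorem kap_mul_right (a b c : G) : kap a (b * c) = kap a b * kap a c := by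
  have hcom := kap_comm hc hk a b
  calc kap a (b * c) = c⁻¹ * kap a b * (a⁻¹ * c * a) := by simp only [kap]; group
    _ = kap a b * c⁻¹ * (a⁻¹ * c * a) := by rw [hcom c⁻¹]
    _ = kap a b * kap a c := by simp only [kap]; group

theorem kap_eq_one_iff (a b : G) : kap a b = 1 ↔ a * b = b * a := by
  simp only [kap]
  constructor
  · intro h
    have : b * a = a * b * (b⁻¹ * a⁻¹ * b * a) := by group
    rw [h, mul_one] at this
    exact this.symm
  · intro h
    calc b⁻¹ * a⁻¹ * b * a = b⁻¹ * a⁻¹ * (b * a) := by group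
      _ = b⁻¹ * a⁻¹ * (a * b) := by rw [h]
      _ = 1 := by group

end identities

variable [Finite G]

section lemmaQ

/-- index two: the product of two elements of `U` outside `M` lies in `M` -/
theorem mul_mem_of_index_two (hc : ∀ x y : G, y ^ 2 = 1 → x * y = y * x) (M : Subgroup G) (hM : ∀ m ∈ M, m ^ 2 = 1)
    (hMidx : 2 * Nat.card M = Nat.card {x : G // x ^ 2 = 1}) {p q : G}
    (hp : p ^ 2 = 1) (hq : q ^ 2 = 1) (hpM : p ∉ M) (hqM : q ∉ M) : p * q ∈ M := by
  have hMU : M ≤ U hc := fun m hm => hM m hm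
  have hcardU : Nat.card (U hc) = Nat.card {x : G // x ^ 2 = 1} :=
    Nat.card_congr (Equiv.subtypeEquivRight (fun x => Iff.rfl))
  have hidx : (M.subgroupOf (U hc)).index = 2 := by
    have h1 := Subgroup.card_mul_index (M.subgroupOf (U hc))
    rw [Nat.card_congr (Subgroup.subgroupOfEquivOfLe hMU).toEquiv, hcardU, ← hMidx] at h1
    have hpos : 0 < Nat.card M := Nat.card_pos
    nlinarith
  have key := Subgroup.mul_mem_iff_of_index_two hidx
    (a := (⟨p, hp⟩ : U hc)) (b := (⟨q, hq⟩ : U hc))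
  simp only [Subgroup.mem_subgroupOf] at key
  exact key.mpr ⟨fun h => absurd h hpM, fun h => absurd h hqM⟩

theorem exists_avoid (Y : Subgroup G) (S : Set G) (h : S.ncard < Nat.card Y) :
    ∃ w ∈ Y, w ∉ S := by
  have h' : S.ncard < (Y : Set G).ncard := by
    rw [← _root_.Nat.card_coe_set_eq]; exact h
  obtain ⟨e, he, hne⟩ := Set.exists_mem_notMem_of_ncard_lt_ncard h' (Set.toFinite _)
  exact ⟨e, he, hne⟩

omit [Finite G] in
theorem ncard_translate (N : Set G) (a : G) : {w : G | a * w ∈ N}.ncard = N.ncard := by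
  have : {w : G | a * w ∈ N} = (fun n => a⁻¹ * n) '' N := by
    ext w
    simp only [Set.mem_ofPred_eq, Set.mem_image]
    constructor
    · intro h; exact ⟨a * w, h, by group⟩
    · rintro ⟨n, hn, rfl⟩; simpa using hn
  rw [this, Set.ncard_image_of_injective _ (mul_right_injective a⁻¹)]

/-- Lemma Q -/
theorem lemmaQ (h4 : ∀ x : G, x ^ 4 = 1) (hc : ∀ x y : G, y ^ 2 = 1 → x * y = y * x)
    (hk : ∀ x y : G, (x * y * x⁻¹ * y⁻¹) ^ 2 = 1)
    (Y : Subgroup G) (N : Set G) (M : Subgroup G) (hM : ∀ m ∈ M, m ^ 2 = 1)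
    (hMidx : 2 * Nat.card M = Nat.card {x : G // x ^ 2 = 1})
    (hYN : ∀ y ∈ Y, y ∉ N → y ^ 2 ∉ M) : Nat.card Y ≤ 4 * N.ncard := by
  by_contra hlt
  push Not at hlt
  -- key property
  have hkey : ∀ a ∈ Y, ∀ b ∈ Y, a ∉ N → b ∉ N → a * b ∉ N → kap a b ∉ M := by
    intro a ha b hb haN hbN habN hκ
    have h1 := hYN a ha haN
    have h2 := hYN b hb hbN
    have h3 := hYN (a * b) (Y.mul_mem ha hb) habN
    have h12 : a ^ 2 * b ^ 2 ∈ M :=
      mul_mem_of_index_two hc M hM hMidx (sq_sq h4 a) (sq_sq h4 b) h1 h2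
    apply h3
    rw [mul_sq hc hk]
    exact M.mul_mem h12 hκ
  obtain ⟨y, hyY, hyN⟩ := exists_avoid Y N (by omega)
  obtain ⟨z, hzY, hzN⟩ := exists_avoid Y (N ∪ {w | y * w ∈ N}) (by
    have := Set.ncard_union_le N {w | y * w ∈ N}
    rw [ncard_translate] at this
    omega)
  obtain ⟨w, hwY, hwN⟩ := exists_avoid Y
    (N ∪ {w | y * w ∈ N} ∪ {w | z * w ∈ N} ∪ {w | (y * z) * w ∈ N}) (by
    have h1 := Set.ncard_union_le (N ∪ {w | y * w ∈ N} ∪ {w | z * w ∈ N}) {w | (y * z) * w ∈ N}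
    have h2 := Set.ncard_union_le (N ∪ {w | y * w ∈ N}) {w | z * w ∈ N}
    have h3 := Set.ncard_union_le N {w | y * w ∈ N}
    rw [ncard_translate] at h1 h2 h3
    omega)
  simp only [Set.mem_union, Set.mem_ofPred_eq, not_or] at hzN hwN
  obtain ⟨hzN, hyzN⟩ := hzN
  obtain ⟨⟨⟨hwN, hywN⟩, hzwN⟩, hyzwN⟩ := hwN
  have k1 := hkey y hyY z hzY hyN hzN hyzN
  have k2 := hkey y hyY w hwY hyN hwN hywN
  have k3 := hkey y hyY (z * w) (Y.mul_mem hzY hwY) hyN hzwN (by rwa [← mul_assoc])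
  apply k3
  rw [kap_mul_right hc hk]
  exact mul_mem_of_index_two hc M hM hMidx (kap_sq hk y z) (kap_sq hk y w) k1 k2

end lemmaQ

end Cfsg.Agent.Lib.Helper2.ThreeInv
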