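import Mathlib
import Cfsg.Agent.Lib.Helper2.Dihedral
import Cfsg.Agent.Lib.Helper2.BrauerFowler

/-!
# Groups with two classes of involutions: `|G| < |C(t)| ^ 3`
(helper2 library)
-/

set_option autoImplicit false

namespace Cfsg.Agent.Lib.Helper2

open TwoInv
open scoped Classical

variable {G : Type*} [Group G]

/-- involutions commuting with `a`, together with `1`, lie in `C(a)`. -/
theorem card_commuting_involutions_succ_le [Fintype G] (a : G) :
    (Finset.univ.filter (fun v : G => orderOf v = 2 ∧ Commute v a)).card + 1 ≤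
      Nat.card (Subgroup.centralizer ({a} : Set G)) := by
  rw [Nat.card_eq_fintype_card, Fintype.card_subtype]
  have h1 : (1 : G) ∉ Finset.univ.filter (fun v : G => orderOf v = 2 ∧ Commute v a) := by
    rw [Finset.mem_filter]
    rintro ⟨-, h, -⟩
    rw [orderOf_one] at h; omega
  rw [← Finset.card_insert_of_notMem h1]
  apply Finset.card_le_card
  intro v hv
  rw [Finset.mem_insert, Finset.mem_filter] at hv
  rw [Finset.mem_filter]
  refine ⟨Finset.mem_univ _, ?_⟩
  rcases hv with rfl | ⟨-, -, hc⟩
  · exact one_mem _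
  · rw [Subgroup.mem_centralizer_iff]
    intro y hy
    rw [Set.mem_singleton_iff] at hy
    subst hy
    exact hc.eq.symm

/-- S0230. -/
theorem card_lt_centralizer_cube [Finite G] (s t : G) (hs : orderOf s = 2) (ht : orderOf t = 2)
    (hnc : ¬ IsConj s t)
    (hmax : ∀ u : G, orderOf u = 2 → Nat.card (Subgroup.centralizer ({u} : Set G)) ≤
      Nat.card (Subgroup.centralizer ({t} : Set G))) :
    Nat.card G < Nat.card (Subgroup.centralizer ({t} : Set G)) ^ 3 := by
  haveI : Fintype G := Fintype.ofFinite G
  set c := Nat.card (Subgroup.centralizer ({t} : Set G)) with hc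
  have hs2 := sq_of_orderOf hs
  set clt := Finset.univ.filter (fun v : G => IsConj t v) with hclt
  have hclass : c * clt.card = Nat.card G := card_centralizer_mul_card_conjFinset t
  let f : G → G := fun v => (s * v) ^ (orderOf (s * v) / 2)
  have hf : ∀ v ∈ clt, orderOf v = 2 ∧ orderOf (f v) = 2 ∧ Commute (f v) s ∧ Commute (f v) v := by
    intro v hv
    rw [hclt, Finset.mem_filter] at hv
    obtain ⟨g, hg⟩ := isConj_iff.mp hv.2
    have hvord : orderOf v = 2 := by
      rw [← hg]
      have := orderOf_injective (MulAut.conj g).toMonoidHom (MulAut.conj g).injective t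
      simp only [MulEquiv.coe_toMonoidHom, MulAut.conj_apply] at this
      rw [this, ht]
    have hv2 := sq_of_orderOf hvord
    have heven : Even (orderOf (s * v)) := by
      by_contra hodd
      rw [Nat.not_even_iff_odd] at hodd
      obtain ⟨d, -, hd⟩ := exists_conj_of_odd hs2 hv2 hodd
      exact hnc ((isConj_iff.mpr ⟨d, hd⟩).trans hv.2.symm)
    exact ⟨hvord, central_involution hs2 hv2 (orderOf_pos _) heven⟩
  -- the image lies among the involutions of `C(s)`
  have himg : (clt.image f).card + 1 ≤ c := by
    have h1 : clt.image f ⊆ Finset.univ.filter (fun v : G => orderOf v = 2 ∧ Commute v s) := by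
      intro z hz
      rw [Finset.mem_image] at hz
      obtain ⟨v, hv, rfl⟩ := hz
      rw [Finset.mem_filter]
      exact ⟨Finset.mem_univ _, (hf v hv).2.1, (hf v hv).2.2.1⟩
    calc (clt.image f).card + 1
        ≤ (Finset.univ.filter (fun v : G => orderOf v = 2 ∧ Commute v s)).card + 1 :=
          Nat.add_le_add_right (Finset.card_le_card h1) 1
      _ ≤ Nat.card (Subgroup.centralizer ({s} : Set G)) := card_commuting_involutions_succ_le s
      _ ≤ c := hmax s hs
  -- the fibres lie among the involutions of `C(z)`
  have hfib : ∀ a ∈ clt.image f, (clt.filter (fun v => f v = a)).card ≤ c - 1 := by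
    intro a ha
    rw [Finset.mem_image] at ha
    obtain ⟨v₀, hv₀, rfl⟩ := ha
    have h1 : clt.filter (fun v => f v = f v₀) ⊆
        Finset.univ.filter (fun v : G => orderOf v = 2 ∧ Commute v (f v₀)) := by
      intro v hv
      rw [Finset.mem_filter] at hv
      rw [Finset.mem_filter]
      refine ⟨Finset.mem_univ _, (hf v hv.1).1, ?_⟩
      rw [← hv.2]
      exact (hf v hv.1).2.2.2.symm
    have h2 := card_commuting_involutions_succ_le (f v₀)
    have h3 := hmax (f v₀) (hf v₀ hv₀).2.1
    have h4 := Finset.card_le_card h1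
    omega
  have hcard := Finset.card_le_mul_card_image clt (c - 1) hfib
  have hc2 : 1 ≤ c := by omega
  have h5 : clt.card ≤ (c - 1) * (c - 1) :=
    hcard.trans (Nat.mul_le_mul_left _ (by omega))
  rw [← hclass]
  obtain ⟨e, he⟩ : ∃ e, c = e + 1 := ⟨c - 1, by omega⟩
  rw [he] at h5 ⊢
  simp only [Nat.add_sub_cancel] at h5
  have : (e + 1) * clt.card ≤ (e + 1) * (e * e) := Nat.mul_le_mul_left _ h5
  nlinarith

end Cfsg.Agent.Lib.Helper2
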