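import Mathlib
import Cfsg.Prelude.Def_Transfer
import Cfsg.Prelude.Def_CaseTheorems
import Cfsg.Agent.Lib.Helper10.NormalEpSq
import Cfsg.Agent.S0111

/-!
# Groups of 2-rank at least 3 without subgroups of index 2 (helper2 library)

Every involution centralizes an `E₈`.
-/

set_option autoImplicit false

namespace Cfsg.Agent.Lib.Helper2

namespace TwoRankThree

/-- adjoin a commuting involution to an elementary abelian group of order 4 -/
theorem exists_e8_of_e4 {P : Type*} [Group P] (U : Subgroup P)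
    (hU2 : ∀ u ∈ U, u ^ 2 = 1) (hU4 : Nat.card U = 4) (a : P) (haU : a ∉ U) (ha2 : a ^ 2 = 1)
    (hac : ∀ u ∈ U, a * u = u * a) :
    ∃ F : Subgroup P, U ≤ F ∧ a ∈ F ∧ Nat.card F = 8 ∧ (∀ f ∈ F, f ^ 2 = 1) := by
  have ha1 : a ≠ 1 := fun h => haU (h ▸ U.one_mem)
  have hoa : orderOf a = 2 := orderOf_eq_prime ha2 ha1
  have comm : ∀ (m : U) (n : Subgroup.zpowers a),
      Commute (U.subtype m) ((Subgroup.zpowers a).subtype n) := by
    intro m n
    obtain ⟨k, hk⟩ := Subgroup.mem_zpowers_iff.mp n.2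
    have : Commute (a : P) (m : P) := hac m m.2
    have h2 : Commute (a ^ k) (m : P) := this.zpow_left k
    simp only [Subgroup.subtype_apply]
    rw [← hk]
    exact h2.symm
  let φ : U × Subgroup.zpowers a →* P :=
    MonoidHom.noncommCoprod U.subtype (Subgroup.zpowers a).subtype comm
  have hmemz : ∀ b ∈ Subgroup.zpowers a, b = 1 ∨ b = a := by
    intro b hb
    obtain ⟨k, rfl⟩ := Subgroup.mem_zpowers_iff.mp hb
    rcases Int.even_or_odd' k with ⟨j, hj | hj⟩
    · left
      rw [hj, zpow_mul, zpow_two, ← pow_two, ha2, one_zpow]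
    · right
      rw [hj, zpow_add, zpow_mul, zpow_two, ← pow_two, ha2, one_zpow, one_mul, zpow_one]
  have hinj : Function.Injective φ := by
    rw [MonoidHom.noncommCoprod_injective]
    refine ⟨Subtype.val_injective, Subtype.val_injective, ?_⟩
    rw [Subgroup.range_subtype, Subgroup.range_subtype, disjoint_iff_inf_le]
    intro b ⟨hbU, hbz⟩
    rcases hmemz b hbz with h | h
    · exact h
    · exact absurd (h ▸ hbU) haU
  refine ⟨φ.range, ?_, ?_, ?_, ?_⟩
  · intro u hu
    exact ⟨(⟨u, hu⟩, 1), by simp [φ]⟩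
  · exact ⟨(1, ⟨a, Subgroup.mem_zpowers a⟩), by simp [φ]⟩
  · rw [Nat.card_congr (MonoidHom.ofInjective hinj).toEquiv.symm, Nat.card_prod, hU4,
      Nat.card_zpowers, hoa]
  · rintro f ⟨⟨u, b⟩, rfl⟩
    have h1 : φ (u, b) = (u : P) * (b : P) := by simp [φ]
    have hc : Commute (u : P) (b : P) := comm u b
    rw [h1, hc.mul_pow]
    have h2 : (u : P) ^ 2 = 1 := hU2 u u.2
    have h3 : (b : P) ^ 2 = 1 := by
      rcases hmemz b b.2 with h | h
      · rw [h, one_pow]
      · rw [h, ha2]
    rw [h2, h3, one_mul]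

/-- a group of exponent 2 is commutative (subgroup version) -/
theorem comm_of_sq_eq_one {P : Type*} [Group P] (F : Subgroup P) (hF : ∀ f ∈ F, f ^ 2 = 1)
    (f g : P) (hf : f ∈ F) (hg : g ∈ F) : f * g = g * f := by
  have h1 := hF (f * g) (F.mul_mem hf hg)
  have h2 := hF f hf
  have h3 := hF g hg
  have hf' : f⁻¹ = f := by
    rw [inv_eq_iff_mul_eq_one, ← pow_two, h2]
  have hg' : g⁻¹ = g := by
    rw [inv_eq_iff_mul_eq_one, ← pow_two, h3]
  have h4 : (f * g)⁻¹ = f * g := by
    rw [inv_eq_iff_mul_eq_one, ← pow_two, h1]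
  rw [← h4, mul_inv_rev, hf', hg']

/-- inside a 2-group `P` with a good normal `E₄` `U`, every involution of `C_P(U)` centralizes an
`E₈`, provided `P` contains some `E₈` -/
theorem exists_e8_in_pgroup {P : Type*} [Group P] [Finite P] (U : Subgroup P)
    (hU : Cfsg.Agent.Lib.Helper10.GoodEpSq 2 U) (A : Subgroup P) (hA8 : Nat.card A = 8)
    (hA2 : ∀ a ∈ A, a ^ 2 = 1) (y : P) (hy2 : y ^ 2 = 1)
    (hyU : y ∈ Subgroup.centralizer (U : Set P)) :
    ∃ F : Subgroup P, F ≤ Subgroup.centralizer ({y} : Set P) ∧ Nat.card F = 8 ∧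
      ∀ f ∈ F, f ^ 2 = 1 := by
  obtain ⟨hUn, ⟨hUc, hU2⟩, hU4, hUY⟩ := hU
  have hU4' : Nat.card U = 4 := by rw [hU4]; norm_num
  by_cases hy : y ∈ U
  · -- find `a ∈ A ⊓ C(U)` outside `U`
    have h1 := hUY A
    rw [hA8] at h1
    have hex : ∃ a ∈ A ⊓ Subgroup.centralizer (U : Set P), a ∉ U := by
      by_contra hcon
      push Not at hcon
      have hle : A ⊓ Subgroup.centralizer (U : Set P) ≤ U := hcon
      have hcard : Nat.card U ≤ Nat.card ↥(A ⊓ Subgroup.centralizer (U : Set P)) := by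
        rw [hU4']; omega
      have heq : A ⊓ Subgroup.centralizer (U : Set P) = U :=
        Subgroup.eq_of_le_of_card_ge hle hcard
      have hUA : U ≤ A := heq ▸ inf_le_left
      have hAC : A ≤ Subgroup.centralizer (U : Set P) := by
        intro a ha
        rw [Subgroup.mem_centralizer_iff]
        intro u hu
        exact comm_of_sq_eq_one A hA2 u a (hUA hu) ha
      have : A ⊓ Subgroup.centralizer (U : Set P) = A := inf_eq_left.mpr hAC
      rw [this] at heq
      rw [heq, hU4'] at hA8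
      omega
    obtain ⟨a, ⟨haA, haC⟩, haU⟩ := hex
    obtain ⟨F, hUF, _, hF8, hF2⟩ := exists_e8_of_e4 U hU2 hU4' a haU (hA2 a haA)
      (fun u hu => ((Subgroup.mem_centralizer_iff.mp haC) u hu).symm)
    refine ⟨F, ?_, hF8, hF2⟩
    intro f hf
    rw [Subgroup.mem_centralizer_singleton_iff]
    exact comm_of_sq_eq_one F hF2 f y hf (hUF hy)
  · obtain ⟨F, _, hyF, hF8, hF2⟩ := exists_e8_of_e4 U hU2 hU4' y hy hy2
      (fun u hu => ((Subgroup.mem_centralizer_iff.mp hyU) u hu).symm)
    refine ⟨F, ?_, hF8, hF2⟩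
    intro f hf
    rw [Subgroup.mem_centralizer_singleton_iff]
    exact comm_of_sq_eq_one F hF2 f y hf hyF

/-- **Main theorem**: in a finite group of 2-rank at least 3 with no subgroup of index 2, every
involution centralizes an `E₈`. -/
theorem exists_e8_centralizer {G : Type*} [Group G] [Finite G]
    (hno : ∀ H : Subgroup G, H.index ≠ 2)
    (hrank : ∃ E : Subgroup G, Nat.card E = 8 ∧ ∀ e ∈ E, e ^ 2 = 1) (x : G)
    (hx : orderOf x = 2) :
    ∃ E : Subgroup G, E ≤ Subgroup.centralizer ({x} : Set G) ∧ Nat.card E = 8 ∧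
      ∀ e ∈ E, e ^ 2 = 1 := by
  classical
  haveI : Fact (Nat.Prime 2) := ⟨Nat.prime_two⟩
  obtain ⟨E, hE8, hE2⟩ := hrank
  have hEp : IsPGroup 2 E := IsPGroup.of_card (n := 3) (by rw [hE8]; norm_num)
  obtain ⟨S, hES⟩ := hEp.exists_le_sylow
  have hP : IsPGroup 2 (↥(S : Subgroup G)) := S.isPGroup'
  set A' : Subgroup (↥(S : Subgroup G)) := E.subgroupOf (S : Subgroup G) with hA'
  have hA'card : Nat.card A' = 8 := by
    rw [hA', ← hE8]
    exact Nat.card_congr (Subgroup.subgroupOfEquivOfLe hES).toEquiv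
  have hA'2 : ∀ a ∈ A', a ^ 2 = 1 := by
    intro a ha
    have h1 : (a : G) ∈ E := Subgroup.mem_subgroupOf.mp ha
    have := hE2 (a : G) h1
    exact Subtype.ext (by simpa using this)
  have hrk : ¬ Cfsg.PRankLE 2 2 (↥(S : Subgroup G)) := by
    intro h
    have h1 : IsMulCommutative A' :=
      IsMulCommutative.of_setLike_mul_comm
        (fun a ha b hb => comm_of_sq_eq_one A' hA'2 a b ha hb)
    have := h A' h1 hA'2
    rw [hA'card] at this
    norm_num at this
  obtain ⟨U, hU⟩ := Cfsg.Agent.Lib.Helper10.exists_goodEpSq hP hrk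
  -- the centralizer of `U`, pushed to `G`
  set T' : Subgroup (↥(S : Subgroup G)) := Subgroup.centralizer (U : Set (↥(S : Subgroup G)))
    with hT'
  set T : Subgroup G := T'.map (S : Subgroup G).subtype with hT
  have hTS : T ≤ (S : Subgroup G) := by
    rw [hT]
    exact Subgroup.map_subtype_le T'
  have hmemT : ∀ s : ↥(S : Subgroup G), (s : G) ∈ T ↔ s ∈ T' := by
    intro s
    rw [hT]
    constructor
    · rintro ⟨s', hs', hss'⟩
      have : s' = s := Subtype.ext hss'
      exact this ▸ hs'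
    · intro hs
      exact ⟨s, hs, rfl⟩
  -- index of T' is at most 2
  have hidx : T'.index ≤ 2 := by
    have h1 : Nat.card (↥(S : Subgroup G)) ≤ 2 * Nat.card T' := by
      have h1 := hU.2.2.2 ⊤
      rwa [top_inf_eq, Subgroup.card_top] at h1
    have h2 : T'.index * Nat.card T' = Nat.card (↥(S : Subgroup G)) := T'.index_mul_card
    have h3 : 0 < Nat.card T' := Nat.card_pos
    by_contra hcon
    push Not at hcon
    have : 3 * Nat.card T' ≤ T'.index * Nat.card T' := Nat.mul_le_mul_right _ hcon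
    omega
  -- conjugate `x` into `T`
  have hx2 : x ^ 2 = 1 := by rw [← hx]; exact pow_orderOf_eq_one x
  have hx1 : x ≠ 1 := by
    intro h
    rw [h, orderOf_one] at hx
    norm_num at hx
  have hconjS : ∃ g : G, g * x * g⁻¹ ∈ (S : Subgroup G) := by
    have hxp : IsPGroup 2 (Subgroup.zpowers x) := by
      apply IsPGroup.of_card (n := 1)
      rw [Nat.card_zpowers, hx, pow_one]
    obtain ⟨S', hS'⟩ := hxp.exists_le_sylow
    obtain ⟨g, hg⟩ := MulAction.exists_smul_eq G S' S
    refine ⟨g, ?_⟩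
    have h1 : x ∈ (S' : Subgroup G) := hS' (Subgroup.mem_zpowers x)
    have h2 : g * x * g⁻¹ ∈ ((g • S' : Sylow 2 G) : Subgroup G) := by
      rw [Sylow.coe_subgroup_smul]
      exact ⟨x, h1, by simp [MulAut.smul_def]⟩
    rwa [hg] at h2
  obtain ⟨g, hg⟩ := hconjS
  have hconjT : ∃ k : G, k * x * k⁻¹ ∈ T := by
    by_cases hgT : g * x * g⁻¹ ∈ T
    · exact ⟨g, hgT⟩
    · -- Thompson transfer
      have hT'ne : T' ≠ ⊤ := by
        intro h
        apply hgT
        rw [hmemT ⟨g * x * g⁻¹, hg⟩, h]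
        exact Subgroup.mem_top _
      have hidx2 : T'.index = 2 := by
        have h1 : T'.index ≠ 1 := fun h => hT'ne (Subgroup.index_eq_one.mp h)
        have h0 : T'.index ≠ 0 := Subgroup.index_ne_zero_of_finite
        omega
      have hrel : T.relIndex (S : Subgroup G) = 2 := by
        have h1 : T.relIndex (S : Subgroup G) = T'.index := by
          rw [hT, Subgroup.relIndex, Subgroup.subgroupOf,
            Subgroup.comap_map_eq_self_of_injective Subtype.val_injective]
        rw [h1, hidx2]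
      have ho : orderOf (g * x * g⁻¹) = 2 := by
        have hs : SemiconjBy g x (g * x * g⁻¹) := by
          unfold SemiconjBy
          group
        rw [← hs.orderOf_eq]
        exact hx
      rcases Cfsg.Agent.S0111.result S T hTS hrel (g * x * g⁻¹) ho hg hgT with
        ⟨M, _, hM2, _⟩ | ⟨h, hh⟩
      · exact absurd hM2 (hno M)
      · refine ⟨h * g, ?_⟩
        have : h * g * x * (h * g)⁻¹ = h * (g * x * g⁻¹) * h⁻¹ := by group
        rw [this]
        exact hh
  obtain ⟨k, hk⟩ := hconjT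
  -- work inside `S`
  set y : ↥(S : Subgroup G) := ⟨k * x * k⁻¹, hTS hk⟩ with hy
  have hyT' : y ∈ T' := (hmemT y).mp hk
  have hy2 : y ^ 2 = 1 := by
    apply Subtype.ext
    simp only [hy, Subgroup.coe_pow, Subgroup.coe_one]
    rw [conj_pow, hx2]
    group
  obtain ⟨F, hFy, hF8, hF2⟩ := exists_e8_in_pgroup U hU A' hA'card hA'2 y hy2 hyT'
  -- transport back
  let ψ : ↥(S : Subgroup G) →* G :=
    (MulAut.conj k⁻¹).toMonoidHom.comp (S : Subgroup G).subtype
  have hψinj : Function.Injective ψ := by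
    intro a b hab
    have : (MulAut.conj k⁻¹) (a : G) = (MulAut.conj k⁻¹) (b : G) := hab
    exact Subtype.ext ((MulAut.conj k⁻¹).injective this)
  have hψy : ψ y = x := by
    change (MulAut.conj k⁻¹) (k * x * k⁻¹) = x
    rw [MulAut.conj_apply]
    group
  refine ⟨F.map ψ, ?_, ?_, ?_⟩
  · rintro _ ⟨f, hf, rfl⟩
    rw [Subgroup.mem_centralizer_singleton_iff]
    have h1 := Subgroup.mem_centralizer_singleton_iff.mp (hFy hf)
    rw [← hψy, ← map_mul, ← map_mul, h1]
  · rw [Subgroup.card_map_of_injective hψinj, hF8]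
  · rintro _ ⟨f, hf, rfl⟩
    rw [← map_pow, hF2 f hf, map_one]

end TwoRankThree

end Cfsg.Agent.Lib.Helper2
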