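import Mathlib
import Cfsg.Agent.Lib.Helper12.S1903D
import Cfsg.Agent.Lib.Helper16.UnitaryCount4

/-!
# `PSU₃(4)`: order, and elements of orders 10 and 15

For a field `F` with 16 elements: `|SU₃(4)| = |PSU₃(4)| = 62400`, and both groups contain elements
of orders 10 and 15.
-/

set_option autoImplicit false

namespace Cfsg.Agent.Lib.Helper2.U34Ord

open Cfsg Matrix Cfsg.Agent.Lib.Helper6 Cfsg.Agent.Lib.Helper16 Cfsg.Agent.Lib.Helper12.S1903
  Cfsg.Agent.Lib.Helper14.PSU3

variable {F : Type*} [Field F] [Fintype F]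

theorem card_SU34 (hF : Fintype.card F = 16) : Nat.card ↥(Cfsg.SU 3 F 4) = 62400 := by
  have hF' : Fintype.card F = 4 ^ 2 := by rw [hF]; norm_num
  have h1 := card_SU_mul hF' 3 (by norm_num)
  rw [card_GU hF' 3] at h1
  have h2 : (4 : ℕ) ^ (3 * (3 - 1) / 2) *
      ∏ i ∈ Finset.range 3, (if Even i then 4 ^ (i + 1) + 1 else 4 ^ (i + 1) - 1) = 312000 := by
    decide
  rw [h2] at h1
  omega

theorem card_PSU34 (hF : Fintype.card F = 16) : Nat.card (Cfsg.PSU 3 F 4) = 62400 := by
  rw [← Nat.card_congr (suEquiv hF).toEquiv]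
  exact card_SU34 hF

/-- an element of order 5 of the field -/
theorem exists_eta (hF : Fintype.card F = 16) : ∃ η : F, η ^ 5 = 1 ∧ η ≠ 1 := by
  classical
  haveI : Fact (Nat.Prime 5) := ⟨by norm_num⟩
  have hc : Fintype.card Fˣ = 15 := by rw [Fintype.card_units, hF]
  obtain ⟨u, hu⟩ := exists_prime_orderOf_dvd_card 5 (G := Fˣ) (by rw [hc]; norm_num)
  refine ⟨(u : F), ?_, ?_⟩
  · have := pow_orderOf_eq_one u
    rw [hu] at this
    have h2 := congrArg Units.val this
    rwa [Units.val_pow_eq_pow_val, Units.val_one] at h2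
  · intro h
    have : u = 1 := Units.ext h
    rw [this, orderOf_one] at hu
    omega

/-- the all-ones matrix -/
def J : Matrix (Fin 3) (Fin 3) F := Matrix.of fun _ _ => 1

theorem J_mul_J (hF : Fintype.card F = 16) : (J : Matrix (Fin 3) (Fin 3) F) * J = J := by
  have h2 := two_eq_zero hF
  ext i j
  simp only [J, Matrix.mul_apply, Matrix.of_apply, Fin.sum_univ_three, mul_one]
  linear_combination h2

omit [Fintype F] in
theorem J_transpose : (J : Matrix (Fin 3) (Fin 3) F)ᵀ = J := rfl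

/-- the matrices `x + y J` -/
def xy (x y : F) : Matrix (Fin 3) (Fin 3) F := x • 1 + y • J

theorem xy_mul (hF : Fintype.card F = 16) (x y x' y' : F) :
    xy x y * xy x' y' = xy (x * x') (x * y' + y * x' + y * y') := by
  unfold xy
  rw [add_mul, mul_add, mul_add, Matrix.smul_mul, Matrix.smul_mul, Matrix.smul_mul,
    Matrix.smul_mul, Matrix.mul_smul, Matrix.mul_smul, Matrix.mul_smul, Matrix.mul_smul,
    Matrix.one_mul, Matrix.one_mul, Matrix.mul_one, J_mul_J hF]
  simp only [smul_smul, add_smul]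
  abel_nf

omit [Fintype F] in
theorem xy_one_zero : xy (1 : F) 0 = 1 := by
  unfold xy
  rw [one_smul, zero_smul, add_zero]

theorem xy_pow (hF : Fintype.card F = 16) (x y : F) (n : ℕ) :
    xy x y ^ n = xy (x ^ n) ((x + y) ^ n - x ^ n) := by
  induction n with
  | zero => rw [pow_zero, pow_zero, pow_zero, sub_self, xy_one_zero]
  | succ n ih =>
    rw [pow_succ, ih, xy_mul hF]
    congr 1 <;> ring

omit [Fintype F] in
theorem xy_transpose (x y : F) : (xy x y)ᵀ = xy x y := by
  unfold xy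
  rw [Matrix.transpose_add, Matrix.transpose_smul, Matrix.transpose_smul, Matrix.transpose_one,
    J_transpose]

omit [Fintype F] in
theorem xy_map (f : F →+* F) (x y : F) : (xy x y).map f = xy (f x) (f y) := by
  ext i j
  simp only [xy, J, Matrix.map_apply, Matrix.add_apply, Matrix.smul_apply, Matrix.of_apply,
    Matrix.one_apply, smul_eq_mul, map_add, map_mul, mul_one]
  split_ifs <;> simp

omit [Fintype F] in
theorem xy_apply_zero_one (x y : F) : xy x y 0 1 = y := by
  simp [xy, J]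

/-- the unitary circulant matrix of order 5 -/
def Dm (η : F) : Matrix (Fin 3) (Fin 3) F := xy η (η ^ 3 - η)

theorem Dm_pow_five (hF : Fintype.card F = 16) (η : F) (hη : η ^ 5 = 1) : Dm η ^ 5 = 1 := by
  unfold Dm
  rw [xy_pow hF, hη]
  have : (η + (η ^ 3 - η)) ^ 5 - 1 = 0 := by
    have : (η + (η ^ 3 - η)) ^ 5 = (η ^ 5) ^ 3 := by ring
    rw [this, hη]; ring
  rw [this, xy_one_zero]

omit [Fintype F] in
theorem Dm_ne_one (η : F) (hη : η ^ 5 = 1) (h1 : η ≠ 1) : Dm η ≠ 1 := by
  intro h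
  have h01 := congrFun (congrFun h 0) 1
  rw [Dm, xy_apply_zero_one] at h01
  simp only [Matrix.one_apply] at h01
  have h01' : η ^ 3 - η = 0 := by simpa using h01
  apply h1
  have h2 : η ^ 3 = η := by linear_combination h01'
  have h4 : η ^ 4 = 1 := by
    have : η ^ 5 = η ^ 3 * η ^ 2 := by ring
    rw [this, h2] at hη
    have h3 : η ^ 3 = 1 := by linear_combination hη
    rw [h3] at h2
    rw [← h2]; ring
  have : η ^ 5 = η ^ 4 * η := by ring
  rw [this, h4, one_mul] at hη
  exact hη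

theorem Dm_pres (hF : Fintype.card F = 16) (hF' : Fintype.card F = 4 ^ 2) (η : F)
    (hη : η ^ 5 = 1) : (Dm η)ᵀ * (Dm η).map (conjQ hF') = 1 := by
  have h2 := two_eq_zero hF
  unfold Dm
  rw [xy_transpose, xy_map, xy_mul hF, conjQ_apply, conjQ_apply, ← xy_one_zero]
  congr 1
  · linear_combination η ^ 0 * hη
  · linear_combination ((1) * η ^ 10 + (-4) * η ^ 8 + (6) * η ^ 6 + (1) * η ^ 5 + (-4) * η ^ 4 + (-4) * η ^ 3 + (2) * η ^ 2 + (6) * η) * hη + ((-2) * η ^ 4 + (-2) * η ^ 3 + (1) * η ^ 2 + (3) * η) * h2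

theorem Dm_det (hF : Fintype.card F = 16) (η : F) (hη : η ^ 5 = 1) : (Dm η).det = 1 := by
  have h2 := two_eq_zero hF
  rw [Matrix.det_fin_three]
  simp only [Dm, xy, J, Matrix.add_apply, Matrix.smul_apply, Matrix.of_apply, Matrix.one_apply,
    smul_eq_mul, mul_one]
  simp only [Fin.isValue, Fin.reduceEq, if_true, if_false, mul_zero, zero_add, mul_one]
  linear_combination ((3)) * hη + ((-1) * η ^ 3 + (1)) * h2

/-- the cyclic permutation matrix -/
def Pm : Matrix (Fin 3) (Fin 3) F := !![0, 1, 0; 0, 0, 1; 1, 0, 0]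

omit [Fintype F] in
theorem Pm_pow_three : (Pm : Matrix (Fin 3) (Fin 3) F) ^ 3 = 1 := by
  ext i j
  fin_cases i <;> fin_cases j <;>
    simp [Pm, pow_succ, Matrix.mul_apply, Fin.sum_univ_three]

omit [Fintype F] in
theorem Pm_ne_one : (Pm : Matrix (Fin 3) (Fin 3) F) ≠ 1 := by
  intro h
  have := congrFun (congrFun h 0) 0
  simp [Pm] at this

omit [Fintype F] in
theorem Pm_mul_J : (Pm : Matrix (Fin 3) (Fin 3) F) * J = J := by
  ext i j
  fin_cases i <;> fin_cases j <;>
    simp [Pm, J, Matrix.mul_apply, Fin.sum_univ_three]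

omit [Fintype F] in
theorem J_mul_Pm : J * (Pm : Matrix (Fin 3) (Fin 3) F) = J := by
  ext i j
  fin_cases i <;> fin_cases j <;>
    simp [Pm, J, Matrix.mul_apply, Fin.sum_univ_three]

omit [Fintype F] in
theorem Pm_mul_xy (x y : F) : Pm * xy x y = xy x y * Pm := by
  unfold xy
  rw [mul_add, add_mul, Matrix.mul_smul, Matrix.mul_smul, Matrix.smul_mul, Matrix.smul_mul,
    Matrix.mul_one, Matrix.one_mul, Pm_mul_J, J_mul_Pm]

omit [Fintype F] in
theorem Pm_det : (Pm : Matrix (Fin 3) (Fin 3) F).det = 1 := by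
  rw [Matrix.det_fin_three]
  simp [Pm]

theorem Pm_pres (hF' : Fintype.card F = 4 ^ 2) :
    (Pm : Matrix (Fin 3) (Fin 3) F)ᵀ * (Pm : Matrix (Fin 3) (Fin 3) F).map (conjQ hF') = 1 := by
  ext i j
  fin_cases i <;> fin_cases j <;>
    simp [Pm, Matrix.mul_apply, Fin.sum_univ_three]

theorem exists_orderOf_fifteen_SU (hF : Fintype.card F = 16) :
    ∃ g : ↥(Cfsg.SU 3 F 4), orderOf g = 15 := by
  have hF' : Fintype.card F = 4 ^ 2 := by rw [hF]; norm_num
  obtain ⟨η, hη, h1⟩ := exists_eta hF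
  obtain ⟨d, hd⟩ := exists_of_matrix hF' (Dm η) (Dm_pres hF hF' η hη) (Dm_det hF η hη)
  obtain ⟨p, hp⟩ := exists_of_matrix hF' (Pm : Matrix (Fin 3) (Fin 3) F) (Pm_pres hF') Pm_det
  have hd5 : orderOf d = 5 := by
    haveI : Fact (Nat.Prime 5) := ⟨by norm_num⟩
    apply orderOf_eq_prime
    · apply mat_injective
      rw [mat_pow, hd, Dm_pow_five hF η hη, mat_one]
    · intro h
      apply Dm_ne_one η hη h1
      rw [← hd, h, mat_one]
  have hp3 : orderOf p = 3 := by
    haveI : Fact (Nat.Prime 3) := ⟨by norm_num⟩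
    apply orderOf_eq_prime
    · apply mat_injective
      rw [mat_pow, hp, Pm_pow_three, mat_one]
    · intro h
      apply Pm_ne_one (F := F)
      rw [← hp, h, mat_one]
  have hc : Commute p d := by
    apply mat_injective
    rw [mat_mul, mat_mul, hp, hd]
    exact Pm_mul_xy _ _
  refine ⟨p * d, ?_⟩
  rw [hc.orderOf_mul_eq_mul_orderOf_of_coprime (by rw [hp3, hd5]; norm_num), hp3, hd5]

/-- the diagonal matrix of order 5 commuting with the transposition matrix -/
def Em (η : F) : Matrix (Fin 3) (Fin 3) F := Matrix.diagonal ![η, η, η ^ 3]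

theorem exists_orderOf_ten_SU (hF : Fintype.card F = 16) :
    ∃ g : ↥(Cfsg.SU 3 F 4), orderOf g = 10 := by
  have hF' : Fintype.card F = 4 ^ 2 := by rw [hF]; norm_num
  obtain ⟨η, hη, h1⟩ := exists_eta hF
  have hpres : ∀ x y, hermForm 3 F 4 (Em η *ᵥ x) (Em η *ᵥ y) = hermForm 3 F 4 x y := by
    apply diag_pres
    intro i
    fin_cases i
    · simpa using hη
    · simpa using hη
    · have : (η ^ 3) ^ (4 + 1) = (η ^ 5) ^ 3 := by ring
      simpa [hη] using this
  have hdet : (Em η).det = 1 := by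
    rw [Em, Matrix.det_diagonal, Fin.prod_univ_three]
    simp only [Matrix.cons_val_zero, Matrix.cons_val_one, Matrix.cons_val_two,
      Matrix.head_cons, Matrix.tail_cons]
    linear_combination hη
  obtain ⟨d, hd⟩ := exists_SU_of_pres (q := 4) (Em η) hpres hdet
  have hd' : mat d = Em η := hd
  have hd5 : orderOf d = 5 := by
    haveI : Fact (Nat.Prime 5) := ⟨by norm_num⟩
    apply orderOf_eq_prime
    · apply mat_injective
      rw [mat_pow, hd', Em, Matrix.diagonal_pow, mat_one, ← Matrix.diagonal_one]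
      congr 1
      ext i
      fin_cases i
      · simpa using hη
      · simpa using hη
      · have : (η ^ 3) ^ 5 = (η ^ 5) ^ 3 := by ring
        simpa [hη] using this
    · intro h
      apply h1
      have h00 := congrFun (congrFun (hd'.symm.trans (by rw [h, mat_one])) 0) 0
      simpa [Em] using h00
  have hc : Commute (t0 hF) d := by
    apply mat_injective
    rw [mat_mul, mat_mul, hd', mat_t0, Cfsg.Agent.Lib.Helper16.S1903E2.swap_explicit]
    ext i j
    fin_cases i <;> fin_cases j <;>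
      simp [Em, Matrix.mul_apply, Matrix.diagonal_apply]
  refine ⟨t0 hF * d, ?_⟩
  rw [hc.orderOf_mul_eq_mul_orderOf_of_coprime (by rw [orderOf_t0 hF, hd5]; norm_num),
    orderOf_t0 hF, hd5]

theorem exists_orderOf_ten (hF : Fintype.card F = 16) :
    ∃ g : Cfsg.PSU 3 F 4, orderOf g = 10 := by
  obtain ⟨g, hg⟩ := exists_orderOf_ten_SU hF
  exact ⟨suEquiv hF g, by rw [MulEquiv.orderOf_eq, hg]⟩

theorem exists_orderOf_fifteen (hF : Fintype.card F = 16) :
    ∃ g : Cfsg.PSU 3 F 4, orderOf g = 15 := by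
  obtain ⟨g, hg⟩ := exists_orderOf_fifteen_SU hF
  exact ⟨suEquiv hF g, by rw [MulEquiv.orderOf_eq, hg]⟩

end Cfsg.Agent.Lib.Helper2.U34Ord
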