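import Mathlib
import Cfsg.Agent.Lib.Helper7.U34Defs
import Cfsg.Agent.Lib.Helper7.U34Cert
import Cfsg.Agent.Lib.Helper7.U34Cert2
import Cfsg.Agent.Lib.Helper9.U34PB0
import Cfsg.Agent.Lib.Helper20.A10Core

/-!
# S3663 piece PX (architect helper7): the element `x13` of order 13 with vanishing norm on `𝔽₅¹²`,
and non-zero fixed vectors of the involution `T` and of the element `P` of order 3
-/

set_option autoImplicit false

namespace Cfsg.Agent.Lib.Helper2.U34PX

open Matrix Cfsg.Agent.Lib.Helper7.U34 Cfsg.Agent.Lib.Helper20.A10Core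
open Cfsg.Agent.Lib.Helper9.U34PB0

/-! ### kernel facts: some entry differs from the identity matrix -/

/-- `A` differs from the identity matrix in some entry, mod 5 -/
def neIdB (A : List (List ℕ)) : Bool :=
  (List.range 12).any fun i => (List.range 12).any fun j =>
    !((A.getD i []).getD j 0 % 5 == if i = j then 1 else 0)

theorem rX_neId : neIdB rX = true := by decide +kernel
theorem rT_neId : neIdB rT = true := by decide +kernel
theorem rP_neId : neIdB rP = true := by decide +kernel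

theorem toMat_ne_one (A : List (List ℕ)) (h : neIdB A = true) : toMat A ≠ 1 := by
  intro h1
  unfold neIdB at h
  rw [List.any_eq_true] at h
  obtain ⟨i, hi, h⟩ := h
  rw [List.any_eq_true] at h
  obtain ⟨j, hj, h⟩ := h
  rw [List.mem_range] at hi hj
  have h2 := congrFun (congrFun h1 ⟨i, hi⟩) ⟨j, hj⟩
  rw [Matrix.one_apply] at h2
  have h3 : toMat A ⟨i, hi⟩ ⟨j, hj⟩ = (((A.getD i []).getD j 0 : ℕ) : ZMod 5) := rfl
  rw [h3] at h2
  have h4 : ((A.getD i []).getD j 0 % 5 == if i = j then 1 else 0) = false := by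
    simpa using h
  apply Bool.eq_false_iff.mp h4
  rw [beq_iff_eq]
  by_cases hij : i = j
  · have hfin : (⟨i, hi⟩ : Fin 12) = ⟨j, hj⟩ := Fin.ext hij
    rw [if_pos hfin] at h2
    rw [if_pos hij]
    have h5 : (((A.getD i []).getD j 0 : ℕ) : ZMod 5) = ((1 : ℕ) : ZMod 5) := by
      rw [h2]; simp
    have h6 := (ZMod.natCast_eq_natCast_iff' _ _ _).mp h5
    simpa using h6
  · have hfin : (⟨i, hi⟩ : Fin 12) ≠ ⟨j, hj⟩ := fun hh => hij (Fin.mk.inj_iff.mp hh)
    rw [if_neg hfin] at h2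
    rw [if_neg hij]
    have h5 : (((A.getD i []).getD j 0 : ℕ) : ZMod 5) = ((0 : ℕ) : ZMod 5) := by
      rw [h2]; simp
    have h6 := (ZMod.natCast_eq_natCast_iff' _ _ _).mp h5
    simpa using h6

/-! ### well-formedness -/

theorem wf_all : wfB rP = true ∧ wfB rPi = true ∧ wfB rT = true ∧ wfB rTi = true ∧
    wfB rD = true ∧ wfB rDi = true := by
  have h := wf_ok
  simp only [Bool.and_eq_true] at h
  obtain ⟨⟨⟨⟨⟨h1, h2⟩, h3⟩, h4⟩, h5⟩, h6⟩ := h
  exact ⟨h1, h2, h3, h4, h5, h6⟩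

theorem wf_rP : wfB rP = true := wf_all.1
theorem wf_rT : wfB rT = true := wf_all.2.2.1
theorem wf_rD : wfB rD = true := wf_all.2.2.2.2.1

/-! ### the matrices of `x13`, `T`, `P` -/

theorem x13_val :
    ((x13 : GL (Fin 12) (ZMod 5)) : Matrix (Fin 12) (Fin 12) (ZMod 5)) = toMat rX := by
  unfold x13 rX
  rw [Units.val_mul, Units.val_mul, gP_val, gT_val, gD_val, toMat_mmL rP rT wf_rP wf_rT,
    toMat_mmL (mmL rP rT) rD (wfB_mmL rP rT wf_rP) wf_rD]

theorem val_pow (g : GL (Fin 12) (ZMod 5)) (k : ℕ) :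
    ((g ^ k : GL (Fin 12) (ZMod 5)) : Matrix (Fin 12) (Fin 12) (ZMod 5)) =
      (g : Matrix (Fin 12) (Fin 12) (ZMod 5)) ^ k :=
  Units.val_pow_eq_pow_val g k

theorem eq_one_of_val (g : GL (Fin 12) (ZMod 5))
    (h : (g : Matrix (Fin 12) (Fin 12) (ZMod 5)) = 1) : g = 1 :=
  Units.ext h

theorem x13_pow : x13 ^ 13 = 1 := by
  apply eq_one_of_val
  rw [val_pow, x13_val, (toMat_powL rX rX_wf 13).1]
  have h := rX_ok
  rw [Bool.and_eq_true] at h
  rw [eq_of_beq h.1, toMat_idL]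

theorem x13_ne : x13 ≠ 1 := by
  intro h
  apply toMat_ne_one rX rX_neId
  rw [← x13_val, h]
  rfl

theorem x13_order : orderOf x13 = 13 := by
  haveI : Fact (Nat.Prime 13) := ⟨by norm_num⟩
  exact orderOf_eq_prime x13_pow x13_ne

theorem smul_def' (g : GL (Fin 12) (ZMod 5)) (v : V12) :
    g • v = (g : Matrix (Fin 12) (Fin 12) (ZMod 5)) *ᵥ v := rfl

theorem Sj_eq_mulVec (g : GL (Fin 12) (ZMod 5)) (v : V12) (k : ℕ) :
    Sj g v k = (∑ i ∈ Finset.range k, (g : Matrix (Fin 12) (Fin 12) (ZMod 5)) ^ i) *ᵥ v := by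
  unfold Sj
  rw [Matrix.sum_mulVec]
  apply Finset.sum_congr rfl
  intro i _
  rw [smul_def', val_pow]

theorem x13_norm (v : V12) : Sj x13 v 13 = 0 := by
  rw [Sj_eq_mulVec, x13_val, (toMat_sumPowL rX rX_wf 13).1]
  have h := rX_ok
  rw [Bool.and_eq_true] at h
  rw [eq_of_beq h.2, toMat_zeroL, Matrix.zero_mulVec]

theorem x13_mem : x13 ∈ Gam := by
  unfold x13 Gam
  refine Subgroup.mul_mem _ (Subgroup.mul_mem _ ?_ ?_) ?_
  · exact Subgroup.subset_closure (by simp)
  · exact Subgroup.subset_closure (by simp)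
  · exact Subgroup.subset_closure (by simp)

/-- PX, part 1 -/
theorem x13_facts : x13 ∈ Gam ∧ orderOf x13 = 13 ∧ ∀ v : V12, Sj x13 v 13 = 0 :=
  ⟨x13_mem, x13_order, x13_norm⟩

/-! ### the involution `T` -/

theorem gT_mem : gT ∈ Gam := Subgroup.subset_closure (by simp)
theorem gP_mem : gP ∈ Gam := Subgroup.subset_closure (by simp)

theorem gT_sq : gT ^ 2 = 1 := by
  apply eq_one_of_val
  rw [val_pow, gT_val, pow_two, toMat_mmL rT rT wf_rT wf_rT, eq_of_beq sqT_ok, toMat_idL]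

theorem gT_ne : gT ≠ 1 := by
  intro h
  apply toMat_ne_one rT rT_neId
  rw [← gT_val, h]
  rfl

theorem gT_order : orderOf gT = 2 := by
  haveI : Fact (Nat.Prime 2) := ⟨by norm_num⟩
  exact orderOf_eq_prime gT_sq gT_ne

theorem gT_fix : gT • vecOf vT = vecOf vT := by
  rw [smul_def', gT_val, mulVec_toMat rT vT wf_rT (by decide), eq_of_beq fixT_ok]

theorem vT_ne : vecOf vT + vecOf vT ≠ 0 := by
  intro h
  have h1 := congrFun h 0
  have h2 : (vecOf vT + vecOf vT) 0 = (3 : ZMod 5) := by decide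
  rw [h2] at h1
  exact absurd h1 (by decide)

theorem gam_two : ∃ (g : ↥Gam) (v : V12), orderOf g = 2 ∧ Sj g v 2 ≠ 0 := by
  refine ⟨⟨gT, gT_mem⟩, vecOf vT, ?_, ?_⟩
  · rw [Subgroup.orderOf_mk]
    exact gT_order
  · have h1 : Sj (⟨gT, gT_mem⟩ : ↥Gam) (vecOf vT) 2 = vecOf vT + gT • vecOf vT := by
      unfold Sj
      rw [Finset.sum_range_succ, Finset.sum_range_one, pow_zero, one_smul, pow_one]
      rfl
    rw [h1, gT_fix]
    exact vT_ne

/-! ### the element `P` of order 3 -/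

theorem gP_cube : gP ^ 3 = 1 := by
  apply eq_one_of_val
  rw [val_pow, gP_val, (toMat_powL rP wf_rP 3).1, eq_of_beq cubeP_ok, toMat_idL]

theorem gP_ne : gP ≠ 1 := by
  intro h
  apply toMat_ne_one rP rP_neId
  rw [← gP_val, h]
  rfl

theorem gP_order : orderOf gP = 3 := by
  haveI : Fact (Nat.Prime 3) := ⟨by norm_num⟩
  exact orderOf_eq_prime gP_cube gP_ne

theorem gP_fix : gP • vecOf vP = vecOf vP := by
  rw [smul_def', gP_val, mulVec_toMat rP vP wf_rP (by decide), eq_of_beq fixP_ok]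

theorem gP_sq_fix : gP ^ 2 • vecOf vP = vecOf vP := by
  rw [pow_two, mul_smul, gP_fix, gP_fix]

theorem vP_ne : vecOf vP + vecOf vP + vecOf vP ≠ 0 := by
  intro h
  have h1 := congrFun h 0
  have h2 : (vecOf vP + vecOf vP + vecOf vP) 0 = (1 : ZMod 5) := by decide
  rw [h2] at h1
  exact absurd h1 (by decide)

theorem gam_three : ∃ (g : ↥Gam) (v : V12), orderOf g = 3 ∧ Sj g v 3 ≠ 0 := by
  refine ⟨⟨gP, gP_mem⟩, vecOf vP, ?_, ?_⟩
  · rw [Subgroup.orderOf_mk]
    exact gP_order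
  · have h1 : Sj (⟨gP, gP_mem⟩ : ↥Gam) (vecOf vP) 3 =
        vecOf vP + gP • vecOf vP + gP ^ 2 • vecOf vP := by
      unfold Sj
      rw [Finset.sum_range_succ, Finset.sum_range_succ, Finset.sum_range_one, pow_zero, one_smul,
        pow_one]
      rfl
    rw [h1, gP_fix, gP_sq_fix]
    exact vP_ne

end Cfsg.Agent.Lib.Helper2.U34PX
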