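import Mathlib
import Cfsg.Prelude.Def_Transfer
import Cfsg.Agent.Lib.Helper12.Generation

/-! Weight vectors for an elementary abelian 2-group acting on a `p`-group (`p` odd), helper2.

If `W` (elementary abelian 2-group) normalizes and does not centralize the `p`-group `D`, `p` odd,
there are `x ∈ D` of order `p` and `W0 ≤ W` of index `2` such that `W0` centralizes `x` and every
element of `W` outside `W0` inverts `x`. -/

set_option autoImplicit false

namespace Cfsg.Agent.Lib.Helper2.Weight2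

open Subgroup

variable {G : Type*} [Group G] [Finite G]

theorem exists_weight_vector (p : ℕ) [hp : Fact p.Prime] (hp2 : p ≠ 2)
    (W D : Subgroup G) (hW : Cfsg.IsElementaryAbelian 2 W) (hD : IsPGroup p ↥D)
    (hWD : W ≤ normalizer (D : Set G)) (hnc : ¬ W ≤ centralizer (D : Set G)) :
    ∃ x ∈ D, orderOf x = p ∧ ∃ W0 : Subgroup G, W0 ≤ W ∧ W0.relIndex W = 2 ∧
      (∀ w ∈ W0, w * x = x * w) ∧ (∀ w ∈ W, w ∉ W0 → w * x * w⁻¹ = x⁻¹) := by
  have : Fact (Nat.Prime 2) := ⟨Nat.prime_two⟩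
  have hcomm := Cfsg.Agent.Lib.Helper12.isElementaryAbelian_comm hW
  have h2D : ¬ 2 ∣ Nat.card D := by
    obtain ⟨k, hk⟩ := hD.exists_card_eq
    rw [hk]
    intro h
    have h1 := Nat.Prime.dvd_of_dvd_pow Nat.prime_two h
    have h2 := (Nat.prime_dvd_prime_iff_eq Nat.prime_two hp.out).mp h1
    exact hp2 h2.symm
  have hgen := Cfsg.Agent.Lib.Helper12.le_iSup_relIndex_le_of_isElementaryAbelian hW hWD h2D
  have hex : ∃ W0 : Subgroup G, W0 ≤ W ∧ W0.relIndex W ≤ 2 ∧
      ∃ w ∈ W, ∃ c ∈ D ⊓ centralizer (W0 : Set G), w * c ≠ c * w := by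
    by_contra hne
    push Not at hne
    apply hnc
    have hDle : D ≤ centralizer (W : Set G) := by
      refine hgen.trans (iSup_le ?_)
      rintro ⟨W0, hW0, hidx⟩
      intro c hc
      rw [mem_centralizer_iff]
      intro w hw
      exact hne W0 hW0 hidx w hw c hc
    intro w hw
    rw [mem_centralizer_iff]
    intro d hd
    exact ((mem_centralizer_iff.mp (hDle hd)) w hw).symm
  obtain ⟨W0, hW0, hidx, w, hw, c, hc, hwc⟩ := hex
  have hcD : c ∈ D := hc.1
  have hcC : ∀ u ∈ W0, u * c = c * u := fun u hu => mem_centralizer_iff.mp hc.2 u hu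
  have hwW0 : w ∉ W0 := fun h => hwc (hcC w h)
  have hw2 : w * w = 1 := by
    have := hW.2 w hw
    rwa [pow_two] at this
  have hidx2 : W0.relIndex W = 2 := by
    have h1 : W0.relIndex W ≠ 1 := by
      intro h
      exact hwW0 ((relIndex_eq_one.mp h) hw)
    have h0 : W0.relIndex W ≠ 0 := by
      unfold relIndex
      exact index_ne_zero_of_finite
    omega
  obtain ⟨y, hy⟩ : ∃ y, y = c⁻¹ * (w * c * w⁻¹) := ⟨_, rfl⟩
  have hwcD : w * c * w⁻¹ ∈ D := (mem_normalizer_iff.mp (hWD hw) c).mp hcD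
  have hyD : y ∈ D := by rw [hy]; exact D.mul_mem (D.inv_mem hcD) hwcD
  have hy1 : y ≠ 1 := by
    intro h
    rw [hy] at h
    apply hwc
    have h3 : w * c * w⁻¹ = c := by
      have h4 := congrArg (fun t => c * t) h
      simpa using h4
    calc w * c = (w * c * w⁻¹) * w := by group
      _ = c * w := by rw [h3]
  have hyC : ∀ u ∈ W0, u * y = y * u := by
    intro u hu
    have h1 := hcC u hu
    have h2 : u * w = w * u := hcomm u (hW0 hu) w hw
    have h1' : u * c⁻¹ = c⁻¹ * u := by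
      calc u * c⁻¹ = c⁻¹ * (c * u) * c⁻¹ := by group
        _ = c⁻¹ * (u * c) * c⁻¹ := by rw [h1]
        _ = c⁻¹ * u := by group
    have h2' : u * w⁻¹ = w⁻¹ * u := by
      calc u * w⁻¹ = w⁻¹ * (w * u) * w⁻¹ := by group
        _ = w⁻¹ * (u * w) * w⁻¹ := by rw [h2]
        _ = w⁻¹ * u := by group
    calc u * y = (u * c⁻¹) * (w * c * w⁻¹) := by rw [hy]; group
      _ = c⁻¹ * ((u * w) * c * w⁻¹) := by rw [h1']; group
      _ = c⁻¹ * (w * (u * c) * w⁻¹) := by rw [h2]; group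
      _ = c⁻¹ * (w * c * (u * w⁻¹)) := by rw [h1]; group
      _ = y * u := by rw [h2', hy]; group
  have hyw : w * y * w⁻¹ = y⁻¹ := by
    calc w * y * w⁻¹ = (w * c * w⁻¹)⁻¹ * ((w * w) * c * (w * w)⁻¹) := by rw [hy]; group
      _ = y⁻¹ := by rw [hw2, hy]; group
  -- order of y
  obtain ⟨k, hk⟩ : ∃ k, orderOf y = p ^ k := by
    rw [exists_orderOf_eq_prime_pow_iff]
    obtain ⟨m, hm⟩ := hD ⟨y, hyD⟩
    exact ⟨m, by simpa using congrArg Subtype.val hm⟩
  have hk0 : k ≠ 0 := by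
    intro h
    rw [h, pow_zero, orderOf_eq_one_iff] at hk
    exact hy1 hk
  obtain ⟨j, rfl⟩ : ∃ j, k = j + 1 := Nat.exists_eq_succ_of_ne_zero hk0
  have hppos : p ^ j ≠ 0 := pow_ne_zero _ hp.out.ne_zero
  have hxord : orderOf (y ^ (p ^ j)) = p := by
    rw [orderOf_pow_of_dvd hppos (by rw [hk]; exact pow_dvd_pow p (Nat.le_succ j)), hk, pow_succ]
    exact Nat.mul_div_cancel_left p (Nat.pos_of_ne_zero hppos)
  refine ⟨y ^ (p ^ j), D.pow_mem hyD _, hxord, W0, hW0, hidx2, ?_, ?_⟩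
  · intro u hu
    exact ((Commute.pow_right (hyC u hu) _ : Commute u (y ^ (p ^ j)))).eq
  · intro w' hw' hw'0
    have hxw : w * y ^ (p ^ j) * w⁻¹ = (y ^ (p ^ j))⁻¹ := by
      rw [← conj_pow, hyw, inv_pow]
    -- u = w' * w ∈ W0
    have hidx' : (W0.subgroupOf W).index = 2 := hidx2
    have hmem : (⟨w', hw'⟩ * ⟨w, hw⟩ : ↥W) ∈ W0.subgroupOf W := by
      rw [mul_mem_iff_of_index_two hidx']
      constructor
      · intro h; exact absurd (mem_subgroupOf.mp h) hw'0
      · intro h; exact absurd (mem_subgroupOf.mp h) hwW0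
    have hu : w' * w ∈ W0 := by
      have := mem_subgroupOf.mp hmem
      simpa using this
    have hux : (w' * w) * y ^ (p ^ j) = y ^ (p ^ j) * (w' * w) :=
      ((Commute.pow_right (hyC _ hu) _ : Commute (w' * w) (y ^ (p ^ j)))).eq
    have hwinv : w⁻¹ = w := inv_eq_of_mul_eq_one_left hw2
    have hw'eq : w' = (w' * w) * w := by
      calc w' = w' * (w * w) := by rw [hw2, mul_one]
        _ = (w' * w) * w := by group
    obtain ⟨x, hx⟩ : ∃ x, x = y ^ (p ^ j) := ⟨_, rfl⟩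
    rw [← hx] at hxw hux ⊢
    obtain ⟨u, hu'⟩ : ∃ u, u = w' * w := ⟨_, rfl⟩
    rw [← hu'] at hux hw'eq
    have hxw' : w * x * w = x⁻¹ := by rw [hwinv] at hxw; exact hxw
    have hux' : u * x⁻¹ = x⁻¹ * u := by
      calc u * x⁻¹ = x⁻¹ * (x * u) * x⁻¹ := by group
        _ = x⁻¹ * (u * x) * x⁻¹ := by rw [hux]
        _ = x⁻¹ * u := by group
    calc w' * x * w'⁻¹ = u * (w * x * w) * u⁻¹ := by
          rw [hw'eq]
          have : (u * w)⁻¹ = w * u⁻¹ := by rw [mul_inv_rev, hwinv]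
          rw [this]; group
      _ = u * x⁻¹ * u⁻¹ := by rw [hxw']
      _ = x⁻¹ := by rw [hux']; group

end Cfsg.Agent.Lib.Helper2.Weight2
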